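/-
Ordinary character theory, part 1: realisation on coordinate spaces, conjugate values,
orthogonality, decomposition into irreducibles, completeness.
-/
import Mathlib
import Cfsg.Prelude.Def_Characters

namespace CfsgLib.CharTheory

open Cfsg
open scoped ComplexConjugate ComplexOrder

universe u v

variable {G : Type u} [Group G]

section Rep

variable {V : Type v} [AddCommGroup V] [Module ℂ V] [FiniteDimensional ℂ V]

/-- Transport of a representation along a linear equivalence. -/
noncomputable def conjRep {W : Type*} [AddCommGroup W] [Module ℂ W]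
    (ρ : Representation ℂ G V) (e : V ≃ₗ[ℂ] W) : Representation ℂ G W where
  toFun g := e.conj (ρ g)
  map_one' := by ext; simp [LinearEquiv.conj_apply]
  map_mul' g h := by ext; simp [LinearEquiv.conj_apply]

/-- The equivalence between a representation and its transport. -/
noncomputable def conjRepEquiv {W : Type*} [AddCommGroup W] [Module ℂ W]
    (ρ : Representation ℂ G V) (e : V ≃ₗ[ℂ] W) : ρ.Equiv (conjRep ρ e) :=
  { toIntertwiningMap := ⟨e.toLinearMap, fun g => by ext v; simp [conjRep, LinearEquiv.conj_apply]⟩
    invFun := e.symm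
    left_inv := e.symm_apply_apply
    right_inv := e.apply_symm_apply }

theorem isIrreducible_of_equiv {W : Type*} [AddCommGroup W] [Module ℂ W]
    {ρ : Representation ℂ G V} {σ : Representation ℂ G W} (φ : ρ.Equiv σ)
    [ρ.IsIrreducible] : σ.IsIrreducible := by
  let e : Subrepresentation ρ ≃o Subrepresentation σ :=
    { toFun := fun p => ⟨p.toSubmodule.map φ.toLinearEquiv.toLinearMap, by
        rintro g w ⟨v, hv, rfl⟩
        exact ⟨ρ g v, p.apply_mem_toSubmodule g hv, φ.toIntertwiningMap.isIntertwining ρ σ g v⟩⟩
      invFun := fun q => ⟨q.toSubmodule.comap φ.toLinearEquiv.toLinearMap, by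
        intro g v hv
        simp only [Submodule.mem_comap] at hv ⊢
        have := q.apply_mem_toSubmodule g hv
        rw [show φ.toLinearEquiv.toLinearMap (ρ g v) = σ g (φ.toLinearEquiv.toLinearMap v) from
          φ.toIntertwiningMap.isIntertwining ρ σ g v]
        exact this⟩
      left_inv := fun p => by
        apply Subrepresentation.toSubmodule_injective
        exact Submodule.comap_map_eq_of_injective φ.toLinearEquiv.injective _
      right_inv := fun q => by
        apply Subrepresentation.toSubmodule_injective
        exact Submodule.map_comap_eq_of_surjective φ.toLinearEquiv.surjective _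
      map_rel_iff' := fun {a b} =>
        Submodule.map_le_map_iff_of_injective φ.toLinearEquiv.injective _ _ }
  exact (OrderIso.isSimpleOrder_iff e).mp inferInstance

theorem isCharacter_character (ρ : Representation ℂ G V) : IsCharacter G ρ.character :=
  ⟨_, conjRep ρ (Module.finBasis ℂ V).equivFun, (Representation.char_iso (conjRepEquiv ρ _)).symm⟩

theorem isIrrCharacter_character (ρ : Representation ℂ G V) [ρ.IsIrreducible] :
    IsIrrCharacter G ρ.character :=
  ⟨_, conjRep ρ (Module.finBasis ℂ V).equivFun, isIrreducible_of_equiv (conjRepEquiv ρ _),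
    (Representation.char_iso (conjRepEquiv ρ _)).symm⟩

end Rep

theorem isCharacter_of_irr {χ : G → ℂ} (h : IsIrrCharacter G χ) : IsCharacter G χ := by
  obtain ⟨n, ρ, -, hρ⟩ := h
  exact ⟨n, ρ, hρ⟩

theorem isClassFunction_char {χ : G → ℂ} (h : IsCharacter G χ) : IsClassFunction G χ := by
  obtain ⟨n, ρ, rfl⟩ := h
  intro g k
  exact ρ.char_conj g k

theorem isClassFunction_irr {χ : G → ℂ} (h : IsIrrCharacter G χ) :
    IsClassFunction G χ :=
  isClassFunction_char (isCharacter_of_irr h)

theorem isCharacter_zero : IsCharacter G (0 : G → ℂ) := by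
  refine ⟨0, Representation.trivial ℂ G (Fin 0 → ℂ), ?_⟩
  ext g
  simp [Representation.character, Subsingleton.elim (Representation.trivial ℂ G (Fin 0 → ℂ) g) 0]

theorem isCharacter_add {χ ψ : G → ℂ} (h : IsCharacter G χ) (h' : IsCharacter G ψ) :
    IsCharacter G (χ + ψ) := by
  obtain ⟨n, ρ, rfl⟩ := h
  obtain ⟨m, σ, rfl⟩ := h'
  convert isCharacter_character (ρ.prod σ)
  ext g
  exact (LinearMap.trace_prodMap' (ρ g) (σ g)).symm

theorem isCharacter_sum {ι : Type*} (s : Finset ι) (f : ι → G → ℂ)
    (h : ∀ i ∈ s, IsCharacter G (f i)) : IsCharacter G (∑ i ∈ s, f i) :=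
  Finset.sum_induction _ _ (fun _ _ => isCharacter_add) isCharacter_zero h

theorem isCharacter_nsmul {χ : G → ℂ} (h : IsCharacter G χ) (n : ℕ) :
    IsCharacter G ((n : ℂ) • χ) := by
  induction n with
  | zero => simpa using isCharacter_zero
  | succ n ih => simpa [add_smul] using isCharacter_add ih h

theorem isCharacter_mul {χ ψ : G → ℂ} (h : IsCharacter G χ) (h' : IsCharacter G ψ) :
    IsCharacter G (χ * ψ) := by
  obtain ⟨n, ρ, rfl⟩ := h
  obtain ⟨m, σ, rfl⟩ := h'
  rw [← Representation.char_tensor]
  exact isCharacter_character _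

theorem isCharacter_comp {H : Type*} [Group H] {χ : G → ℂ} (h : IsCharacter G χ) (f : H →* G) :
    IsCharacter H (fun x => χ (f x)) := by
  obtain ⟨n, ρ, rfl⟩ := h
  exact ⟨n, ρ.comp f, rfl⟩

theorem isCharacter_restrict {χ : G → ℂ} (h : IsCharacter G χ) (H : Subgroup G) :
    IsCharacter H (fun x : H => χ x) :=
  isCharacter_comp h H.subtype

theorem isIrrCharacter_comp_surjective {H : Type*} [Group H] {χ : G → ℂ}
    (h : IsIrrCharacter G χ) (f : H →* G) (hf : Function.Surjective f) :
    IsIrrCharacter H (fun x => χ (f x)) := by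
  obtain ⟨n, ρ, hρ, rfl⟩ := h
  refine ⟨n, ρ.comp f, ?_, rfl⟩
  let e : Subrepresentation ρ ≃o Subrepresentation (ρ.comp f) :=
    { toFun := fun p => ⟨p.toSubmodule, fun x _ hv => p.apply_mem_toSubmodule (f x) hv⟩
      invFun := fun q => ⟨q.toSubmodule, fun g v hv => by
        obtain ⟨x, rfl⟩ := hf g
        exact q.apply_mem_toSubmodule x hv⟩
      left_inv := fun _ => rfl
      right_inv := fun _ => rfl
      map_rel_iff' := Iff.rfl }
  exact (OrderIso.isSimpleOrder_iff e).mp hρ

/-- A homomorphism to the units, as a one-dimensional representation. -/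
noncomputable def linearRep (φ : G →* ℂˣ) : Representation ℂ G (Fin 1 → ℂ) where
  toFun g := (φ g : ℂ) • LinearMap.id
  map_one' := by ext; simp
  map_mul' g h := by ext; simp [mul_assoc, mul_comm, mul_left_comm]

theorem linearRep_character (φ : G →* ℂˣ) : (linearRep φ).character = fun g => (φ g : ℂ) := by
  ext g
  simp [Representation.character, linearRep]

theorem isIrreducible_of_finrank_one {V : Type*} [AddCommGroup V] [Module ℂ V]
    (ρ : Representation ℂ G V) (h : Module.finrank ℂ V = 1) : ρ.IsIrreducible := by
  have hs : IsSimpleOrder (Submodule ℂ V) := is_simple_module_of_finrank_eq_one h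
  refine @IsSimpleOrder.mk _ _ _ ⟨⊥, ⊤, fun e => ?_⟩ fun p => ?_
  · exact bot_ne_top (α := Submodule ℂ V) (congrArg Subrepresentation.toSubmodule e)
  · rcases eq_bot_or_eq_top p.toSubmodule with e | e
    · exact Or.inl (Subrepresentation.toSubmodule_injective e)
    · exact Or.inr (Subrepresentation.toSubmodule_injective e)

theorem isIrrCharacter_linear (φ : G →* ℂˣ) : IsIrrCharacter G (fun g => (φ g : ℂ)) :=
  ⟨1, linearRep φ, isIrreducible_of_finrank_one _ (by simp), linearRep_character φ⟩

theorem isIrrCharacter_one : IsIrrCharacter G (fun _ => 1) := by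
  simpa using isIrrCharacter_linear (1 : G →* ℂˣ)

theorem isCharacter_one : IsCharacter G (fun _ => (1 : ℂ)) :=
  isCharacter_of_irr isIrrCharacter_one

/-! ### Values at inverses -/

theorem conj_char [Finite G] {V : Type v} [AddCommGroup V] [Module ℂ V] [FiniteDimensional ℂ V]
    (ρ : Representation ℂ G V) (g : G) : conj (ρ.character g) = ρ.character g⁻¹ := by
  classical
  have := Fintype.ofFinite G
  let b := Module.finBasis ℂ V
  let M : G → Matrix (Fin (Module.finrank ℂ V)) (Fin (Module.finrank ℂ V)) ℂ :=
    fun h => LinearMap.toMatrix b b (ρ h)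
  have hmul : ∀ h k, M (h * k) = M h * M k := fun h k => by
    simp only [M, map_mul, LinearMap.toMatrix_mul]
  have h1 : M 1 = 1 := by simp [M]
  have htr : ∀ h, ρ.character h = (M h).trace := fun h =>
    LinearMap.trace_eq_matrix_trace ℂ b _
  let P := ∑ h : G, (M h).conjTranspose * M h
  have hinv : (M g).conjTranspose * P * M g = P := by
    simp only [P, Finset.mul_sum, Finset.sum_mul]
    refine Fintype.sum_equiv (Equiv.mulRight g) _ _ fun h => ?_
    simp only [Equiv.coe_mulRight, hmul, Matrix.conjTranspose_mul, Matrix.mul_assoc]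
  have hP : P.PosDef := by
    have : P = (M 1).conjTranspose * M 1 + ∑ h ∈ Finset.univ.erase (1 : G), (M h).conjTranspose * M h :=
      (Finset.add_sum_erase _ _ (Finset.mem_univ _)).symm
    rw [this, h1]
    refine Matrix.PosDef.add_posSemidef (by simpa using Matrix.PosDef.one) ?_
    exact Matrix.posSemidef_sum _ fun h _ => Matrix.posSemidef_conjTranspose_mul_self _
  have hu : IsUnit P.det := (Matrix.isUnit_iff_isUnit_det _).mp hP.isUnit
  have hgg : M g * M g⁻¹ = 1 := by rw [← hmul, mul_inv_cancel, h1]
  have hH : (M g).conjTranspose = P * M g⁻¹ * P⁻¹ := by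
    have h2 : (M g).conjTranspose * P = P * M g⁻¹ := by
      calc (M g).conjTranspose * P = (M g).conjTranspose * P * (M g * M g⁻¹) := by
            rw [hgg, Matrix.mul_one]
        _ = P * M g⁻¹ := by rw [← Matrix.mul_assoc, hinv]
    rw [← h2, Matrix.mul_nonsing_inv_cancel_right _ _ hu]
  rw [htr, htr, starRingEnd_apply, ← Matrix.trace_conjTranspose, hH,
    Matrix.trace_mul_comm, ← Matrix.mul_assoc, Matrix.nonsing_inv_mul _ hu, Matrix.one_mul]

theorem char_apply_inv [Finite G] {χ : G → ℂ} (h : IsCharacter G χ) (g : G) :
    χ g⁻¹ = conj (χ g) := by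
  obtain ⟨n, ρ, rfl⟩ := h
  exact (conj_char ρ g).symm

theorem isCharacter_conj [Finite G] {χ : G → ℂ} (h : IsCharacter G χ) :
    IsCharacter G (fun g => conj (χ g)) := by
  obtain ⟨n, ρ, rfl⟩ := h
  convert isCharacter_character ρ.dual
  rename_i g
  rw [Representation.char_dual, conj_char]

/-! ### The inner product -/

section Inner

variable [Fintype G]

theorem classInner_add_left (a b c : G → ℂ) :
    classInner (a + b) c = classInner a c + classInner b c := by
  simp [classInner, add_mul, Finset.sum_add_distrib, mul_add]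

theorem classInner_add_right (a b c : G → ℂ) :
    classInner a (b + c) = classInner a b + classInner a c := by
  simp [classInner, mul_add, Finset.sum_add_distrib]

theorem classInner_smul_left (r : ℂ) (a b : G → ℂ) :
    classInner (r • a) b = r * classInner a b := by
  simp [classInner, Finset.mul_sum, mul_left_comm, mul_assoc]

theorem classInner_smul_right (r : ℂ) (a b : G → ℂ) :
    classInner a (r • b) = conj r * classInner a b := by
  simp only [classInner, Finset.mul_sum, Pi.smul_apply, smul_eq_mul, map_mul]
  exact Finset.sum_congr rfl fun _ _ => by ring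

@[simp] theorem classInner_zero_left (a : G → ℂ) : classInner 0 a = 0 := by simp [classInner]

@[simp] theorem classInner_zero_right (a : G → ℂ) : classInner a 0 = 0 := by simp [classInner]

theorem classInner_neg_left (a b : G → ℂ) : classInner (-a) b = -classInner a b := by
  rw [← neg_one_smul ℂ, classInner_smul_left]; simp

theorem classInner_neg_right (a b : G → ℂ) : classInner a (-b) = -classInner a b := by
  rw [← neg_one_smul ℂ b, classInner_smul_right]; simp

theorem classInner_sub_left (a b c : G → ℂ) :
    classInner (a - b) c = classInner a c - classInner b c := by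
  simp [sub_eq_add_neg, classInner_add_left, classInner_neg_left]

theorem classInner_sub_right (a b c : G → ℂ) :
    classInner a (b - c) = classInner a b - classInner a c := by
  simp [sub_eq_add_neg, classInner_add_right, classInner_neg_right]

theorem classInner_sum_left {ι : Type*} (s : Finset ι) (f : ι → G → ℂ) (b : G → ℂ) :
    classInner (∑ i ∈ s, f i) b = ∑ i ∈ s, classInner (f i) b := by
  classical
  induction s using Finset.induction with
  | empty => simp
  | insert i s hi ih => simp [Finset.sum_insert hi, classInner_add_left, ih]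

theorem classInner_sum_right {ι : Type*} (s : Finset ι) (a : G → ℂ) (f : ι → G → ℂ) :
    classInner a (∑ i ∈ s, f i) = ∑ i ∈ s, classInner a (f i) := by
  classical
  induction s using Finset.induction with
  | empty => simp
  | insert i s hi ih => simp [Finset.sum_insert hi, classInner_add_right, ih]

theorem classInner_comm (a b : G → ℂ) : conj (classInner a b) = classInner b a := by
  simp [classInner, map_sum, mul_comm]

/-- The inner product is independent of the `Fintype` instance. -/
theorem classInner_congr_inst (i₁ i₂ : Fintype G) (a b : G → ℂ) :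
    @classInner G _ i₁ a b = @classInner G _ i₂ a b := by
  rw [Subsingleton.elim i₁ i₂]

theorem classInner_character {V W : Type*} [AddCommGroup V] [Module ℂ V] [FiniteDimensional ℂ V]
    [AddCommGroup W] [Module ℂ W] [FiniteDimensional ℂ W]
    (ρ : Representation ℂ G V) (σ : Representation ℂ G W) :
    classInner ρ.character σ.character =
      (Module.finrank ℂ (Representation.IntertwiningMap σ ρ) : ℂ) := by
  have : Invertible (Nat.card G : ℂ) := invertibleOfNonzero (Nat.cast_ne_zero.mpr Nat.card_pos.ne')
  simp only [classInner, conj_char]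
  exact Representation.card_inv_mul_sum_char_mul_char_eq_finrank σ ρ

theorem classInner_char_nat {χ ψ : G → ℂ} (h : IsCharacter G χ) (h' : IsCharacter G ψ) :
    ∃ n : ℕ, classInner χ ψ = n := by
  obtain ⟨n, ρ, rfl⟩ := h
  obtain ⟨m, σ, rfl⟩ := h'
  exact ⟨_, classInner_character ρ σ⟩

theorem classInner_irr {χ ψ : G → ℂ} (h : IsIrrCharacter G χ)
    (h' : IsIrrCharacter G ψ) [Decidable (χ = ψ)] :
    classInner χ ψ = if χ = ψ then 1 else 0 := by
  obtain ⟨n, ρ, hρ, rfl⟩ := h
  obtain ⟨m, σ, hσ, rfl⟩ := h'
  split
  · rename_i e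
    rw [← e, classInner_character, Representation.IsIrreducible.finrank_intertwiningMap_self,
      Nat.cast_one]
  · rename_i e
    have : IsEmpty (σ.Equiv ρ) := ⟨fun φ => e (Representation.char_iso φ).symm⟩
    rw [classInner_character, Module.finrank_zero_of_subsingleton, Nat.cast_zero]

theorem classInner_irr_self {χ : G → ℂ} (h : IsIrrCharacter G χ) :
    classInner χ χ = 1 := by
  classical simp [classInner_irr h h]

theorem classInner_irr_ne {χ ψ : G → ℂ} (h : IsIrrCharacter G χ)
    (h' : IsIrrCharacter G ψ) (hne : χ ≠ ψ) : classInner χ ψ = 0 := by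
  classical simp [classInner_irr h h', hne]

end Inner

/-! ### Decomposition into irreducibles -/

section Decomp

/-- Trace along an invariant decomposition. -/
theorem character_eq_add_of_isCompl {V : Type v} [AddCommGroup V] [Module ℂ V]
    [FiniteDimensional ℂ V] (ρ : Representation ℂ G V) (p q : Subrepresentation ρ)
    (h : IsCompl p.toSubmodule q.toSubmodule) :
    ρ.character = p.toRepresentation.character + q.toRepresentation.character := by
  ext g
  have key : (p.toSubmodule.prodEquivOfIsCompl q.toSubmodule h).conj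
      ((p.toRepresentation g).prodMap (q.toRepresentation g)) = ρ g := by
    ext x
    obtain ⟨⟨a, b⟩, rfl⟩ := (p.toSubmodule.prodEquivOfIsCompl q.toSubmodule h).surjective x
    simp [LinearEquiv.conj_apply, Subrepresentation.toRepresentation, LinearMap.restrict_apply]
  simp only [Pi.add_apply, Representation.character]
  rw [← key, LinearMap.trace_conj', LinearMap.trace_prodMap']

variable [Finite G]

theorem exists_isCompl_subrep {V : Type v} [AddCommGroup V] [Module ℂ V]
    (ρ : Representation ℂ G V) (p : Subrepresentation ρ) :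
    ∃ q : Subrepresentation ρ, IsCompl p.toSubmodule q.toSubmodule := by
  have : NeZero (Nat.card G : ℂ) := ⟨Nat.cast_ne_zero.mpr Nat.card_pos.ne'⟩
  obtain ⟨q, hq⟩ := ComplementedLattice.exists_isCompl p
  refine ⟨q, ?_, ?_⟩
  · rw [disjoint_iff]; exact congrArg Subrepresentation.toSubmodule (disjoint_iff.mp hq.1)
  · rw [codisjoint_iff]; exact congrArg Subrepresentation.toSubmodule (codisjoint_iff.mp hq.2)

/-- Induction principle along invariant decompositions: a property of representations holding
for the irreducible and the zero ones, and inherited from complementary invariant summands,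
holds for all. -/
theorem rep_induction {P : ∀ (V : Type v) [AddCommGroup V] [Module ℂ V], Representation ℂ G V → Prop}
    (hzero : ∀ (V : Type v) [AddCommGroup V] [Module ℂ V] [FiniteDimensional ℂ V]
      (ρ : Representation ℂ G V), Subsingleton V → P V ρ)
    (hirr : ∀ (V : Type v) [AddCommGroup V] [Module ℂ V] [FiniteDimensional ℂ V]
      (ρ : Representation ℂ G V), ρ.IsIrreducible → P V ρ)
    (hadd : ∀ (V : Type v) [AddCommGroup V] [Module ℂ V] [FiniteDimensional ℂ V]
      (ρ : Representation ℂ G V) (p q : Subrepresentation ρ),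
      IsCompl p.toSubmodule q.toSubmodule → P _ p.toRepresentation → P _ q.toRepresentation → P V ρ)
    (V : Type v) [AddCommGroup V] [Module ℂ V] [FiniteDimensional ℂ V]
    (ρ : Representation ℂ G V) : P V ρ := by
  suffices ∀ n, ∀ (V : Type v) [AddCommGroup V] [Module ℂ V] [FiniteDimensional ℂ V]
      (ρ : Representation ℂ G V), Module.finrank ℂ V = n → P V ρ from this _ V ρ rfl
  intro n
  induction n using Nat.strong_induction_on with
  | _ n ih =>
  intro V _ _ _ ρ hn
  by_cases hs : Subsingleton V
  · exact hzero V ρ hs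
  by_cases hi : ρ.IsIrreducible
  · exact hirr V ρ hi
  have : ∃ p : Subrepresentation ρ, p ≠ ⊥ ∧ p ≠ ⊤ := by
    by_contra hc
    push Not at hc
    refine hi (@IsSimpleOrder.mk _ _ _ ⟨⊥, ⊤, fun e => ?_⟩
      fun p => or_iff_not_imp_left.mpr (hc p))
    rw [not_subsingleton_iff_nontrivial] at hs
    exact bot_ne_top (α := Submodule ℂ V) (congrArg Subrepresentation.toSubmodule e)
  obtain ⟨p, hp0, hp1⟩ := this
  obtain ⟨q, hq⟩ := exists_isCompl_subrep ρ p
  have hpb : p.toSubmodule ≠ ⊥ := fun e => hp0 (Subrepresentation.toSubmodule_injective e)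
  have hpt : p.toSubmodule ≠ ⊤ := fun e => hp1 (Subrepresentation.toSubmodule_injective e)
  have hsum := Submodule.finrank_add_eq_of_isCompl hq
  have h1 : 0 < Module.finrank ℂ p.toSubmodule :=
    Nat.pos_of_ne_zero (Submodule.finrank_eq_zero.not.mpr hpb)
  have h2 := Submodule.finrank_lt hpt
  exact hadd V ρ p q hq (ih _ (by omega) _ _ rfl) (ih _ (by omega) _ _ rfl)

theorem character_eq_sum_irr {V : Type v} [AddCommGroup V] [Module ℂ V] [FiniteDimensional ℂ V]
    (ρ : Representation ℂ G V) :
    ∃ l : List (G → ℂ), (∀ x ∈ l, IsIrrCharacter G x) ∧ ρ.character = l.sum := by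
  refine rep_induction (P := fun V _ _ ρ => ∃ l : List (G → ℂ),
    (∀ x ∈ l, IsIrrCharacter G x) ∧ ρ.character = l.sum) ?_ ?_ ?_ V ρ
  · intro V _ _ _ ρ hs
    refine ⟨[], by simp, ?_⟩
    ext g
    simp [Representation.character, Subsingleton.elim (ρ g) 0]
  · intro V _ _ _ ρ hi
    exact ⟨[ρ.character], by simpa using isIrrCharacter_character ρ, by simp⟩
  · rintro V _ _ _ ρ p q hpq ⟨l, hl, el⟩ ⟨l', hl', el'⟩
    refine ⟨l ++ l', by simpa [or_imp, forall_and] using And.intro hl hl', ?_⟩
    rw [character_eq_add_of_isCompl ρ p q hpq, el, el', List.sum_append]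

theorem exists_list_irr {χ : G → ℂ} (h : IsCharacter G χ) :
    ∃ l : List (G → ℂ), (∀ x ∈ l, IsIrrCharacter G x) ∧ χ = l.sum := by
  obtain ⟨n, ρ, rfl⟩ := h
  exact character_eq_sum_irr ρ

end Decomp

/-! ### Completeness -/

section Complete

variable [Fintype G]

/-- For a class function orthogonal to all irreducible characters, the weighted sum of the
operators of any representation vanishes. -/
theorem weightedSum_eq_zero {f : G → ℂ} (hf : IsClassFunction G f)
    (h0 : ∀ χ, IsIrrCharacter G χ → ∑ g : G, f g * χ g = 0)
    {V : Type v} [AddCommGroup V] [Module ℂ V] [FiniteDimensional ℂ V]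
    (ρ : Representation ℂ G V) : ∑ g : G, f g • ρ g = 0 := by
  refine rep_induction (P := fun V _ _ ρ => ∑ g : G, f g • ρ g = 0) ?_ ?_ ?_ V ρ
  · intro V _ _ _ ρ hs
    exact LinearMap.ext fun v => Subsingleton.elim _ _
  · intro V _ _ _ ρ hi
    have hT : ∀ k : G, (∑ g : G, f g • ρ g) ∘ₗ ρ k = ρ k ∘ₗ ∑ g : G, f g • ρ g := by
      intro k
      rw [← Module.End.mul_eq_comp, ← Module.End.mul_eq_comp, Finset.mul_sum, Finset.sum_mul]
      refine Fintype.sum_equiv (MulAut.conj k⁻¹).toEquiv _ _ fun g => ?_
      have : f ((MulAut.conj k⁻¹) g) = f g := hf g k⁻¹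
      simp only [MulEquiv.toEquiv_eq_coe, EquivLike.coe_coe, this, smul_mul_assoc, mul_smul_comm,
        ← map_mul]
      simp [MulAut.conj_apply, mul_assoc]
    let T : Representation.IntertwiningMap ρ ρ := ⟨∑ g : G, f g • ρ g, hT⟩
    obtain ⟨c, hc⟩ :=
      (Representation.IsIrreducible.algebraMap_intertwiningMap_bijective_of_isAlgClosed).2 T
    have hc' : ∑ g : G, f g • ρ g = c • LinearMap.id := by
      show T.toLinearMap = _
      rw [← hc]; rfl
    have htr : c * (Module.finrank ℂ V : ℂ) = 0 := by
      have := congrArg (LinearMap.trace ℂ V) hc'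
      simp only [map_sum, map_smul, LinearMap.trace_id, smul_eq_mul] at this
      rw [← this]
      exact h0 _ (isIrrCharacter_character ρ)
    rcases mul_eq_zero.mp htr with e | e
    · rw [hc', e, zero_smul]
    · have : Subsingleton V := Module.finrank_zero_iff.mp (by exact_mod_cast e)
      exact LinearMap.ext fun v => Subsingleton.elim _ _
  · intro V _ _ _ ρ p q hpq hp hq
    ext v
    obtain ⟨⟨a, b⟩, rfl⟩ := (p.toSubmodule.prodEquivOfIsCompl q.toSubmodule hpq).surjective v
    have ha := congrArg Subtype.val (LinearMap.congr_fun hp a)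
    have hb := congrArg Subtype.val (LinearMap.congr_fun hq b)
    simp [LinearMap.sum_apply, Subrepresentation.toRepresentation, LinearMap.restrict_apply] at ha hb
    simp [LinearMap.sum_apply, smul_add, Finset.sum_add_distrib, ha, hb]

theorem eq_zero_of_orthogonal {f : G → ℂ} (hf : IsClassFunction G f)
    (h0 : ∀ χ, IsIrrCharacter G χ → classInner f χ = 0) : f = 0 := by
  classical
  have hinv : ∀ χ, IsIrrCharacter G χ → ∑ g : G, (f g⁻¹) * χ g = 0 := by
    intro χ hχ
    have h := h0 χ hχ
    simp only [classInner, mul_eq_zero, inv_eq_zero, Nat.cast_eq_zero, Nat.card_pos.ne',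
      false_or] at h
    rw [← h]
    refine Fintype.sum_equiv (Equiv.inv G) _ _ fun g => ?_
    simp [char_apply_inv (isCharacter_of_irr hχ)]
  have hf' : IsClassFunction G (fun g => f g⁻¹) := fun g k => by
    simpa [mul_assoc] using hf g⁻¹ k
  let ρ := Representation.leftRegular ℂ G
  have := LinearMap.congr_fun (weightedSum_eq_zero hf' hinv ρ) (MonoidAlgebra.single 1 1)
  funext g
  have := congrArg (fun x => (MonoidAlgebra.coeff x) g⁻¹) this
  simpa [ρ, LinearMap.sum_apply, MonoidAlgebra.coeff_single, Finsupp.single_apply,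
    Representation.ofMulAction_single] using this

end Complete

end CfsgLib.CharTheory
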