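/-
Ordinary character theory, part 2: the finite set of irreducible characters, the basis of class
functions, the second orthogonality relation, degree sums, generalized characters.
-/
import Cfsg.Agent.Lib.CharTheory.Basic

namespace CfsgLib.CharTheory

open Cfsg
open scoped ComplexConjugate

universe u

variable {G : Type u} [Group G]

section Fin

variable [Finite G]

theorem linearIndependent_irr :
    LinearIndependent ℂ (fun χ : IrrCharacter G => (χ : G → ℂ)) := by
  classical
  have := Fintype.ofFinite G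
  rw [linearIndependent_iff']
  intro s c hc i hi
  have h := congrArg (fun f => classInner f (i : G → ℂ)) hc
  simp only [classInner_sum_left, classInner_smul_left, classInner_zero_left] at h
  rw [Finset.sum_eq_single i] at h
  · simpa [classInner_irr_self i.2] using h
  · intro j _ hne
    simp [classInner_irr_ne j.2 i.2 (fun e => hne (Subtype.ext e))]
  · exact fun h' => absurd hi h'

instance finite_irrCharacter : Finite (IrrCharacter G) :=
  linearIndependent_irr.finite

/-- A `Fintype` structure on the irreducible characters. -/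
noncomputable instance fintypeIrrCharacter : Fintype (IrrCharacter G) :=
  Fintype.ofFinite _

theorem isClassFunction_iff_isConj {f : G → ℂ} :
    IsClassFunction G f ↔ ∀ a b, IsConj a b → f a = f b := by
  refine ⟨fun h a b hab => ?_, fun h g k => (h g _ (isConj_iff.mpr ⟨k, rfl⟩)).symm⟩
  obtain ⟨c, rfl⟩ := isConj_iff.mp hab
  exact (h a c).symm

end Fin

section ClassFun

theorem isClassFunction_zero : IsClassFunction G (0 : G → ℂ) := fun _ _ => rfl

theorem isClassFunction_one : IsClassFunction G (fun _ => (1 : ℂ)) := fun _ _ => rfl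

theorem isClassFunction_add {a b : G → ℂ} (ha : IsClassFunction G a) (hb : IsClassFunction G b) :
    IsClassFunction G (a + b) := fun g k => by simp [ha g k, hb g k]

theorem isClassFunction_sub {a b : G → ℂ} (ha : IsClassFunction G a) (hb : IsClassFunction G b) :
    IsClassFunction G (a - b) := fun g k => by simp [ha g k, hb g k]

theorem isClassFunction_smul (r : ℂ) {a : G → ℂ} (ha : IsClassFunction G a) :
    IsClassFunction G (r • a) := fun g k => by simp [ha g k]

theorem isClassFunction_neg {a : G → ℂ} (ha : IsClassFunction G a) :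
    IsClassFunction G (-a) := fun g k => by simp [ha g k]

theorem isClassFunction_mul {a b : G → ℂ} (ha : IsClassFunction G a) (hb : IsClassFunction G b) :
    IsClassFunction G (a * b) := fun g k => by simp [ha g k, hb g k]

theorem isClassFunction_sum {ι : Type*} (s : Finset ι) (f : ι → G → ℂ)
    (h : ∀ i ∈ s, IsClassFunction G (f i)) : IsClassFunction G (∑ i ∈ s, f i) :=
  Finset.sum_induction _ _ (fun _ _ => isClassFunction_add) isClassFunction_zero h

end ClassFun

section Fintype

variable [Fintype G]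

/-- A class function is the combination of the irreducible characters with coefficients given by
inner products. -/
theorem eq_sum_irr {ψ : G → ℂ} (hψ : IsClassFunction G ψ) :
    ψ = ∑ χ : IrrCharacter G, classInner ψ χ • (χ : G → ℂ) := by
  classical
  rw [← sub_eq_zero]
  refine eq_zero_of_orthogonal (isClassFunction_sub hψ
    (isClassFunction_sum _ _ fun i _ => isClassFunction_smul _ (isClassFunction_irr i.2)))
    fun χ hχ => ?_
  rw [classInner_sub_left, classInner_sum_left, Finset.sum_eq_single ⟨χ, hχ⟩]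
  · simp [classInner_smul_left, classInner_irr_self hχ]
  · intro j _ hne
    simp [classInner_smul_left, classInner_irr_ne j.2 hχ (fun e => hne (Subtype.ext e))]
  · simp

theorem eq_finsum_irr {ψ : G → ℂ} (hψ : IsClassFunction G ψ) :
    ψ = ∑ᶠ χ : IrrCharacter G, classInner ψ χ • (χ : G → ℂ) := by
  rw [finsum_eq_sum_of_fintype]; exact eq_sum_irr hψ

theorem classFun_ext {a b : G → ℂ} (ha : IsClassFunction G a) (hb : IsClassFunction G b)
    (h : ∀ χ, IsIrrCharacter G χ → classInner a χ = classInner b χ) : a = b :=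
  sub_eq_zero.mp <| eq_zero_of_orthogonal (isClassFunction_sub ha hb) fun χ hχ => by
    rw [classInner_sub_left, h χ hχ, sub_self]

theorem classInner_eq_sum_irr {a b : G → ℂ} (ha : IsClassFunction G a) :
    classInner a b = ∑ χ : IrrCharacter G, classInner a χ * classInner (χ : G → ℂ) b := by
  conv_lhs => rw [eq_sum_irr ha]
  simp [classInner_sum_left, classInner_smul_left]

theorem sum_irr_mul_conj_aux (g h : G) [DecidablePred (fun x => IsConj h x)] :
    (Nat.card {x : G // IsConj h x} : ℂ) * ∑ χ : IrrCharacter G,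
      (χ : G → ℂ) g * conj ((χ : G → ℂ) h) = if IsConj h g then (Nat.card G : ℂ) else 0 := by
  classical
  let f : G → ℂ := fun x => if IsConj h x then 1 else 0
  have hf : IsClassFunction G f := fun x k => by
    have hx : IsConj x (k * x * k⁻¹) := isConj_iff.mpr ⟨k, rfl⟩
    simp only [f]
    by_cases hc : IsConj h x
    · rw [if_pos hc, if_pos (hc.trans hx)]
    · rw [if_neg hc, if_neg fun e => hc (e.trans hx.symm)]
  have hin : ∀ χ : IrrCharacter G, classInner f χ =
      (Nat.card G : ℂ)⁻¹ * ((Nat.card {x : G // IsConj h x} : ℂ) * conj ((χ : G → ℂ) h)) := by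
    intro χ
    simp only [classInner, f, ite_mul, one_mul, zero_mul]
    rw [← Finset.sum_filter, Nat.card_eq_fintype_card (α := {x : G // IsConj h x}),
      Fintype.card_subtype]
    congr 1
    rw [← nsmul_eq_mul, ← Finset.sum_const]
    refine Finset.sum_congr rfl fun x hx => ?_
    rw [isClassFunction_iff_isConj.mp (isClassFunction_irr χ.2) h x (Finset.mem_filter.mp hx).2]
  have := congrFun (eq_sum_irr hf) g
  simp only [Finset.sum_apply, Pi.smul_apply, smul_eq_mul, hin] at this
  have hne : (Nat.card G : ℂ) ≠ 0 := Nat.cast_ne_zero.mpr Nat.card_pos.ne'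
  rw [Finset.mul_sum]
  calc ∑ χ : IrrCharacter G, (Nat.card {x : G // IsConj h x} : ℂ) *
        ((χ : G → ℂ) g * conj ((χ : G → ℂ) h))
      = (Nat.card G : ℂ) * f g := by
        rw [this, Finset.mul_sum]
        exact Finset.sum_congr rfl fun χ _ => by field_simp
    _ = _ := by simp only [f]; split <;> simp

end Fintype

section Orth2

theorem card_isConj_mul_card_centralizer [Finite G] (h : G) :
    Nat.card {x : G // IsConj h x} * Nat.card (Subgroup.centralizer ({h} : Set G)) = Nat.card G := by
  have h1 : Nat.card {x : G // IsConj h x} =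
      (MulAction.stabilizer (ConjAct G) h).index := by
    rw [MulAction.index_stabilizer, ConjAct.orbit_eq_carrier_conjClasses, ← Nat.card_coe_set_eq]
    refine Nat.card_congr (Equiv.subtypeEquivRight fun x => ?_)
    rw [ConjClasses.mem_carrier_iff_mk_eq, ConjClasses.mk_eq_mk_iff_isConj, isConj_comm]
  rw [h1, Subgroup.centralizer_eq_comap_stabilizer, mul_comm,
    ← Subgroup.index_comap_of_surjective (MulAction.stabilizer (ConjAct G) h)
      (f := ConjAct.toConjAct.toMonoidHom) ConjAct.toConjAct.surjective]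
  exact Subgroup.card_mul_index _

/-- Second orthogonality relation. -/
theorem sum_irr_mul_conj [Fintype G] (g h : G) [Decidable (IsConj g h)] :
    ∑ χ : IrrCharacter G, (χ : G → ℂ) g * conj ((χ : G → ℂ) h) =
      if IsConj g h then (Nat.card (Subgroup.centralizer ({g} : Set G)) : ℂ) else 0 := by
  classical
  have key := sum_irr_mul_conj_aux g h
  have hpos : (Nat.card {x : G // IsConj h x} : ℂ) ≠ 0 := by
    have : Nonempty {x : G // IsConj h x} := ⟨⟨h, IsConj.refl h⟩⟩
    exact Nat.cast_ne_zero.mpr Nat.card_pos.ne'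
  by_cases hc : IsConj g h
  · rw [if_pos hc.symm] at key
    rw [if_pos hc]
    apply mul_left_cancel₀ hpos
    rw [key, ← Nat.cast_mul]
    have hcl : Nat.card {x : G // IsConj h x} = Nat.card {x : G // IsConj g x} :=
      Nat.card_congr (Equiv.subtypeEquivRight fun x => ⟨hc.trans, hc.symm.trans⟩)
    rw [hcl, card_isConj_mul_card_centralizer]
  · rw [if_neg (fun e => hc e.symm)] at key
    rw [if_neg hc]
    exact (mul_eq_zero.mp key).resolve_left hpos

theorem sum_irr_apply_mul_degree [Fintype G] [DecidableEq G] (g : G) :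
    ∑ χ : IrrCharacter G, (χ : G → ℂ) g * (χ : G → ℂ) 1 =
      if g = 1 then (Nat.card G : ℂ) else 0 := by
  classical
  have h := sum_irr_mul_conj g 1
  have hd : ∀ χ : IrrCharacter G, conj ((χ : G → ℂ) 1) = (χ : G → ℂ) 1 := fun χ => by
    rw [← char_apply_inv (isCharacter_of_irr χ.2), inv_one]
  simp only [hd] at h
  rw [h]
  by_cases hg : g = 1
  · subst hg
    have ht : Subgroup.centralizer ({1} : Set G) = ⊤ := by
      rw [eq_top_iff]; intro x _; simp [Subgroup.mem_centralizer_singleton_iff]
    rw [if_pos (IsConj.refl (1 : G)), if_pos rfl, ht, Subgroup.card_top]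
  · rw [if_neg hg, if_neg]
    intro hc
    exact hg (isConj_one_right.mp hc.symm)

theorem sum_irr_degree_sq [Fintype G] :
    ∑ χ : IrrCharacter G, (χ : G → ℂ) 1 ^ 2 = (Nat.card G : ℂ) := by
  classical
  simp only [sq]
  simpa using sum_irr_apply_mul_degree (1 : G)

end Orth2

section Count

variable [Finite G]

/-- Class functions are functions on the conjugacy classes. -/
noncomputable def classFunLift (χ : IrrCharacter G) : ConjClasses G → ℂ :=
  fun C => Quotient.liftOn C (χ : G → ℂ)
    (isClassFunction_iff_isConj.mp (isClassFunction_irr χ.2))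

theorem classFunLift_mk (χ : IrrCharacter G) (g : G) :
    classFunLift χ (ConjClasses.mk g) = (χ : G → ℂ) g := rfl

theorem card_irr_eq_card_conjClasses :
    Nat.card (IrrCharacter G) = Nat.card (ConjClasses G) := by
  classical
  have := Fintype.ofFinite G
  let L : (ConjClasses G → ℂ) →ₗ[ℂ] (G → ℂ) := LinearMap.funLeft ℂ ℂ ConjClasses.mk
  have hli : LinearIndependent ℂ (classFunLift : IrrCharacter G → ConjClasses G → ℂ) :=
    LinearIndependent.of_comp L linearIndependent_irr
  have hspan : ⊤ ≤ Submodule.span ℂ (Set.range (classFunLift (G := G))) := by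
    intro f _
    have hcf : IsClassFunction G (L f) := fun g k => by
      simp only [L, LinearMap.funLeft_apply]
      rw [ConjClasses.mk_eq_mk_iff_isConj.mpr (isConj_iff.mpr ⟨k, rfl⟩ : IsConj g (k * g * k⁻¹))]
    have : f = ∑ χ : IrrCharacter G, classInner (L f) (χ : G → ℂ) • classFunLift χ := by
      funext C
      induction C using Quotient.inductionOn with
      | _ g =>
        have := congrFun (eq_sum_irr hcf) g
        simp only [L, LinearMap.funLeft_apply, Finset.sum_apply, Pi.smul_apply, smul_eq_mul] at this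
        show f (ConjClasses.mk g) =
          (∑ χ : IrrCharacter G, classInner (L f) (χ : G → ℂ) • classFunLift χ) (ConjClasses.mk g)
        simp only [L, Finset.sum_apply, Pi.smul_apply, smul_eq_mul, classFunLift_mk]
        exact this
    rw [this]
    exact Submodule.sum_mem _ fun χ _ => Submodule.smul_mem _ _ (Submodule.subset_span ⟨χ, rfl⟩)
  have hf := Module.finrank_eq_card_basis (Module.Basis.mk hli hspan)
  rw [Module.finrank_pi] at hf
  rw [Nat.card_eq_fintype_card, Nat.card_eq_fintype_card, ← hf]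

theorem isConj_of_forall_irr {g h : G}
    (hgh : ∀ χ : IrrCharacter G, (χ : G → ℂ) g = (χ : G → ℂ) h) : IsConj g h := by
  classical
  have := Fintype.ofFinite G
  by_contra hc
  have h1 := sum_irr_mul_conj g h
  have h2 := sum_irr_mul_conj h h
  simp only [hgh] at h1
  rw [h1, if_neg hc, if_pos (IsConj.refl h)] at h2
  exact Nat.card_pos.ne' (by exact_mod_cast h2.symm)

end Count

section Coeff

variable [Fintype G]

theorem char_one_eq_natCast {χ : G → ℂ} (h : IsCharacter G χ) : ∃ d : ℕ, χ 1 = d := by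
  obtain ⟨n, ρ, rfl⟩ := h
  exact ⟨_, ρ.char_one⟩

theorem irr_degree_pos {χ : G → ℂ} (h : IsIrrCharacter G χ) : ∃ d : ℕ, 0 < d ∧ χ 1 = d := by
  obtain ⟨n, ρ, hρ, rfl⟩ := h
  refine ⟨_, Nat.pos_of_ne_zero fun e => ?_, ρ.char_one⟩
  have hs : Subsingleton (Fin n → ℂ) := Module.finrank_zero_iff.mp e
  exact bot_ne_top (α := Subrepresentation ρ)
    (Subrepresentation.toSubmodule_injective (Subsingleton.elim _ _))

theorem irr_ne_zero {χ : G → ℂ} (h : IsIrrCharacter G χ) : χ 1 ≠ 0 := by
  obtain ⟨d, hd, e⟩ := irr_degree_pos h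
  rw [e]; exact Nat.cast_ne_zero.mpr hd.ne'

theorem isCharacter_iff_coeff_nat {χ : G → ℂ} :
    IsCharacter G χ ↔ IsClassFunction G χ ∧
      ∀ ψ, IsIrrCharacter G ψ → ∃ n : ℕ, classInner χ ψ = n := by
  refine ⟨fun h => ⟨isClassFunction_char h,
    fun ψ hψ => classInner_char_nat h (isCharacter_of_irr hψ)⟩, fun ⟨hc, hn⟩ => ?_⟩
  rw [eq_sum_irr hc]
  refine isCharacter_sum _ _ fun ψ _ => ?_
  obtain ⟨n, hn⟩ := hn ψ ψ.2
  rw [hn]
  exact isCharacter_nsmul (isCharacter_of_irr ψ.2) n

theorem isGenChar_iff_coeff_int {θ : G → ℂ} :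
    IsGeneralizedCharacter G θ ↔ IsClassFunction G θ ∧
      ∀ ψ, IsIrrCharacter G ψ → ∃ n : ℤ, classInner θ ψ = n := by
  constructor
  · rintro ⟨a, b, ha, hb, rfl⟩
    refine ⟨isClassFunction_sub (isClassFunction_char ha) (isClassFunction_char hb),
      fun ψ hψ => ?_⟩
    obtain ⟨n, hn⟩ := classInner_char_nat ha (isCharacter_of_irr hψ)
    obtain ⟨m, hm⟩ := classInner_char_nat hb (isCharacter_of_irr hψ)
    exact ⟨(n : ℤ) - m, by rw [classInner_sub_left, hn, hm]; push_cast; rfl⟩
  · rintro ⟨hc, hn⟩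
    choose n hn using fun ψ : IrrCharacter G => hn ψ ψ.2
    refine ⟨∑ ψ : IrrCharacter G, (((n ψ).toNat : ℕ) : ℂ) • (ψ : G → ℂ),
      ∑ ψ : IrrCharacter G, (((-n ψ).toNat : ℕ) : ℂ) • (ψ : G → ℂ),
      isCharacter_sum _ _ fun ψ _ => isCharacter_nsmul (isCharacter_of_irr ψ.2) _,
      isCharacter_sum _ _ fun ψ _ => isCharacter_nsmul (isCharacter_of_irr ψ.2) _, ?_⟩ 
    conv_lhs => rw [eq_sum_irr hc]
    rw [← Finset.sum_sub_distrib]
    refine Finset.sum_congr rfl fun ψ _ => ?_
    rw [← sub_smul, hn ψ]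
    congr 1
    have : (n ψ : ℤ) = ((n ψ).toNat : ℤ) - ((-n ψ).toNat : ℤ) := by omega
    exact_mod_cast congrArg (fun z : ℤ => (z : ℂ)) this

/-- Two characters with equal inner products with all irreducibles are equal. -/
theorem classInner_self_eq_sum_sq {θ : G → ℂ} (h : IsGeneralizedCharacter G θ) :
    ∃ c : IrrCharacter G → ℤ, θ = ∑ ψ : IrrCharacter G, (c ψ : ℂ) • (ψ : G → ℂ) ∧
      (∀ ψ : IrrCharacter G, classInner θ (ψ : G → ℂ) = c ψ) ∧
      classInner θ θ = ((∑ ψ : IrrCharacter G, c ψ ^ 2 : ℤ) : ℂ) := by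
  obtain ⟨hc, hn⟩ := isGenChar_iff_coeff_int.mp h
  choose c hc' using fun ψ : IrrCharacter G => hn ψ ψ.2
  refine ⟨c, ?_, hc', ?_⟩
  · conv_lhs => rw [eq_sum_irr hc]
    simp [hc']
  · rw [classInner_eq_sum_irr hc]
    push_cast
    refine Finset.sum_congr rfl fun ψ _ => ?_
    rw [← classInner_comm θ, hc', map_intCast, sq]

/-- A virtual character of norm one is an irreducible character up to sign. -/
theorem irr_or_neg_of_norm_one {θ : G → ℂ} (h : IsGeneralizedCharacter G θ)
    (h1 : classInner θ θ = 1) : IsIrrCharacter G θ ∨ IsIrrCharacter G (-θ) := by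
  classical
  obtain ⟨c, hθ, -, hsq⟩ := classInner_self_eq_sum_sq h
  rw [h1] at hsq
  have hs : ∑ ψ : IrrCharacter G, c ψ ^ 2 = 1 := by exact_mod_cast hsq.symm
  have hne : ∃ ψ, c ψ ≠ 0 := by
    by_contra hall
    push Not at hall
    simp [hall] at hs
  obtain ⟨i, hi⟩ := hne
  have h2 : 1 ≤ c i ^ 2 := by nlinarith [Int.one_le_abs hi, sq_abs (c i)]
  have hrest : ∀ j, j ≠ i → c j = 0 := by
    intro j hj
    rw [← Finset.add_sum_erase _ _ (Finset.mem_univ i)] at hs
    have : c j ^ 2 ≤ ∑ ψ ∈ Finset.univ.erase i, c ψ ^ 2 :=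
      Finset.single_le_sum (f := fun ψ => c ψ ^ 2) (fun _ _ => sq_nonneg _)
        (Finset.mem_erase.mpr ⟨hj, Finset.mem_univ j⟩)
    exact pow_eq_zero_iff two_ne_zero |>.mp (le_antisymm (by linarith) (sq_nonneg _))
  have hi2 : c i ^ 2 = 1 := by
    rwa [Finset.sum_eq_single i (fun j _ hj => by simp [hrest j hj]) (by simp)] at hs
  have hθ' : θ = (c i : ℂ) • (i : G → ℂ) := by
    rw [hθ, Finset.sum_eq_single i (fun j _ hj => by simp [hrest j hj]) (by simp)]
  rcases sq_eq_one_iff.mp hi2 with e | e <;> rw [hθ', e]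
  · left; simpa using i.2
  · right; simpa using i.2

/-- A virtual character of norm one and positive degree is irreducible. -/
theorem irr_of_norm_one {θ : G → ℂ} (h : IsGeneralizedCharacter G θ) (h1 : classInner θ θ = 1)
    (hd : 0 < (θ 1).re) : IsIrrCharacter G θ := by
  refine (irr_or_neg_of_norm_one h h1).resolve_right fun hn => ?_
  obtain ⟨d, hd', e⟩ := irr_degree_pos hn
  have : (θ 1).re = -(d : ℝ) := by
    have : θ 1 = -(d : ℂ) := by rw [← e]; simp
    simp [this]
  have : (0 : ℝ) < d := Nat.cast_pos.mpr hd'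
  linarith

theorem isGenChar_of_char {χ : G → ℂ} (h : IsCharacter G χ) : IsGeneralizedCharacter G χ :=
  ⟨χ, 0, h, isCharacter_zero, (sub_zero χ).symm⟩

/-- A character of norm one is irreducible. -/
theorem irr_of_char_norm_one {χ : G → ℂ} (h : IsCharacter G χ) (h1 : classInner χ χ = 1) :
    IsIrrCharacter G χ := by
  refine irr_of_norm_one (isGenChar_of_char h) h1 ?_
  obtain ⟨n, ρ, rfl⟩ := h
  rw [ρ.char_one, Complex.natCast_re, Nat.cast_pos]
  refine Nat.pos_of_ne_zero fun e => ?_
  have : Subsingleton (Fin n → ℂ) := Module.finrank_zero_iff.mp e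
  have hz : ρ.character = 0 := by
    ext g; simp [Representation.character, Subsingleton.elim (ρ g) 0]
  simp [hz] at h1

theorem isGenChar_zero : IsGeneralizedCharacter G (0 : G → ℂ) :=
  isGenChar_of_char isCharacter_zero

theorem isGenChar_add {a b : G → ℂ} (ha : IsGeneralizedCharacter G a)
    (hb : IsGeneralizedCharacter G b) : IsGeneralizedCharacter G (a + b) := by
  obtain ⟨a₁, a₂, h1, h2, rfl⟩ := ha
  obtain ⟨b₁, b₂, h3, h4, rfl⟩ := hb
  exact ⟨a₁ + b₁, a₂ + b₂, isCharacter_add h1 h3, isCharacter_add h2 h4, by abel⟩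

theorem isGenChar_neg {a : G → ℂ} (ha : IsGeneralizedCharacter G a) :
    IsGeneralizedCharacter G (-a) := by
  obtain ⟨a₁, a₂, h1, h2, rfl⟩ := ha
  exact ⟨a₂, a₁, h2, h1, by abel⟩

theorem isGenChar_sub {a b : G → ℂ} (ha : IsGeneralizedCharacter G a)
    (hb : IsGeneralizedCharacter G b) : IsGeneralizedCharacter G (a - b) := by
  rw [sub_eq_add_neg]; exact isGenChar_add ha (isGenChar_neg hb)

theorem isGenChar_mul {a b : G → ℂ} (ha : IsGeneralizedCharacter G a)
    (hb : IsGeneralizedCharacter G b) : IsGeneralizedCharacter G (a * b) := by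
  obtain ⟨a₁, a₂, h1, h2, rfl⟩ := ha
  obtain ⟨b₁, b₂, h3, h4, rfl⟩ := hb
  exact ⟨a₁ * b₁ + a₂ * b₂, a₁ * b₂ + a₂ * b₁,
    isCharacter_add (isCharacter_mul h1 h3) (isCharacter_mul h2 h4),
    isCharacter_add (isCharacter_mul h1 h4) (isCharacter_mul h2 h3), by ring⟩

theorem isGenChar_sum {ι : Type*} (s : Finset ι) (f : ι → G → ℂ)
    (h : ∀ i ∈ s, IsGeneralizedCharacter G (f i)) : IsGeneralizedCharacter G (∑ i ∈ s, f i) :=
  Finset.sum_induction _ _ (fun _ _ => isGenChar_add) isGenChar_zero h

theorem isGenChar_intSmul (n : ℤ) {a : G → ℂ} (ha : IsGeneralizedCharacter G a) :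
    IsGeneralizedCharacter G ((n : ℂ) • a) := by
  refine isGenChar_iff_coeff_int.mpr
    ⟨isClassFunction_smul _ (isGenChar_iff_coeff_int.mp ha).1, fun ψ hψ => ?_⟩
  obtain ⟨m, hm⟩ := (isGenChar_iff_coeff_int.mp ha).2 ψ hψ
  exact ⟨n * m, by rw [classInner_smul_left, hm]; push_cast; rfl⟩

end Coeff

end CfsgLib.CharTheory
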