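/-
Ordinary character theory, part 3: induced functions.
-/
import Cfsg.Agent.Lib.CharTheory.Irr

namespace CfsgLib.CharTheory

open Cfsg
open scoped ComplexConjugate

universe u

variable {G : Type u} [Group G] [Fintype G]

theorem extendByZero_coe (H : Subgroup G) (θ : H → ℂ) (x : H) : extendByZero H θ x = θ x :=
  Subtype.val_injective.extend_apply θ 0 x

theorem extendByZero_of_mem (H : Subgroup G) (θ : H → ℂ) {g : G} (hg : g ∈ H) :
    extendByZero H θ g = θ ⟨g, hg⟩ :=
  extendByZero_coe H θ ⟨g, hg⟩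

theorem extendByZero_of_not_mem (H : Subgroup G) (θ : H → ℂ) {g : G} (hg : g ∉ H) :
    extendByZero H θ g = 0 := by
  rw [extendByZero, Function.extend_apply']
  · rfl
  · rintro ⟨x, rfl⟩; exact hg x.2

theorem indFun_isClassFunction (H : Subgroup G) (θ : H → ℂ) :
    IsClassFunction G (indFun H θ) := by
  intro g k
  simp only [indFun]
  congr 1
  refine Fintype.sum_equiv (Equiv.mulLeft k⁻¹) _ _ fun x => ?_
  simp [mul_assoc]

theorem indFun_add (H : Subgroup G) (a b : H → ℂ) :
    indFun H (a + b) = indFun H a + indFun H b := by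
  ext g
  simp only [indFun, Pi.add_apply, ← mul_add, ← Finset.sum_add_distrib]
  congr 1
  refine Finset.sum_congr rfl fun x _ => ?_
  by_cases hx : x⁻¹ * g * x ∈ H
  · simp [extendByZero_of_mem _ _ hx]
  · simp [extendByZero_of_not_mem _ _ hx]

theorem indFun_smul (H : Subgroup G) (r : ℂ) (a : H → ℂ) :
    indFun H (r • a) = r • indFun H a := by
  ext g
  simp only [indFun, Pi.smul_apply, smul_eq_mul, Finset.mul_sum]
  refine Finset.sum_congr rfl fun x _ => ?_
  by_cases hx : x⁻¹ * g * x ∈ H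
  · simp [extendByZero_of_mem _ _ hx, mul_left_comm]
  · simp [extendByZero_of_not_mem _ _ hx]

theorem indFun_zero (H : Subgroup G) : indFun H (0 : H → ℂ) = 0 := by
  simpa using indFun_smul H 0 (0 : H → ℂ)

theorem indFun_neg (H : Subgroup G) (a : H → ℂ) : indFun H (-a) = -indFun H a := by
  simpa using indFun_smul H (-1) a

theorem indFun_sub (H : Subgroup G) (a b : H → ℂ) :
    indFun H (a - b) = indFun H a - indFun H b := by
  rw [sub_eq_add_neg, indFun_add, indFun_neg, sub_eq_add_neg]

theorem indFun_sum (H : Subgroup G) {ι : Type*} (s : Finset ι) (f : ι → H → ℂ) :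
    indFun H (∑ i ∈ s, f i) = ∑ i ∈ s, indFun H (f i) := by
  classical
  induction s using Finset.induction with
  | empty => simp [indFun_zero]
  | insert i s hi ih => simp [Finset.sum_insert hi, indFun_add, ih]

theorem indFun_apply_one (H : Subgroup G) (θ : H → ℂ) :
    indFun H θ 1 = (H.index : ℂ) * θ 1 := by
  have : ∀ x : G, extendByZero H θ (x⁻¹ * 1 * x) = θ 1 := fun x => by
    rw [mul_one, inv_mul_cancel]; exact extendByZero_coe H θ 1
  simp only [indFun, this, Finset.sum_const, Finset.card_univ, nsmul_eq_mul,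
    ← Nat.card_eq_fintype_card]
  rw [← H.card_mul_index]
  have : (Nat.card H : ℂ) ≠ 0 := Nat.cast_ne_zero.mpr Nat.card_pos.ne'
  push_cast
  field_simp

/-- Frobenius reciprocity. -/
theorem frobenius_reciprocity (H : Subgroup G) [Fintype H] (θ : H → ℂ) {χ : G → ℂ}
    (hχ : IsClassFunction G χ) :
    classInner (indFun H θ) χ = classInner θ (fun h : H => χ h) := by
  classical
  simp only [classInner, indFun]
  have inner : ∀ x : G, ∑ g : G, extendByZero H θ (x⁻¹ * g * x) * conj (χ g) =
      ∑ h : H, θ h * conj (χ h) := by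
    intro x
    have e1 : ∑ g : G, extendByZero H θ (x⁻¹ * g * x) * conj (χ g) =
        ∑ y : G, extendByZero H θ y * conj (χ y) := by
      refine Fintype.sum_equiv (MulAut.conj x⁻¹).toEquiv _ _ fun g => ?_
      have : χ (x⁻¹ * g * x) = χ g := by simpa using hχ g x⁻¹
      simp [this, MulAut.conj_apply]
    rw [e1, ← Finset.sum_filter_add_sum_filter_not Finset.univ (· ∈ H)]
    rw [Finset.sum_eq_zero (s := Finset.univ.filter fun y => ¬ y ∈ H) (fun y hy => by
      rw [extendByZero_of_not_mem _ _ (Finset.mem_filter.mp hy).2, zero_mul]), add_zero]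
    rw [Finset.sum_subtype (p := (· ∈ H)) _ (fun y => by simp)]
    exact Finset.sum_congr rfl fun y _ => by rw [extendByZero_coe]
  calc (Nat.card G : ℂ)⁻¹ * ∑ g : G,
        ((Nat.card H : ℂ)⁻¹ * ∑ x : G, extendByZero H θ (x⁻¹ * g * x)) * conj (χ g)
      = (Nat.card G : ℂ)⁻¹ * ((Nat.card H : ℂ)⁻¹ *
          ∑ x : G, ∑ g : G, extendByZero H θ (x⁻¹ * g * x) * conj (χ g)) := by
        congr 1
        simp only [Finset.mul_sum, Finset.sum_mul, mul_assoc]
        exact Finset.sum_comm
    _ = (Nat.card H : ℂ)⁻¹ * ∑ h : H, θ h * conj (χ h) := by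
        simp only [inner, Finset.sum_const, Finset.card_univ, nsmul_eq_mul,
          ← Nat.card_eq_fintype_card]
        have : (Nat.card G : ℂ) ≠ 0 := Nat.cast_ne_zero.mpr Nat.card_pos.ne'
        field_simp

theorem frobenius_reciprocity' (H : Subgroup G) [Fintype H] (θ : H → ℂ) {χ : G → ℂ}
    (hχ : IsClassFunction G χ) :
    classInner χ (indFun H θ) = classInner (fun h : H => χ h) θ := by
  rw [← classInner_comm, frobenius_reciprocity H θ hχ, classInner_comm]

theorem isCharacter_indFun (H : Subgroup G) {θ : H → ℂ} (hθ : IsCharacter H θ) :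
    IsCharacter G (indFun H θ) := by
  have := Fintype.ofFinite H
  refine isCharacter_iff_coeff_nat.mpr ⟨indFun_isClassFunction H θ, fun ψ hψ => ?_⟩
  obtain ⟨n, hn⟩ := classInner_char_nat hθ (isCharacter_restrict (isCharacter_of_irr hψ) H)
  exact ⟨n, by rw [frobenius_reciprocity H θ (isClassFunction_irr hψ), hn]⟩

theorem isGenChar_indFun (H : Subgroup G) {θ : H → ℂ} (hθ : IsGeneralizedCharacter H θ) :
    IsGeneralizedCharacter G (indFun H θ) := by
  obtain ⟨a, b, ha, hb, rfl⟩ := hθ
  exact ⟨_, _, isCharacter_indFun H ha, isCharacter_indFun H hb, indFun_sub H a b⟩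

/-- Transitivity of induction. -/
theorem indFun_trans (H K : Subgroup G) [Fintype K] (hHK : H ≤ K) (θ : H → ℂ) :
    indFun K (indFun (H.subgroupOf K) (fun x => θ ⟨(x : K), Subgroup.mem_subgroupOf.mp x.2⟩)) =
      indFun H θ := by
  classical
  let θ' : H.subgroupOf K → ℂ := fun x => θ ⟨(x : K), Subgroup.mem_subgroupOf.mp x.2⟩
  have hext : ∀ y : K, extendByZero (H.subgroupOf K) θ' y = extendByZero H θ (y : G) := by
    intro y
    by_cases hy : (y : G) ∈ H
    · rw [extendByZero_of_mem _ _ hy,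
        extendByZero_of_mem _ _ (Subgroup.mem_subgroupOf.mpr hy)]
    · rw [extendByZero_of_not_mem _ _ hy,
        extendByZero_of_not_mem _ _ (fun e => hy (Subgroup.mem_subgroupOf.mp e))]
  have hcard : Nat.card (H.subgroupOf K) = Nat.card H :=
    Nat.card_congr (Subgroup.subgroupOfEquivOfLe hHK).toEquiv
  ext g
  have hK : ∀ x : G, extendByZero K (indFun (H.subgroupOf K) θ') (x⁻¹ * g * x) =
      (Nat.card H : ℂ)⁻¹ * ∑ k : K, extendByZero H θ ((x * k)⁻¹ * g * (x * k)) := by
    intro x
    by_cases hx : x⁻¹ * g * x ∈ K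
    · rw [extendByZero_of_mem _ _ hx, indFun, hcard]
      congr 1
      refine Finset.sum_congr rfl fun k _ => ?_
      rw [hext]
      simp [mul_assoc]
    · rw [extendByZero_of_not_mem _ _ hx]
      refine (mul_eq_zero_of_right _ (Finset.sum_eq_zero fun k _ => ?_)).symm
      refine extendByZero_of_not_mem _ _ fun hk => hx ?_
      have := K.mul_mem (K.mul_mem k.2 (hHK hk)) (K.inv_mem k.2)
      simpa [mul_assoc] using this
  show (Nat.card K : ℂ)⁻¹ * ∑ x : G, extendByZero K (indFun (H.subgroupOf K) θ') (x⁻¹ * g * x) =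
    (Nat.card H : ℂ)⁻¹ * ∑ x : G, extendByZero H θ (x⁻¹ * g * x)
  simp only [hK, ← Finset.mul_sum]
  rw [Finset.sum_comm]
  have hinner : ∀ k : K, ∑ x : G, extendByZero H θ ((x * k)⁻¹ * g * (x * k)) =
      ∑ x : G, extendByZero H θ (x⁻¹ * g * x) := fun k =>
    Fintype.sum_equiv (Equiv.mulRight (k : G)) _ _ fun x => rfl
  simp only [hinner, Finset.sum_const, Finset.card_univ, nsmul_eq_mul, ← Nat.card_eq_fintype_card]
  have : (Nat.card K : ℂ) ≠ 0 := Nat.cast_ne_zero.mpr Nat.card_pos.ne'
  field_simp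

theorem indFun_eq_zero_of_not_isConj (H : Subgroup G) (θ : H → ℂ) {g : G}
    (h : ∀ x : G, x⁻¹ * g * x ∉ H) : indFun H θ g = 0 := by
  simp [indFun, fun x => extendByZero_of_not_mem H θ (h x)]

/-- On a normal subgroup, induction is a sum of conjugates; off it, zero. -/
theorem indFun_normal_apply (N : Subgroup G) [hN : N.Normal] (θ : N → ℂ) (n : N) :
    indFun N θ n = (Nat.card N : ℂ)⁻¹ *
      ∑ x : G, θ ⟨x * n * x⁻¹, hN.conj_mem n n.2 x⟩ := by
  simp only [indFun]
  congr 1
  refine Fintype.sum_equiv (Equiv.inv G) _ _ fun x => ?_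
  rw [extendByZero_of_mem _ _ (hN.conj_mem' n n.2 x)]
  simp [mul_assoc]

theorem indFun_normal_apply_not_mem (N : Subgroup G) [hN : N.Normal] (θ : N → ℂ) {g : G}
    (hg : g ∉ N) : indFun N θ g = 0 :=
  indFun_eq_zero_of_not_isConj N θ fun x hx => hg (by
    simpa [mul_assoc] using hN.conj_mem _ hx x)

/-- The projection formula. -/
theorem indFun_mul (H : Subgroup G) (θ : H → ℂ) {χ : G → ℂ} (hχ : IsClassFunction G χ) :
    indFun H (θ * fun h : H => χ h) = indFun H θ * χ := by
  ext g
  simp only [indFun, Pi.mul_apply, Finset.mul_sum, Finset.sum_mul]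
  refine Finset.sum_congr rfl fun x _ => ?_
  by_cases hx : x⁻¹ * g * x ∈ H
  · simp only [extendByZero_of_mem _ _ hx, Pi.mul_apply]
    have : χ (x⁻¹ * g * x) = χ g := by simpa using hχ g x⁻¹
    simp only [mul_assoc] at this ⊢
    simp only [this]
  · simp [extendByZero_of_not_mem _ _ hx]

end CfsgLib.CharTheory
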