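/-
Ordinary character theory, part 4: eigenvalues, integrality, central characters.
-/
import Cfsg.Agent.Lib.CharTheory.Irr

namespace CfsgLib.CharTheory

open Cfsg Polynomial
open scoped ComplexConjugate

universe u v

variable {G : Type u} [Group G] [Finite G]
variable {V : Type v} [AddCommGroup V] [Module ℂ V] [FiniteDimensional ℂ V]

/-- The eigenvalues of `ρ g`, with multiplicity. -/
noncomputable def charRoots (ρ : Representation ℂ G V) (g : G) : Multiset ℂ :=
  (ρ g).charpoly.roots

theorem card_charRoots (ρ : Representation ℂ G V) (g : G) :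
    Multiset.card (charRoots ρ g) = Module.finrank ℂ V := by
  rw [charRoots, IsAlgClosed.card_roots_eq_natDegree, LinearMap.charpoly_natDegree]

theorem character_eq_sum_charRoots (ρ : Representation ℂ G V) (g : G) :
    ρ.character g = (charRoots ρ g).sum := by
  let b := Module.finBasis ℂ V
  rw [charRoots, ← LinearMap.charpoly_toMatrix (ρ g) b, ← Matrix.trace_eq_sum_roots_charpoly]
  exact LinearMap.trace_eq_matrix_trace ℂ b _

theorem pow_eq_one_of_mem_charRoots (ρ : Representation ℂ G V) (g : G) {μ : ℂ}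
    (h : μ ∈ charRoots ρ g) : μ ^ orderOf g = 1 := by
  have hμ : Module.End.HasEigenvalue (ρ g) μ :=
    (Module.End.hasEigenvalue_iff_isRoot_charpoly (ρ g) μ).mpr (isRoot_of_mem_roots h)
  obtain ⟨v, hv⟩ := hμ.exists_hasEigenvector
  have h1 := hv.pow_apply (orderOf g)
  rw [← map_pow, pow_orderOf_eq_one, map_one, Module.End.one_apply] at h1
  have h2 : (μ ^ orderOf g - 1) • v = 0 := by rw [sub_smul, one_smul, ← h1, sub_self]
  exact sub_eq_zero.mp ((smul_eq_zero.mp h2).resolve_right hv.2)

theorem norm_eq_one_of_mem_charRoots (ρ : Representation ℂ G V) (g : G) {μ : ℂ}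
    (h : μ ∈ charRoots ρ g) : ‖μ‖ = 1 :=
  Complex.norm_eq_one_of_pow_eq_one (pow_eq_one_of_mem_charRoots ρ g h)
    (orderOf_pos g).ne'

theorem isIntegral_character (ρ : Representation ℂ G V) (g : G) :
    IsIntegral ℤ (ρ.character g) := by
  rw [character_eq_sum_charRoots]
  refine IsIntegral.multiset_sum fun μ hμ => ?_
  exact ⟨X ^ orderOf g - 1, monic_X_pow_sub_C 1 (orderOf_pos g).ne',
    by simp [pow_eq_one_of_mem_charRoots ρ g hμ]⟩

theorem isIntegral_of_char {χ : G → ℂ} (h : IsCharacter G χ) (g : G) : IsIntegral ℤ (χ g) := by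
  obtain ⟨n, ρ, rfl⟩ := h
  exact isIntegral_character ρ g

theorem isIntegral_of_genChar {χ : G → ℂ} (h : IsGeneralizedCharacter G χ) (g : G) :
    IsIntegral ℤ (χ g) := by
  obtain ⟨a, b, ha, hb, rfl⟩ := h
  exact (isIntegral_of_char ha g).sub (isIntegral_of_char hb g)

theorem norm_character_le (ρ : Representation ℂ G V) (g : G) :
    ‖ρ.character g‖ ≤ (Module.finrank ℂ V : ℝ) := by
  rw [character_eq_sum_charRoots]
  refine le_trans (norm_multiset_sum_le _) ?_
  have : (charRoots ρ g).map norm = Multiset.replicate (Module.finrank ℂ V) (1 : ℝ) := by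
    rw [Multiset.eq_replicate]
    refine ⟨by rw [Multiset.card_map, card_charRoots], fun x hx => ?_⟩
    obtain ⟨μ, hμ, rfl⟩ := Multiset.mem_map.mp hx
    exact norm_eq_one_of_mem_charRoots ρ g hμ
  simp [this]

theorem norm_char_le {χ : G → ℂ} (h : IsCharacter G χ) (g : G) : ‖χ g‖ ≤ ‖χ 1‖ := by
  obtain ⟨n, ρ, rfl⟩ := h
  rw [ρ.char_one, Complex.norm_natCast]
  exact norm_character_le ρ g

theorem all_eq_of_sum_norm {s : Multiset ℂ} (h1 : ∀ x ∈ s, ‖x‖ = 1)
    (h : ‖s.sum‖ = (Multiset.card s : ℝ)) :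
    ∀ x ∈ s, ∀ y ∈ s, x = y := by
  classical
  by_cases hS : s = 0
  · subst hS; simp
  have hn : (0 : ℝ) < Multiset.card s := by
    exact_mod_cast Multiset.card_pos.mpr hS
  have hS0 : s.sum ≠ 0 := fun e => by rw [e, norm_zero] at h; linarith
  set u : ℂ := conj s.sum / ‖s.sum‖ with hu
  have hnu : ‖u‖ = 1 := by
    rw [hu, norm_div, Complex.norm_conj, Complex.norm_real, norm_norm,
      div_self (norm_ne_zero_iff.mpr hS0)]
  have hsum : (s.map fun x => (u * x).re).sum = (Multiset.card s : ℝ) := by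
    have gen : ∀ (w : ℂ) (t : Multiset ℂ), (t.map fun x => (w * x).re).sum = (w * t.sum).re := by
      intro w t
      induction t using Multiset.induction with
      | empty => simp
      | cons a t ih => rw [Multiset.map_cons, Multiset.sum_cons, Multiset.sum_cons, ih, mul_add, Complex.add_re]
    have e := gen u s
    rw [e, hu, div_mul_eq_mul_div, Complex.conj_mul', ← h, sq]
    simp [norm_ne_zero_iff.mpr hS0]
  have hle : ∀ x ∈ s, (u * x).re ≤ 1 := fun x hx => by
    calc (u * x).re ≤ ‖u * x‖ := Complex.re_le_norm _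
      _ = 1 := by rw [norm_mul, hnu, h1 x hx, mul_one]
  have heq : ∀ x ∈ s, (u * x).re = 1 := by
    intro x hx
    by_contra hne
    have hlt := lt_of_le_of_ne (hle x hx) hne
    have := Multiset.sum_lt_sum (s := s) (f := fun x => (u * x).re) (g := fun _ => (1 : ℝ))
      hle ⟨x, hx, hlt⟩
    simp only [hsum, Multiset.map_const', Multiset.sum_replicate, nsmul_eq_mul, mul_one] at this
    exact lt_irrefl _ this
  have hval : ∀ x ∈ s, u * x = 1 := fun x hx => by
    have hn1 : ‖u * x‖ = 1 := by rw [norm_mul, hnu, h1 x hx, mul_one]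
    have := Complex.sq_norm (u * x)
    rw [hn1, Complex.normSq_apply, heq x hx] at this
    have him : (u * x).im = 0 := by nlinarith
    exact Complex.ext (by simpa using heq x hx) (by simpa using him)
  intro x hx y hy
  have hu0 : u ≠ 0 := fun e => by simp [e] at hnu
  exact mul_left_cancel₀ hu0 ((hval x hx).trans (hval y hy).symm)

theorem eq_smul_id_of_norm_character_eq (ρ : Representation ℂ G V) (g : G)
    (h : ‖ρ.character g‖ = (Module.finrank ℂ V : ℝ)) :
    ∃ ω : ℂ, ρ g = ω • (LinearMap.id : V →ₗ[ℂ] V) := by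
  classical
  by_cases h0 : Module.finrank ℂ V = 0
  · have : Subsingleton V := Module.finrank_zero_iff.mp h0
    exact ⟨0, LinearMap.ext fun v => Subsingleton.elim _ _⟩
  have hall := all_eq_of_sum_norm (fun x hx => norm_eq_one_of_mem_charRoots ρ g hx)
    (by rw [← character_eq_sum_charRoots, h, card_charRoots])
  obtain ⟨ω, hω⟩ := Multiset.exists_mem_of_ne_zero (s := charRoots ρ g)
    (fun e => h0 (by rw [← card_charRoots ρ g, e, Multiset.card_zero]))
  refine ⟨ω, ?_⟩
  have hroots : (ρ g).charpoly.roots = Multiset.replicate (Module.finrank ℂ V) ω := by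
    rw [Multiset.eq_replicate]
    exact ⟨card_charRoots ρ g, fun x hx => hall x hx ω hω⟩
  have hcp : (ρ g).charpoly = (X - C ω) ^ Module.finrank ℂ V := by
    conv_lhs => rw [(IsAlgClosed.splits (ρ g).charpoly).eq_prod_roots_of_monic
      (LinearMap.charpoly_monic _)]
    rw [hroots, Multiset.map_replicate, Multiset.prod_replicate]
  have hm1 : minpoly ℂ (ρ g) ∣ X ^ orderOf g - C 1 :=
    minpoly.dvd _ _ (by rw [map_sub, map_pow, aeval_X, aeval_C, ← map_pow ρ, pow_orderOf_eq_one, map_one, map_one, sub_self])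
  have hm2 : minpoly ℂ (ρ g) ∣ (X - C ω) ^ Module.finrank ℂ V :=
    hcp ▸ LinearMap.minpoly_dvd_charpoly _
  have hsq : Squarefree (minpoly ℂ (ρ g)) := by
    refine Squarefree.squarefree_of_dvd hm1 ?_
    exact (separable_X_pow_sub_C (1 : ℂ) (Nat.cast_ne_zero.mpr (orderOf_pos g).ne')
      one_ne_zero).squarefree
  obtain ⟨k, -, hassoc⟩ := (dvd_prime_pow (prime_X_sub_C ω) _).mp hm2
  have hk : k ≤ 1 := by
    by_contra hk
    have h2 : (X - C ω) * (X - C ω) ∣ minpoly ℂ (ρ g) :=
      (by rw [← sq]; exact pow_dvd_pow _ (by omega) : _ ∣ (X - C ω) ^ k).trans hassoc.symm.dvd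
    exact (prime_X_sub_C ω).not_unit (hsq _ h2)
  have hdvd : minpoly ℂ (ρ g) ∣ X - C ω :=
    hassoc.dvd.trans (by simpa using pow_dvd_pow (X - C ω) hk)
  obtain ⟨q, hq⟩ := hdvd
  have : aeval (ρ g) (X - C ω) = 0 := by rw [hq, map_mul, minpoly.aeval, zero_mul]
  simp only [map_sub, aeval_X, aeval_C] at this
  rw [sub_eq_zero.mp this]
  rfl

theorem norm_character_eq_iff (ρ : Representation ℂ G V) (g : G) :
    ‖ρ.character g‖ = (Module.finrank ℂ V : ℝ) ↔
      ∃ ω : ℂ, ρ g = ω • (LinearMap.id : V →ₗ[ℂ] V) := by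
  refine ⟨eq_smul_id_of_norm_character_eq ρ g, fun ⟨ω, hω⟩ => ?_⟩
  by_cases h0 : Module.finrank ℂ V = 0
  · simp [Representation.character, hω, h0]
  have hne : Nontrivial V := Module.finrank_pos_iff.mp (Nat.pos_of_ne_zero h0)
  obtain ⟨v, hv⟩ := exists_ne (0 : V)
  have h1 : (ρ g) ^ orderOf g = 1 := by rw [← map_pow, pow_orderOf_eq_one, map_one]
  rw [hω, _root_.smul_pow, ← Module.End.one_eq_id, one_pow] at h1
  have h2 := LinearMap.congr_fun h1 v
  have hωn : ω ^ orderOf g = 1 := by
    have h3 : (ω ^ orderOf g - 1) • v = 0 := by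
      rw [sub_smul, one_smul, sub_eq_zero]
      simpa using h2
    exact sub_eq_zero.mp ((smul_eq_zero.mp h3).resolve_right hv)
  simp [Representation.character, hω,
    Complex.norm_eq_one_of_pow_eq_one hωn (orderOf_pos g).ne']

theorem character_eq_finrank_iff (ρ : Representation ℂ G V) (g : G) :
    ρ.character g = (Module.finrank ℂ V : ℂ) ↔ ρ g = LinearMap.id := by
  refine ⟨fun h => ?_, fun h => by simp [Representation.character, h]⟩
  obtain ⟨ω, hω⟩ := eq_smul_id_of_norm_character_eq ρ g (by rw [h, Complex.norm_natCast])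
  by_cases h0 : Module.finrank ℂ V = 0
  · have : Subsingleton V := Module.finrank_zero_iff.mp h0
    exact LinearMap.ext fun v => Subsingleton.elim _ _
  have : ω = 1 := by
    have h' := h
    simp only [Representation.character, hω, map_smul, LinearMap.trace_id, smul_eq_mul] at h'
    have hne : (Module.finrank ℂ V : ℂ) ≠ 0 := Nat.cast_ne_zero.mpr h0
    exact mul_right_cancel₀ hne (by rw [h', one_mul])
  rw [hω, this, one_smul]

/-- The class sum acts on an irreducible representation by an algebraic integer. -/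
theorem isIntegral_centralChar (ρ : Representation ℂ G V) [ρ.IsIrreducible] (g : G) :
    IsIntegral ℤ ((Nat.card {x : G // IsConj g x} : ℂ) * ρ.character g /
      (Module.finrank ℂ V : ℂ)) := by
  classical
  have := Fintype.ofFinite G
  let s : Finset G := Finset.univ.filter fun x => IsConj g x
  let F : MonoidAlgebra ℤ G →ₐ[ℤ] Module.End ℂ V :=
    MonoidAlgebra.lift ℤ (Module.End ℂ V) G ρ
  let z : MonoidAlgebra ℤ G := ∑ x ∈ s, MonoidAlgebra.of ℤ G x
  have hF : F z = ∑ x ∈ s, ρ x := by simp [F, z]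
  have hzint : IsIntegral ℤ (F z) :=
    (IsIntegral.of_finite ℤ z).map F
  have hcomm : ∀ k : G, F z ∘ₗ ρ k = ρ k ∘ₗ F z := by
    intro k
    rw [hF, ← Module.End.mul_eq_comp, ← Module.End.mul_eq_comp, Finset.mul_sum, Finset.sum_mul]
    refine Finset.sum_nbij' (fun x => k⁻¹ * x * k) (fun x => k * x * k⁻¹) ?_ ?_ ?_ ?_ ?_
    · intro x hx
      have hx' : IsConj g x := (Finset.mem_filter.mp hx).2
      exact Finset.mem_filter.mpr ⟨Finset.mem_univ _, hx'.trans (isConj_iff.mpr ⟨k⁻¹, by simp⟩)⟩
    · intro x hx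
      have hx' : IsConj g x := (Finset.mem_filter.mp hx).2
      exact Finset.mem_filter.mpr ⟨Finset.mem_univ _, hx'.trans (isConj_iff.mpr ⟨k, rfl⟩)⟩
    · intro x _; simp [mul_assoc]
    · intro x _; simp [mul_assoc]
    · intro x _; rw [← map_mul, ← map_mul]; simp [mul_assoc]
  let T : Representation.IntertwiningMap ρ ρ := ⟨F z, hcomm⟩
  obtain ⟨c, hc⟩ :=
    (Representation.IsIrreducible.algebraMap_intertwiningMap_bijective_of_isAlgClosed).2 T
  have hc' : F z = algebraMap ℂ (Module.End ℂ V) c := by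
    show T.toLinearMap = _
    rw [← hc]; rfl
  have hne : Nontrivial V := by
    by_contra hs
    rw [not_nontrivial_iff_subsingleton] at hs
    exact bot_ne_top (α := Subrepresentation ρ)
      (Subrepresentation.toSubmodule_injective (Subsingleton.elim _ _))
  have hcint : IsIntegral ℤ c :=
    (isIntegral_algHom_iff ((Algebra.ofId ℂ (Module.End ℂ V)).restrictScalars ℤ)
      (RingHom.injective _)).mp (by rw [hc'] at hzint; exact hzint)
  convert hcint
  have htr := congrArg (LinearMap.trace ℂ V) hc'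
  rw [hF, map_sum, Algebra.algebraMap_eq_smul_one, map_smul, LinearMap.trace_one, smul_eq_mul] at htr
  have hdim : (Module.finrank ℂ V : ℂ) ≠ 0 := Nat.cast_ne_zero.mpr Module.finrank_pos.ne'
  rw [div_eq_iff hdim, ← htr, Nat.card_eq_fintype_card, Fintype.card_subtype, ← nsmul_eq_mul,
    ← Finset.sum_const]
  refine Finset.sum_congr rfl fun x hx => ?_
  obtain ⟨k, rfl⟩ := isConj_iff.mp (Finset.mem_filter.mp hx).2
  exact (ρ.char_conj g k).symm

theorem finrank_dvd_card (ρ : Representation ℂ G V) [ρ.IsIrreducible] :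
    Module.finrank ℂ V ∣ Nat.card G := by
  classical
  have := Fintype.ofFinite G
  have hpos : 0 < Module.finrank ℂ V := by
    obtain ⟨d, hd, e⟩ := irr_degree_pos (isIrrCharacter_character ρ)
    rw [ρ.char_one] at e
    exact (Nat.cast_inj.mp e) ▸ hd
  set d := Module.finrank ℂ V with hd
  have hd0 : (d : ℂ) ≠ 0 := Nat.cast_ne_zero.mpr hpos.ne'
  have hnorm := classInner_irr_self (isIrrCharacter_character ρ)
  have hG : (Nat.card G : ℂ) ≠ 0 := Nat.cast_ne_zero.mpr Nat.card_pos.ne'
  simp only [classInner] at hnorm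
  have hsum : ∑ g : G, ρ.character g * conj (ρ.character g) = (Nat.card G : ℂ) := by
    field_simp at hnorm; linear_combination hnorm
  have hfib : ∑ g : G, ρ.character g * conj (ρ.character g) / (d : ℂ) =
      ∑ C : ConjClasses G, (Nat.card {x : G // IsConj C.out x} : ℂ) * ρ.character C.out / (d : ℂ) *
        conj (ρ.character C.out) := by
    rw [← Finset.sum_fiberwise Finset.univ (ConjClasses.mk : G → ConjClasses G)]
    refine Finset.sum_congr rfl fun C _ => ?_
    have hC : ConjClasses.mk C.out = C := Quotient.out_eq C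
    have hcard : (Finset.univ.filter fun x => ConjClasses.mk x = C).card =
        Nat.card {x : G // IsConj C.out x} := by
      rw [Nat.card_eq_fintype_card, Fintype.card_subtype]
      congr 1
      ext x
      simp only [Finset.mem_filter, Finset.mem_univ, true_and]
      conv_lhs => rw [← hC]
      rw [ConjClasses.mk_eq_mk_iff_isConj]
      exact isConj_comm
    have hconst : ∀ x ∈ Finset.univ.filter fun x => ConjClasses.mk x = C,
        ρ.character x * conj (ρ.character x) / (d : ℂ) =
          ρ.character C.out * conj (ρ.character C.out) / (d : ℂ) := by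
      intro x hx
      have hx' : IsConj x C.out :=
        ConjClasses.mk_eq_mk_iff_isConj.mp ((Finset.mem_filter.mp hx).2.trans hC.symm)
      obtain ⟨k, hk⟩ := isConj_iff.mp hx'
      rw [← hk, ρ.char_conj]
    rw [Finset.sum_congr rfl hconst, Finset.sum_const, hcard, nsmul_eq_mul]
    ring
  have hint : IsIntegral ℤ ((Nat.card G : ℂ) / (d : ℂ)) := by
    rw [← hsum, Finset.sum_div, hfib]
    refine IsIntegral.sum _ fun C _ => (isIntegral_centralChar ρ C.out).mul ?_
    rw [conj_char]; exact isIntegral_character ρ _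
  have hq : ((Nat.card G : ℂ) / (d : ℂ)) = algebraMap ℚ ℂ ((Nat.card G : ℚ) / (d : ℚ)) := by simp
  rw [hq, isIntegral_algebraMap_iff (algebraMap ℚ ℂ).injective] at hint
  obtain ⟨m, hm⟩ := IsIntegrallyClosed.isIntegral_iff.mp hint
  have hm' : (Nat.card G : ℚ) = (m : ℚ) * d := by
    rw [eq_div_iff (Nat.cast_ne_zero.mpr hpos.ne')] at hm
    simpa using hm.symm
  have : (d : ℤ) ∣ (Nat.card G : ℤ) := ⟨m, by rw [mul_comm]; exact_mod_cast hm'⟩
  exact_mod_cast this

/-- A rational algebraic integer is an integer. -/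
theorem exists_int_of_isIntegral_ratCast {q : ℚ} (h : IsIntegral ℤ (q : ℂ)) :
    ∃ n : ℤ, q = n := by
  have hq : (q : ℂ) = algebraMap ℚ ℂ q := (eq_ratCast _ q).symm
  rw [hq, isIntegral_algebraMap_iff (algebraMap ℚ ℂ).injective] at h
  obtain ⟨m, hm⟩ := IsIntegrallyClosed.isIntegral_iff.mp h
  exact ⟨m, by simpa using hm.symm⟩

end CfsgLib.CharTheory
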