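/-
Ordinary character theory, part 5: linear characters, kernels, quotients, and representations
determined by their characters.
-/
import Cfsg.Agent.Lib.CharTheory.Irr
import Cfsg.Agent.Lib.CharTheory.Integral

namespace CfsgLib.CharTheory

open Cfsg
open scoped ComplexConjugate

universe u v w

variable {G : Type u} [Group G]

/-- An endomorphism of a one-dimensional space is a scalar. -/
theorem eq_smul_id_of_finrank_one {V : Type v} [AddCommGroup V] [Module ℂ V]
    (h : Module.finrank ℂ V = 1) (f : V →ₗ[ℂ] V) :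
    f = LinearMap.trace ℂ V f • (LinearMap.id : V →ₗ[ℂ] V) := by
  have : FiniteDimensional ℂ V := Module.finite_of_finrank_eq_succ h
  obtain ⟨v, hv, hspan⟩ := finrank_eq_one_iff'.mp h
  obtain ⟨c, hc⟩ := hspan (f v)
  have hf : f = c • (LinearMap.id : V →ₗ[ℂ] V) := by
    ext x
    obtain ⟨a, rfl⟩ := hspan x
    simp [← hc, smul_smul, mul_comm]
  conv_rhs => rw [hf]
  rw [map_smul, LinearMap.trace_id, h]
  simpa using hf

/-- A character of degree one is given by a homomorphism. -/
theorem exists_hom_of_degree_one {χ : G → ℂ} (hχ : IsCharacter G χ) (h1 : χ 1 = 1) :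
    ∃ φ : G →* ℂˣ, χ = fun g => (φ g : ℂ) := by
  obtain ⟨n, ρ, rfl⟩ := hχ
  have hn : Module.finrank ℂ (Fin n → ℂ) = 1 := by
    rw [ρ.char_one] at h1; exact_mod_cast h1
  have key : ∀ g k : G, ρ.character (g * k) = ρ.character g * ρ.character k := by
    intro g k
    conv_lhs => rw [Representation.character, map_mul, eq_smul_id_of_finrank_one hn (ρ g),
      eq_smul_id_of_finrank_one hn (ρ k)]
    rw [smul_mul_assoc, mul_smul_comm, map_smul, map_smul, ← Module.End.one_eq_id, one_mul,
      LinearMap.trace_one, hn]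
    simp [Representation.character]
  let φ : G →* ℂ := { toFun := ρ.character, map_one' := h1, map_mul' := key }
  exact ⟨φ.toHomUnits, funext fun g => rfl⟩

theorem isIrrCharacter_of_degree_one {χ : G → ℂ} (hχ : IsCharacter G χ) (h1 : χ 1 = 1) :
    IsIrrCharacter G χ := by
  obtain ⟨φ, rfl⟩ := exists_hom_of_degree_one hχ h1
  exact isIrrCharacter_linear φ

/-- The irreducible characters of degree one are the homomorphisms to `ℂˣ`. -/
noncomputable def linearEquivHom :
    {χ : IrrCharacter G // (χ : G → ℂ) 1 = 1} ≃ (G →* ℂˣ) :=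
  (Equiv.ofBijective
    (fun φ : G →* ℂˣ => (⟨⟨fun g => (φ g : ℂ), isIrrCharacter_linear φ⟩, by simp⟩ :
      {χ : IrrCharacter G // (χ : G → ℂ) 1 = 1}))
    ⟨fun a b h => by
      ext g
      exact congrFun (congrArg (fun x => (x.1.1 : G → ℂ)) h) g,
     fun ⟨⟨χ, hχ⟩, h1⟩ => by
      obtain ⟨φ, hφ⟩ := exists_hom_of_degree_one (isCharacter_of_irr hχ) h1
      exact ⟨φ, Subtype.ext (Subtype.ext hφ.symm)⟩⟩).symm

theorem card_linear [Finite G] :
    Nat.card {χ : IrrCharacter G // (χ : G → ℂ) 1 = 1} = (commutator G).index := by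
  rw [Nat.card_congr linearEquivHom]
  show Nat.card (G →* ℂˣ) = Nat.card (Abelianization G)
  rw [← Nat.card_congr (Abelianization.lift (G := G) (A := ℂˣ)).symm]
  exact CommGroup.card_monoidHom_of_hasEnoughRootsOfUnity _ _

theorem degree_one_of_commutative [Finite G] (hc : ∀ a b : G, a * b = b * a) {χ : G → ℂ}
    (hχ : IsIrrCharacter G χ) : χ 1 = 1 := by
  obtain ⟨n, ρ, hρ, rfl⟩ := hχ
  have : IsMulCommutative G := ⟨⟨hc⟩⟩
  rw [ρ.char_one, Representation.IsIrreducible.finrank_eq_one_of_isMulCommutative ρ, Nat.cast_one]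

theorem commutative_iff_degree_one [Finite G] :
    (∀ a b : G, a * b = b * a) ↔ ∀ χ : IrrCharacter G, (χ : G → ℂ) 1 = 1 := by
  refine ⟨fun h χ => degree_one_of_commutative h χ.2, fun h a b => ?_⟩
  have key : IsConj (a * b * a⁻¹ * b⁻¹) 1 := by
    refine isConj_of_forall_irr fun χ => ?_
    obtain ⟨φ, hφ⟩ := exists_hom_of_degree_one (isCharacter_of_irr χ.2) (h χ)
    rw [hφ]
    simp [mul_comm]
  have := isConj_one_right.mp key.symm
  rw [mul_inv_eq_one, mul_inv_eq_iff_eq_mul] at this
  exact this

/-- The kernel of a character. -/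
noncomputable def charKernel [Finite G] (χ : G → ℂ) (hχ : IsCharacter G χ) : Subgroup G :=
  (hχ.choose_spec.choose).ker

theorem mem_charKernel [Finite G] {χ : G → ℂ} (hχ : IsCharacter G χ) (g : G) :
    g ∈ charKernel χ hχ ↔ χ g = χ 1 := by
  have hspec := hχ.choose_spec.choose_spec
  show hχ.choose_spec.choose g = 1 ↔ _
  rw [← congrFun hspec g, ← congrFun hspec 1, Representation.char_one, character_eq_finrank_iff]
  rfl

instance charKernel_normal [Finite G] (χ : G → ℂ) (hχ : IsCharacter G χ) :
    (charKernel χ hχ).Normal :=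
  MonoidHom.normal_ker _

theorem rep_apply_eq_one_of_char_eq [Finite G] {V : Type v} [AddCommGroup V] [Module ℂ V]
    [FiniteDimensional ℂ V] (ρ : Representation ℂ G V) {g : G}
    (h : ρ.character g = ρ.character 1) : ρ g = 1 := by
  rw [ρ.char_one, character_eq_finrank_iff] at h
  exact h

/-- Factor a character through a quotient by a normal subgroup in its kernel. -/
theorem exists_quotient_char [Finite G] (N : Subgroup G) [N.Normal] {χ : G → ℂ}
    (hχ : IsCharacter G χ) (hk : ∀ n ∈ N, χ n = χ 1) :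
    ∃ ψ : G ⧸ N → ℂ, IsCharacter (G ⧸ N) ψ ∧ χ = fun (g : G) => ψ (g : G ⧸ N) := by
  obtain ⟨n, ρ, rfl⟩ := hχ
  let σ : Representation ℂ (G ⧸ N) (Fin n → ℂ) :=
    QuotientGroup.lift N ρ fun x hx => rep_apply_eq_one_of_char_eq ρ (hk x hx)
  exact ⟨σ.character, ⟨n, σ, rfl⟩, rfl⟩

theorem exists_quotient_irr [Finite G] (N : Subgroup G) [N.Normal] {χ : G → ℂ}
    (hχ : IsIrrCharacter G χ) (hk : ∀ n ∈ N, χ n = χ 1) :
    ∃ ψ : G ⧸ N → ℂ, IsIrrCharacter (G ⧸ N) ψ ∧ χ = fun (g : G) => ψ (g : G ⧸ N) := by
  obtain ⟨n, ρ, hρ, rfl⟩ := hχ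
  let σ : Representation ℂ (G ⧸ N) (Fin n → ℂ) :=
    QuotientGroup.lift N ρ fun x hx => rep_apply_eq_one_of_char_eq ρ (hk x hx)
  refine ⟨σ.character, ⟨n, σ, ?_, rfl⟩, rfl⟩
  let e : Subrepresentation σ ≃o Subrepresentation ρ :=
    { toFun := fun p => ⟨p.toSubmodule, fun x _ hv => p.apply_mem_toSubmodule (x : G ⧸ N) hv⟩
      invFun := fun q => ⟨q.toSubmodule, fun g v hv => by
        obtain ⟨x, rfl⟩ := QuotientGroup.mk_surjective g
        exact q.apply_mem_toSubmodule x hv⟩
      left_inv := fun _ => rfl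
      right_inv := fun _ => rfl
      map_rel_iff' := Iff.rfl }
  exact (OrderIso.isSimpleOrder_iff e).mpr hρ

/-- Irreducible characters of a quotient are the irreducible characters with `N` in the kernel. -/
noncomputable def quotientIrrEquiv [Finite G] (N : Subgroup G) [N.Normal] :
    IrrCharacter (G ⧸ N) ≃ {χ : IrrCharacter G // ∀ n ∈ N, (χ : G → ℂ) n = (χ : G → ℂ) 1} :=
  Equiv.ofBijective
    (fun ψ => ⟨⟨fun (g : G) => (ψ : G ⧸ N → ℂ) (g : G ⧸ N),
        isIrrCharacter_comp_surjective ψ.2 (QuotientGroup.mk' N) (QuotientGroup.mk'_surjective N)⟩,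
      fun n hn => by
        show (ψ : G ⧸ N → ℂ) (n : G ⧸ N) = (ψ : G ⧸ N → ℂ) ((1 : G) : G ⧸ N)
        rw [(QuotientGroup.eq_one_iff n).mpr hn]; rfl⟩)
    ⟨fun a b h => Subtype.ext (funext fun q => by
      obtain ⟨x, rfl⟩ := QuotientGroup.mk_surjective q
      exact congrFun (congrArg (fun z => (z.1.1 : G → ℂ)) h) x),
     fun ⟨⟨χ, hχ⟩, hk⟩ => by
      obtain ⟨ψ, hψ, e⟩ := exists_quotient_irr N hχ hk
      exact ⟨⟨ψ, hψ⟩, Subtype.ext (Subtype.ext e.symm)⟩⟩

/-- An irreducible character whose kernel is everything is trivial. -/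
theorem irr_eq_one_of_kernel_top [Finite G] {χ : G → ℂ} (hχ : IsIrrCharacter G χ)
    (h : ∀ g, χ g = χ 1) : χ = fun _ => 1 := by
  have hk : ∀ n ∈ (⊤ : Subgroup G), χ n = χ 1 := fun n _ => h n
  obtain ⟨ψ, hψ, rfl⟩ := exists_quotient_irr ⊤ hχ hk
  have : Subsingleton (G ⧸ (⊤ : Subgroup G)) := QuotientGroup.subsingleton_quotient_top
  have hd := degree_one_of_commutative (fun a b => Subsingleton.elim _ _) hψ
  funext g
  rw [← hd]
  exact congrArg ψ (Subsingleton.elim _ _)

section Equiv

variable [Finite G]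

/-- Representations with the same character are equivalent. -/
theorem nonempty_equiv_of_character_eq {V : Type v} {W : Type w}
    [AddCommGroup V] [Module ℂ V] [FiniteDimensional ℂ V]
    [AddCommGroup W] [Module ℂ W] [FiniteDimensional ℂ W]
    (ρ : Representation ℂ G V) (σ : Representation ℂ G W) (h : ρ.character = σ.character) :
    Nonempty (ρ.Equiv σ) := by
  classical
  have := Fintype.ofFinite G
  suffices ∀ (V : Type v) [AddCommGroup V] [Module ℂ V] [FiniteDimensional ℂ V]
      (ρ : Representation ℂ G V), ∀ (W : Type w) [AddCommGroup W] [Module ℂ W]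
      [FiniteDimensional ℂ W] (σ : Representation ℂ G W),
      ρ.character = σ.character → Nonempty (ρ.Equiv σ) from this V ρ W σ h
  intro V _ _ _ ρ
  suffices ∀ n, ∀ (V : Type v) [AddCommGroup V] [Module ℂ V] [FiniteDimensional ℂ V]
      (ρ : Representation ℂ G V), Module.finrank ℂ V = n → ∀ (W : Type w) [AddCommGroup W]
      [Module ℂ W] [FiniteDimensional ℂ W] (σ : Representation ℂ G W),
      ρ.character = σ.character → Nonempty (ρ.Equiv σ) from this _ V ρ rfl
  intro n
  induction n using Nat.strong_induction_on with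
  | _ n ih =>
  intro V _ _ _ ρ hn W _ _ _ σ hc
  have hdim : Module.finrank ℂ V = Module.finrank ℂ W := by
    have := congrFun hc 1
    rw [ρ.char_one, σ.char_one] at this
    exact_mod_cast this
  by_cases h0 : n = 0
  · have hV : Subsingleton V := Module.finrank_zero_iff.mp (hn.trans h0)
    have hW : Subsingleton W := Module.finrank_zero_iff.mp (hdim.symm.trans (hn.trans h0))
    exact ⟨Representation.IntertwiningMap.ofBijective (0 : Representation.IntertwiningMap ρ σ)
      ⟨fun a b _ => Subsingleton.elim _ _, fun b => ⟨0, Subsingleton.elim _ _⟩⟩⟩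
  have hVn : Nontrivial V := Module.finrank_pos_iff.mp (by omega : 0 < Module.finrank ℂ V)
  obtain ⟨p, hp⟩ : ∃ p : Subrepresentation ρ, p.toRepresentation.IsIrreducible := by
    obtain ⟨p, hp, hmin⟩ := (wellFounded_lt (α := Submodule ℂ V)).has_min
      {q | q ≠ ⊥ ∧ ∃ r : Subrepresentation ρ, r.toSubmodule = q}
      ⟨⊤, bot_ne_top.symm, ⟨⊤, rfl⟩⟩
    obtain ⟨hp0, r, rfl⟩ := hp
    have : Nontrivial r.toSubmodule := Submodule.nontrivial_iff_ne_bot.mpr hp0
    refine ⟨r, @IsSimpleOrder.mk _ _ _ ⟨⊥, ⊤, fun e => ?_⟩ fun q => ?_⟩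
    · exact bot_ne_top (α := Submodule ℂ r.toSubmodule) (congrArg Subrepresentation.toSubmodule e)
    · by_cases hq : q.toSubmodule = ⊥
      · exact Or.inl (Subrepresentation.toSubmodule_injective hq)
      · right
        apply Subrepresentation.toSubmodule_injective
        let q' : Subrepresentation ρ := ⟨q.toSubmodule.map r.toSubmodule.subtype, by
          rintro g v ⟨a, ha, rfl⟩
          exact ⟨_, q.apply_mem_toSubmodule g ha, rfl⟩⟩
        have hne : q'.toSubmodule ≠ ⊥ := fun e => hq (by
          apply Submodule.map_injective_of_injective r.toSubmodule.injective_subtype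
          simpa [q'] using e)
        have hle : q'.toSubmodule ≤ r.toSubmodule := Submodule.map_subtype_le _ _
        have heq : q'.toSubmodule = r.toSubmodule :=
          hle.lt_or_eq.resolve_left fun hlt => hmin _ ⟨hne, q', rfl⟩ hlt
        apply Submodule.map_injective_of_injective r.toSubmodule.injective_subtype
        show q'.toSubmodule = Submodule.map r.toSubmodule.subtype ⊤
        rw [heq, Submodule.map_top, Submodule.range_subtype]
  obtain ⟨p', hp'⟩ := exists_isCompl_subrep ρ p
  have hadd := character_eq_add_of_isCompl ρ p p' hp'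
  have hirr := isIrrCharacter_character p.toRepresentation
  have hne : classInner σ.character p.toRepresentation.character ≠ 0 := by
    rw [← hc, hadd, classInner_add_left, classInner_irr_self hirr]
    obtain ⟨m, hm⟩ := classInner_char_nat (isCharacter_character p'.toRepresentation)
      (isCharacter_character p.toRepresentation)
    rw [hm]
    exact_mod_cast (by omega : 1 + m ≠ 0)
  rw [classInner_character, Nat.cast_ne_zero] at hne
  have hntr : Nontrivial (Representation.IntertwiningMap p.toRepresentation σ) :=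
    Module.nontrivial_of_finrank_pos (R := ℂ) (Nat.pos_of_ne_zero hne)
  obtain ⟨f, hf⟩ := exists_ne (0 : Representation.IntertwiningMap p.toRepresentation σ)
  have hinj : Function.Injective f :=
    (Representation.IsIrreducible.injective_or_eq_zero f).resolve_right hf
  obtain ⟨q', hq'⟩ := exists_isCompl_subrep σ (Representation.IntertwiningMap.range _ _ f)
  let e1 : p.toSubmodule ≃ₗ[ℂ] (Representation.IntertwiningMap.range _ _ f).toSubmodule :=
    LinearEquiv.ofInjective f.toLinearMap hinj
  let E1 : p.toRepresentation.Equiv (Representation.IntertwiningMap.range _ _ f).toRepresentation :=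
    { toIntertwiningMap := ⟨e1.toLinearMap, fun g => by
        ext x
        exact f.isIntertwining _ _ g x⟩
      invFun := e1.symm
      left_inv := e1.symm_apply_apply
      right_inv := e1.apply_symm_apply }
  have hc2 : p'.toRepresentation.character = q'.toRepresentation.character := by
    have h1 := character_eq_add_of_isCompl σ _ q' hq'
    rw [← hc, hadd, ← Representation.char_iso E1] at h1
    exact add_left_cancel h1
  have hlt : Module.finrank ℂ p'.toSubmodule < n := by
    have hsum := Submodule.finrank_add_eq_of_isCompl hp'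
    obtain ⟨d, hd, e⟩ := irr_degree_pos hirr
    rw [Representation.char_one] at e
    have : Module.finrank ℂ p.toSubmodule = d := by exact_mod_cast e
    omega
  obtain ⟨E2⟩ := ih _ hlt _ p'.toRepresentation rfl _ q'.toRepresentation hc2
  let e : V ≃ₗ[ℂ] W := (Submodule.prodEquivOfIsCompl _ _ hp').symm ≪≫ₗ
    (E1.toLinearEquiv.prodCongr E2.toLinearEquiv) ≪≫ₗ Submodule.prodEquivOfIsCompl _ _ hq'
  refine ⟨{ toIntertwiningMap := ⟨e.toLinearMap, fun g => ?_⟩
            invFun := e.symm
            left_inv := e.symm_apply_apply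
            right_inv := e.apply_symm_apply }⟩
  ext v
  obtain ⟨⟨a, b⟩, rfl⟩ := (Submodule.prodEquivOfIsCompl _ _ hp').surjective v
  have hg : ρ g (Submodule.prodEquivOfIsCompl _ _ hp' (a, b)) = Submodule.prodEquivOfIsCompl _ _ hp'
      (p.toRepresentation g a, p'.toRepresentation g b) := by
    simp [Subrepresentation.toRepresentation, LinearMap.restrict_apply]
  have ha := congrArg Subtype.val (E1.toIntertwiningMap.isIntertwining _ _ g a)
  have hb := congrArg Subtype.val (E2.toIntertwiningMap.isIntertwining _ _ g b)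
  simp only [LinearMap.coe_comp, LinearEquiv.coe_coe, Function.comp_apply]
  rw [hg]
  simp only [e, LinearEquiv.trans_apply, LinearEquiv.symm_apply_apply]
  simp [LinearEquiv.prodCongr_apply]
  erw [ha, hb]
  rfl

end Equiv

end CfsgLib.CharTheory
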