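/-
Ordinary character theory, part 6: Galois conjugates of sums of roots of unity and Burnside's
lemmas on vanishing and on classes of prime-power size.
-/
import Cfsg.Agent.Lib.CharTheory.Linear

namespace CfsgLib.CharTheory

open Cfsg
open scoped ComplexConjugate

universe u v

/-- An algebraic integer of the form (sum of `d` roots of unity)/`d` is zero or of absolute
value one. -/
theorem eq_zero_or_norm_eq_one {s : Multiset ℂ} {m : ℕ} (hm : m ≠ 0) (hroot : ∀ x ∈ s, x ^ m = 1)
    (hint : IsIntegral ℤ (s.sum / (Multiset.card s : ℂ))) :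
    s.sum = 0 ∨ ‖s.sum‖ = (Multiset.card s : ℝ) := by
  classical
  set d := Multiset.card s with hd
  by_cases hd0 : d = 0
  · left; rw [Multiset.card_eq_zero.mp hd0]; simp
  set α : ℂ := s.sum / (d : ℂ) with hα
  by_contra hcon
  push Not at hcon
  obtain ⟨hne, hne1⟩ := hcon
  have hαne : α ≠ 0 := div_ne_zero hne (Nat.cast_ne_zero.mpr hd0)
  have hdpos : (0 : ℝ) < d := by exact_mod_cast Nat.pos_of_ne_zero hd0
  have hle : ∀ t : Multiset ℂ, (∀ x ∈ t, x ^ m = 1) → ‖t.sum‖ ≤ (Multiset.card t : ℝ) := by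
    intro t ht
    refine le_trans (norm_multiset_sum_le _) ?_
    have : t.map norm = Multiset.replicate (Multiset.card t) (1 : ℝ) := by
      rw [Multiset.eq_replicate]
      refine ⟨Multiset.card_map _ _, fun x hx => ?_⟩
      obtain ⟨μ, hμ, rfl⟩ := Multiset.mem_map.mp hx
      exact Complex.norm_eq_one_of_pow_eq_one (ht μ hμ) hm
    simp [this]
  have hαlt : ‖α‖ < 1 := by
    rw [hα, norm_div, Complex.norm_natCast, div_lt_one hdpos]
    exact lt_of_le_of_ne (hle s hroot) hne1
  have halg : ∀ x ∈ s, x ∈ algebraicClosure ℚ ℂ := fun x hx =>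
    mem_algebraicClosure_iff.mpr ⟨Polynomial.X ^ m - 1,
      Polynomial.X_pow_sub_C_ne_zero (Nat.pos_of_ne_zero hm) (1 : ℚ), by simp [hroot x hx]⟩
  let K := algebraicClosure ℚ ℂ
  let t : Multiset K := s.attach.map fun x => ⟨x.1, halg x.1 x.2⟩
  let a : K := t.sum / (d : K)
  have ht : (algebraMap K ℂ) t.sum = s.sum := by
    rw [map_multiset_sum, Multiset.map_map]
    exact congrArg Multiset.sum (Multiset.attach_map_val s)
  have hα' : (algebraMap K ℂ) a = α := by rw [map_div₀, ht, map_natCast]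
  have hKalg : Algebra.IsAlgebraic ℚ K := algebraicClosure.isAlgebraic ℚ ℂ
  have hroots : ∀ β ∈ ((minpoly ℤ α).map (algebraMap ℤ ℂ)).roots, ‖β‖ ≤ 1 := by
    intro β hβ
    have hrange := hKalg.range_eval_eq_rootSet_minpoly ℂ a
    have hmp : minpoly ℚ a = (minpoly ℤ α).map (algebraMap ℤ ℚ) := by
      rw [← minpoly.algebraMap_eq (algebraMap K ℂ).injective a, hα',
        minpoly.isIntegrallyClosed_eq_field_fractions' ℚ hint]
    have hmem : β ∈ (minpoly ℚ a).rootSet ℂ := by
      rw [Polynomial.mem_rootSet_of_ne (minpoly.ne_zero (hKalg.isAlgebraic a).isIntegral)]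
      rw [hmp, Polynomial.aeval_map_algebraMap]
      have := Polynomial.isRoot_of_mem_roots hβ
      rwa [Polynomial.IsRoot, Polynomial.eval_map_algebraMap] at this
    rw [← hrange] at hmem
    obtain ⟨σ, rfl⟩ := hmem
    show ‖σ a‖ ≤ 1
    have hσ : σ a = (t.map σ).sum / (d : ℂ) := by
      rw [map_div₀, map_multiset_sum, map_natCast]
    rw [hσ, norm_div, Complex.norm_natCast, div_le_one hdpos]
    refine le_of_le_of_eq (hle _ fun x hx => ?_) (by simp [t, hd])
    obtain ⟨y, hy, rfl⟩ := Multiset.mem_map.mp hx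
    obtain ⟨z, -, rfl⟩ := Multiset.mem_map.mp hy
    rw [← map_pow, show (⟨z.1, halg z.1 z.2⟩ : K) ^ m = 1 from Subtype.ext (hroot z.1 z.2), map_one]
  set P := (minpoly ℤ α).map (algebraMap ℤ ℂ) with hP
  have hmon : P.Monic := (minpoly.monic hint).map _
  have hsplit : P.Splits := IsAlgClosed.splits P
  have h0 := hsplit.coeff_zero_eq_prod_roots_of_monic hmon
  have hαroot : α ∈ P.roots := by
    rw [Polynomial.mem_roots hmon.ne_zero, Polynomial.IsRoot, hP, Polynomial.eval_map_algebraMap]
    exact minpoly.aeval ℤ α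
  have hsmall : ‖P.roots.prod‖ < 1 := by
    rw [← Multiset.cons_erase hαroot, Multiset.prod_cons, norm_mul]
    have hrest : ∀ r : Multiset ℂ, (∀ x ∈ r, ‖x‖ ≤ 1) → ‖r.prod‖ ≤ 1 := by
      intro r
      induction r using Multiset.induction with
      | empty => simp
      | cons b r ih =>
        intro hr
        rw [Multiset.prod_cons, norm_mul]
        exact mul_le_one₀ (hr b (Multiset.mem_cons_self _ _)) (norm_nonneg _)
          (ih fun x hx => hr x (Multiset.mem_cons_of_mem hx))
    calc ‖α‖ * ‖(P.roots.erase α).prod‖ ≤ ‖α‖ * 1 :=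
          mul_le_mul_of_nonneg_left (hrest _ fun x hx => hroots x (Multiset.mem_of_mem_erase hx))
            (norm_nonneg _)
      _ < 1 := by rwa [mul_one]
  have hc : P.coeff 0 = ((minpoly ℤ α).coeff 0 : ℂ) := by simp [hP]
  rw [h0] at hc
  have hz : (minpoly ℤ α).coeff 0 = 0 := by
    have : ‖((minpoly ℤ α).coeff 0 : ℂ)‖ < 1 := by
      rw [← hc, norm_mul, norm_pow, norm_neg, norm_one, one_pow, one_mul]; exact hsmall
    rw [Complex.norm_intCast] at this
    exact Int.abs_lt_one_iff.mp (by exact_mod_cast this)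
  refine hαne ?_
  have hQ : (minpoly ℚ α).coeff 0 = 0 := by
    rw [minpoly.isIntegrallyClosed_eq_field_fractions' ℚ hint, Polynomial.coeff_map, hz, map_zero]
  exact (minpoly.coeff_zero_eq_zero hint.tower_top).mp hQ

variable {G : Type u} [Group G] [Finite G]

theorem isIntegral_index_mul_div {V : Type v} [AddCommGroup V] [Module ℂ V] [FiniteDimensional ℂ V]
    (ρ : Representation ℂ G V) [ρ.IsIrreducible] (g : G) :
    IsIntegral ℤ (((Subgroup.centralizer ({g} : Set G)).index : ℂ) * ρ.character g /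
      (Module.finrank ℂ V : ℂ)) := by
  have h := isIntegral_centralChar ρ g
  have e : Nat.card {x : G // IsConj g x} = (Subgroup.centralizer ({g} : Set G)).index := by
    apply Nat.eq_of_mul_eq_mul_left (Nat.card_pos (α := Subgroup.centralizer ({g} : Set G)))
    rw [Subgroup.card_mul_index, mul_comm, card_isConj_mul_card_centralizer]
  rwa [e] at h

theorem zero_or_norm_of_coprime {V : Type v} [AddCommGroup V] [Module ℂ V] [FiniteDimensional ℂ V]
    (ρ : Representation ℂ G V) [ρ.IsIrreducible] (g : G)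
    (hcop : Nat.Coprime (Module.finrank ℂ V) (Subgroup.centralizer ({g} : Set G)).index) :
    ρ.character g = 0 ∨ ‖ρ.character g‖ = (Module.finrank ℂ V : ℝ) := by
  have := Fintype.ofFinite G
  set d := Module.finrank ℂ V
  set c := (Subgroup.centralizer ({g} : Set G)).index
  have hd0 : (d : ℂ) ≠ 0 := by
    have h1 := irr_ne_zero (isIrrCharacter_character ρ)
    rwa [ρ.char_one] at h1
  have hbez := Nat.gcd_eq_gcd_ab d c
  rw [hcop.gcd_eq_one] at hbez
  have hbez' : (1 : ℂ) = (d : ℂ) * ((Nat.gcdA d c : ℤ) : ℂ) + (c : ℂ) * ((Nat.gcdB d c : ℤ) : ℂ) := by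
    exact_mod_cast congrArg (fun z : ℤ => (z : ℂ)) hbez
  have hα : IsIntegral ℤ (ρ.character g / (d : ℂ)) := by
    have e : ρ.character g / (d : ℂ) = ((Nat.gcdA d c : ℤ) : ℂ) * ρ.character g +
        ((Nat.gcdB d c : ℤ) : ℂ) * ((c : ℂ) * ρ.character g / (d : ℂ)) := by
      field_simp
      linear_combination (ρ.character g) * hbez'
    rw [e]
    exact ((isIntegral_algebraMap (x := Nat.gcdA d c)).mul (isIntegral_character ρ g)).add
      ((isIntegral_algebraMap (x := Nat.gcdB d c)).mul (isIntegral_index_mul_div ρ g))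
  have h := eq_zero_or_norm_eq_one (orderOf_pos g).ne'
    (fun x hx => pow_eq_one_of_mem_charRoots ρ g hx)
    (by rwa [← character_eq_sum_charRoots, card_charRoots])
  rwa [← character_eq_sum_charRoots, card_charRoots] at h

/-- In a finite simple group a non-identity class has prime-power size only if the group has
prime order. -/
theorem prime_card_of_simple_class_prime_pow [IsSimpleGroup G] {p k : ℕ} (hp : p.Prime) {g : G}
    (hg : g ≠ 1) (hclass : (Subgroup.centralizer ({g} : Set G)).index = p ^ k) :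
    (Nat.card G).Prime := by
  classical
  have := Fintype.ofFinite G
  by_cases hcen : ∃ z ∈ Subgroup.center G, z ≠ 1
  · have htop : Subgroup.center G = ⊤ :=
      (Subgroup.Normal.eq_bot_or_eq_top inferInstance).resolve_left fun e => by
        obtain ⟨z, hz, hz1⟩ := hcen
        rw [e, Subgroup.mem_bot] at hz
        exact hz1 hz
    let _ : CommGroup G := { (inferInstance : Group G) with
      mul_comm := fun a b => (Subgroup.mem_center_iff.mp (htop ▸ Subgroup.mem_top a) b).symm }
    exact IsSimpleGroup.prime_card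
  exfalso
  push Not at hcen
  have hk : k ≠ 0 := by
    intro hk0
    rw [hk0, pow_zero, Subgroup.index_eq_one] at hclass
    refine hg (hcen g (Subgroup.mem_center_iff.mpr fun x => ?_))
    have hx : x ∈ Subgroup.centralizer ({g} : Set G) := hclass ▸ Subgroup.mem_top x
    exact ((Subgroup.mem_centralizer_singleton_iff).mp hx)
  have hsum := sum_irr_apply_mul_degree g
  rw [if_neg hg] at hsum
  have hstep : ∀ χ : IrrCharacter G, (χ : G → ℂ) ≠ (fun _ => 1) →
      ∃ z : ℂ, IsIntegral ℤ z ∧ (χ : G → ℂ) g * (χ : G → ℂ) 1 = (p : ℂ) * z := by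
    rintro ⟨χ, hχ⟩ hne
    obtain ⟨n, ρ, hρ, rfl⟩ := hχ
    simp only [ρ.char_one]
    by_cases hdvd : p ∣ Module.finrank ℂ (Fin n → ℂ)
    · obtain ⟨e, he⟩ := hdvd
      exact ⟨ρ.character g * (e : ℂ),
        (isIntegral_character ρ g).mul (isIntegral_natCast (R := ℤ) e), by rw [he]; push_cast; ring⟩
    · have hcop : Nat.Coprime (Module.finrank ℂ (Fin n → ℂ))
          (Subgroup.centralizer ({g} : Set G)).index := by
        rw [hclass]
        exact Nat.Coprime.pow_right k ((hp.coprime_iff_not_dvd.mpr hdvd).symm)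
      rcases zero_or_norm_of_coprime ρ g hcop with h0 | h1
      · exact ⟨0, isIntegral_zero, by simp [h0]⟩
      exfalso
      obtain ⟨ω, hω⟩ := (norm_character_eq_iff ρ g).mp h1
      have hker : MonoidHom.ker ρ = ⊥ := by
        refine ((MonoidHom.normal_ker ρ).eq_bot_or_eq_top).resolve_right fun e => hne ?_
        refine irr_eq_one_of_kernel_top ⟨n, ρ, hρ, rfl⟩ fun x => ?_
        have hx : ρ x = 1 := MonoidHom.mem_ker.mp (by rw [e]; exact Subgroup.mem_top x)
        simp [Representation.character, hx]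
      refine hg (hcen g (Subgroup.mem_center_iff.mpr fun x => ?_))
      refine ((MonoidHom.ker_eq_bot_iff ρ).mp hker) ?_
      rw [map_mul, map_mul, hω, ← Module.End.one_eq_id, mul_smul_comm, smul_mul_assoc, mul_one,
        one_mul]
  choose z hz hz' using hstep
  let one : IrrCharacter G := ⟨fun _ => 1, isIrrCharacter_one⟩
  rw [← Finset.add_sum_erase _ _ (Finset.mem_univ one), ← Finset.sum_attach] at hsum
  have hne : ∀ χ : {x // x ∈ Finset.univ.erase one}, ((χ.1 : G → ℂ)) ≠ (fun _ => 1) :=
    fun χ e => (Finset.mem_erase.mp χ.2).1 (Subtype.ext e)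
  rw [Finset.sum_congr rfl fun χ _ => hz' χ.1 (hne χ), ← Finset.mul_sum] at hsum
  set Z := ∑ χ ∈ (Finset.univ.erase one).attach, z χ.1 (hne χ)
  have hZ : IsIntegral ℤ Z := IsIntegral.sum _ fun χ _ => hz _ _
  have hp0 : (p : ℂ) ≠ 0 := Nat.cast_ne_zero.mpr hp.ne_zero
  have : IsIntegral ℤ (((-1 : ℚ) / p : ℚ) : ℂ) := by
    convert hZ using 1
    push_cast
    rw [eq_comm, eq_div_iff hp0]
    simp only [one, mul_one] at hsum
    linear_combination hsum
  obtain ⟨m, hm⟩ := exists_int_of_isIntegral_ratCast this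
  rw [div_eq_iff (Nat.cast_ne_zero.mpr hp.ne_zero)] at hm
  have h2 : (-1 : ℤ) = m * p := by exact_mod_cast hm
  have : (p : ℤ) ∣ 1 := ⟨-m, by linear_combination -h2⟩
  exact hp.ne_one (by exact_mod_cast Int.eq_one_of_dvd_one (by positivity) this)

/-- Burnside's theorem on groups of order `p ^ a * q ^ b`. -/
theorem isSolvable_of_card_two_primes {p q a b : ℕ} (hp : p.Prime) (hq : q.Prime)
    (hcard : Nat.card G = p ^ a * q ^ b) : Group.IsSolvable G := by
  suffices ∀ n, ∀ (H : Type u) [Group H] [Finite H], Nat.card H = n →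
      (∃ a b, Nat.card H = p ^ a * q ^ b) → Group.IsSolvable H from this _ G rfl ⟨a, b, hcard⟩
  intro n
  induction n using Nat.strong_induction_on with
  | _ n ih =>
  intro H _ _ hn ⟨a, b, hH⟩
  rcases subsingleton_or_nontrivial H with hs | hnt
  · exact Group.isSolvable_of_top_eq_bot H (Subsingleton.elim _ _)
  have hdiv : ∀ m, m ∣ p ^ a * q ^ b → ∃ a' b', m = p ^ a' * q ^ b' := by
    intro m hm
    obtain ⟨x, y, hx, hy, rfl⟩ := Nat.dvd_mul.mp hm
    obtain ⟨a', -, rfl⟩ := (Nat.dvd_prime_pow hp).mp hx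
    obtain ⟨b', -, rfl⟩ := (Nat.dvd_prime_pow hq).mp hy
    exact ⟨a', b', rfl⟩
  by_cases hs : IsSimpleGroup H
  · by_cases hpr : (Nat.card H).Prime
    · have := isCyclic_of_prime_card (hp := ⟨hpr⟩) (α := H) rfl
      let _ : CommGroup H := IsCyclic.commGroup
      infer_instance
    exfalso
    have hH1 : 1 < Nat.card H := Finite.one_lt_card
    have hqf : Fact q.Prime := ⟨hq⟩
    have hpf : Fact p.Prime := ⟨hp⟩
    by_cases hpq : p = q
    · subst hpq
      have hP : IsPGroup p H := IsPGroup.of_card (hH.trans (pow_add p a b).symm)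
      obtain ⟨z, hz⟩ := @exists_ne _ hP.center_nontrivial (1 : Subgroup.center H)
      refine hpr (prime_card_of_simple_class_prime_pow (k := 0) hp (g := z.1)
        (fun e => hz (Subtype.ext e)) ?_)
      rw [pow_zero, Subgroup.index_eq_one, eq_top_iff]
      intro x _
      exact Subgroup.mem_centralizer_singleton_iff.mpr (Subgroup.mem_center_iff.mp z.2 x)
    by_cases hb : b = 0
    · subst hb
      have hP : IsPGroup p H := IsPGroup.of_card (by simpa using hH)
      obtain ⟨z, hz⟩ := @exists_ne _ hP.center_nontrivial (1 : Subgroup.center H)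
      refine hpr (prime_card_of_simple_class_prime_pow (k := 0) hp (g := z.1)
        (fun e => hz (Subtype.ext e)) ?_)
      rw [pow_zero, Subgroup.index_eq_one, eq_top_iff]
      intro x _
      exact Subgroup.mem_centralizer_singleton_iff.mpr (Subgroup.mem_center_iff.mp z.2 x)
    obtain ⟨Q⟩ : Nonempty (Sylow q H) := inferInstance
    have hQ1 : Nat.card (Q : Subgroup H) = q ^ b := by
      rw [Sylow.card_eq_multiplicity, hH, Nat.factorization_mul (pow_ne_zero _ hp.ne_zero)
        (pow_ne_zero _ hq.ne_zero), Nat.Prime.factorization_pow hp, Nat.Prime.factorization_pow hq]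
      simp [Finsupp.single_apply, hpq]
    have : Nontrivial (Q : Subgroup H) := by
      rw [← Finite.one_lt_card_iff_nontrivial, hQ1]
      exact Nat.one_lt_pow hb hq.one_lt
    obtain ⟨z, hz⟩ := @exists_ne _ Q.isPGroup'.center_nontrivial (1 : Subgroup.center (Q : Subgroup H))
    have hsub : (Q : Subgroup H) ≤ Subgroup.centralizer ({(z.1 : H)} : Set H) := fun x hx =>
      Subgroup.mem_centralizer_singleton_iff.mpr
        (congrArg Subtype.val (Subgroup.mem_center_iff.mp z.2 ⟨x, hx⟩))
    have hQi : (Q : Subgroup H).index = p ^ a := by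
      apply Nat.eq_of_mul_eq_mul_left (Nat.pow_pos (n := b) hq.pos)
      conv_lhs => rw [← hQ1]
      rw [Subgroup.card_mul_index, hH, mul_comm]
    obtain ⟨k, -, hk⟩ := (Nat.dvd_prime_pow hp).mp (hQi ▸ Subgroup.index_dvd_of_le hsub)
    exact hpr (prime_card_of_simple_class_prime_pow hp (g := (z.1 : H))
      (fun e => hz (Subtype.ext (Subtype.ext e))) hk)
  · obtain ⟨N, hNn, hN0, hN1⟩ : ∃ N : Subgroup H, N.Normal ∧ N ≠ ⊥ ∧ N ≠ ⊤ := by
      by_contra hc
      push Not at hc
      exact hs ⟨fun N hN => or_iff_not_imp_left.mpr (hc N hN)⟩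
    have hlt : Nat.card N < n := hn ▸ lt_of_le_of_ne (Subgroup.card_le_card_group N)
      (fun e => hN1 (Subgroup.eq_top_of_card_eq N e))
    have hqlt : Nat.card (H ⧸ N) < n := by
      rw [← hn, Subgroup.card_eq_card_quotient_mul_card_subgroup N]
      exact lt_mul_of_one_lt_right Nat.card_pos (Subgroup.one_lt_card_iff_ne_bot N |>.mpr hN0)
    have h1 : Group.IsSolvable N := ih _ hlt N rfl (hdiv _ (hH ▸ N.card_subgroup_dvd_card))
    have h2 : Group.IsSolvable (H ⧸ N) :=
      ih _ hqlt _ rfl (hdiv _ (hH ▸ Subgroup.card_quotient_dvd_card N))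
    exact Group.isSolvable_of_ker_le_range N.subtype (QuotientGroup.mk' N) (by simp)

end CfsgLib.CharTheory
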