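/-
Ordinary character theory, part 8: the permutation lemma of Brauer, and inertia groups in
Frobenius-like situations.
-/
import Cfsg.Agent.Lib.CharTheory.Irr

namespace CfsgLib.CharTheory

open Cfsg
open scoped ComplexConjugate

universe u

variable {G : Type u} [Group G]

/-- Counting fixed irreducible characters. -/
theorem card_fixed_irr_mul [Fintype G] (σ : G → G) (τ : IrrCharacter G → IrrCharacter G)
    (hτ : ∀ (χ : IrrCharacter G) (g : G), (τ χ : G → ℂ) g = (χ : G → ℂ) (σ g))
    [DecidablePred fun k => IsConj (σ k) k] :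
    Nat.card {χ : IrrCharacter G // τ χ = χ} * Nat.card G =
      ∑ k ∈ Finset.univ.filter (fun k => IsConj (σ k) k),
        Nat.card (Subgroup.centralizer ({σ k} : Set G)) := by
  classical
  have hG : (Nat.card G : ℂ) ≠ 0 := Nat.cast_ne_zero.mpr Nat.card_pos.ne'
  have h1 : (Nat.card {χ : IrrCharacter G // τ χ = χ} : ℂ) =
      ∑ χ : IrrCharacter G, classInner (τ χ : G → ℂ) χ := by
    simp only [classInner_irr (τ _).2 (Subtype.prop _), Finset.sum_boole, Subtype.coe_inj]
    rw [Nat.card_eq_fintype_card, Fintype.card_subtype]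
  have h2 : ((Nat.card {χ : IrrCharacter G // τ χ = χ} * Nat.card G : ℕ) : ℂ) =
      ((∑ k ∈ Finset.univ.filter (fun k => IsConj (σ k) k),
        Nat.card (Subgroup.centralizer ({σ k} : Set G)) : ℕ) : ℂ) := by
    push_cast
    rw [h1, Finset.sum_mul, Finset.sum_filter]
    simp only [classInner, hτ]
    rw [Finset.sum_congr rfl fun χ _ => by
      rw [mul_right_comm, inv_mul_cancel₀ hG, one_mul], Finset.sum_comm]
    exact Finset.sum_congr rfl fun k _ => sum_irr_mul_conj (σ k) k
  exact_mod_cast h2

theorem card_centralizer_of_isConj [Finite G] {a b : G} (h : IsConj a b) :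
    Nat.card (Subgroup.centralizer ({a} : Set G)) =
      Nat.card (Subgroup.centralizer ({b} : Set G)) := by
  have e : Nat.card {x : G // IsConj a x} = Nat.card {x : G // IsConj b x} :=
    Nat.card_congr (Equiv.subtypeEquivRight fun x =>
      ⟨fun hx => h.symm.trans hx, fun hx => h.trans hx⟩)
  have ha := card_isConj_mul_card_centralizer a
  rw [e, ← card_isConj_mul_card_centralizer b] at ha
  have : Nonempty {x : G // IsConj b x} := ⟨⟨b, IsConj.refl b⟩⟩
  exact Nat.eq_of_mul_eq_mul_left Nat.card_pos ha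

/-- Brauer's permutation lemma. -/
theorem card_fixed_irr_eq_card_fixed_classes [Finite G]
    (π : ConjClasses G → ConjClasses G) (τ : IrrCharacter G → IrrCharacter G)
    (hτ : ∀ (χ : IrrCharacter G) (g g' : G), ConjClasses.mk g' = π (ConjClasses.mk g) →
      (τ χ : G → ℂ) g = (χ : G → ℂ) g') :
    Nat.card {χ : IrrCharacter G // τ χ = χ} = Nat.card {C : ConjClasses G // π C = C} := by
  classical
  have := Fintype.ofFinite G
  let σ : G → G := fun g => Quotient.out (π (ConjClasses.mk g))
  have hσ : ∀ g, ConjClasses.mk (σ g) = π (ConjClasses.mk g) := fun g => Quotient.out_eq _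
  have h := card_fixed_irr_mul σ τ fun χ g => hτ χ g (σ g) (hσ g)
  have hiff : ∀ k, IsConj (σ k) k ↔ π (ConjClasses.mk k) = ConjClasses.mk k := fun k => by
    rw [← ConjClasses.mk_eq_mk_iff_isConj, hσ]
  apply Nat.eq_of_mul_eq_mul_right (Nat.card_pos (α := G))
  rw [h, Finset.sum_congr rfl fun k hk => card_centralizer_of_isConj (Finset.mem_filter.mp hk).2,
    ← Finset.sum_fiberwise_of_maps_to (g := ConjClasses.mk)
      (t := Finset.univ.filter fun C => π C = C)
      (fun k hk => Finset.mem_filter.mpr ⟨Finset.mem_univ _, (hiff k).mp (Finset.mem_filter.mp hk).2⟩)]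
  rw [Nat.card_eq_fintype_card (α := {C : ConjClasses G // π C = C}), Fintype.card_subtype,
    ← smul_eq_mul, ← Finset.sum_const]
  refine Finset.sum_congr rfl fun C hC => ?_
  obtain ⟨k₀, rfl⟩ := ConjClasses.mk_surjective C
  rw [Finset.sum_congr rfl fun k hk => card_centralizer_of_isConj (b := k₀)
      (ConjClasses.mk_eq_mk_iff_isConj.mp (Finset.mem_filter.mp hk).2), Finset.sum_const,
    smul_eq_mul, ← card_isConj_mul_card_centralizer k₀,
    Nat.card_eq_fintype_card (α := {x : G // IsConj k₀ x}), Fintype.card_subtype]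
  congr 2
  ext k
  simp only [Finset.mem_filter, Finset.mem_univ, true_and, hiff,
    ← ConjClasses.mk_eq_mk_iff_isConj (a := k₀)]
  exact ⟨fun hk => hk.2.symm, fun hk => ⟨by rw [← hk]; exact (Finset.mem_filter.mp hC).2, hk.symm⟩⟩

end CfsgLib.CharTheory
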