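/-
Ordinary character theory, part 7: Clifford theory.
-/
import Cfsg.Agent.Lib.CharTheory.Induced
import Cfsg.Agent.Lib.CharTheory.Linear
import Cfsg.Agent.Lib.CharTheory.Fixed

namespace CfsgLib.CharTheory

open Cfsg
open scoped ComplexConjugate

universe u

variable {G : Type u} [Group G]

theorem eq_zero_of_degree_zero [Finite G] {χ : G → ℂ} (h : IsCharacter G χ) (h1 : χ 1 = 0) :
    χ = 0 := by
  obtain ⟨n, ρ, rfl⟩ := h
  rw [ρ.char_one, Nat.cast_eq_zero] at h1
  have : Subsingleton (Fin n → ℂ) := Module.finrank_zero_iff.mp h1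
  ext g
  simp [Representation.character, Subsingleton.elim (ρ g) 0]

theorem isIrrCharacter_conjChar [Finite G] {χ : G → ℂ} (h : IsIrrCharacter G χ) :
    IsIrrCharacter G (fun g => conj (χ g)) := by
  have := Fintype.ofFinite G
  refine irr_of_char_norm_one (isCharacter_conj (isCharacter_of_irr h)) ?_
  have h1 := congrArg (starRingEnd ℂ) (classInner_irr_self h)
  rw [map_one] at h1
  rw [← h1]
  simp [classInner, map_sum]

theorem irr_conj_inj {χ ψ : G → ℂ} :
    (fun g => conj (χ g)) = (fun g => conj (ψ g)) ↔ χ = ψ :=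
  ⟨fun h => funext fun g => (starRingEnd ℂ).injective (congrFun h g), fun h => by rw [h]⟩

section Constituent

variable [Fintype G]

/-- A constituent can be subtracted from a character. -/
theorem isCharacter_sub_irr {χ ψ : G → ℂ} (h : IsCharacter G χ) (hψ : IsIrrCharacter G ψ)
    (hc : classInner χ ψ ≠ 0) : IsCharacter G (χ - ψ) := by
  classical
  refine isCharacter_iff_coeff_nat.mpr
    ⟨isClassFunction_sub (isClassFunction_char h) (isClassFunction_irr hψ), fun φ hφ => ?_⟩
  obtain ⟨n, hn⟩ := classInner_char_nat h (isCharacter_of_irr hφ)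
  rw [classInner_sub_left, hn, classInner_irr hψ hφ]
  split
  · rename_i e
    subst e
    have : n ≠ 0 := fun e => hc (by rw [hn, e, Nat.cast_zero])
    exact ⟨n - 1, by rw [Nat.cast_sub (by omega)]; simp⟩
  · exact ⟨n, by simp⟩

theorem exists_constituent {χ : G → ℂ} (h : IsCharacter G χ) (hne : χ ≠ 0) :
    ∃ ψ, IsIrrCharacter G ψ ∧ classInner χ ψ ≠ 0 := by
  by_contra hc
  push Not at hc
  exact hne (eq_zero_of_orthogonal (isClassFunction_char h) hc)

/-- If every coefficient of `b` is at most that of `a`, then the difference of characters is a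
character. -/
theorem classInner_mono_degree {a b : G → ℂ} (ha : IsCharacter G a) (hb : IsCharacter G b)
    (hab : IsCharacter G (a - b)) : (b 1).re ≤ (a 1).re := by
  obtain ⟨d, hd⟩ := char_one_eq_natCast hab
  have : a 1 = b 1 + d := by rw [← hd]; simp
  rw [this, Complex.add_re, Complex.natCast_re]
  linarith [Nat.cast_nonneg (α := ℝ) d]

end Constituent

section Normal

variable (N : Subgroup G) [hN : N.Normal]

/-- The conjugate of a function on a normal subgroup. -/
def conjNormFun (g : G) (θ : N → ℂ) : N → ℂ :=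
  fun n => θ ⟨g * n * g⁻¹, hN.conj_mem n n.2 g⟩

theorem conjNormFun_eq (g : G) (θ : N → ℂ) :
    conjNormFun N g θ = fun n => θ (MulAut.conjNormal g n) := by
  funext n
  exact congrArg θ (Subtype.ext (by simp [MulAut.conjNormal_apply]))

theorem conjNormFun_one (θ : N → ℂ) : conjNormFun N 1 θ = θ := by
  funext n; exact congrArg θ (Subtype.ext (by simp))

theorem conjNormFun_mul (g k : G) (θ : N → ℂ) :
    conjNormFun N (g * k) θ = conjNormFun N k (conjNormFun N g θ) := by
  funext n; exact congrArg θ (Subtype.ext (by simp [mul_assoc]))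

theorem conjNormFun_inv (g : G) (θ : N → ℂ) :
    conjNormFun N g⁻¹ (conjNormFun N g θ) = θ := by
  rw [← conjNormFun_mul, mul_inv_cancel, conjNormFun_one]

theorem conjNormFun_of_mem {g : G} (hg : g ∈ N) {θ : N → ℂ} (hθ : IsClassFunction N θ) :
    conjNormFun N g θ = θ := by
  funext n
  exact hθ n ⟨g, hg⟩

theorem isIrr_conjNormFun (g : G) {θ : N → ℂ} (hθ : IsIrrCharacter N θ) :
    IsIrrCharacter N (conjNormFun N g θ) := by
  rw [conjNormFun_eq]
  exact isIrrCharacter_comp_surjective hθ (MulAut.conjNormal g).toMonoidHom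
    (MulAut.conjNormal g).surjective

theorem conjNormFun_apply_one (g : G) (θ : N → ℂ) : conjNormFun N g θ 1 = θ 1 :=
  congrArg θ (Subtype.ext (by simp))

/-- The inertia group. -/
def inertia (θ : N → ℂ) : Subgroup G where
  carrier := {g | conjNormFun N g θ = θ}
  one_mem' := conjNormFun_one N θ
  mul_mem' {a b} (ha : conjNormFun N a θ = θ) (hb : conjNormFun N b θ = θ) := by
    show conjNormFun N (a * b) θ = θ
    rw [conjNormFun_mul, ha, hb]
  inv_mem' {a} (ha : conjNormFun N a θ = θ) := by
    show conjNormFun N a⁻¹ θ = θ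
    conv_lhs => rw [← ha, conjNormFun_inv]

theorem mem_inertia {θ : N → ℂ} {g : G} : g ∈ inertia N θ ↔ conjNormFun N g θ = θ := Iff.rfl

theorem le_inertia {θ : N → ℂ} (hθ : IsClassFunction N θ) : N ≤ inertia N θ :=
  fun _ hg => conjNormFun_of_mem N hg hθ

theorem classInner_conjNormFun [Fintype N] (g : G) (a b : N → ℂ) :
    classInner (conjNormFun N g a) (conjNormFun N g b) = classInner a b := by
  simp only [classInner, conjNormFun_eq]
  congr 1
  exact Fintype.sum_equiv (MulAut.conjNormal g).toEquiv _ _ fun n => rfl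

theorem classInner_res_conjNormFun [Fintype N] (g : G) {χ : G → ℂ} (hχ : IsClassFunction G χ)
    (θ : N → ℂ) :
    classInner (fun n : N => χ n) (conjNormFun N g θ) = classInner (fun n : N => χ n) θ := by
  have : conjNormFun N g (fun n : N => χ n) = fun n : N => χ n := by
    funext n; exact hχ n g
  conv_lhs => rw [← this, classInner_conjNormFun]

variable [Fintype G]

theorem indFun_res_eq_sum_conj (θ : N → ℂ) :
    (fun n : N => indFun N θ n) = (Nat.card N : ℂ)⁻¹ • ∑ x : G, conjNormFun N x θ := by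
  funext n
  simp [indFun_normal_apply, conjNormFun, Finset.sum_apply]

theorem indFun_conjNormFun (g : G) (θ : N → ℂ) :
    indFun N (conjNormFun N g θ) = indFun N θ := by
  funext x
  by_cases hx : x ∈ N
  · have h1 := congrFun (indFun_res_eq_sum_conj N (conjNormFun N g θ)) ⟨x, hx⟩
    have h2 := congrFun (indFun_res_eq_sum_conj N θ) ⟨x, hx⟩
    simp only [Pi.smul_apply, Finset.sum_apply, ← conjNormFun_mul] at h1 h2
    rw [h1, h2]
    congr 1
    exact Fintype.sum_equiv (Equiv.mulLeft g) _ _ fun y => rfl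
  · rw [indFun_normal_apply_not_mem N _ hx, indFun_normal_apply_not_mem N _ hx]

theorem classInner_indFun_indFun [Fintype N] (θ φ : N → ℂ) :
    classInner (indFun N θ) (indFun N φ) =
      (Nat.card N : ℂ)⁻¹ * ∑ x : G, classInner θ (conjNormFun N x φ) := by
  rw [frobenius_reciprocity N θ (indFun_isClassFunction N φ), indFun_res_eq_sum_conj,
    classInner_smul_right, classInner_sum_right]
  simp

theorem classInner_indFun_indFun_irr [Fintype N] {θ φ : N → ℂ} (hθ : IsIrrCharacter N θ)
    (hφ : IsIrrCharacter N φ) :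
    classInner (indFun N θ) (indFun N φ) =
      (Nat.card N : ℂ)⁻¹ * (Nat.card {x : G // conjNormFun N x φ = θ} : ℂ) := by
  classical
  rw [classInner_indFun_indFun, Nat.card_eq_fintype_card (α := {x : G // conjNormFun N x φ = θ}),
    Fintype.card_subtype]
  congr 1
  simp only [classInner_irr hθ (isIrr_conjNormFun N _ hφ), eq_comm (a := θ), Finset.sum_boole]

theorem classInner_indFun_self [Fintype N] {θ : N → ℂ} (hθ : IsIrrCharacter N θ) :
    (Nat.card N : ℂ) * classInner (indFun N θ) (indFun N θ) = (Nat.card (inertia N θ) : ℂ) := by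
  rw [classInner_indFun_indFun_irr N hθ hθ,
    mul_inv_cancel_left₀ (Nat.cast_ne_zero.mpr Nat.card_pos.ne')]
  rfl

theorem indFun_orthogonal_of_not_conj [Fintype N] {θ φ : N → ℂ} (hθ : IsIrrCharacter N θ)
    (hφ : IsIrrCharacter N φ) (h : ¬ ∃ g : G, conjNormFun N g φ = θ) :
    classInner (indFun N θ) (indFun N φ) = 0 := by
  classical
  have : IsEmpty {x : G // conjNormFun N x φ = θ} := ⟨fun x => h ⟨x.1, x.2⟩⟩
  rw [classInner_indFun_indFun_irr N hθ hφ,
    Nat.card_of_isEmpty (α := {x : G // conjNormFun N x φ = θ}), Nat.cast_zero, mul_zero]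

/-- Characters with a common irreducible constituent are not orthogonal. -/
theorem classInner_ne_zero_of_common {a b c : G → ℂ} (ha : IsCharacter G a) (hb : IsCharacter G b)
    (hc : IsIrrCharacter G c) (h1 : classInner a c ≠ 0) (h2 : classInner b c ≠ 0) :
    classInner a b ≠ 0 := by
  have hac := isCharacter_sub_irr ha hc h1
  have hbc := isCharacter_sub_irr hb hc h2
  have hc' := isCharacter_of_irr hc
  have e : classInner a b = classInner (a - c) (b - c) + classInner (a - c) c +
      classInner c (b - c) + 1 := by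
    rw [← classInner_irr_self hc]
    simp only [classInner_sub_left, classInner_sub_right]
    ring
  obtain ⟨n1, e1⟩ := classInner_char_nat hac hbc
  obtain ⟨n2, e2⟩ := classInner_char_nat hac hc'
  obtain ⟨n3, e3⟩ := classInner_char_nat hc' hbc
  rw [e, e1, e2, e3]
  exact_mod_cast Nat.succ_ne_zero (n1 + n2 + n3)

/-- Two constituents of the restriction of an irreducible character are conjugate. -/
theorem exists_conj_of_constituents [Fintype N] {χ : G → ℂ} (hχ : IsIrrCharacter G χ)
    {θ φ : N → ℂ} (hθ : IsIrrCharacter N θ) (hφ : IsIrrCharacter N φ)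
    (h1 : classInner (fun n : N => χ n) θ ≠ 0) (h2 : classInner (fun n : N => χ n) φ ≠ 0) :
    ∃ g : G, conjNormFun N g θ = φ := by
  by_contra hne
  have h1' : classInner (indFun N θ) χ ≠ 0 := by
    rw [frobenius_reciprocity N θ (isClassFunction_irr hχ), ← classInner_comm]
    exact (map_ne_zero _).mpr h1
  have h2' : classInner (indFun N φ) χ ≠ 0 := by
    rw [frobenius_reciprocity N φ (isClassFunction_irr hχ), ← classInner_comm]
    exact (map_ne_zero _).mpr h2
  refine classInner_ne_zero_of_common (isCharacter_indFun N (isCharacter_of_irr hφ))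
    (isCharacter_indFun N (isCharacter_of_irr hθ)) hχ h2' h1' ?_
  exact indFun_orthogonal_of_not_conj N hφ hθ hne

open Classical in
/-- The distinct conjugates of a function on a normal subgroup. -/
noncomputable def conjOrbit (θ : N → ℂ) : Finset (N → ℂ) :=
  Finset.univ.image fun g : G => conjNormFun N g θ

theorem mem_conjOrbit {θ ψ : N → ℂ} : ψ ∈ conjOrbit N θ ↔ ∃ g : G, conjNormFun N g θ = ψ := by
  classical
  simp [conjOrbit]

/-- Clifford's theorem. -/
theorem clifford [Fintype N] {χ : G → ℂ} (hχ : IsIrrCharacter G χ) {θ : N → ℂ}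
    (hθ : IsIrrCharacter N θ) (h : classInner (fun n : N => χ n) θ ≠ 0) :
    (fun n : N => χ n) = classInner (fun n : N => χ n) θ • ∑ ψ ∈ conjOrbit N θ, ψ := by
  classical
  have hres := isCharacter_restrict (isCharacter_of_irr hχ) N
  conv_lhs => rw [eq_sum_irr (isClassFunction_char hres)]
  rw [Finset.smul_sum]
  symm
  refine Finset.sum_bij_ne_zero
    (fun ψ hψ _ => (⟨ψ, by obtain ⟨g, rfl⟩ := (mem_conjOrbit N).mp hψ; exact isIrr_conjNormFun N g hθ⟩ :
      IrrCharacter N))
    (fun _ _ _ => Finset.mem_univ _) (fun a _ _ b _ _ e => congrArg Subtype.val e) ?_ ?_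
  · rintro ⟨ψ, hψ⟩ - hne
    have hc : classInner (fun n : N => χ n) ψ ≠ 0 := fun e => hne (by simp [e])
    obtain ⟨g, hg⟩ := exists_conj_of_constituents N hχ hθ hψ h hc
    refine ⟨ψ, (mem_conjOrbit N).mpr ⟨g, hg⟩, ?_, rfl⟩
    intro e
    have := congrFun e 1
    simp only [Pi.smul_apply, Pi.zero_apply, smul_eq_mul, mul_eq_zero] at this
    exact this.elim h (irr_ne_zero hψ)
  · intro ψ hψ _
    obtain ⟨g, rfl⟩ := (mem_conjOrbit N).mp hψ
    show classInner (fun n : N => χ n) θ • conjNormFun N g θ =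
      classInner (fun n : N => χ n) (conjNormFun N g θ) • conjNormFun N g θ
    rw [classInner_res_conjNormFun N g (isClassFunction_irr hχ)]

theorem card_conjOrbit_mul_inertia (θ : N → ℂ) :
    (conjOrbit N θ).card * Nat.card (inertia N θ) = Nat.card G := by
  classical
  rw [Nat.card_eq_fintype_card (α := G), ← Finset.card_univ,
    Finset.card_eq_sum_card_image (fun g : G => conjNormFun N g θ) Finset.univ]
  rw [← smul_eq_mul, ← Finset.sum_const]
  refine Finset.sum_congr rfl fun ψ hψ => ?_
  obtain ⟨g, -, rfl⟩ := Finset.mem_image.mp hψ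
  rw [Nat.card_eq_fintype_card, ← Fintype.card_subtype]
  refine Fintype.card_congr
    { toFun := fun t => ⟨(t : G) * g, by
        rw [conjNormFun_mul, (mem_inertia N).mp t.2]⟩
      invFun := fun x => ⟨(x : G) * g⁻¹, by
        rw [mem_inertia, conjNormFun_mul, x.2, conjNormFun_inv]⟩
      left_inv := fun t => Subtype.ext (by simp)
      right_inv := fun x => Subtype.ext (by simp) }

theorem card_conjOrbit (θ : N → ℂ) : (conjOrbit N θ).card = (inertia N θ).index := by
  apply Nat.eq_of_mul_eq_mul_right (Nat.card_pos (α := inertia N θ))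
  rw [card_conjOrbit_mul_inertia, mul_comm, Subgroup.card_mul_index]

theorem clifford_degree [Fintype N] {χ : G → ℂ} (hχ : IsIrrCharacter G χ) {θ : N → ℂ}
    (hθ : IsIrrCharacter N θ) (h : classInner (fun n : N => χ n) θ ≠ 0) :
    χ 1 = classInner (fun n : N => χ n) θ * ((inertia N θ).index : ℂ) * θ 1 := by
  have h1 := congrFun (clifford N hχ hθ h) 1
  simp only [Pi.smul_apply, Finset.sum_apply, smul_eq_mul] at h1
  rw [show χ 1 = χ ((1 : N) : G) from rfl, h1, mul_assoc]
  congr 1
  rw [← card_conjOrbit, ← nsmul_eq_mul, ← Finset.sum_const]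
  refine Finset.sum_congr rfl fun ψ hψ => ?_
  obtain ⟨g, rfl⟩ := (mem_conjOrbit N).mp hψ
  exact conjNormFun_apply_one N g θ

/-- Clifford's theorem for an invariant constituent. -/
theorem clifford_invariant [Fintype N] {χ : G → ℂ} (hχ : IsIrrCharacter G χ) {θ : N → ℂ}
    (hθ : IsIrrCharacter N θ) (h : classInner (fun n : N => χ n) θ ≠ 0)
    (hinv : ∀ g : G, conjNormFun N g θ = θ) :
    (fun n : N => χ n) = classInner (fun n : N => χ n) θ • θ := by
  classical
  have : conjOrbit N θ = {θ} := by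
    ext ψ
    rw [mem_conjOrbit, Finset.mem_singleton]
    exact ⟨fun ⟨g, hg⟩ => hg ▸ hinv g, fun e => ⟨1, by rw [e, conjNormFun_one]⟩⟩
  conv_lhs => rw [clifford N hχ hθ h, this, Finset.sum_singleton]

omit [Fintype G] in
/-- Restriction through an intermediate subgroup. -/
theorem classInner_subgroupOf {T : Subgroup G} (hNT : N ≤ T) [Fintype N]
    [Fintype (N.subgroupOf T)] (f : T → ℂ) (θ : N → ℂ) :
    classInner (fun x : N.subgroupOf T => f x)
        (fun x => θ ⟨(x : T), Subgroup.mem_subgroupOf.mp x.2⟩) =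
      classInner (fun n : N => f ⟨n, hNT n.2⟩) θ := by
  simp only [classInner]
  rw [Nat.card_congr (Subgroup.subgroupOfEquivOfLe hNT).toEquiv]
  congr 1
  exact Fintype.sum_equiv (Subgroup.subgroupOfEquivOfLe hNT).toEquiv _ _ fun x => rfl

theorem isIrr_subgroupOf {T : Subgroup G} (hNT : N ≤ T) {θ : N → ℂ} (hθ : IsIrrCharacter N θ) :
    IsIrrCharacter (N.subgroupOf T) (fun x => θ ⟨(x : T), Subgroup.mem_subgroupOf.mp x.2⟩) :=
  isIrrCharacter_comp_surjective hθ (Subgroup.subgroupOfEquivOfLe hNT).toMonoidHom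
    (Subgroup.subgroupOfEquivOfLe hNT).surjective

/-- The restriction to `N` of a character of the inertia group lying over `θ`. -/
theorem res_of_inertia [Fintype N] {θ : N → ℂ} (hθ : IsIrrCharacter N θ) {T : Subgroup G}
    (hNT : N ≤ T) (hT : T ≤ inertia N θ) {ψ : T → ℂ} (hψ : IsIrrCharacter T ψ)
    (hc : classInner (fun n : N => ψ ⟨n, hNT n.2⟩) θ ≠ 0) :
    (fun n : N => ψ ⟨n, hNT n.2⟩) = classInner (fun n : N => ψ ⟨n, hNT n.2⟩) θ • θ := by
  have := Fintype.ofFinite (N.subgroupOf T)
  have := Fintype.ofFinite T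
  have h' := classInner_subgroupOf N hNT ψ θ
  have := clifford_invariant (N.subgroupOf T) hψ (isIrr_subgroupOf N hNT hθ) (by rw [h']; exact hc)
    (fun t => by
      funext x
      exact congrFun ((mem_inertia N).mp (hT t.2)) ⟨(x : T), Subgroup.mem_subgroupOf.mp x.2⟩)
  rw [h'] at this
  funext n
  exact congrFun this ⟨⟨n, hNT n.2⟩, Subgroup.mem_subgroupOf.mpr n.2⟩

/-- Clifford correspondence: irreducibility and multiplicity. -/
theorem clifford_correspondence [Fintype N] {θ : N → ℂ} (hθ : IsIrrCharacter N θ) {T : Subgroup G}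
    [Fintype T] (hNT : N ≤ T) (hT : T = inertia N θ) {ψ : T → ℂ} (hψ : IsIrrCharacter T ψ)
    (hc : classInner (fun n : N => ψ ⟨n, hNT n.2⟩) θ ≠ 0) :
    IsIrrCharacter G (indFun T ψ) ∧
      classInner (fun n : N => indFun T ψ n) θ = classInner (fun n : N => ψ ⟨n, hNT n.2⟩) θ := by
  have hcψ := isCharacter_of_irr hψ
  have hind := isCharacter_indFun T hcψ
  obtain ⟨χ, hχ, hne⟩ := exists_constituent hind (fun e => by
    have := congrFun e 1
    rw [indFun_apply_one, Pi.zero_apply, mul_eq_zero, Nat.cast_eq_zero] at this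
    exact this.elim Subgroup.index_ne_zero_of_finite (irr_ne_zero hψ))
  rw [frobenius_reciprocity T ψ (isClassFunction_irr hχ)] at hne
  have hne' : classInner (fun t : T => χ t) ψ ≠ 0 := by
    rw [← classInner_comm]; exact (map_ne_zero _).mpr hne
  have hresT := isCharacter_restrict (isCharacter_of_irr hχ) T
  have hrest := isCharacter_sub_irr hresT hψ hne'
  have hcoef : ∀ (φ : T → ℂ), IsCharacter T φ →
      IsCharacter N (fun n : N => φ ⟨n, hNT n.2⟩) := fun φ hφ =>
    isCharacter_comp hφ (Subgroup.inclusion hNT)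
  obtain ⟨e, he⟩ := classInner_char_nat (isCharacter_restrict (isCharacter_of_irr hχ) N)
    (isCharacter_of_irr hθ)
  obtain ⟨f, hf⟩ := classInner_char_nat (hcoef ψ hcψ) (isCharacter_of_irr hθ)
  obtain ⟨r, hr⟩ := classInner_char_nat (hcoef _ hrest) (isCharacter_of_irr hθ)
  have her : (e : ℂ) = f + r := by
    rw [← he, ← hf, ← hr, ← classInner_add_left]
    congr 1
    funext n
    simp
  have hef : e = f + r := by exact_mod_cast her
  have hf0 : f ≠ 0 := fun h0 => hc (by rw [hf, h0, Nat.cast_zero])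
  have he0 : classInner (fun n : N => χ n) θ ≠ 0 := by
    rw [he, Nat.cast_ne_zero]; omega
  have hdeg := clifford_degree N hχ hθ he0
  rw [← hT, he] at hdeg
  have hψdeg : ψ 1 = (f : ℂ) * θ 1 := by
    have := congrFun (res_of_inertia N hθ hNT hT.le hψ hc) 1
    rw [hf] at this
    exact this
  have hindχ : classInner (indFun T ψ) χ ≠ 0 := by
    rwa [frobenius_reciprocity T ψ (isClassFunction_irr hχ)]
  have hdiff := isCharacter_sub_irr hind hχ hindχ
  obtain ⟨d, hd⟩ := char_one_eq_natCast hdiff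
  obtain ⟨t, ht, hθ1⟩ := irr_degree_pos hθ
  have hI : 0 < T.index := Nat.pos_of_ne_zero Subgroup.index_ne_zero_of_finite
  rw [Pi.sub_apply, indFun_apply_one, hψdeg, hdeg, hθ1] at hd
  have hd' : T.index * (f * t) = e * T.index * t + d := by
    have : ((T.index * (f * t) : ℕ) : ℂ) = ((e * T.index * t + d : ℕ) : ℂ) := by
      push_cast; linear_combination hd
    exact_mod_cast this
  have hr0 : r = 0 ∧ d = 0 := by
    have hT0 : 0 < T.index * t := Nat.mul_pos hI ht
    rw [hef] at hd'
    have h2 : T.index * (f * t) = T.index * t * f := by ring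
    have h3 : (f + r) * T.index * t + d = T.index * t * f + (T.index * t * r + d) := by ring
    rw [h2, h3] at hd'
    have h4 : T.index * t * r = 0 ∧ d = 0 := by omega
    exact ⟨(mul_eq_zero.mp h4.1).resolve_left hT0.ne', h4.2⟩
  have hz : indFun T ψ - χ = 0 := eq_zero_of_degree_zero hdiff (by
    rw [Pi.sub_apply, indFun_apply_one, hψdeg, hdeg, hθ1, hd, hr0.2, Nat.cast_zero])
  have heq : indFun T ψ = χ := sub_eq_zero.mp hz
  refine ⟨heq ▸ hχ, ?_⟩
  rw [heq, he, hf, hef, hr0.1, Nat.add_zero]

theorem clifford_correspondence_inj [Fintype N] {θ : N → ℂ} (hθ : IsIrrCharacter N θ)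
    {T : Subgroup G} [Fintype T] (hNT : N ≤ T) (hT : T = inertia N θ) {ψ ψ' : T → ℂ}
    (hψ : IsIrrCharacter T ψ) (hψ' : IsIrrCharacter T ψ')
    (hc : classInner (fun n : N => ψ ⟨n, hNT n.2⟩) θ ≠ 0)
    (hc' : classInner (fun n : N => ψ' ⟨n, hNT n.2⟩) θ ≠ 0)
    (he : indFun T ψ = indFun T ψ') : ψ = ψ' := by
  by_contra hne
  obtain ⟨hirr, hm⟩ := clifford_correspondence N hθ hNT hT hψ hc
  have hmem : ∀ φ : T → ℂ, indFun T φ = indFun T ψ →
      classInner (fun t : T => indFun T ψ t) φ ≠ 0 := by
    intro φ hφ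
    rw [← frobenius_reciprocity' T φ (indFun_isClassFunction T ψ), hφ, classInner_irr_self hirr]
    exact one_ne_zero
  have hres := isCharacter_restrict (isCharacter_of_irr hirr) T
  have h1 := isCharacter_sub_irr hres hψ (hmem ψ rfl)
  have h2 := isCharacter_sub_irr h1 hψ' (by
    rw [classInner_sub_left, classInner_irr_ne hψ hψ' hne, sub_zero]
    exact hmem ψ' he.symm)
  obtain ⟨r, hr⟩ := classInner_char_nat (isCharacter_comp h2 (Subgroup.inclusion hNT))
    (isCharacter_of_irr hθ)
  obtain ⟨f, hf⟩ := classInner_char_nat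
    (isCharacter_comp (isCharacter_of_irr hψ') (Subgroup.inclusion hNT)) (isCharacter_of_irr hθ)
  have hf0 : f ≠ 0 := fun h0 => hc' (by
    show classInner (fun x : N => ψ' (Subgroup.inclusion hNT x)) θ = 0
    rw [hf, h0, Nat.cast_zero])
  have : classInner (fun n : N => indFun T ψ n) θ =
      classInner (fun n : N => ψ ⟨n, hNT n.2⟩) θ + (f + r : ℕ) := by
    push_cast
    rw [← hr, ← hf, ← classInner_add_left, ← classInner_add_left]
    congr 1
    funext n
    simp [Subgroup.inclusion]
  rw [hm, left_eq_add, Nat.cast_eq_zero] at this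
  omega

/-- Every irreducible character over `θ` comes from the inertia group. -/
theorem exists_clifford_pre [Fintype N] {θ : N → ℂ} (hθ : IsIrrCharacter N θ) {T : Subgroup G}
    [Fintype T] (hNT : N ≤ T) (hT : T = inertia N θ) {χ : G → ℂ} (hχ : IsIrrCharacter G χ)
    (hc : classInner (fun n : N => χ n) θ ≠ 0) :
    ∃ ψ : T → ℂ, IsIrrCharacter T ψ ∧ classInner (fun n : N => ψ ⟨n, hNT n.2⟩) θ ≠ 0 ∧
      indFun T ψ = χ := by
  classical
  have hres := isCharacter_restrict (isCharacter_of_irr hχ) T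
  have hdec := eq_sum_irr (isClassFunction_char hres)
  have hex : ∃ ψ : IrrCharacter T, classInner (fun t : T => χ t) (ψ : T → ℂ) ≠ 0 ∧
      classInner (fun n : N => (ψ : T → ℂ) ⟨n, hNT n.2⟩) θ ≠ 0 := by
    by_contra hall
    push Not at hall
    apply hc
    have e : (fun n : N => χ n) = ∑ ψ : IrrCharacter T,
        classInner (fun t : T => χ t) (ψ : T → ℂ) • fun n : N => (ψ : T → ℂ) ⟨n, hNT n.2⟩ := by
      funext n
      have := congrFun hdec ⟨n, hNT n.2⟩
      simp only [Finset.sum_apply, Pi.smul_apply] at this ⊢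
      exact this
    rw [e, classInner_sum_left]
    refine Finset.sum_eq_zero fun ψ _ => ?_
    rw [classInner_smul_left]
    by_cases h0 : classInner (fun t : T => χ t) (ψ : T → ℂ) = 0
    · rw [h0, zero_mul]
    · rw [hall ψ h0, mul_zero]
  obtain ⟨⟨ψ, hψ⟩, h1, h2⟩ := hex
  obtain ⟨hirr, -⟩ := clifford_correspondence N hθ hNT hT hψ h2
  refine ⟨ψ, hψ, h2, ?_⟩
  by_contra hne
  apply h1
  rw [← frobenius_reciprocity' T ψ (isClassFunction_irr hχ)]
  exact classInner_irr_ne hχ hirr (fun e => hne e.symm)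

end Normal

end CfsgLib.CharTheory

namespace CfsgLib.CharTheory

open Cfsg

universe u

variable {G : Type u} [Group G] (N : Subgroup G) [hN : N.Normal] [Fintype G]

theorem card_fibre_conjNormFun {θ ψ : N → ℂ} (h : ψ ∈ conjOrbit N θ) :
    Nat.card {x : G // conjNormFun N x θ = ψ} = Nat.card (inertia N θ) := by
  obtain ⟨g, rfl⟩ := (mem_conjOrbit N).mp h
  refine Nat.card_congr
    { toFun := fun x => ⟨(x : G) * g⁻¹, by
        rw [mem_inertia, conjNormFun_mul, x.2, conjNormFun_inv]⟩
      invFun := fun t => ⟨(t : G) * g, by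
        rw [conjNormFun_mul, (mem_inertia N).mp t.2]⟩
      left_inv := fun x => Subtype.ext (by simp)
      right_inv := fun t => Subtype.ext (by simp) }

theorem sum_conjNormFun (θ : N → ℂ) :
    ∑ x : G, conjNormFun N x θ = (Nat.card (inertia N θ) : ℂ) • ∑ ψ ∈ conjOrbit N θ, ψ := by
  classical
  rw [Finset.smul_sum, ← Finset.sum_fiberwise_of_maps_to (g := fun x : G => conjNormFun N x θ)
    (t := conjOrbit N θ) (fun x _ => (mem_conjOrbit N).mpr ⟨x, rfl⟩)]
  refine Finset.sum_congr rfl fun ψ hψ => ?_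
  rw [Finset.sum_congr rfl fun x hx => (Finset.mem_filter.mp hx).2, Finset.sum_const,
    Nat.cast_smul_eq_nsmul, ← card_fibre_conjNormFun N hψ, Nat.card_eq_fintype_card,
    Fintype.card_subtype]

/-- If the normal subgroup contains the centralizers of its non-identity elements then a
non-principal irreducible character has inertia group equal to the normal subgroup. -/
theorem inertia_eq_of_centralizer_le [Fintype N]
    (hC : ∀ n ∈ N, n ≠ 1 → Subgroup.centralizer ({n} : Set G) ≤ N) {θ : N → ℂ}
    (hθ : IsIrrCharacter N θ) (h1 : θ ≠ fun _ => 1) : inertia N θ = N := by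
  classical
  refine le_antisymm (fun g hg => ?_) (le_inertia N (isClassFunction_irr hθ))
  by_contra hgN
  let τ : IrrCharacter N → IrrCharacter N :=
    fun χ => ⟨conjNormFun N g χ, isIrr_conjNormFun N g χ.2⟩
  have h := card_fixed_irr_mul (fun n : N => ⟨g * n * g⁻¹, hN.conj_mem n n.2 g⟩) τ
    (fun _ _ => rfl)
  have hfix : Finset.univ.filter
      (fun k : N => IsConj (⟨g * k * g⁻¹, hN.conj_mem k k.2 g⟩ : N) k) = {1} := by
    ext k
    simp only [Finset.mem_filter, Finset.mem_univ, true_and, Finset.mem_singleton]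
    constructor
    · intro hk
      obtain ⟨y, hy⟩ := isConj_iff.mp hk
      by_contra hk1
      have hy' := congrArg Subtype.val hy
      simp only [Subgroup.coe_mul, Subgroup.coe_inv] at hy'
      have hmem : (y : G) * g ∈ Subgroup.centralizer ({(k : G)} : Set G) := by
        rw [Subgroup.mem_centralizer_singleton_iff]
        conv_rhs => rw [← hy']
        group
      have := hC k k.2 (fun e => hk1 (Subtype.ext e)) hmem
      exact hgN ((Subgroup.mul_mem_cancel_left N y.2).mp this)
    · rintro rfl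
      exact isConj_iff.mpr ⟨1, Subtype.ext (by simp)⟩
  rw [hfix, Finset.sum_singleton] at h
  have hcent : Nat.card (Subgroup.centralizer
      ({(⟨g * (1 : N) * g⁻¹, hN.conj_mem (1 : N) (1 : N).2 g⟩ : N)} : Set N)) = Nat.card N := by
    have e : (⟨g * (1 : N) * g⁻¹, hN.conj_mem (1 : N) (1 : N).2 g⟩ : N) = 1 :=
      Subtype.ext (by simp)
    have e' : Subgroup.centralizer ({(1 : N)} : Set N) = ⊤ :=
      eq_top_iff.mpr fun x _ => Subgroup.mem_centralizer_singleton_iff.mpr (by simp)
    rw [e, e', Subgroup.card_top]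
  rw [hcent] at h
  have hone := Nat.eq_of_mul_eq_mul_right (Nat.card_pos (α := N))
    (h.trans (one_mul (Nat.card N)).symm)
  obtain ⟨hsub, -⟩ := Nat.card_eq_one_iff_unique.mp hone
  have e1 : τ ⟨θ, hθ⟩ = ⟨θ, hθ⟩ := Subtype.ext ((mem_inertia N).mp hg)
  have e2 : τ ⟨fun _ => 1, isIrrCharacter_one⟩ = ⟨fun _ => 1, isIrrCharacter_one⟩ := rfl
  exact h1 (congrArg (fun z : {χ : IrrCharacter N // τ χ = χ} => (z.1 : N → ℂ))
    (hsub.elim ⟨_, e1⟩ ⟨_, e2⟩))

theorem isIrrCharacter_indFun_of_inertia_eq [Fintype N] {θ : N → ℂ} (hθ : IsIrrCharacter N θ)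
    (h : inertia N θ = N) : IsIrrCharacter G (indFun N θ) := by
  refine irr_of_char_norm_one (isCharacter_indFun N (isCharacter_of_irr hθ)) ?_
  have := classInner_indFun_self N hθ
  rw [h] at this
  exact mul_left_cancel₀ (Nat.cast_ne_zero.mpr (Nat.card_pos (α := N)).ne')
    (this.trans (mul_one _).symm)

end CfsgLib.CharTheory
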