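/-
Induction from a normal subgroup with abelian inertia quotient.
-/
import Cfsg.Agent.Lib.CharTheory.Clifford
import Cfsg.Agent.Lib.CharTheory.Linear

set_option autoImplicit false

namespace CfsgLib.CharTheory

open Cfsg
open scoped ComplexConjugate

universe u

variable {G : Type u} [Group G] [Fintype G]

theorem irr_degree_one_of_kernel_commutator (N : Subgroup G) [N.Normal] (hab : ∀ x y : G, x * y * x⁻¹ * y⁻¹ ∈ N) {φ : G → ℂ}
    (hφ : IsIrrCharacter G φ) (hk : ∀ n ∈ N, φ n = φ 1) : φ 1 = 1 := by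
  obtain ⟨ψ, hψ, rfl⟩ := exists_quotient_irr N hφ hk
  refine degree_one_of_commutative (fun a b => ?_) hψ
  induction a using QuotientGroup.induction_on with
  | _ x =>
    induction b using QuotientGroup.induction_on with
    | _ y =>
      refine (QuotientGroup.eq (a := x * y) (b := y * x)).mpr ?_
      simpa [mul_assoc] using hab y⁻¹ x⁻¹

theorem isIrrCharacter_mul_linear {χ φ : G → ℂ} (hχ : IsIrrCharacter G χ) (hφ : IsIrrCharacter G φ) (h1 : φ 1 = 1) :
    IsIrrCharacter G (χ * φ) := by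
  refine irr_of_char_norm_one (isCharacter_mul (isCharacter_of_irr hχ) (isCharacter_of_irr hφ)) ?_
  obtain ⟨f, rfl⟩ := exists_hom_of_degree_one (isCharacter_of_irr hφ) h1
  rw [← classInner_irr_self hχ]
  simp only [classInner, Pi.mul_apply, map_mul]
  congr 1
  refine Finset.sum_congr rfl fun g _ => ?_
  have hf : (f g : ℂ) * conj (f g : ℂ) = 1 := by
    have := classInner_irr_self (isIrrCharacter_linear f)
    have hn : ‖(f g : ℂ)‖ = 1 := Complex.norm_eq_one_of_pow_eq_one
      (by rw [← Units.val_pow_eq_pow_val, ← map_pow, pow_orderOf_eq_one, map_one, Units.val_one]) (orderOf_pos g).ne'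
    rw [Complex.mul_conj', hn]; norm_num
  linear_combination (χ g * conj (χ g)) * hf

/-- The constituents over an invariant character with abelian quotient. -/
theorem exists_constituents_invariant (N : Subgroup G) [hN : N.Normal] [Fintype N] {θ : N → ℂ} (hθ : IsIrrCharacter N θ)
    (hinv : ∀ g : G, conjNormFun N g θ = θ) (hab : ∀ x y : G, x * y * x⁻¹ * y⁻¹ ∈ N) :
    ∃ (e : ℕ) (C : Finset (G → ℂ)), 0 < e ∧ e ^ 2 * C.card = N.index ∧ indFun N θ = (e : ℂ) • ∑ χ ∈ C, χ ∧
      (∀ χ ∈ C, IsIrrCharacter G χ ∧ (fun n : N => χ n) = (e : ℂ) • θ) ∧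
      ∀ χ, IsIrrCharacter G χ → classInner (fun n : N => χ n) θ ≠ 0 → χ ∈ C := by
  classical
  have hind := isCharacter_indFun N (isCharacter_of_irr hθ)
  have hone : ∀ φ, IsIrrCharacter G φ → classInner (indFun N (fun _ => (1 : ℂ))) φ ≠ 0 → φ 1 = 1 := fun φ hφ hne => by
    rw [frobenius_reciprocity N _ (isClassFunction_irr hφ), ← classInner_comm, Ne, map_eq_zero] at hne
    have hres := clifford_invariant N hφ isIrrCharacter_one hne (fun g => rfl)
    refine irr_degree_one_of_kernel_commutator N hab hφ fun n hn => ?_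
    have e1 := congrFun hres ⟨n, hn⟩
    have e2 := congrFun hres 1
    simp only [Pi.smul_apply, Subgroup.coe_one] at e1 e2
    rw [e1, e2]
  have hres : ∀ χ, IsIrrCharacter G χ → classInner (fun n : N => χ n) θ ≠ 0 → (fun n : N => χ n) = classInner (fun n : N => χ n) θ • θ :=
    fun χ hχ hne => clifford_invariant N hχ hθ hne hinv
  have heq : ∀ a b, IsIrrCharacter G a → IsIrrCharacter G b → classInner (fun n : N => a n) θ ≠ 0 → classInner (fun n : N => b n) θ ≠ 0 → a 1 = b 1 := by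
    intro a b ha hb hna hnb
    have h1 : indFun N (fun n : N => a n) = indFun N (fun _ => (1 : ℂ)) * a := by
      rw [← indFun_mul N _ (isClassFunction_irr ha)]
      congr 1; funext n; simp
    rw [hres a ha hna, indFun_smul] at h1
    have h2 : classInner (indFun N (fun _ => (1 : ℂ)) * a) b ≠ 0 := by
      rw [← h1, classInner_smul_left, frobenius_reciprocity N θ (isClassFunction_irr hb)]
      exact mul_ne_zero hna (by rw [← classInner_comm]; exact (map_ne_zero _).mpr hnb)
    rw [eq_sum_irr (indFun_isClassFunction N _), Finset.sum_mul, classInner_sum_left] at h2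
    obtain ⟨φ, -, hφ⟩ := Finset.exists_ne_zero_of_sum_ne_zero h2
    rw [smul_mul_assoc, classInner_smul_left, mul_ne_zero_iff] at hφ
    have hd := hone φ φ.2 hφ.1
    have hir := isIrrCharacter_mul_linear ha φ.2 hd
    by_contra hne
    refine hφ.2 ?_
    rw [mul_comm]
    exact classInner_irr_ne hir hb fun e => hne (by rw [← e, Pi.mul_apply, hd, mul_one])
  obtain ⟨χ₀, hχ₀, hne₀⟩ := exists_constituent hind (fun e => by
    have := congrFun e 1
    rw [indFun_apply_one, Pi.zero_apply, mul_eq_zero, Nat.cast_eq_zero] at this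
    exact this.elim Subgroup.index_ne_zero_of_finite (irr_ne_zero hθ))
  have hflip : ∀ χ, IsIrrCharacter G χ → classInner (indFun N θ) χ = conj (classInner (fun n : N => χ n) θ) := fun χ hχ => by
    rw [frobenius_reciprocity N θ (isClassFunction_irr hχ), classInner_comm]
  rw [hflip χ₀ hχ₀, Ne, map_eq_zero] at hne₀
  obtain ⟨e, he⟩ := classInner_char_nat (isCharacter_restrict (isCharacter_of_irr hχ₀) N) (isCharacter_of_irr hθ)
  have hcoef : ∀ χ, IsIrrCharacter G χ → classInner (fun n : N => χ n) θ ≠ 0 → classInner (fun n : N => χ n) θ = e := by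
    intro χ hχ hne
    have e1 := congrFun (hres χ hχ hne) 1
    have e2 := congrFun (hres χ₀ hχ₀ hne₀) 1
    simp only [Pi.smul_apply, smul_eq_mul, Subgroup.coe_one] at e1 e2
    rw [heq χ χ₀ hχ hχ₀ hne hne₀, e2, he] at e1
    exact (mul_right_cancel₀ (irr_ne_zero hθ) e1).symm
  let C : Finset (G → ℂ) := (Finset.univ.filter fun χ : IrrCharacter G => classInner (fun n : N => (χ : G → ℂ) n) θ ≠ 0).image Subtype.val
  have hsum : indFun N θ = (e : ℂ) • ∑ χ ∈ C, χ := by
    rw [Finset.smul_sum, Finset.sum_image (fun a _ b _ h => Subtype.ext h), Finset.sum_filter]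
    conv_lhs => rw [eq_sum_irr (indFun_isClassFunction N θ)]
    refine Finset.sum_congr rfl fun χ _ => ?_
    rw [hflip χ χ.2]
    split
    · rename_i h; rw [hcoef χ χ.2 h, map_natCast]
    · rename_i h; rw [not_not.mp h, map_zero, zero_smul]
  have he0 : e ≠ 0 := fun h => hne₀ (by rw [he, h, Nat.cast_zero])
  refine ⟨e, C, Nat.pos_of_ne_zero he0, ?_, hsum, fun χ hχ => ?_, fun χ hχ hne => ?_⟩
  · have h := classInner_indFun_self N hθ
    rw [show inertia N θ = ⊤ from eq_top_iff.mpr fun g _ => (mem_inertia N).mpr (hinv g), Subgroup.card_top, hsum,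
      classInner_smul_left, classInner_smul_right, map_natCast, classInner_sum_left] at h
    have hC : ∀ χ ∈ C, classInner χ (∑ ξ ∈ C, ξ) = 1 := fun χ hχ => by
      have hi : ∀ ξ ∈ C, IsIrrCharacter G ξ := fun ξ hξ => by
        obtain ⟨y, -, rfl⟩ := Finset.mem_image.mp hξ; exact y.2
      rw [classInner_sum_right, Finset.sum_eq_single χ (fun ξ hξ hne => classInner_irr_ne (hi χ hχ) (hi ξ hξ) (Ne.symm hne)) (fun h => absurd hχ h), classInner_irr_self (hi χ hχ)]
    rw [Finset.sum_congr rfl hC, Finset.sum_const, nsmul_eq_mul, mul_one] at h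
    have h' : Nat.card N * (e * (e * C.card)) = Nat.card G := by exact_mod_cast h
    refine Nat.eq_of_mul_eq_mul_left (Nat.card_pos (α := N)) ?_
    rw [N.card_mul_index, sq, mul_assoc, h']
  · obtain ⟨y, hy, rfl⟩ := Finset.mem_image.mp hχ
    refine ⟨y.2, ?_⟩
    rw [hres y y.2 (Finset.mem_filter.mp hy).2, hcoef y y.2 (Finset.mem_filter.mp hy).2]
  · exact Finset.mem_image.mpr ⟨⟨χ, hχ⟩, Finset.mem_filter.mpr ⟨Finset.mem_univ _, hne⟩, rfl⟩

/-- The same, induced up from the inertia group. -/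
theorem exists_constituents_inertia (H T : Subgroup G) [H.Normal] [Fintype H] [Fintype T] {θ : H → ℂ}
    (hθ : IsIrrCharacter H θ) (hT : T = inertia H θ) (hab : ∀ x ∈ T, ∀ y ∈ T, x * y * x⁻¹ * y⁻¹ ∈ H) :
    ∃ (e : ℕ) (C : Finset (G → ℂ)), 0 < e ∧ (∀ χ ∈ C, IsIrrCharacter G χ) ∧ e ^ 2 * C.card = H.relIndex T ∧
      indFun H θ = (e : ℂ) • ∑ χ ∈ C, χ ∧ (∀ χ ∈ C, χ 1 = (T.index : ℂ) * e * θ 1) ∧
      ((∃ ψ : T → ℂ, ∃ hHT : H ≤ T, IsIrrCharacter T ψ ∧ ∀ n : H, ψ ⟨(n : G), hHT n.2⟩ = θ n) → e = 1) := by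
  classical
  have hHT : H ≤ T := hT ▸ le_inertia H (isClassFunction_irr hθ)
  have := Fintype.ofFinite (H.subgroupOf T)
  set θ' : H.subgroupOf T → ℂ := fun x => θ ⟨(x : T), Subgroup.mem_subgroupOf.mp x.2⟩ with hθ'
  obtain ⟨e, C₀, he, hcard, hsum, hC, hall⟩ := exists_constituents_invariant (H.subgroupOf T) (isIrr_subgroupOf H hHT hθ)
    (fun t => by
      funext x
      exact congrFun ((mem_inertia H).mp (hT.le t.2)) ⟨(x : T), Subgroup.mem_subgroupOf.mp x.2⟩)
    (fun x y => Subgroup.mem_subgroupOf.mpr (hab x x.2 y y.2))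
  have hresψ : ∀ ψ ∈ C₀, classInner (fun n : H => ψ ⟨(n : G), hHT n.2⟩) θ ≠ 0 := fun ψ hψ => by
    rw [← classInner_subgroupOf H hHT ψ θ]
    show classInner (fun x : H.subgroupOf T => ψ x) θ' ≠ 0
    rw [(hC ψ hψ).2, classInner_smul_left, hθ', classInner_irr_self (isIrr_subgroupOf H hHT hθ), mul_one, Nat.cast_ne_zero]
    omega
  have hinj : Set.InjOn (indFun T) (C₀ : Set (T → ℂ)) := fun a ha b hb h =>
    clifford_correspondence_inj H hθ hHT hT (hC a ha).1 (hC b hb).1 (hresψ a ha) (hresψ b hb) h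
  refine ⟨e, C₀.image (indFun T), he, fun χ hχ => ?_, ?_, ?_, fun χ hχ => ?_, ?_⟩
  · obtain ⟨ψ, hψ, rfl⟩ := Finset.mem_image.mp hχ
    exact (clifford_correspondence H hθ hHT hT (hC ψ hψ).1 (hresψ ψ hψ)).1
  · rw [Finset.card_image_of_injOn hinj]; exact hcard
  · rw [Finset.sum_image hinj, ← indFun_sum, ← indFun_smul, ← hsum]
    exact (indFun_trans H T hHT θ).symm
  · obtain ⟨ψ, hψ, rfl⟩ := Finset.mem_image.mp hχ
    have h1 := congrFun (hC ψ hψ).2 1
    simp only [Pi.smul_apply, smul_eq_mul, Subgroup.coe_one] at h1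
    rw [indFun_apply_one, h1, ← mul_assoc]
    rfl
  · rintro ⟨ψ, _hle, hψ, hext⟩
    have hr : (fun x : H.subgroupOf T => ψ x) = θ' := funext fun x => hext ⟨(x : T), Subgroup.mem_subgroupOf.mp x.2⟩
    have hmem : ψ ∈ C₀ := hall ψ hψ (by rw [hr, hθ', classInner_irr_self (isIrr_subgroupOf H hHT hθ)]; exact one_ne_zero)
    have h1 := congrFun (hC ψ hmem).2 1
    rw [show ψ ((1 : H.subgroupOf T) : T) = θ' 1 from congrFun hr 1] at h1
    have : θ' 1 ≠ 0 := irr_ne_zero (isIrr_subgroupOf H hHT hθ)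
    have h2 : ((e : ℂ) - 1) * θ' 1 = 0 := by
      have : θ' 1 = (e : ℂ) * θ' 1 := h1
      linear_combination -this
    exact_mod_cast sub_eq_zero.mp ((mul_eq_zero.mp h2).resolve_right this)

end CfsgLib.CharTheory
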