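/-
Ordinary character theory, part 9: degrees and indices of abelian subgroups.
-/
import Cfsg.Agent.Lib.CharTheory.Clifford

namespace CfsgLib.CharTheory

open Cfsg
open scoped ComplexConjugate

universe u v

variable {G : Type u} [Group G] [Finite G]
variable {V : Type v} [AddCommGroup V] [Module ℂ V] [FiniteDimensional ℂ V]

omit [Finite G] in
/-- A sum of an invariant function which vanishes at every non-regular point. -/
theorem sum_eq_card_mul {Z α : Type*} [Group Z] [Finite Z] [MulAction Z α] [Fintype α]
    (F : α → ℂ) (hinv : ∀ (z : Z) a, F (z • a) = F a)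
    (hfree : ∀ a, F a ≠ 0 → ∀ z : Z, z • a = a → z = 1) (hint : ∀ a, IsIntegral ℤ (F a)) :
    ∃ s : ℂ, IsIntegral ℤ s ∧ ∑ a, F a = (Nat.card Z : ℂ) * s := by
  classical
  have := Fintype.ofFinite (Quotient (MulAction.orbitRel Z α))
  refine ⟨∑ q : Quotient (MulAction.orbitRel Z α), F q.out,
    IsIntegral.sum _ fun q _ => hint _, ?_⟩
  rw [Finset.mul_sum, ← Finset.sum_fiberwise Finset.univ (Quotient.mk (MulAction.orbitRel Z α))]
  refine Finset.sum_congr rfl fun q _ => ?_
  have hfib : ∀ a, Quotient.mk (MulAction.orbitRel Z α) a = q ↔ a ∈ MulAction.orbit Z q.out := by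
    intro a
    conv_lhs => rw [← Quotient.out_eq q, Quotient.eq]
    exact MulAction.orbitRel_apply
  rw [Finset.sum_congr rfl fun a ha => ?_, Finset.sum_const, nsmul_eq_mul]
  rotate_left
  · exact F q.out
  · obtain ⟨z, rfl⟩ := (hfib a).mp (Finset.mem_filter.mp ha).2
    exact hinv z _
  by_cases h0 : F q.out = 0
  · simp [h0]
  · congr 2
    rw [← Fintype.card_subtype, ← Nat.card_eq_fintype_card,
      Nat.card_congr (Equiv.subtypeEquivRight hfib)]
    have hst : MulAction.stabilizer Z q.out = ⊥ :=
      (Subgroup.eq_bot_iff_forall _).mpr fun z hz => hfree _ h0 z hz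
    show Nat.card (MulAction.orbit Z q.out) = _
    rw [Nat.card_coe_set_eq, ← MulAction.index_stabilizer, hst, Subgroup.index_bot]

/-- For a faithful irreducible representation the degree divides the index of a central
subgroup. -/
theorem degree_dvd_index_of_central (ρ : Representation ℂ G V) [ρ.IsIrreducible]
    (hinj : Function.Injective ρ) (Z : Subgroup G) (hZ : Z ≤ Subgroup.center G) :
    Module.finrank ℂ V ∣ Z.index := by
  classical
  have := Fintype.ofFinite G
  have hpos : 0 < Module.finrank ℂ V := by
    obtain ⟨d, hd, e⟩ := irr_degree_pos (isIrrCharacter_character ρ)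
    rw [ρ.char_one] at e
    exact (Nat.cast_inj.mp e) ▸ hd
  set d := Module.finrank ℂ V
  have hd0 : (d : ℂ) ≠ 0 := Nat.cast_ne_zero.mpr hpos.ne'
  have hG : (Nat.card G : ℂ) ≠ 0 := Nat.cast_ne_zero.mpr Nat.card_pos.ne'
  -- central elements act by scalars
  have hscal : ∀ z : Z, ∃ ω : ℂ, ρ z = ω • (LinearMap.id : V →ₗ[ℂ] V) := by
    intro z
    let T : Representation.IntertwiningMap ρ ρ := ⟨ρ z, fun k => by
      show ρ z * ρ k = ρ k * ρ z
      rw [← map_mul, ← map_mul, Subgroup.mem_center_iff.mp (hZ z.2) k]⟩
    obtain ⟨ω, hω⟩ := (Representation.IsIrreducible.algebraMap_intertwiningMap_bijective_of_isAlgClosed).2 T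
    exact ⟨ω, LinearMap.ext fun v => by
      have := congrArg (fun S : Representation.IntertwiningMap ρ ρ => S v) hω
      simpa [T] using this.symm⟩
  choose ω hω using hscal
  have hchar : ∀ (z : Z) (g : G), ρ.character ((z : G) * g) = ω z * ρ.character g := fun z g => by
    simp [Representation.character, map_mul, hω, ← Module.End.one_eq_id]
  have hnorm : ∀ z : Z, ω z * conj (ω z) = 1 := by
    intro z
    have h1 : ρ.character ((z : G)⁻¹) * ω z = d := by
      have := hchar z (z : G)⁻¹
      rw [mul_inv_cancel, ρ.char_one] at this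
      rw [this]; ring
    have h2 : ρ.character (z : G) = ω z * d := by
      simpa [ρ.char_one] using hchar z 1
    rw [← conj_char, h2, map_mul, Complex.conj_natCast] at h1
    exact mul_right_cancel₀ hd0 ((by linear_combination h1 : ω z * conj (ω z) * (d : ℂ) = 1 * d))
  -- the action of `Z` on classes
  let act : MulAction Z (ConjClasses G) :=
    { smul := fun z => Quotient.map (fun g => (z : G) * g) fun a b h => by
        obtain ⟨c, hc⟩ := isConj_iff.mp h
        refine isConj_iff.mpr ⟨c, ?_⟩
        rw [← hc, ← mul_assoc c, Subgroup.mem_center_iff.mp (hZ z.2) c]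
        simp [mul_assoc]
      one_smul := fun C => by
        induction C using Quotient.inductionOn with
        | h g => exact congrArg ConjClasses.mk (one_mul g)
      mul_smul := fun a b C => by
        induction C using Quotient.inductionOn with
        | h g => exact congrArg ConjClasses.mk (mul_assoc _ _ g) }
  have hmk : ∀ (z : Z) (g : G), z • ConjClasses.mk g = ConjClasses.mk ((z : G) * g) :=
    fun _ _ => rfl
  let f : G → ℂ := fun g => (Nat.card {x : G // IsConj g x} : ℂ) * ρ.character g / (d : ℂ) *
    conj (ρ.character g)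
  have hf : ∀ a b : G, IsConj a b → f a = f b := by
    intro a b h
    have e : Nat.card {x : G // IsConj a x} = Nat.card {x : G // IsConj b x} :=
      Nat.card_congr (Equiv.subtypeEquivRight fun x =>
        ⟨fun hx => h.symm.trans hx, fun hx => h.trans hx⟩)
    simp only [f, e, isClassFunction_iff_isConj.mp
      (isClassFunction_char (isCharacter_character ρ)) a b h]
  have hfz : ∀ (z : Z) (g : G), f ((z : G) * g) = f g := by
    intro z g
    have e : Nat.card {x : G // IsConj ((z : G) * g) x} = Nat.card {x : G // IsConj g x} := by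
      have hcomm : ∀ c : G, c * (z : G) = (z : G) * c := Subgroup.mem_center_iff.mp (hZ z.2)
      symm
      refine Nat.card_congr
        { toFun := fun x => ⟨(z : G) * x, ?_⟩
          invFun := fun x => ⟨(z : G)⁻¹ * x, ?_⟩
          left_inv := fun x => Subtype.ext (by simp)
          right_inv := fun x => Subtype.ext (by simp) }
      · obtain ⟨c, hc⟩ := isConj_iff.mp x.2
        exact isConj_iff.mpr ⟨c, by rw [← hc, ← mul_assoc c, hcomm c]; simp [mul_assoc]⟩
      · obtain ⟨c, hc⟩ := isConj_iff.mp x.2
        refine isConj_iff.mpr ⟨c, ?_⟩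
        rw [← hc, ← mul_assoc c, hcomm c]
        simp [mul_assoc]
    simp only [f, e, hchar, map_mul]
    linear_combination (Nat.card {x : G // IsConj g x} : ℂ) * ρ.character g / (d : ℂ) *
      conj (ρ.character g) * hnorm z
  let F : ConjClasses G → ℂ := fun C => f C.out
  have hF : ∀ g, F (ConjClasses.mk g) = f g := fun g =>
    hf _ _ (ConjClasses.mk_eq_mk_iff_isConj.mp (Quotient.out_eq _))
  obtain ⟨s, hs, hsum⟩ := sum_eq_card_mul (Z := Z) F
    (fun z C => by
      obtain ⟨g, rfl⟩ := ConjClasses.mk_surjective C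
      rw [hmk, hF, hF, hfz])
    (fun C hC z hz => by
      obtain ⟨g, rfl⟩ := ConjClasses.mk_surjective C
      rw [hmk, ConjClasses.mk_eq_mk_iff_isConj] at hz
      rw [hF] at hC
      have hne : ρ.character g ≠ 0 := fun e => hC (by simp [f, e])
      have e1 := isClassFunction_iff_isConj.mp
        (isClassFunction_char (isCharacter_character ρ)) _ _ hz
      rw [hchar] at e1
      have hω1 : ω z = 1 := mul_right_cancel₀ hne (e1.trans (one_mul _).symm)
      exact Subtype.ext (hinj (by
        rw [hω z, hω1, one_smul, OneMemClass.coe_one, map_one, Module.End.one_eq_id])))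
    (fun C => (isIntegral_centralChar ρ _).mul (by rw [conj_char]; exact isIntegral_character ρ _))
  have htot : ∑ C, F C = (Nat.card G : ℂ) / d := by
    have h1 := classInner_irr_self (isIrrCharacter_character ρ)
    simp only [classInner] at h1
    rw [inv_mul_eq_one₀ hG] at h1
    rw [h1, Finset.sum_div, ← Finset.sum_fiberwise Finset.univ (ConjClasses.mk : G → ConjClasses G)]
    refine Finset.sum_congr rfl fun C _ => ?_
    obtain ⟨g, rfl⟩ := ConjClasses.mk_surjective C
    rw [hF, Finset.sum_congr rfl fun x hx => ?_, Finset.sum_const, nsmul_eq_mul]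
    rotate_left
    · exact ρ.character g * conj (ρ.character g) / d
    · rw [isClassFunction_iff_isConj.mp (isClassFunction_char (isCharacter_character ρ)) g x
        (ConjClasses.mk_eq_mk_iff_isConj.mp (Finset.mem_filter.mp hx).2).symm]
    have hcl : (Finset.univ.filter fun x => ConjClasses.mk x = ConjClasses.mk g).card =
        Nat.card {x : G // IsConj g x} := by
      rw [Nat.card_eq_fintype_card, Fintype.card_subtype]
      congr 1
      ext x
      simp only [Finset.mem_filter, Finset.mem_univ, true_and, ConjClasses.mk_eq_mk_iff_isConj]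
      exact isConj_comm
    rw [hcl]
    simp only [f]
    ring
  have hidx : (Nat.card G : ℂ) = (Nat.card Z : ℂ) * (Z.index : ℂ) := by
    rw [← Nat.cast_mul, Subgroup.card_mul_index]
  rw [htot, hidx, mul_div_assoc] at hsum
  have hs' : s = (((Z.index : ℚ) / d : ℚ) : ℂ) := by
    rw [← mul_left_cancel₀ (Nat.cast_ne_zero.mpr (Nat.card_pos (α := Z)).ne') hsum]
    push_cast
    ring
  obtain ⟨m, hm⟩ := exists_int_of_isIntegral_ratCast (hs' ▸ hs)
  rw [div_eq_iff (Nat.cast_ne_zero.mpr hpos.ne')] at hm
  have : (d : ℤ) ∣ (Z.index : ℤ) := ⟨m, by rw [mul_comm]; exact_mod_cast hm⟩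
  exact_mod_cast this

/-- The degree of an irreducible representation divides the index of any subgroup acting by
scalars. -/
theorem degree_dvd_index_of_scalar (ρ : Representation ℂ G V) [hρ : ρ.IsIrreducible]
    (Z : Subgroup G) (hZ : ∀ z ∈ Z, ∃ ω : ℂ, ρ z = ω • (LinearMap.id : V →ₗ[ℂ] V)) :
    Module.finrank ℂ V ∣ Z.index := by
  let σ : Representation ℂ (G ⧸ MonoidHom.ker ρ) V := QuotientGroup.lift _ ρ le_rfl
  have hinj : Function.Injective σ := by
    intro x y h
    obtain ⟨a, rfl⟩ := QuotientGroup.mk_surjective x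
    obtain ⟨b, rfl⟩ := QuotientGroup.mk_surjective y
    have h' : ρ a = ρ b := h
    apply QuotientGroup.eq.mpr
    show ρ (a⁻¹ * b) = 1
    rw [map_mul, ← h', ← map_mul, inv_mul_cancel, map_one]
  let e : Subrepresentation σ ≃o Subrepresentation ρ :=
    { toFun := fun p => ⟨p.toSubmodule, fun x _ hv =>
        p.apply_mem_toSubmodule (x : G ⧸ MonoidHom.ker ρ) hv⟩
      invFun := fun q => ⟨q.toSubmodule, fun g v hv => by
        obtain ⟨x, rfl⟩ := QuotientGroup.mk_surjective g
        exact q.apply_mem_toSubmodule x hv⟩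
      left_inv := fun _ => rfl
      right_inv := fun _ => rfl
      map_rel_iff' := Iff.rfl }
  have hσ : σ.IsIrreducible := (OrderIso.isSimpleOrder_iff e).mpr hρ
  have hc : Z.map (QuotientGroup.mk' _) ≤ Subgroup.center (G ⧸ MonoidHom.ker ρ) := by
    rintro _ ⟨z, hz, rfl⟩
    rw [Subgroup.mem_center_iff]
    intro y
    obtain ⟨b, rfl⟩ := QuotientGroup.mk_surjective y
    obtain ⟨ω, hω⟩ := hZ z hz
    apply hinj
    show ρ (b * z) = ρ (z * b)
    simp [map_mul, hω, ← Module.End.one_eq_id]
  exact (degree_dvd_index_of_central σ hinj _ hc).trans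
    (Subgroup.index_map_dvd _ (QuotientGroup.mk'_surjective _))

theorem exists_scalar_of_mem_center (ρ : Representation ℂ G V) [ρ.IsIrreducible] {z : G}
    (hz : z ∈ Subgroup.center G) : ∃ ω : ℂ, ρ z = ω • (LinearMap.id : V →ₗ[ℂ] V) := by
  let T : Representation.IntertwiningMap ρ ρ := ⟨ρ z, fun k => by
    show ρ z * ρ k = ρ k * ρ z
    rw [← map_mul, ← map_mul, Subgroup.mem_center_iff.mp hz k]⟩
  obtain ⟨ω, hω⟩ := (Representation.IsIrreducible.algebraMap_intertwiningMap_bijective_of_isAlgClosed).2 T
  exact ⟨ω, LinearMap.ext fun v => by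
    have := congrArg (fun S : Representation.IntertwiningMap ρ ρ => S v) hω
    simpa [T] using this.symm⟩

theorem degree_dvd_index_center (ρ : Representation ℂ G V) [ρ.IsIrreducible] :
    Module.finrank ℂ V ∣ (Subgroup.center G).index :=
  degree_dvd_index_of_scalar ρ _ fun _ => exists_scalar_of_mem_center ρ

/-- The degree is at most the index of an abelian subgroup. -/
theorem degree_le_index_of_abelian (ρ : Representation ℂ G V) [ρ.IsIrreducible] (A : Subgroup G)
    (hA : ∀ a ∈ A, ∀ b ∈ A, a * b = b * a) : Module.finrank ℂ V ≤ A.index := by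
  have := Fintype.ofFinite G
  have := Fintype.ofFinite A
  have hirr := isIrrCharacter_character ρ
  obtain ⟨θ, hθ, hne⟩ := exists_constituent (isCharacter_restrict (isCharacter_of_irr hirr) A)
    (fun e => irr_ne_zero hirr (congrFun e 1))
  rw [← frobenius_reciprocity' A θ (isClassFunction_irr hirr), ← classInner_comm] at hne
  have hne' : classInner (indFun A θ) ρ.character ≠ 0 := fun e => hne (by rw [e, map_zero])
  obtain ⟨m, hm⟩ := char_one_eq_natCast
    (isCharacter_sub_irr (isCharacter_indFun A (isCharacter_of_irr hθ)) hirr hne')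
  rw [Pi.sub_apply, indFun_apply_one, ρ.char_one,
    degree_one_of_commutative (fun a b => Subtype.ext (hA a a.2 b b.2)) hθ, mul_one] at hm
  have : A.index = Module.finrank ℂ V + m := by
    exact_mod_cast (by linear_combination hm : (A.index : ℂ) = Module.finrank ℂ V + m)
  omega

/-- Ito's theorem. -/
theorem degree_dvd_index_of_abelian_normal (ρ : Representation ℂ G V) [ρ.IsIrreducible]
    (A : Subgroup G) [A.Normal] (hA : ∀ a ∈ A, ∀ b ∈ A, a * b = b * a) :
    Module.finrank ℂ V ∣ A.index := by
  classical
  have := Fintype.ofFinite G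
  have := Fintype.ofFinite A
  have hirr := isIrrCharacter_character ρ
  obtain ⟨θ, hθ, hne⟩ := exists_constituent (isCharacter_restrict (isCharacter_of_irr hirr) A)
    (fun e => irr_ne_zero hirr (congrFun e 1))
  have hθ1 := degree_one_of_commutative (fun a b => Subtype.ext (hA a a.2 b b.2)) hθ
  have hAT := le_inertia A (isClassFunction_irr hθ)
  have := Fintype.ofFinite (inertia A θ)
  obtain ⟨ψ, hψ, hc, hind⟩ := exists_clifford_pre A hθ hAT rfl hirr hne
  have hres := res_of_inertia A hθ hAT le_rfl hψ hc
  obtain ⟨φ, hφ⟩ := exists_hom_of_degree_one (isCharacter_of_irr hθ) hθ1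
  obtain ⟨n, σ, hσ, rfl⟩ := hψ
  have h1 := congrFun hind 1
  rw [indFun_apply_one, Representation.char_one, Representation.char_one, ← Nat.cast_mul,
    Nat.cast_inj] at h1
  have hdvd : Module.finrank ℂ (Fin n → ℂ) ∣ (A.subgroupOf (inertia A θ)).index := by
    refine degree_dvd_index_of_scalar σ _ fun z hz => ?_
    rw [← norm_character_eq_iff, ← Complex.norm_natCast, ← σ.char_one]
    have e1 := congrFun hres ⟨(z : G), Subgroup.mem_subgroupOf.mp hz⟩
    have e2 := congrFun hres 1
    simp only [Pi.smul_apply, smul_eq_mul] at e1 e2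
    rw [hθ1] at e2
    rw [show σ.character 1 = σ.character ⟨((1 : A) : G), hAT (1 : A).2⟩ from rfl, e2]
    refine (congrArg norm e1).trans ?_
    rw [norm_mul, norm_mul, norm_one]
    congr 1
    rw [congrFun hφ]
    refine Complex.norm_eq_one_of_pow_eq_one (n := Nat.card A) ?_ Nat.card_pos.ne'
    rw [← Units.val_pow_eq_pow_val, ← map_pow, pow_card_eq_one', map_one, Units.val_one]
  rw [← h1, ← Subgroup.relIndex_mul_index hAT, mul_comm]
  exact Nat.mul_dvd_mul_right hdvd _

end CfsgLib.CharTheory
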