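/-
Ordinary character theory, part 12: Schur's lemma in trace form, and products of classes.
-/
import Cfsg.Agent.Lib.CharTheory.Linear

namespace CfsgLib.CharTheory

open Cfsg
open scoped ComplexConjugate

universe u v

variable {G : Type u} [Group G]
variable {V : Type v} [AddCommGroup V] [Module ℂ V] [FiniteDimensional ℂ V]

/-- An endomorphism commuting with an irreducible representation is a scalar. -/
theorem eq_smul_id_of_commute (ρ : Representation ℂ G V) [ρ.IsIrreducible] (T : Module.End ℂ V)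
    (h : ∀ k : G, T * ρ k = ρ k * T) :
    T = (LinearMap.trace ℂ V T / (Module.finrank ℂ V : ℂ)) • 1 := by
  let T' : Representation.IntertwiningMap ρ ρ := ⟨T, h⟩
  obtain ⟨c, hc⟩ :=
    (Representation.IsIrreducible.algebraMap_intertwiningMap_bijective_of_isAlgClosed).2 T'
  have hc' : T = algebraMap ℂ (Module.End ℂ V) c := by
    show T'.toLinearMap = _
    rw [← hc]; rfl
  have hne : Nontrivial V := by
    by_contra hs
    rw [not_nontrivial_iff_subsingleton] at hs
    exact bot_ne_top (α := Subrepresentation ρ)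
      (Subrepresentation.toSubmodule_injective (Subsingleton.elim _ _))
  have hdim : (Module.finrank ℂ V : ℂ) ≠ 0 := Nat.cast_ne_zero.mpr Module.finrank_pos.ne'
  rw [hc', Algebra.algebraMap_eq_smul_one, map_smul, LinearMap.trace_one, smul_eq_mul,
    mul_div_cancel_right₀ _ hdim]

/-- A conjugation invariant combination of the `ρ x` is a scalar. -/
theorem sum_smul_eq_smul_one [Fintype G] (ρ : Representation ℂ G V) [ρ.IsIrreducible]
    {f : G → ℂ} (hf : IsClassFunction G f) :
    ∑ x : G, f x • ρ x = ((∑ x : G, f x * ρ.character x) / (Module.finrank ℂ V : ℂ)) • 1 := by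
  have h := eq_smul_id_of_commute ρ (∑ x : G, f x • ρ x) fun k => by
    rw [Finset.sum_mul, Finset.mul_sum]
    refine Fintype.sum_equiv (MulAut.conj k⁻¹).toEquiv _ _ fun x => ?_
    show f x • ρ x * ρ k = ρ k * (f (k⁻¹ * x * k⁻¹⁻¹) • ρ (k⁻¹ * x * k⁻¹⁻¹))
    rw [hf x k⁻¹, smul_mul_assoc, mul_smul_comm, ← map_mul, ← map_mul]
    congr 2
    group
  rw [h, map_sum]
  congr 2
  exact Finset.sum_congr rfl fun x _ => by rw [map_smul, smul_eq_mul]; rfl

theorem sum_class_eq [Fintype G] (ρ : Representation ℂ G V) [ρ.IsIrreducible] (a : G)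
    [DecidablePred fun x => IsConj a x] :
    ∑ x ∈ Finset.univ.filter (fun x => IsConj a x), ρ x =
      ((Nat.card {x : G // IsConj a x} : ℂ) * ρ.character a / (Module.finrank ℂ V : ℂ)) • 1 := by
  classical
  have h := sum_smul_eq_smul_one ρ (f := fun x => if IsConj a x then 1 else 0) fun x k => by
    have hx : IsConj x (k * x * k⁻¹) := isConj_iff.mpr ⟨k, rfl⟩
    simp only
    exact if_congr ⟨fun h => h.trans hx.symm, fun h => h.trans hx⟩ rfl rfl
  simp only [ite_smul, one_smul, zero_smul, ite_mul, one_mul, zero_mul] at h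
  rw [← Finset.sum_filter, ← Finset.sum_filter] at h
  rw [h]
  congr 2
  rw [Finset.sum_congr rfl fun x hx => (isClassFunction_iff_isConj.mp
      (isClassFunction_char (isCharacter_character ρ)) a x (Finset.mem_filter.mp hx).2).symm,
    Finset.sum_const, nsmul_eq_mul, Nat.card_eq_fintype_card, Fintype.card_subtype]

/-- Class sums against a character. -/
theorem sum_class_class_char [Fintype G] {χ : G → ℂ} (hχ : IsIrrCharacter G χ) (a b c : G)
    [DecidablePred fun x => IsConj a x] [DecidablePred fun x => IsConj b x] :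
    ∑ x ∈ Finset.univ.filter (fun x => IsConj a x),
      ∑ y ∈ Finset.univ.filter (fun y => IsConj b y), χ (x * y * c) =
    (Nat.card {x : G // IsConj a x} : ℂ) * (Nat.card {x : G // IsConj b x} : ℂ) *
      (χ a * χ b * χ c) / χ 1 ^ 2 := by
  obtain ⟨n, ρ, hρ, rfl⟩ := hχ
  have h : ∀ x y : G, ρ.character (x * y * c) = LinearMap.trace ℂ _ (ρ x * ρ y * ρ c) :=
    fun x y => by rw [← map_mul, ← map_mul]; rfl
  simp only [h, ← map_sum]
  rw [show (∑ x ∈ Finset.univ.filter (fun x => IsConj a x),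
      ∑ y ∈ Finset.univ.filter (fun y => IsConj b y), ρ x * ρ y * ρ c) =
      (∑ x ∈ Finset.univ.filter (fun x => IsConj a x), ρ x) *
      (∑ y ∈ Finset.univ.filter (fun y => IsConj b y), ρ y) * ρ c by
    simp only [Finset.sum_mul, Finset.mul_sum]
    exact Finset.sum_comm]
  rw [sum_class_eq ρ a, sum_class_eq ρ b, ρ.char_one]
  simp only [smul_mul_assoc, one_mul, map_smul, smul_eq_mul]
  rw [show LinearMap.trace ℂ _ (ρ c) = ρ.character c from rfl]
  ring

/-- Averaging over conjugates. -/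
theorem sum_conj_mul_char [Fintype G] {χ : G → ℂ} (hχ : IsIrrCharacter G χ) (b y : G) :
    ∑ a : G, χ (a * b * a⁻¹ * y) = (Nat.card G : ℂ) * (χ b * χ y) / χ 1 := by
  classical
  obtain ⟨n, ρ, hρ, rfl⟩ := hχ
  have h : ∀ a : G, ρ.character (a * b * a⁻¹ * y) =
      LinearMap.trace ℂ _ (ρ (a * b * a⁻¹) * ρ y) := fun a => by rw [← map_mul]; rfl
  simp only [h, ← map_sum, ← Finset.sum_mul]
  rw [eq_smul_id_of_commute ρ (∑ a : G, ρ (a * b * a⁻¹)) fun k => by
    rw [Finset.sum_mul, Finset.mul_sum]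
    refine Fintype.sum_equiv (Equiv.mulLeft k⁻¹) _ _ fun a => ?_
    rw [← map_mul, ← map_mul]
    congr 1
    show a * b * a⁻¹ * k = k * (k⁻¹ * a * b * (k⁻¹ * a)⁻¹)
    group]
  simp only [smul_mul_assoc, one_mul, map_smul, smul_eq_mul, map_sum]
  rw [show LinearMap.trace ℂ _ (ρ y) = ρ.character y from rfl, ρ.char_one,
    show ∑ a : G, LinearMap.trace ℂ (Fin n → ℂ) (ρ (a * b * a⁻¹)) = ∑ _a : G, ρ.character b from
      Finset.sum_congr rfl fun a _ => ρ.char_conj b a,
    Finset.sum_const, nsmul_eq_mul, Finset.card_univ, Nat.card_eq_fintype_card]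
  ring

/-- Convolution of an irreducible character with itself. -/
theorem sum_char_mul_char [Fintype G] {χ : G → ℂ} (hχ : IsIrrCharacter G χ) (h : G) :
    ∑ b : G, χ b * χ (b⁻¹ * h) = (Nat.card G : ℂ) * χ h / χ 1 := by
  classical
  obtain ⟨n, ρ, hρ, rfl⟩ := hχ
  have hc := isClassFunction_char (isCharacter_character ρ)
  have hrev : ∑ b : G, ρ.character b * ρ.character (b⁻¹ * h) =
      ∑ x : G, ρ.character x⁻¹ * ρ.character (x * h) :=
    Fintype.sum_equiv (Equiv.inv G) _ _ fun b => by simp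
  rw [hrev]
  have h1 : ∀ x : G, ρ.character x⁻¹ * ρ.character (x * h) =
      LinearMap.trace ℂ _ ((ρ.character x⁻¹ • ρ x) * ρ h) := fun x => by
    rw [smul_mul_assoc, map_smul, smul_eq_mul, ← map_mul]; rfl
  simp only [h1, ← map_sum, ← Finset.sum_mul]
  rw [sum_smul_eq_smul_one ρ (f := fun x => ρ.character x⁻¹) fun x k => by
    show ρ.character (k * x * k⁻¹)⁻¹ = ρ.character x⁻¹
    rw [show (k * x * k⁻¹)⁻¹ = k * x⁻¹ * k⁻¹ by group, hc]]
  have hsum : ∑ x : G, ρ.character x⁻¹ * ρ.character x = (Nat.card G : ℂ) := by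
    have h1 := classInner_irr_self (isIrrCharacter_character ρ)
    simp only [classInner] at h1
    rw [inv_mul_eq_one₀ (Nat.cast_ne_zero.mpr Nat.card_pos.ne')] at h1
    rw [h1]
    exact Finset.sum_congr rfl fun x _ => by rw [conj_char, mul_comm]
  rw [hsum, smul_mul_assoc, one_mul, map_smul, smul_eq_mul, ρ.char_one,
    show LinearMap.trace ℂ _ (ρ h) = ρ.character h from rfl]
  ring

/-- The number of commutator expressions of an element. -/
theorem card_commutator_pairs [Fintype G] (g : G) :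
    (Nat.card {p : G × G // p.1 * p.2 * p.1⁻¹ * p.2⁻¹ = g} : ℂ) =
      (Nat.card G : ℂ) * ∑ χ : IrrCharacter G, conj ((χ : G → ℂ) g) / (χ : G → ℂ) 1 := by
  classical
  have hG : (Nat.card G : ℂ) ≠ 0 := Nat.cast_ne_zero.mpr Nat.card_pos.ne'
  apply mul_left_cancel₀ hG
  rw [Nat.card_eq_fintype_card (α := {p : G × G // _}), Fintype.card_subtype, Finset.mul_sum,
    Finset.mul_sum, ← Finset.sum_boole, Finset.mul_sum]
  have hind : ∀ p : G × G, (Nat.card G : ℂ) *
      (if p.1 * p.2 * p.1⁻¹ * p.2⁻¹ = g then (1 : ℂ) else 0) =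
      ∑ χ : IrrCharacter G, (χ : G → ℂ) (p.1 * p.2 * p.1⁻¹ * p.2⁻¹ * g⁻¹) * (χ : G → ℂ) 1 := by
    intro p
    rw [sum_irr_apply_mul_degree, mul_ite, mul_one, mul_zero]
    exact if_congr mul_inv_eq_one.symm rfl rfl
  simp only [hind]
  rw [Finset.sum_comm]
  refine Finset.sum_congr rfl fun χ _ => ?_
  rw [← Finset.sum_mul, Fintype.sum_prod_type_right]
  have hne : (χ : G → ℂ) 1 ≠ 0 := irr_ne_zero χ.2
  simp only [mul_assoc _ _ g⁻¹, sum_conj_mul_char χ.2]
  rw [← Finset.sum_div, ← Finset.mul_sum, sum_char_mul_char χ.2,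
    char_apply_inv (isCharacter_of_irr χ.2)]
  field_simp

end CfsgLib.CharTheory
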