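/-
Ordinary character theory, part 16: averages over cosets and the correspondence of Gallagher.
-/
import Cfsg.Agent.Lib.CharTheory.Clifford
import Cfsg.Agent.Lib.CharTheory.Schur

namespace CfsgLib.CharTheory

open Cfsg
open scoped ComplexConjugate

universe u

variable {G : Type u} [Group G] [Fintype G] (N : Subgroup G) [hN : N.Normal] [Fintype N]

/-- The average over cosets of a normal subgroup. -/
noncomputable def cosetAvg (f : G → ℂ) : G → ℂ :=
  fun g => (Nat.card N : ℂ)⁻¹ * ∑ n : N, f ((n : G) * g)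

omit [Fintype G] hN in
theorem cosetAvg_mul_left (f : G → ℂ) (m : N) (g : G) :
    cosetAvg N f ((m : G) * g) = cosetAvg N f g := by
  simp only [cosetAvg]
  congr 1
  exact Fintype.sum_equiv (Equiv.mulRight m) _ _ fun n => by simp [mul_assoc]

omit [Fintype G] in
theorem isClassFunction_cosetAvg {f : G → ℂ} (hf : IsClassFunction G f) :
    IsClassFunction G (cosetAvg N f) := by
  intro g h
  simp only [cosetAvg]
  congr 1
  refine Fintype.sum_equiv (MulAut.conjNormal h⁻¹ : N ≃* N).toEquiv _ _ fun n => ?_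
  show f ((n : G) * (h * g * h⁻¹)) = f (((MulAut.conjNormal h⁻¹ : N ≃* N) n : G) * g)
  rw [MulAut.conjNormal_apply]
  refine Eq.trans ?_ (hf _ h)
  congr 1
  group

omit hN in
theorem classInner_cosetAvg_left (f : G → ℂ) {β : G → ℂ}
    (hβ : ∀ (n : N) (g : G), β ((n : G) * g) = β g) :
    classInner (cosetAvg N f) β = classInner f β := by
  simp only [classInner, cosetAvg, Finset.mul_sum, Finset.sum_mul]
  rw [Finset.sum_comm]
  have e : ∀ n : N, ∑ g : G, (Nat.card G : ℂ)⁻¹ * ((Nat.card N : ℂ)⁻¹ * f ((n : G) * g) * conj (β g)) =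
      ∑ g : G, (Nat.card N : ℂ)⁻¹ * ((Nat.card G : ℂ)⁻¹ * (f g * conj (β g))) := fun n =>
    Fintype.sum_equiv (Equiv.mulLeft (n : G)) _ _ fun g => by
      show _ = (Nat.card N : ℂ)⁻¹ * ((Nat.card G : ℂ)⁻¹ * (f ((n : G) * g) * conj (β ((n : G) * g))))
      rw [hβ]; ring
  simp only [Finset.mul_sum, e, Finset.sum_const, Finset.card_univ, nsmul_eq_mul]
  refine Finset.sum_congr rfl fun g _ => ?_
  rw [← mul_assoc, Nat.card_eq_fintype_card,
    mul_inv_cancel₀ (Nat.cast_ne_zero.mpr Fintype.card_ne_zero), one_mul]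

omit hN [Fintype N] in
theorem apply_mul_of_kernel {α : G → ℂ} (hα : IsCharacter G α) (hk : ∀ n ∈ N, α n = α 1)
    (n : N) (g : G) : α ((n : G) * g) = α g := by
  obtain ⟨m, ρ, rfl⟩ := hα
  rw [Representation.character, Representation.character, map_mul,
    rep_apply_eq_one_of_char_eq ρ (hk n n.2), one_mul]

/-- Either the normal subgroup is in the kernel or the coset averages vanish. -/
theorem kernel_or_cosetAvg_eq_zero {α : G → ℂ} (hα : IsIrrCharacter G α) :
    (∀ n ∈ N, α n = α 1) ∨ cosetAvg N α = 0 := by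
  classical
  by_cases h : classInner (fun n : N => α n) (fun _ => 1) = 0
  · right
    obtain ⟨m, ρ, hρ, rfl⟩ := hα
    have hs : ∑ n : N, ρ (n : G) = 0 := by
      rw [eq_smul_id_of_commute ρ (∑ n : N, ρ (n : G)) fun k => by
        rw [Finset.sum_mul, Finset.mul_sum]
        refine Fintype.sum_equiv (MulAut.conjNormal k⁻¹ : N ≃* N).toEquiv _ _ fun n => ?_
        show ρ (n : G) * ρ k = ρ k * ρ (((MulAut.conjNormal k⁻¹ : N ≃* N) n : G))
        rw [MulAut.conjNormal_apply, ← map_mul, ← map_mul]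
        congr 1
        group]
      simp only [classInner, map_one, mul_one, mul_eq_zero, inv_eq_zero, Nat.cast_eq_zero,
        Nat.card_pos.ne', false_or] at h
      rw [map_sum, show (∑ n : N, LinearMap.trace ℂ (Fin m → ℂ) (ρ (n : G))) =
        ∑ n : N, ρ.character (n : G) from rfl, h, zero_div, zero_smul]
    funext g
    simp only [cosetAvg, Pi.zero_apply]
    rw [show (∑ n : N, ρ.character ((n : G) * g)) =
        LinearMap.trace ℂ (Fin m → ℂ) ((∑ n : N, ρ (n : G)) * ρ g) by
      rw [Finset.sum_mul, map_sum]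
      exact Finset.sum_congr rfl fun n _ => by rw [← map_mul]; rfl]
    rw [hs, zero_mul, map_zero, mul_zero]
  · left
    intro n hn
    have h2 := clifford_invariant N hα isIrrCharacter_one h fun g => rfl
    have e1 := congrFun h2 ⟨n, hn⟩
    have e2 := congrFun h2 1
    simp only [Pi.smul_apply] at e1 e2
    exact e1.trans e2.symm

theorem cosetAvg_irr_of_kernel {α : G → ℂ} (hα : IsCharacter G α) (hk : ∀ n ∈ N, α n = α 1) :
    cosetAvg N α = α := by
  funext g
  simp only [cosetAvg, apply_mul_of_kernel N hα hk, Finset.sum_const, Finset.card_univ,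
    nsmul_eq_mul, Nat.card_eq_fintype_card]
  rw [← mul_assoc, inv_mul_cancel₀ (Nat.cast_ne_zero.mpr Fintype.card_ne_zero), one_mul]

theorem isCharacter_cosetAvg {φ : G → ℂ} (hφ : IsCharacter G φ) :
    IsCharacter G (cosetAvg N φ) := by
  refine isCharacter_iff_coeff_nat.mpr
    ⟨isClassFunction_cosetAvg N (isClassFunction_char hφ), fun α hα => ?_⟩
  rcases kernel_or_cosetAvg_eq_zero N hα with hk | hz
  · rw [classInner_cosetAvg_left N φ (apply_mul_of_kernel N (isCharacter_of_irr hα) hk)]
    exact classInner_char_nat hφ (isCharacter_of_irr hα)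
  · refine ⟨0, ?_⟩
    rw [Nat.cast_zero, ← classInner_comm,
      ← classInner_cosetAvg_left N α (cosetAvg_mul_left N φ), hz, classInner_zero_left, map_zero]

omit hN in
/-- The product with an extension. -/
theorem indFun_mul_ext {φ : N → ℂ} {χ : G → ℂ} (hχ : IsClassFunction G χ) :
    indFun N (φ * fun n : N => χ n) = indFun N φ * χ := indFun_mul N φ hχ

theorem classInner_indFun_self_of_invariant {θ : N → ℂ} (hθ : IsIrrCharacter N θ)
    (hinv : ∀ g : G, conjNormFun N g θ = θ) :
    classInner (indFun N θ) (indFun N θ) = (N.index : ℂ) := by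
  have h := classInner_indFun_self N hθ
  have e : inertia N θ = ⊤ := eq_top_iff.mpr fun g _ => hinv g
  rw [e, Subgroup.card_top, ← Subgroup.card_mul_index N, Nat.cast_mul] at h
  exact mul_left_cancel₀ (Nat.cast_ne_zero.mpr (Nat.card_pos (α := N)).ne') h

/-- Multiplication by an extension of `θ` maps the characters over `φ` bijectively to those over
`φ * θ`. -/
theorem gallagher_general {φ : N → ℂ} (hφ : IsIrrCharacter N φ)
    (hφinv : ∀ g : G, conjNormFun N g φ = φ) {χ : G → ℂ} (hχ : IsCharacter G χ)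
    (hprod : IsIrrCharacter N (φ * fun n : N => χ n)) :
    (∀ β, IsIrrCharacter G β → classInner (indFun N φ) β ≠ 0 → IsIrrCharacter G (β * χ)) ∧
    (∀ β β', IsIrrCharacter G β → classInner (indFun N φ) β ≠ 0 → IsIrrCharacter G β' →
      classInner (indFun N φ) β' ≠ 0 → β * χ = β' * χ → β = β') ∧
    (∀ β, IsIrrCharacter G β → classInner (indFun N φ) β ≠ 0 →
      classInner (indFun N (φ * fun n : N => χ n)) (β * χ) ≠ 0) ∧
    ∀ ψ, IsIrrCharacter G ψ → classInner (indFun N (φ * fun n : N => χ n)) ψ ≠ 0 →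
      ∃ β, IsIrrCharacter G β ∧ classInner (indFun N φ) β ≠ 0 ∧ ψ = β * χ := by
  classical
  have hcφ := isCharacter_indFun N (isCharacter_of_irr hφ)
  choose e he using fun β : IrrCharacter G =>
    classInner_char_nat hcφ (isCharacter_of_irr β.2)
  have hprodinv : ∀ g : G, conjNormFun N g (φ * fun n : N => χ n) = φ * fun n : N => χ n := by
    intro g
    funext n
    show φ _ * χ (g * n * g⁻¹) = φ n * χ n
    rw [isClassFunction_char hχ n g]
    exact congrArg (· * χ n) (congrFun (hφinv g) n)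
  have hsum : indFun N (φ * fun n : N => χ n) =
      ∑ β : IrrCharacter G, (e β : ℂ) • ((β : G → ℂ) * χ) := by
    rw [indFun_mul N φ (isClassFunction_char hχ)]
    conv_lhs => rw [eq_sum_irr (isClassFunction_char hcφ)]
    rw [Finset.sum_mul]
    exact Finset.sum_congr rfl fun β _ => by rw [he, smul_mul_assoc]
  have hchar : ∀ β : IrrCharacter G, IsCharacter G ((β : G → ℂ) * χ) := fun β =>
    isCharacter_mul (isCharacter_of_irr β.2) hχ
  choose t ht using fun β β' : IrrCharacter G => classInner_char_nat (hchar β) (hchar β')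
  have he2 : ∑ β : IrrCharacter G, e β * e β = N.index := by
    have h := classInner_indFun_self_of_invariant N hφ hφinv
    rw [classInner_eq_sum_irr (isClassFunction_char hcφ)] at h
    have h' : ∑ β : IrrCharacter G, ((e β : ℂ) * (e β : ℂ)) = (N.index : ℂ) := by
      rw [← h]
      exact Finset.sum_congr rfl fun β _ => by
        rw [he, ← classInner_comm, he, Complex.conj_natCast]
    exact_mod_cast h'
  have hn : ∑ β : IrrCharacter G, ∑ β' : IrrCharacter G, e β * e β' * t β β' = N.index := by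
    have h := classInner_indFun_self_of_invariant N hprod hprodinv
    rw [hsum, classInner_sum_left] at h
    simp only [classInner_sum_right, classInner_smul_left, classInner_smul_right, ht,
      Complex.conj_natCast] at h
    have h' : ∑ β : IrrCharacter G, ∑ β' : IrrCharacter G, ((e β : ℂ) * e β' * t β β') =
        (N.index : ℂ) := by
      rw [← h]
      exact Finset.sum_congr rfl fun β _ => Finset.sum_congr rfl fun β' _ => by ring
    exact_mod_cast h'
  have hpos : ∀ β : IrrCharacter G, e β ≠ 0 → 1 ≤ t β β := by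
    intro β _
    refine Nat.one_le_iff_ne_zero.mpr fun h0 => ?_
    have hne : (β : G → ℂ) * χ ≠ 0 := fun h => by
      have h1 := congrFun h 1
      simp only [Pi.mul_apply, Pi.zero_apply, mul_eq_zero] at h1
      refine h1.elim (irr_ne_zero β.2) fun hχ1 => irr_ne_zero hprod ?_
      show φ 1 * χ ((1 : N) : G) = 0
      rw [show χ ((1 : N) : G) = 0 from hχ1, mul_zero]
    obtain ⟨γ, hγ, hc⟩ := exists_constituent (hchar β) hne
    exact classInner_ne_zero_of_common (hchar β) (hchar β) hγ hc hc (by rw [ht, h0, Nat.cast_zero])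
  have hrow : ∀ β : IrrCharacter G, e β * e β ≤ ∑ β' : IrrCharacter G, e β * e β' * t β β' := by
    intro β
    refine le_trans ?_ (Finset.single_le_sum (fun β' _ => Nat.zero_le _) (Finset.mem_univ β))
    rcases Nat.eq_zero_or_pos (e β) with h | h
    · simp [h]
    · exact Nat.le_mul_of_pos_right _ (hpos β h.ne')
  have heq := (Finset.sum_eq_sum_iff_of_le fun β _ => hrow β).mp (he2.trans hn.symm)
  have hdiag : ∀ β : IrrCharacter G, e β ≠ 0 → t β β = 1 := by
    intro β hβ
    have h1 := hpos β hβ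
    have h2 : e β * e β * t β β ≤ e β * e β :=
      le_of_le_of_eq (Finset.single_le_sum (f := fun β' => e β * e β' * t β β')
        (fun β' _ => Nat.zero_le _) (Finset.mem_univ β)) (heq β (Finset.mem_univ _)).symm
    have : 0 < e β * e β := Nat.mul_pos (Nat.pos_of_ne_zero hβ) (Nat.pos_of_ne_zero hβ)
    by_contra hne
    have : e β * e β * 2 ≤ e β * e β * t β β := Nat.mul_le_mul_left _ (by omega)
    omega
  have hoff : ∀ β β' : IrrCharacter G, β ≠ β' → e β ≠ 0 → e β' ≠ 0 → t β β' = 0 := by
    intro β β' hne hβ hβ'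
    have h := heq β (Finset.mem_univ _)
    rw [← Finset.add_sum_erase _ _ (Finset.mem_univ β), hdiag β hβ, mul_one] at h
    have h0 : ∑ γ ∈ Finset.univ.erase β, e β * e γ * t β γ = 0 := by omega
    have := (Finset.sum_eq_zero_iff.mp h0) β' (Finset.mem_erase.mpr ⟨hne.symm, Finset.mem_univ _⟩)
    rcases mul_eq_zero.mp this with h1 | h1
    · exact absurd (mul_eq_zero.mp h1) (not_or.mpr ⟨hβ, hβ'⟩)
    · exact h1
  have hene : ∀ β : IrrCharacter G, classInner (indFun N φ) (β : G → ℂ) ≠ 0 → e β ≠ 0 :=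
    fun β h h0 => h (by rw [he, h0, Nat.cast_zero])
  have hirr : ∀ β : IrrCharacter G, e β ≠ 0 → IsIrrCharacter G ((β : G → ℂ) * χ) := fun β h =>
    irr_of_char_norm_one (hchar β) (by rw [ht, hdiag β h, Nat.cast_one])
  refine ⟨fun β hβ h => hirr ⟨β, hβ⟩ (hene ⟨β, hβ⟩ h), fun β β' hβ h hβ' h' heq' => ?_,
    fun β hβ h => ?_, fun ψ hψ h => ?_⟩
  · by_contra hne
    have h1 := hoff ⟨β, hβ⟩ ⟨β', hβ'⟩ (fun q => hne (congrArg Subtype.val q))
      (hene ⟨β, hβ⟩ h) (hene ⟨β', hβ'⟩ h')
    have h2 : classInner (β * χ) (β' * χ) = 0 := by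
      rw [show classInner (β * χ) (β' * χ) = (t ⟨β, hβ⟩ ⟨β', hβ'⟩ : ℂ) from ht ⟨β, hβ⟩ ⟨β', hβ'⟩,
        h1, Nat.cast_zero]
    rw [heq', classInner_irr_self (hirr ⟨β', hβ'⟩ (hene ⟨β', hβ'⟩ h'))] at h2
    exact one_ne_zero h2
  · have hb := hene ⟨β, hβ⟩ h
    rw [hsum, classInner_sum_left, Finset.sum_eq_single (⟨β, hβ⟩ : IrrCharacter G)]
    · rw [classInner_smul_left, classInner_irr_self (hirr ⟨β, hβ⟩ hb), mul_one]
      exact Nat.cast_ne_zero.mpr hb
    · intro γ _ hne
      by_cases hγ : e γ = 0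
      · rw [hγ, Nat.cast_zero, zero_smul, classInner_zero_left]
      · rw [classInner_smul_left, show classInner ((γ : G → ℂ) * χ) (β * χ) = (t γ ⟨β, hβ⟩ : ℂ) from
          ht γ ⟨β, hβ⟩, hoff γ ⟨β, hβ⟩ hne hγ hb, Nat.cast_zero, mul_zero]
    · exact fun hn => absurd (Finset.mem_univ _) hn
  · by_contra hno
    push Not at hno
    refine h ?_
    rw [hsum, classInner_sum_left]
    refine Finset.sum_eq_zero fun β _ => ?_
    rw [classInner_smul_left]
    by_cases hβ : e β = 0
    · rw [hβ, Nat.cast_zero, zero_mul]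
    · rw [classInner_irr_ne (hirr β hβ) hψ fun q => hno β β.2
        (by rw [he]; exact Nat.cast_ne_zero.mpr hβ) q.symm, mul_zero]

theorem classInner_indFun_one_ne_zero_iff {β : G → ℂ} (hβ : IsIrrCharacter G β) :
    classInner (indFun N (fun _ => (1 : ℂ))) β ≠ 0 ↔ ∀ n ∈ N, β n = β 1 := by
  rw [frobenius_reciprocity N _ (isClassFunction_irr hβ), ← classInner_comm, map_ne_zero]
  constructor
  · intro h n hn
    have h2 := clifford_invariant N hβ isIrrCharacter_one h fun g => rfl
    have e1 := congrFun h2 ⟨n, hn⟩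
    have e2 := congrFun h2 1
    simp only [Pi.smul_apply] at e1 e2
    exact e1.trans e2.symm
  · intro h
    rw [show (fun n : N => β n) = β 1 • fun _ => (1 : ℂ) from funext fun n => by simp [h n n.2],
      classInner_smul_left, classInner_irr_self isIrrCharacter_one, mul_one]
    exact irr_ne_zero hβ

/-- Gallagher's theorem. -/
theorem gallagher {χ : G → ℂ} (hχ : IsCharacter G χ) (hres : IsIrrCharacter N (fun n : N => χ n)) :
    (∀ β, IsIrrCharacter G β → (∀ n ∈ N, β n = β 1) → IsIrrCharacter G (β * χ)) ∧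
    (∀ β β', IsIrrCharacter G β → (∀ n ∈ N, β n = β 1) → IsIrrCharacter G β' →
      (∀ n ∈ N, β' n = β' 1) → β * χ = β' * χ → β = β') ∧
    ∀ ψ, IsIrrCharacter G ψ → classInner (fun n : N => ψ n) (fun n : N => χ n) ≠ 0 →
      ∃ β, IsIrrCharacter G β ∧ (∀ n ∈ N, β n = β 1) ∧ ψ = β * χ := by
  have hmul : ((fun _ => 1 : N → ℂ) * fun n : N => χ n) = fun n : N => χ n :=
    funext fun n => one_mul _
  obtain ⟨h1, h2, -, h4⟩ := gallagher_general N (φ := fun _ => 1) isIrrCharacter_one (fun g => rfl)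
    hχ (hmul.symm ▸ hres)
  refine ⟨fun β hβ h => h1 β hβ ((classInner_indFun_one_ne_zero_iff N hβ).mpr h),
    fun β β' hβ h hβ' h' => h2 β β' hβ ((classInner_indFun_one_ne_zero_iff N hβ).mpr h) hβ'
      ((classInner_indFun_one_ne_zero_iff N hβ').mpr h'), fun ψ hψ h => ?_⟩
  rw [hmul] at h4
  obtain ⟨β, hβ, hb, e⟩ := h4 ψ hψ (by
    rw [frobenius_reciprocity N _ (isClassFunction_irr hψ), ← classInner_comm]
    exact (map_ne_zero _).mpr h)
  exact ⟨β, hβ, (classInner_indFun_one_ne_zero_iff N hβ).mp hb, e⟩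

/-- The average of `χ * conj χ` for an extension `χ`. -/
theorem cosetAvg_mul_conj {χ : G → ℂ} (hχ : IsIrrCharacter G χ)
    (hres : IsIrrCharacter N (fun n : N => χ n)) :
    cosetAvg N (χ * fun g => conj (χ g)) = fun _ => 1 := by
  have hc := isCharacter_mul (isCharacter_of_irr hχ) (isCharacter_conj (isCharacter_of_irr hχ))
  have hC := isCharacter_cosetAvg N hc
  have h1 : cosetAvg N (χ * fun g => conj (χ g)) 1 = 1 := by
    have := classInner_irr_self hres
    simp only [classInner] at this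
    simpa [cosetAvg] using this
  have hirr := isIrrCharacter_of_degree_one hC h1
  by_contra hne
  have h0 := classInner_irr_ne hirr isIrrCharacter_one hne
  rw [classInner_cosetAvg_left N _ (fun _ _ => rfl)] at h0
  have h2 := classInner_irr_self hχ
  simp only [classInner, Pi.mul_apply, map_one, mul_one] at h0 h2
  rw [h2] at h0
  exact one_ne_zero h0

end CfsgLib.CharTheory
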