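/-
Ordinary character theory, part 15: invariant irreducible representations of normal subgroups,
the associated central extension, and criteria for extendability.
-/
import Cfsg.Agent.Lib.CharTheory.Schur
import Mathlib.GroupTheory.Transfer
import Mathlib.GroupTheory.FiniteAbelian.Duality
import Mathlib.GroupTheory.SpecificGroups.Cyclic
import Mathlib.LinearAlgebra.Determinant

namespace CfsgLib.CharTheory

open Cfsg

universe u v w

/-- The transfer at an element all of whose conjugates lie in the subgroup and have the same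
image. -/
theorem transfer_apply_of_invariant {G : Type u} [Group G] {H : Subgroup G} [H.FiniteIndex]
    {A : Type w} [CommGroup A] (ϕ : H →* A) (g : G) (hmem : ∀ x : G, x⁻¹ * g * x ∈ H) (a : A)
    (ha : ∀ x : G, ϕ ⟨x⁻¹ * g * x, hmem x⟩ = a) :
    MonoidHom.transfer ϕ g = a ^ H.index := by
  classical
  let T : H.LeftTransversal := default
  rw [MonoidHom.transfer_def ϕ T g]
  let _ := H.fintypeQuotientOfFiniteIndex
  simp only [Subgroup.leftTransversals.diff]
  rw [Subgroup.index_eq_card, Nat.card_eq_fintype_card, ← Finset.card_univ, ← Finset.prod_const]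
  refine Finset.prod_congr rfl fun q _ => ?_
  set x : G := (T.2.leftQuotientEquiv q : G) with hx
  have hq : ((g • T).2.leftQuotientEquiv q : G) = g * x := by
    rw [Subgroup.smul_apply_eq_smul_apply_inv_smul, smul_eq_mul]
    congr 2
    have hqx : (x : G ⧸ H) = q := Subgroup.IsComplement.quotientGroupMk_leftQuotientEquiv T.2 q
    have e : g⁻¹ • q = q := by
      rw [← hqx, MulAction.Quotient.smul_coe, QuotientGroup.eq]
      have := hmem x
      simpa [mul_assoc] using this
    rw [e]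
  rw [← ha x]
  refine congrArg ϕ (Subtype.ext ?_)
  simp only [hq, ← hx, mul_assoc]

/-- Powers of the values of the transfer. -/
theorem transfer_pow_eq_one {G : Type u} [Group G] {H : Subgroup G} [H.FiniteIndex]
    {A : Type w} [CommGroup A] (ϕ : H →* A) {k : ℕ} (hk : ∀ h, ϕ h ^ k = 1) (g : G) :
    MonoidHom.transfer ϕ g ^ k = 1 := by
  classical
  rw [MonoidHom.transfer_def ϕ default g]
  let _ := H.fintypeQuotientOfFiniteIndex
  simp only [Subgroup.leftTransversals.diff]
  rw [← Finset.prod_pow]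
  exact Finset.prod_eq_one fun q _ => hk _

section Ext

variable {G : Type u} [Group G] {N : Subgroup G} [hN : N.Normal]
variable {V : Type v} [AddCommGroup V] [Module ℂ V] [FiniteDimensional ℂ V]

/-- Scalars as units of the endomorphism algebra. -/
noncomputable def scalarUnit (V : Type v) [AddCommGroup V] [Module ℂ V] :
    ℂˣ →* (Module.End ℂ V)ˣ :=
  Units.map (algebraMap ℂ (Module.End ℂ V)).toMonoidHom

/-- The determinant on units. -/
noncomputable def detU (V : Type v) [AddCommGroup V] [Module ℂ V] : (Module.End ℂ V)ˣ →* ℂˣ :=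
  Units.map (LinearMap.det : Module.End ℂ V →* ℂ)

theorem coe_detU (M : (Module.End ℂ V)ˣ) :
    (detU V M : ℂ) = LinearMap.det (M : Module.End ℂ V) := rfl

theorem coe_scalarUnit (c : ℂˣ) :
    ((scalarUnit V c : (Module.End ℂ V)ˣ) : Module.End ℂ V) = (c : ℂ) • 1 :=
  Algebra.algebraMap_eq_smul_one _

theorem scalarUnit_comm (c : ℂˣ) (M : (Module.End ℂ V)ˣ) :
    scalarUnit V c * M = M * scalarUnit V c :=
  Units.ext (Algebra.commutes _ _)

theorem det_scalarUnit (c : ℂˣ) :
    LinearMap.det ((scalarUnit V c : (Module.End ℂ V)ˣ) : Module.End ℂ V) =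
      (c : ℂ) ^ Module.finrank ℂ V := by
  rw [coe_scalarUnit, LinearMap.det_smul, map_one, mul_one]

theorem scalarUnit_injective [Nontrivial V] : Function.Injective (scalarUnit V) := fun a b h =>
  Units.ext ((algebraMap ℂ (Module.End ℂ V)).injective (congrArg Units.val h))

theorem scalarUnit_apply_rep (R : G →* (Module.End ℂ V)ˣ) (c : ℂˣ) (g : G) :
    scalarUnit V c * R g = R g * scalarUnit V c :=
  scalarUnit_comm c (R g)

/-- A representation as a homomorphism into units. -/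
noncomputable def repUnits (ρ : Representation ℂ G V) : G →* (Module.End ℂ V)ˣ :=
  MonoidHom.toHomUnits ρ

@[simp] theorem coe_repUnits (ρ : Representation ℂ G V) (g : G) :
    ((repUnits ρ g : (Module.End ℂ V)ˣ) : Module.End ℂ V) = ρ g := rfl

/-- The determinant of a representation. -/
noncomputable def detHom (ρ : Representation ℂ G V) : G →* ℂˣ :=
  (detU V).comp (repUnits ρ)

@[simp] theorem coe_detHom (ρ : Representation ℂ G V) (g : G) :
    (detHom ρ g : ℂ) = LinearMap.det (ρ g) := rfl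

/-- `M` intertwines `ρ` with its conjugate by `g`. -/
def Intertwines (ρ : Representation ℂ N V) (g : G) (M : (Module.End ℂ V)ˣ) : Prop :=
  ∀ n : N, M * repUnits ρ n = repUnits ρ (MulAut.conjNormal g n) * M

theorem intertwines_mul {ρ : Representation ℂ N V} {g h : G} {A B : (Module.End ℂ V)ˣ}
    (ha : Intertwines ρ g A) (hb : Intertwines ρ h B) : Intertwines ρ (g * h) (A * B) := fun n => by
  rw [map_mul, MulAut.mul_apply, mul_assoc, hb, ← mul_assoc, ha, mul_assoc]

theorem intertwines_inv {ρ : Representation ℂ N V} {g : G} {A : (Module.End ℂ V)ˣ}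
    (ha : Intertwines ρ g A) : Intertwines ρ g⁻¹ A⁻¹ := fun n => by
  rw [map_inv, eq_mul_inv_iff_mul_eq, mul_assoc, inv_mul_eq_iff_eq_mul, ha]
  rw [MulAut.inv_def, MulEquiv.apply_symm_apply]

theorem intertwines_one (ρ : Representation ℂ N V) : Intertwines ρ (1 : G) 1 := fun n => by
  simp

theorem intertwines_self (ρ : Representation ℂ N V) (n : N) :
    Intertwines ρ (n : G) (repUnits ρ n) := fun m => by
  rw [← map_mul, ← map_mul]
  congr 1
  exact Subtype.ext (by simp [MulAut.conjNormal_apply])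

theorem intertwines_scalar (ρ : Representation ℂ N V) (c : ℂˣ) :
    Intertwines ρ (1 : G) (scalarUnit V c) := fun n => by
  rw [map_one, MulAut.one_apply, scalarUnit_comm]

/-- Two intertwiners differ by a scalar. -/
theorem exists_scalar_of_intertwines (ρ : Representation ℂ N V) [ρ.IsIrreducible] {g : G}
    {A B : (Module.End ℂ V)ˣ} (ha : Intertwines ρ g A) (hb : Intertwines ρ g B) :
    ∃ c : ℂˣ, B = scalarUnit V c * A := by
  have h : Intertwines ρ (1 : G) (A⁻¹ * B) := by
    have := intertwines_mul (intertwines_inv ha) hb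
    rwa [inv_mul_cancel] at this
  have hs := eq_smul_id_of_commute ρ ((A⁻¹ * B : (Module.End ℂ V)ˣ) : Module.End ℂ V) fun n => by
    have := congrArg Units.val (h n)
    rw [map_one, MulAut.one_apply] at this
    exact this
  set c := LinearMap.trace ℂ V ((A⁻¹ * B : (Module.End ℂ V)ˣ) : Module.End ℂ V) /
    (Module.finrank ℂ V : ℂ)
  have hne : Nontrivial V := by
    by_contra hsub
    rw [not_nontrivial_iff_subsingleton] at hsub
    exact bot_ne_top (α := Subrepresentation ρ)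
      (Subrepresentation.toSubmodule_injective (Subsingleton.elim _ _))
  have hc : c ≠ 0 := fun e => by
    rw [e, zero_smul] at hs
    exact (A⁻¹ * B).ne_zero hs
  refine ⟨Units.mk0 c hc, ?_⟩
  have e : A⁻¹ * B = scalarUnit V (Units.mk0 c hc) := Units.ext (hs.trans (coe_scalarUnit (V := V) (Units.mk0 c hc)).symm)
  rw [scalarUnit_comm, ← e, mul_inv_cancel_left]

/-- The central extension attached to an invariant representation. -/
noncomputable def extGroup (ρ : Representation ℂ N V) (μ : G →* ℂˣ) (k : ℕ) :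
    Subgroup (G × (Module.End ℂ V)ˣ) where
  carrier := {x | Intertwines ρ x.1 x.2 ∧
    detU V x.2 ^ k = μ x.1}
  one_mem' := ⟨intertwines_one ρ, by simp⟩
  mul_mem' {a b} ha hb := ⟨intertwines_mul ha.1 hb.1, by
    simp only [Prod.snd_mul, Prod.fst_mul, map_mul, mul_pow, ha.2, hb.2]⟩
  inv_mem' {a} ha := ⟨intertwines_inv ha.1, by
    simp only [Prod.snd_inv, Prod.fst_inv, map_inv, inv_pow, ha.2]⟩

/-- The projection to the group. -/
noncomputable def extProj (ρ : Representation ℂ N V) (μ : G →* ℂˣ) (k : ℕ) : extGroup ρ μ k →* G :=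
  (MonoidHom.fst G (Module.End ℂ V)ˣ).comp (extGroup ρ μ k).subtype

/-- The tautological representation. -/
noncomputable def extRep (ρ : Representation ℂ N V) (μ : G →* ℂˣ) (k : ℕ) :
    Representation ℂ (extGroup ρ μ k) V :=
  (Units.coeHom _).comp ((MonoidHom.snd G (Module.End ℂ V)ˣ).comp (extGroup ρ μ k).subtype)

/-- The copy of the normal subgroup. -/
noncomputable def extIncl (ρ : Representation ℂ N V) (μ : G →* ℂˣ) (k : ℕ)
    (hμ : ∀ n : N, detHom ρ n ^ k = μ n) : N →* extGroup ρ μ k :=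
  ((N.subtype).prod (repUnits ρ)).codRestrict _ fun n => ⟨intertwines_self ρ n, hμ n⟩

variable {ρ : Representation ℂ N V} {μ : G →* ℂˣ} {k : ℕ}

theorem extProj_incl (hμ : ∀ n : N, detHom ρ n ^ k = μ n) (n : N) :
    extProj ρ μ k (extIncl ρ μ k hμ n) = n := rfl

theorem extRep_incl (hμ : ∀ n : N, detHom ρ n ^ k = μ n) (n : N) :
    extRep ρ μ k (extIncl ρ μ k hμ n) = ρ n := rfl

theorem conj_extIncl (hμ : ∀ n : N, detHom ρ n ^ k = μ n) (γ : extGroup ρ μ k) (n : N) :
    γ * extIncl ρ μ k hμ n * γ⁻¹ =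
      extIncl ρ μ k hμ (MulAut.conjNormal (extProj ρ μ k γ) n) := by
  apply Subtype.ext
  refine Prod.ext ?_ ?_
  · show γ.1.1 * (n : G) * (γ.1.1)⁻¹ = _
    exact (MulAut.conjNormal_apply _ _).symm
  · show γ.1.2 * repUnits ρ n * (γ.1.2)⁻¹ = _
    rw [mul_inv_eq_iff_eq_mul]
    exact γ.2.1 n

theorem range_extIncl_normal (hμ : ∀ n : N, detHom ρ n ^ k = μ n) :
    (extIncl ρ μ k hμ).range.Normal :=
  ⟨fun x hx γ => by
    obtain ⟨n, rfl⟩ := hx
    exact ⟨_, (conj_extIncl hμ γ n).symm⟩⟩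

section Fin

variable [Finite G] [hρ : ρ.IsIrreducible]

omit [Finite G] hρ hN [FiniteDimensional ℂ V] in
theorem nontrivial_of_irr (ρ : Representation ℂ N V) [ρ.IsIrreducible] : Nontrivial V := by
  by_contra hsub
  rw [not_nontrivial_iff_subsingleton] at hsub
  exact bot_ne_top (α := Subrepresentation ρ)
    (Subrepresentation.toSubmodule_injective (Subsingleton.elim _ _))

/-- Every element lifts to the central extension. -/
theorem extProj_surjective (hinv : ∀ (g : G) (n : N),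
    ρ.character (MulAut.conjNormal g n) = ρ.character n) (hk : k ≠ 0) :
    Function.Surjective (extProj ρ μ k) := by
  intro g
  have : Nontrivial V := nontrivial_of_irr ρ
  obtain ⟨e⟩ := nonempty_equiv_of_character_eq ρ
    (ρ.comp (MulAut.conjNormal g : N ≃* N).toMonoidHom) (funext fun n => (hinv g n).symm)
  let M : (Module.End ℂ V)ˣ := LinearMap.GeneralLinearGroup.ofLinearEquiv e.toLinearEquiv
  have hM : Intertwines ρ g M := fun n => Units.ext (LinearMap.ext fun v => e.toIntertwiningMap.isIntertwining _ _ n v)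
  have hdim : 0 < Module.finrank ℂ V := Module.finrank_pos
  obtain ⟨z, hz⟩ := IsAlgClosed.exists_pow_nat_eq
    ((μ g : ℂ) / (detU V M ^ k : ℂˣ))
    (Nat.mul_pos hdim (Nat.pos_of_ne_zero hk))
  have hz0 : z ≠ 0 := by
    rintro rfl
    rw [zero_pow (Nat.mul_pos hdim (Nat.pos_of_ne_zero hk)).ne'] at hz
    exact div_ne_zero (Units.ne_zero _) (Units.ne_zero _) hz.symm
  refine ⟨⟨(g, scalarUnit V (Units.mk0 z hz0) * M), ⟨?_, ?_⟩⟩, rfl⟩
  · have := intertwines_mul (intertwines_scalar ρ (Units.mk0 z hz0)) hM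
    rwa [one_mul] at this
  · apply Units.ext
    rw [map_mul, mul_pow, Units.val_mul, Units.val_pow_eq_pow_val, coe_detU]
    show LinearMap.det ((scalarUnit V (Units.mk0 z hz0) : (Module.End ℂ V)ˣ) : Module.End ℂ V) ^ k *
      _ = _
    rw [det_scalarUnit, ← pow_mul, Units.val_mk0, hz, div_mul_cancel₀ _ (Units.ne_zero _)]

omit [Finite G] in
theorem exists_scalar_of_proj {γ γ' : extGroup ρ μ k}
    (h : extProj ρ μ k γ = extProj ρ μ k γ') :
    ∃ c : ℂˣ, c ^ (Module.finrank ℂ V * k) = 1 ∧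
      γ'.1.2 = scalarUnit V c * γ.1.2 := by
  obtain ⟨c, hc⟩ := exists_scalar_of_intertwines ρ (g := γ.1.1) γ.2.1
    (show Intertwines ρ γ.1.1 γ'.1.2 by
      rw [show γ.1.1 = γ'.1.1 from h]; exact γ'.2.1)
  refine ⟨c, ?_, hc⟩
  have h1 := γ'.2.2
  rw [hc, map_mul, mul_pow, γ.2.2, show μ γ'.1.1 = μ γ.1.1 from
    congrArg μ h.symm] at h1
  rw [mul_eq_right] at h1
  apply Units.ext
  have h2 := congrArg Units.val h1
  rw [Units.val_pow_eq_pow_val, coe_detU] at h2
  rw [Units.val_pow_eq_pow_val, pow_mul, ← det_scalarUnit (V := V)]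
  exact h2

/-- Elements over the identity are scalars. -/
theorem exists_scalar_of_proj_one {γ : extGroup ρ μ k} (h : extProj ρ μ k γ = 1) :
    ∃ c : ℂˣ, c ^ (Module.finrank ℂ V * k) = 1 ∧ γ.1.2 = scalarUnit V c := by
  obtain ⟨c, hc, h'⟩ := exists_scalar_of_proj (γ := 1) (γ' := γ) (by rw [map_one, h])
  exact ⟨c, hc, by simpa using h'⟩

theorem finite_extGroup (hk : k ≠ 0) : Finite (extGroup ρ μ k) := by
  have : Nontrivial V := nontrivial_of_irr ρ
  have hm : Module.finrank ℂ V * k ≠ 0 :=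
    (Nat.mul_pos Module.finrank_pos (Nat.pos_of_ne_zero hk)).ne'
  have := NeZero.mk hm
  have hker : Finite (extProj ρ μ k).ker := by
    choose c hc hc' using fun γ : (extProj ρ μ k).ker =>
      exists_scalar_of_proj_one (MonoidHom.mem_ker.mp γ.2)
    exact Finite.of_injective
      (fun γ => (⟨c γ, hc γ⟩ : rootsOfUnity (Module.finrank ℂ V * k) ℂ)) fun a b h => by
        apply Subtype.ext; apply Subtype.ext
        refine Prod.ext ((MonoidHom.mem_ker.mp a.2).trans (MonoidHom.mem_ker.mp b.2).symm) ?_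
        rw [hc', hc', show c a = c b from congrArg Subtype.val h]
  have : Finite (extGroup ρ μ k ⧸ (extProj ρ μ k).ker) :=
    Finite.of_injective _ (QuotientGroup.kerLift_injective (extProj ρ μ k))
  exact Finite.of_equiv _ (Subgroup.groupEquivQuotientProdSubgroup (s := (extProj ρ μ k).ker)).symm

/-- A splitting homomorphism gives an extension of the representation. -/
theorem exists_extension_of_splitting (hinv : ∀ (g : G) (n : N),
    ρ.character (MulAut.conjNormal g n) = ρ.character n) (hk : k ≠ 0)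
    (hμ : ∀ n : N, detHom ρ n ^ k = μ n)
    (τ : extGroup ρ μ k →* ℂˣ) (hι : ∀ n, τ (extIncl ρ μ k hμ n) = 1)
    (hz : ∀ γ c, extProj ρ μ k γ = 1 → γ.1.2 = scalarUnit V c → τ γ = c) :
    ∃ R : Representation ℂ G V, (∀ n : N, R n = ρ n) ∧ ∀ γ : extGroup ρ μ k,
      repUnits R (extProj ρ μ k γ) = scalarUnit V (τ γ)⁻¹ * γ.1.2 := by
  let F : extGroup ρ μ k →* (Module.End ℂ V)ˣ :=
    { toFun := fun γ => scalarUnit V (τ γ)⁻¹ * γ.1.2
      map_one' := by simp
      map_mul' := fun a b => by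
        rw [map_mul, mul_inv, map_mul, Subgroup.coe_mul, Prod.snd_mul]
        calc scalarUnit V (τ a)⁻¹ * scalarUnit V (τ b)⁻¹ * (a.1.2 * b.1.2)
            = scalarUnit V (τ a)⁻¹ * (scalarUnit V (τ b)⁻¹ * a.1.2) * b.1.2 := by
              simp only [mul_assoc]
          _ = _ := by rw [scalarUnit_comm (τ b)⁻¹ a.1.2]; simp only [mul_assoc] }
  have hker : (extProj ρ μ k).ker ≤ F.ker := fun γ hγ => by
    obtain ⟨c, -, hc⟩ := exists_scalar_of_proj_one (MonoidHom.mem_ker.mp hγ)
    show scalarUnit V (τ γ)⁻¹ * γ.1.2 = 1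
    rw [hz γ c hγ hc, hc, map_inv, inv_mul_cancel]
  let F' : G →* (Module.End ℂ V)ˣ := MonoidHom.liftOfSurjective (extProj ρ μ k)
    (extProj_surjective hinv hk) ⟨F, hker⟩
  have hF' : ∀ γ, F' (extProj ρ μ k γ) = F γ := fun γ =>
    MonoidHom.liftOfRightInverse_comp_apply _ _ _ ⟨F, hker⟩ γ
  refine ⟨(Units.coeHom _).comp F', fun n => ?_, fun γ => ?_⟩
  · show ((F' n : (Module.End ℂ V)ˣ) : Module.End ℂ V) = ρ n
    rw [← extProj_incl hμ n, hF']
    show ((scalarUnit V (τ _)⁻¹ * _ : (Module.End ℂ V)ˣ) : Module.End ℂ V) = _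
    rw [hι, inv_one, map_one, one_mul]
    rfl
  · have e : repUnits ((Units.coeHom _).comp F' : Representation ℂ G V) (extProj ρ μ k γ) =
        F' (extProj ρ μ k γ) := Units.ext rfl
    exact e.trans (hF' γ)

/-- The scalar relating the extension to a representation of an intermediate subgroup. -/
theorem exists_scalar_hom {P : Subgroup G} (hNP : N ≤ P) (R : Representation ℂ P V)
    (hR : ∀ n : N, R ⟨n, hNP n.2⟩ = ρ n) :
    ∃ f : P.comap (extProj ρ μ k) →* ℂˣ, ∀ γ : P.comap (extProj ρ μ k),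
      ((γ : extGroup ρ μ k)).1.2 =
        scalarUnit V (f γ) * repUnits R ⟨extProj ρ μ k γ, γ.2⟩ := by
  have : Nontrivial V := nontrivial_of_irr ρ
  have hint : ∀ p : P, Intertwines ρ (p : G) (repUnits R p) := fun p n => by
    have e1 : repUnits ρ n = repUnits R ⟨n, hNP n.2⟩ := Units.ext (hR n).symm
    have e2 : repUnits ρ (MulAut.conjNormal (p : G) n) =
        repUnits R ⟨_, hNP (MulAut.conjNormal (p : G) n).2⟩ := Units.ext (hR _).symm
    rw [e1, e2, ← map_mul, ← map_mul]
    congr 1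
    exact Subtype.ext (by simp [MulAut.conjNormal_apply])
  choose f hf using fun γ : P.comap (extProj ρ μ k) =>
    exists_scalar_of_intertwines ρ (hint ⟨extProj ρ μ k γ, γ.2⟩) (γ : extGroup ρ μ k).2.1
  refine ⟨{ toFun := f, map_one' := ?_, map_mul' := ?_ }, hf⟩
  · apply scalarUnit_injective (V := V)
    have h := hf 1
    have e : repUnits R ⟨extProj ρ μ k ((1 : P.comap (extProj ρ μ k)) : extGroup ρ μ k),
        (1 : P.comap (extProj ρ μ k)).2⟩ = 1 :=
      (congrArg (repUnits R) (Subtype.ext (map_one _))).trans (map_one _)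
    have h' := h.trans (congrArg (scalarUnit V (f 1) * ·) e)
    simp only [mul_one] at h'
    rw [map_one]
    exact h'.symm
  · intro a b
    apply scalarUnit_injective (V := V)
    have h := hf (a * b)
    have e : repUnits R ⟨extProj ρ μ k ((a * b : P.comap (extProj ρ μ k)) : extGroup ρ μ k),
        (a * b).2⟩ = repUnits R ⟨extProj ρ μ k a, a.2⟩ * repUnits R ⟨extProj ρ μ k b, b.2⟩ :=
      (congrArg (repUnits R) (Subtype.ext (map_mul _ _ _))).trans (map_mul _ _ _)
    have h := h.trans (congrArg (scalarUnit V (f (a * b)) * ·) e)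
    rw [show (((a * b : P.comap (extProj ρ μ k)) : extGroup ρ μ k)).1.2 =
      ((a : extGroup ρ μ k)).1.2 * ((b : extGroup ρ μ k)).1.2 from rfl, hf a, hf b] at h
    rw [map_mul]
    refine (mul_right_cancel (b := repUnits R ⟨extProj ρ μ k a, a.2⟩ *
      repUnits R ⟨extProj ρ μ k b, b.2⟩) ?_)
    refine h.symm.trans ?_
    calc scalarUnit V (f a) * repUnits R ⟨extProj ρ μ k a, a.2⟩ *
          (scalarUnit V (f b) * repUnits R ⟨extProj ρ μ k b, b.2⟩)
        = scalarUnit V (f a) * (repUnits R ⟨extProj ρ μ k a, a.2⟩ * scalarUnit V (f b)) *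
            repUnits R ⟨extProj ρ μ k b, b.2⟩ := by simp only [mul_assoc]
      _ = _ := by rw [← scalarUnit_apply_rep]; simp only [mul_assoc]

/-- Transfer of the scalar homomorphism of an intermediate subgroup. -/
theorem exists_transfer_hom (hinv : ∀ (g : G) (n : N),
    ρ.character (MulAut.conjNormal g n) = ρ.character n) (hk : k ≠ 0)
    (hμ : ∀ n : N, detHom ρ n ^ k = μ n) {P : Subgroup G} (hNP : N ≤ P)
    (R : Representation ℂ P V) (hR : ∀ n : N, R ⟨n, hNP n.2⟩ = ρ n) :
    ∃ τ : extGroup ρ μ k →* ℂˣ, (∀ n, τ (extIncl ρ μ k hμ n) = 1) ∧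
      (∀ γ c, extProj ρ μ k γ = 1 → γ.1.2 = scalarUnit V c → τ γ = c ^ P.index) ∧
      ∀ j : ℕ, (∀ p : P, detHom R p ^ k = μ p) → Module.finrank ℂ V * k ∣ j →
        ∀ γ, τ γ ^ j = 1 := by
  have : Nontrivial V := nontrivial_of_irr ρ
  have := finite_extGroup (ρ := ρ) (μ := μ) hk
  obtain ⟨f, hf⟩ := exists_scalar_hom (μ := μ) (k := k) hNP R hR
  have hidx : (P.comap (extProj ρ μ k)).index = P.index :=
    Subgroup.index_comap_of_surjective P (extProj_surjective hinv hk)
  refine ⟨MonoidHom.transfer f, fun n => ?_, fun γ c h1 hc => ?_, fun j hdet hj γ => ?_⟩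
  · have hconj : ∀ x : extGroup ρ μ k, x⁻¹ * extIncl ρ μ k hμ n * x =
        extIncl ρ μ k hμ (MulAut.conjNormal (extProj ρ μ k x⁻¹) n) := fun x => by
      rw [← conj_extIncl hμ x⁻¹ n, inv_inv]
    rw [transfer_apply_of_invariant f _ (fun x => by
      rw [hconj]; exact hNP (MulAut.conjNormal (extProj ρ μ k x⁻¹) n).2) 1 (fun x => ?_), one_pow]
    apply scalarUnit_injective (V := V)
    have h := hf ⟨x⁻¹ * extIncl ρ μ k hμ n * x, by
      rw [Subgroup.mem_comap, hconj]; exact hNP (MulAut.conjNormal (extProj ρ μ k x⁻¹) n).2⟩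
    have hs : repUnits R ⟨extProj ρ μ k (x⁻¹ * extIncl ρ μ k hμ n * x), by
        rw [hconj]; exact hNP (MulAut.conjNormal (extProj ρ μ k x⁻¹) n).2⟩ =
        ((x⁻¹ * extIncl ρ μ k hμ n * x : extGroup ρ μ k)).1.2 := by
      apply Units.ext
      simp only [hconj]
      exact hR _
    rw [hs, eq_comm, mul_eq_right] at h
    rw [map_one]
    exact h
  · have hcen : ∀ x : extGroup ρ μ k, x⁻¹ * γ * x = γ := fun x => by
      rw [mul_assoc, inv_mul_eq_iff_eq_mul]
      refine Subtype.ext (Prod.ext ?_ ?_)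
      · show γ.1.1 * x.1.1 = x.1.1 * γ.1.1
        rw [show γ.1.1 = 1 from h1, one_mul, mul_one]
      · show γ.1.2 * x.1.2 = x.1.2 * γ.1.2
        rw [hc, scalarUnit_comm]
    have hmem : γ ∈ P.comap (extProj ρ μ k) := by
      rw [Subgroup.mem_comap, h1]; exact one_mem P
    have hfγ : f ⟨γ, hmem⟩ = c := by
      apply scalarUnit_injective (V := V)
      have h := hf ⟨γ, hmem⟩
      rw [show (⟨extProj ρ μ k γ, hmem⟩ : P) = 1 from Subtype.ext h1, map_one, mul_one] at h
      exact h.symm.trans hc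
    rw [transfer_apply_of_invariant f γ (fun x => by rw [hcen]; exact hmem) c (fun x => ?_), hidx]
    refine Eq.trans (congrArg f (Subtype.ext ?_)) hfγ
    exact hcen x
  · refine transfer_pow_eq_one f (fun y => ?_) γ
    obtain ⟨i, rfl⟩ := hj
    rw [pow_mul]
    suffices h : f y ^ (Module.finrank ℂ V * k) = 1 by rw [h, one_pow]
    have h := (y : extGroup ρ μ k).2.2
    rw [hf y, map_mul, mul_pow] at h
    have e : detU V
        (repUnits R ⟨extProj ρ μ k y, y.2⟩) ^ k = μ ((y : extGroup ρ μ k)).1.1 := hdet _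
    rw [e, mul_eq_right] at h
    apply Units.ext
    have h2 := congrArg Units.val h
    rw [Units.val_pow_eq_pow_val, coe_detU] at h2
    rw [Units.val_pow_eq_pow_val, pow_mul, ← det_scalarUnit (V := V)]
    exact h2

/-- The exponents realised by homomorphisms on the extension. -/
noncomputable def splitExponents (hμ : ∀ n : N, detHom ρ n ^ k = μ n) : AddSubgroup ℤ where
  carrier := {e | ∃ τ : extGroup ρ μ k →* ℂˣ, (∀ n, τ (extIncl ρ μ k hμ n) = 1) ∧
    ∀ γ c, extProj ρ μ k γ = 1 → γ.1.2 = scalarUnit V c → τ γ = c ^ e}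
  zero_mem' := ⟨1, fun _ => rfl, fun _ _ _ _ => (zpow_zero _).symm⟩
  add_mem' := fun ⟨s, hs, hs'⟩ ⟨t, ht, ht'⟩ => ⟨s * t, fun n => by simp [hs, ht],
    fun γ c h1 h2 => by simp [hs' γ c h1 h2, ht' γ c h1 h2, zpow_add]⟩
  neg_mem' := fun ⟨s, hs, hs'⟩ => ⟨s⁻¹, fun n => by simp [hs],
    fun γ c h1 h2 => by simp [hs' γ c h1 h2]⟩

/-- The general criterion: a splitting over subgroups of pairwise coprime index. -/
theorem exists_splitting (hinv : ∀ (g : G) (n : N),
    ρ.character (MulAut.conjNormal g n) = ρ.character n) (hk : k ≠ 0)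
    (hμ : ∀ n : N, detHom ρ n ^ k = μ n)
    (hloc : ∀ p : ℕ, p.Prime → ¬ p ∣ Module.finrank ℂ V * k ∨
      ∃ (P : Subgroup G) (hNP : N ≤ P) (R : Representation ℂ P V),
        (∀ n : N, R ⟨n, hNP n.2⟩ = ρ n) ∧ ¬ p ∣ P.index) :
    ∃ τ : extGroup ρ μ k →* ℂˣ, (∀ n, τ (extIncl ρ μ k hμ n) = 1) ∧
      ∀ γ c, extProj ρ μ k γ = 1 → γ.1.2 = scalarUnit V c → τ γ = c := by
  have : Nontrivial V := nontrivial_of_irr ρ
  have hdk : ((Module.finrank ℂ V * k : ℕ) : ℤ) ∈ splitExponents hμ := by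
    refine ⟨1, fun _ => rfl, fun γ c h1 h2 => ?_⟩
    obtain ⟨c', hc', h2'⟩ := exists_scalar_of_proj_one h1
    rw [zpow_natCast, scalarUnit_injective (V := V) (h2.symm.trans h2'), hc']
    rfl
  obtain ⟨a, ha⟩ := Int.subgroup_cyclic (splitExponents hμ)
  have hdiv : ∀ e ∈ splitExponents hμ, a ∣ e := fun e he => by
    rw [ha, AddSubgroup.mem_closure_singleton] at he
    obtain ⟨i, rfl⟩ := he
    exact ⟨i, by simp [mul_comm]⟩
  have h1 : (1 : ℤ) ∈ splitExponents hμ := by
    have hmema : a ∈ splitExponents hμ := by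
      rw [ha]; exact AddSubgroup.subset_closure (Set.mem_singleton a)
    have hna : a.natAbs = 1 := by
      by_contra hna
      obtain ⟨p, hp, hpa⟩ := Nat.exists_prime_and_dvd hna
      rcases hloc p hp with h | ⟨P, hNP, R, hR, h⟩
      · exact h (hpa.trans (Int.natAbs_dvd_natAbs.mpr (hdiv _ hdk)))
      · obtain ⟨τ, hτ1, hτ2, -⟩ := exists_transfer_hom hinv hk hμ hNP R hR
        have hmem : ((P.index : ℕ) : ℤ) ∈ splitExponents hμ :=
          ⟨τ, hτ1, fun γ c h1 h2 => by rw [zpow_natCast]; exact hτ2 γ c h1 h2⟩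
        exact h (hpa.trans (Int.natAbs_dvd_natAbs.mpr (hdiv _ hmem)))
    rcases Int.natAbs_eq a with e | e <;> rw [hna, Nat.cast_one] at e
    · rwa [← e]
    · have := (splitExponents hμ).neg_mem hmema
      rwa [e, neg_neg] at this
  obtain ⟨τ, hτ1, hτ2⟩ := h1
  exact ⟨τ, hτ1, fun γ c h1 h2 => by rw [hτ2 γ c h1 h2, zpow_one]⟩

/-- A splitting with values of bounded order, in the coprime case. -/
theorem exists_splitting_coprime (hinv : ∀ (g : G) (n : N),
    ρ.character (MulAut.conjNormal g n) = ρ.character n)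
    (hμ : ∀ n : N, detHom ρ n ^ 1 = μ n) (hcop : N.index.Coprime (Module.finrank ℂ V)) :
    ∃ τ : extGroup ρ μ 1 →* ℂˣ, (∀ n, τ (extIncl ρ μ 1 hμ n) = 1) ∧
      (∀ γ c, extProj ρ μ 1 γ = 1 → γ.1.2 = scalarUnit V c → τ γ = c) ∧
      ∀ γ, τ γ ^ Module.finrank ℂ V = 1 := by
  have : Nontrivial V := nontrivial_of_irr ρ
  obtain ⟨T, hT1, hT2, hT3⟩ := exists_transfer_hom hinv one_ne_zero hμ le_rfl ρ (fun n => rfl)
  have hT : ∀ γ, T γ ^ Module.finrank ℂ V = 1 :=
    hT3 _ (fun p => hμ p) (by rw [mul_one])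
  obtain ⟨b, hb⟩ : ∃ b : ℤ, (Module.finrank ℂ V : ℤ) ∣ (N.index : ℤ) * b - 1 := by
    refine ⟨Nat.gcdA N.index (Module.finrank ℂ V), -Nat.gcdB N.index (Module.finrank ℂ V), ?_⟩
    have := Nat.gcd_eq_gcd_ab N.index (Module.finrank ℂ V)
    rw [hcop.gcd_eq_one, Nat.cast_one] at this
    linear_combination -this
  refine ⟨(zpowGroupHom b).comp T, fun n => by simp [hT1], fun γ c h1 h2 => ?_, fun γ => ?_⟩
  · obtain ⟨c', hc', h2'⟩ := exists_scalar_of_proj_one h1
    rw [scalarUnit_injective (V := V) (h2'.symm.trans h2), mul_one] at hc'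
    obtain ⟨i, hi⟩ := hb
    show T γ ^ b = c
    rw [hT2 γ c h1 h2, ← zpow_natCast, ← zpow_mul,
      show (N.index : ℤ) * b = (Module.finrank ℂ V : ℤ) * i + 1 by linear_combination hi,
      zpow_add, zpow_mul, zpow_natCast, hc', one_zpow, one_mul, zpow_one]
  · show (T γ ^ b) ^ Module.finrank ℂ V = 1
    rw [← zpow_natCast, ← zpow_mul, mul_comm, zpow_mul, zpow_natCast, hT, one_zpow]

/-- A splitting when the factor group is cyclic. -/
theorem exists_splitting_cyclic (hinv : ∀ (g : G) (n : N),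
    ρ.character (MulAut.conjNormal g n) = ρ.character n) (hk : k ≠ 0)
    (hμ : ∀ n : N, detHom ρ n ^ k = μ n) (hcyc : IsCyclic (G ⧸ N)) :
    ∃ τ : extGroup ρ μ k →* ℂˣ, (∀ n, τ (extIncl ρ μ k hμ n) = 1) ∧
      ∀ γ c, extProj ρ μ k γ = 1 → γ.1.2 = scalarUnit V c → τ γ = c := by
  have : Nontrivial V := nontrivial_of_irr ρ
  have := finite_extGroup (ρ := ρ) (μ := μ) hk
  have := range_extIncl_normal hμ
  let Q := extGroup ρ μ k ⧸ (extIncl ρ μ k hμ).range
  let φ : Q →* G ⧸ N := QuotientGroup.map _ _ (extProj ρ μ k) (by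
    rintro _ ⟨n, rfl⟩
    exact n.2)
  have hker : φ.ker ≤ Subgroup.center Q := by
    intro q hq
    obtain ⟨γ, rfl⟩ := QuotientGroup.mk_surjective q
    have hn : extProj ρ μ k γ ∈ N := (QuotientGroup.eq_one_iff _).mp hq
    have h1 : extProj ρ μ k (γ * (extIncl ρ μ k hμ ⟨_, hn⟩)⁻¹) = 1 := by
      rw [map_mul, map_inv, extProj_incl, mul_inv_cancel]
    obtain ⟨c, -, hc⟩ := exists_scalar_of_proj_one h1
    have hgq : (γ : Q) = ((γ * (extIncl ρ μ k hμ ⟨_, hn⟩)⁻¹ : extGroup ρ μ k) : Q) := by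
      rw [QuotientGroup.eq, ← mul_assoc, inv_mul_cancel, one_mul]
      exact inv_mem (MonoidHom.mem_range.mpr ⟨_, rfl⟩)
    generalize hγ₁ : γ * (extIncl ρ μ k hμ ⟨_, hn⟩)⁻¹ = γ₁ at h1 hgq hc
    rw [hgq, Subgroup.mem_center_iff]
    intro y
    obtain ⟨x, rfl⟩ := QuotientGroup.mk_surjective y
    rw [← QuotientGroup.mk_mul, ← QuotientGroup.mk_mul]
    congr 1
    refine Subtype.ext (Prod.ext ?_ ?_)
    · show x.1.1 * extProj ρ μ k γ₁ = extProj ρ μ k γ₁ * x.1.1
      rw [h1, one_mul, mul_one]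
    · show x.1.2 * γ₁.1.2 = γ₁.1.2 * x.1.2
      rw [hc, scalarUnit_comm]
  let inst : CommGroup Q :=
    { (inferInstance : Group Q) with mul_comm := commutative_of_cyclic_center_quotient φ hker }
  -- the scalars as a subgroup
  let Z : Subgroup Q :=
    ((extProj ρ μ k).ker).map (QuotientGroup.mk' (extIncl ρ μ k hμ).range)
  have hval : ∀ z : Z, ∃ c : ℂˣ, ∃ γ, extProj ρ μ k γ = 1 ∧ γ.1.2 = scalarUnit V c ∧
      (γ : Q) = z := fun z => by
    obtain ⟨γ, hγ, e⟩ := z.2
    obtain ⟨c, -, hc⟩ := exists_scalar_of_proj_one (MonoidHom.mem_ker.mp hγ)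
    exact ⟨c, γ, hγ, hc, e⟩
  have huniq : ∀ {γ γ' : extGroup ρ μ k} {c c' : ℂˣ}, extProj ρ μ k γ = 1 →
      extProj ρ μ k γ' = 1 → γ.1.2 = scalarUnit V c → γ'.1.2 = scalarUnit V c' →
      (γ : Q) = (γ' : Q) → c = c' := by
    intro γ γ' c c' h1 h1' hc hc' he
    obtain ⟨n, hn⟩ := QuotientGroup.eq.mp he
    have hn1 : n = 1 := Subtype.ext (by
      rw [← extProj_incl hμ n, hn, map_mul, map_inv, h1, h1', inv_one, mul_one]; rfl)
    rw [hn1, map_one, eq_comm, inv_mul_eq_one] at hn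
    apply scalarUnit_injective (V := V)
    rw [← hc, ← hc', hn]
  choose f γf hf1 hf2 hf3 using hval
  let fh : Z →* ℂˣ :=
    { toFun := f
      map_one' := huniq (hf1 1) (map_one _) (hf2 1) (by simp) (by rw [hf3]; rfl)
      map_mul' := fun a b => huniq (hf1 _) (γ' := γf a * γf b) (by rw [map_mul, hf1, hf1, one_mul])
        (hf2 _) (by rw [Subgroup.coe_mul, Prod.snd_mul, hf2, hf2, map_mul])
        (by rw [hf3, QuotientGroup.mk_mul, hf3, hf3]; rfl) }
  obtain ⟨t, ht⟩ := MonoidHom.domRestrict_surjective (M := ℂ) Z fh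
  refine ⟨t.comp (QuotientGroup.mk' _), fun n => ?_, fun γ c h1 h2 => ?_⟩
  · show t _ = 1
    rw [show QuotientGroup.mk' _ (extIncl ρ μ k hμ n) = 1 from
      (QuotientGroup.eq_one_iff _).mpr (MonoidHom.mem_range.mpr ⟨n, rfl⟩), map_one]
  · have hz : (γ : Q) ∈ Z := ⟨γ, h1, rfl⟩
    have e : t (γ : Q) = f ⟨(γ : Q), hz⟩ := DFunLike.congr_fun ht ⟨(γ : Q), hz⟩
    show t (γ : Q) = c
    rw [e]
    exact huniq (hf1 _) h1 (hf2 _) h2 (hf3 _)

end Fin

end Ext

end CfsgLib.CharTheory
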