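/-
Ordinary character theory, part 17: criteria for extending characters, degrees over normal
subgroups, determinantal characters.
-/
import Cfsg.Agent.Lib.CharTheory.ProjExt
import Cfsg.Agent.Lib.CharTheory.Gallagher
import Cfsg.Agent.Lib.CharTheory.Degree
import Cfsg.Prelude.Def_CharExt

namespace CfsgLib.CharTheory

open Cfsg
open scoped ComplexConjugate

universe u v w

variable {G : Type u} [Group G] [Finite G]

/-- Homomorphisms to `ℂˣ` as functions. -/
def homFun (G : Type u) [Group G] : (G →* ℂˣ) →* (G → ℂ) where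
  toFun φ g := (φ g : ℂ)
  map_one' := funext fun _ => by simp
  map_mul' _ _ := funext fun _ => by simp

omit [Finite G] in
theorem homFun_injective : Function.Injective (homFun G) := fun a b h =>
  MonoidHom.ext fun g => Units.ext (congrFun h g)

theorem orderOf_homFun (φ : G →* ℂˣ) : orderOf (fun g => (φ g : ℂ)) = orderOf φ :=
  orderOf_injective (homFun G) homFun_injective φ

theorem orderOf_hom_pos (φ : G →* ℂˣ) : 0 < orderOf φ :=
  Nat.pos_of_ne_zero fun h => by
    have h2 : orderOf φ ∣ Nat.card G := orderOf_dvd_of_pow_eq_one (MonoidHom.ext fun g => by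
      rw [MonoidHom.pow_apply, ← map_pow, pow_card_eq_one', map_one, MonoidHom.one_apply])
    rw [h, zero_dvd_iff] at h2
    exact Nat.card_pos.ne' h2

/-- The determinantal character can be computed from any representation. -/
theorem detChar_eq {V : Type v} [AddCommGroup V] [Module ℂ V] [FiniteDimensional ℂ V]
    (ρ : Representation ℂ G V) :
    detChar ρ.character = fun g => (detHom ρ g : ℂ) := by
  classical
  have h : IsCharacter G ρ.character := isCharacter_character ρ
  obtain ⟨e⟩ := nonempty_equiv_of_character_eq ρ h.choose_spec.choose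
    h.choose_spec.choose_spec.symm
  rw [detChar, dif_pos h]
  funext g
  rw [coe_detHom, ← LinearMap.det_conj (ρ g) e.toLinearEquiv]
  congr 1
  refine LinearMap.ext fun v => ?_
  exact (congrArg (h.choose_spec.choose g) (e.toLinearEquiv.apply_symm_apply v)).symm.trans
    (e.toIntertwiningMap.isIntertwining _ _ g (e.toLinearEquiv.symm v)).symm

theorem detOrder_eq {V : Type v} [AddCommGroup V] [Module ℂ V] [FiniteDimensional ℂ V]
    (ρ : Representation ℂ G V) : detOrder ρ.character = orderOf (detHom ρ) := by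
  rw [detOrder, detChar_eq, orderOf_homFun]

/-- A representation with the same character on `N` can be made to extend a given one. -/
theorem exists_rep_extending {N : Type w} [Group N] [Finite N] {V : Type v} [AddCommGroup V]
    [Module ℂ V] [FiniteDimensional ℂ V] (ρ : Representation ℂ N V) (j : N →* G) {η : G → ℂ}
    (hη : IsCharacter G η) (h : ∀ n, η (j n) = ρ.character n) :
    ∃ R : Representation ℂ G V, R.character = η ∧ ∀ n, R (j n) = ρ n := by
  obtain ⟨m, σ, rfl⟩ := hη
  obtain ⟨e⟩ := nonempty_equiv_of_character_eq ρ (σ.comp j) (funext fun n => (h n).symm)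
  let f : (Fin m → ℂ) ≃ₗ[ℂ] V := e.toLinearEquiv.symm
  let R : Representation ℂ G V :=
    { toFun := fun g => f.conj (σ g)
      map_one' := by rw [map_one]; exact LinearEquiv.conj_id f
      map_mul' := fun a b => by
        rw [map_mul, Module.End.mul_eq_comp, LinearEquiv.conj_comp]; rfl }
  refine ⟨R, funext fun g => ?_, fun n => ?_⟩
  · exact LinearMap.trace_conj' (σ g) f
  · ext v
    show f (σ (j n) (f.symm v)) = ρ n v
    rw [LinearEquiv.symm_apply_eq]
    exact (e.toIntertwiningMap.isIntertwining _ _ n v).symm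

omit [Finite G] in
/-- The restriction to a subgroup is still invariant. -/
theorem invariant_of_rep {N : Subgroup G} [hN : N.Normal] {ϑ : N → ℂ} {n : ℕ}
    {ρ : Representation ℂ N (Fin n → ℂ)} (hρ : ρ.character = ϑ)
    (hinv : ∀ (g : G) (x : N), ϑ ⟨g * x * g⁻¹, hN.conj_mem (x : G) x.2 g⟩ = ϑ x) :
    ∀ (g : G) (x : N), ρ.character (MulAut.conjNormal g x) = ρ.character x := by
  intro g x
  rw [hρ, ← hinv g x]
  exact congrArg ϑ (Subtype.ext (MulAut.conjNormal_apply g x))

/-- An extending representation gives an irreducible character. -/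
theorem irr_of_extends {N : Subgroup G} [N.Normal] {ϑ : N → ℂ} (hϑ : IsIrrCharacter N ϑ)
    {V : Type v} [AddCommGroup V] [Module ℂ V] [FiniteDimensional ℂ V] (R : Representation ℂ G V)
    (h : ∀ n : N, R.character n = ϑ n) : IsIrrCharacter G R.character := by
  have := Fintype.ofFinite G
  have := Fintype.ofFinite N
  have hres : IsIrrCharacter N (fun n : N => R.character n) := (funext h : _ = ϑ) ▸ hϑ
  have := (gallagher N (isCharacter_character R) hres).1 (fun _ => 1) isIrrCharacter_one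
    fun _ _ => rfl
  rwa [show ((fun _ => 1 : G → ℂ) * R.character) = R.character from funext fun g => one_mul _]
    at this

/-- Extension from subgroups of pairwise coprime index. -/
theorem exists_extension_of_local {N : Subgroup G} [hN : N.Normal] {ϑ : N → ℂ}
    (hϑ : IsIrrCharacter N ϑ)
    (hinv : ∀ (g : G) (x : N), ϑ ⟨g * x * g⁻¹, hN.conj_mem (x : G) x.2 g⟩ = ϑ x)
    (hloc : ∀ p : ℕ, p.Prime → ∃ (P : Subgroup G) (hNP : N ≤ P) (η : P → ℂ),
      ¬ p ∣ P.index ∧ IsCharacter P η ∧ ∀ n : N, η ⟨(n : G), hNP n.2⟩ = ϑ n) :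
    ∃ χ : G → ℂ, IsIrrCharacter G χ ∧ ∀ n : N, χ n = ϑ n := by
  obtain ⟨d, ρ, hρ, rfl⟩ := hϑ
  have hμ : ∀ n : N, detHom ρ n ^ Nat.card G = (1 : G →* ℂˣ) n := fun n => by
    rw [MonoidHom.one_apply, ← map_pow]
    have : n ^ Nat.card G = 1 := Subtype.ext (by simp)
    rw [this, map_one]
  have hinv' := invariant_of_rep rfl hinv
  obtain ⟨τ, hτ1, hτ2⟩ := exists_splitting hinv' Nat.card_pos.ne' hμ fun p hp => by
    obtain ⟨P, hNP, η, hidx, hη, hres⟩ := hloc p hp
    obtain ⟨R, -, hR⟩ := exists_rep_extending ρ (Subgroup.inclusion hNP) hη hres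
    exact Or.inr ⟨P, hNP, R, hR, hidx⟩
  obtain ⟨R, hR, -⟩ := exists_extension_of_splitting hinv' Nat.card_pos.ne' hμ τ hτ1 hτ2
  have e : ∀ n : N, R.character n = ρ.character n := fun n => by
    rw [Representation.character, Representation.character, hR]
  exact ⟨R.character, irr_of_extends ⟨d, ρ, hρ, rfl⟩ R e, e⟩

/-- Extension when the factor group is cyclic. -/
theorem exists_extension_of_cyclic {N : Subgroup G} [hN : N.Normal] {ϑ : N → ℂ}
    (hϑ : IsIrrCharacter N ϑ)
    (hinv : ∀ (g : G) (x : N), ϑ ⟨g * x * g⁻¹, hN.conj_mem (x : G) x.2 g⟩ = ϑ x)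
    (hcyc : IsCyclic (G ⧸ N)) :
    ∃ χ : G → ℂ, IsIrrCharacter G χ ∧ ∀ n : N, χ n = ϑ n := by
  obtain ⟨d, ρ, hρ, rfl⟩ := hϑ
  have hμ : ∀ n : N, detHom ρ n ^ Nat.card G = (1 : G →* ℂˣ) n := fun n => by
    rw [MonoidHom.one_apply, ← map_pow]
    have : n ^ Nat.card G = 1 := Subtype.ext (by simp)
    rw [this, map_one]
  have hinv' := invariant_of_rep rfl hinv
  obtain ⟨τ, hτ1, hτ2⟩ := exists_splitting_cyclic hinv' Nat.card_pos.ne' hμ hcyc
  obtain ⟨R, hR, -⟩ := exists_extension_of_splitting hinv' Nat.card_pos.ne' hμ τ hτ1 hτ2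
  have e : ∀ n : N, R.character n = ρ.character n := fun n => by
    rw [Representation.character, Representation.character, hR]
  exact ⟨R.character, irr_of_extends ⟨d, ρ, hρ, rfl⟩ R e, e⟩

/-- The determinant of an extension extends the determinant. -/
theorem exists_det_of_extension {N : Subgroup G} {ϑ : N → ℂ} (hϑ : IsCharacter N ϑ)
    {χ : G → ℂ} (hχ : IsCharacter G χ) (h : ∀ n : N, χ n = ϑ n) :
    ∃ μ : G →* ℂˣ, detChar χ = (fun g => (μ g : ℂ)) ∧ ∀ n : N, (μ n : ℂ) = detChar ϑ n := by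
  obtain ⟨m, R, rfl⟩ := hχ
  refine ⟨detHom R, detChar_eq R, fun n => ?_⟩
  have e : (Representation.character (R.comp N.subtype : Representation ℂ N (Fin m → ℂ))) = ϑ :=
    funext h
  rw [← e, detChar_eq]
  rfl

/-- Existence of an extension with prescribed determinant, in the coprime case. -/
theorem exists_extension_det {N : Subgroup G} [hN : N.Normal] {ϑ : N → ℂ}
    (hϑ : IsIrrCharacter N ϑ)
    (hinv : ∀ (g : G) (x : N), ϑ ⟨g * x * g⁻¹, hN.conj_mem (x : G) x.2 g⟩ = ϑ x)
    {d : ℕ} (hd : ϑ 1 = d) (hcop : N.index.Coprime d) (μ : G →* ℂˣ)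
    (hμN : ∀ n : N, (μ n : ℂ) = detChar ϑ n) :
    ∃ χ : G → ℂ, IsIrrCharacter G χ ∧ (∀ n : N, χ n = ϑ n) ∧ detChar χ = fun g => (μ g : ℂ) := by
  obtain ⟨m, ρ, hρ, rfl⟩ := hϑ
  have hm : Module.finrank ℂ (Fin m → ℂ) = d := by
    rw [ρ.char_one] at hd; exact_mod_cast hd
  have hμ : ∀ n : N, detHom ρ n ^ 1 = μ n := fun n => Units.ext (by
    rw [pow_one, hμN, detChar_eq])
  have hinv' := invariant_of_rep rfl hinv
  obtain ⟨τ, hτ1, hτ2, hτ3⟩ := exists_splitting_coprime hinv' hμ (hm.symm ▸ hcop)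
  obtain ⟨R, hR, hR'⟩ := exists_extension_of_splitting hinv' one_ne_zero hμ τ hτ1 hτ2
  have e : ∀ n : N, R.character n = ρ.character n := fun n => by
    rw [Representation.character, Representation.character, hR]
  refine ⟨R.character, irr_of_extends ⟨m, ρ, hρ, rfl⟩ R e, e, ?_⟩
  rw [detChar_eq]
  funext g
  obtain ⟨γ, rfl⟩ := extProj_surjective (μ := μ) hinv' one_ne_zero g
  have h1 : detHom R (extProj ρ μ 1 γ) = detU _ (repUnits R (extProj ρ μ 1 γ)) := rfl
  rw [h1, hR', map_mul]
  have h2 : detU _ (scalarUnit (Fin m → ℂ) (τ γ)⁻¹) = 1 := by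
    apply Units.ext
    rw [coe_detU, det_scalarUnit, Units.val_one, ← Units.val_pow_eq_pow_val, inv_pow, hτ3,
      inv_one, Units.val_one]
  have h3 := γ.2.2
  rw [pow_one] at h3
  rw [h2, one_mul, h3]
  rfl

/-- Uniqueness of an extension with prescribed determinant, in the coprime case. -/
theorem extension_det_unique {N : Subgroup G} [hN : N.Normal] {ϑ : N → ℂ}
    (hϑ : IsIrrCharacter N ϑ) {d : ℕ} (hd : ϑ 1 = d) (hcop : N.index.Coprime d)
    {χ χ' : G → ℂ} (hχ : IsIrrCharacter G χ) (hχN : ∀ n : N, χ n = ϑ n)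
    (hχ' : IsIrrCharacter G χ') (hχ'N : ∀ n : N, χ' n = ϑ n)
    (hdet : detChar χ' = detChar χ) : χ' = χ := by
  have := Fintype.ofFinite G
  have := Fintype.ofFinite N
  have hres : IsIrrCharacter N (fun n : N => χ n) := (funext hχN : _ = ϑ) ▸ hϑ
  obtain ⟨β, hβ, hk, e⟩ := (gallagher N (isCharacter_of_irr hχ) hres).2.2 χ' hχ' (by
    rw [show (fun n : N => χ' n) = (fun n : N => χ n) from
      funext fun n => (hχ'N n).trans (hχN n).symm, classInner_irr_self hres]
    exact one_ne_zero)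
  have hχ1 : χ 1 = d := by rw [← hd]; exact hχN 1
  have hd0 : (d : ℂ) ≠ 0 := hχ1 ▸ irr_ne_zero hχ
  have hβ1 : β 1 = 1 := by
    have h1 := congrFun e 1
    rw [Pi.mul_apply, show χ' 1 = χ 1 from (hχ'N 1).trans (hχN 1).symm, hχ1] at h1
    exact (mul_eq_right₀ hd0).mp h1.symm
  obtain ⟨lam, rfl⟩ := exists_hom_of_degree_one (isCharacter_of_irr hβ) hβ1
  have hlamN : ∀ n ∈ N, lam n = 1 := fun n hn => Units.ext (by
    have := hk n hn; simpa using this)
  obtain ⟨m, σ, hσ, rfl⟩ := hχ
  have hm : Module.finrank ℂ (Fin m → ℂ) = d := by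
    rw [σ.char_one] at hχ1; exact_mod_cast hχ1
  let R : Representation ℂ G (Fin m → ℂ) :=
    { toFun := fun g => (lam g : ℂ) • σ g
      map_one' := by simp
      map_mul' := fun a b => by
        rw [map_mul, map_mul, Units.val_mul, smul_mul_assoc, mul_smul_comm, smul_smul] }
  have hR : R.character = χ' := by
    rw [e]; funext g
    show LinearMap.trace ℂ _ ((lam g : ℂ) • σ g) = _
    rw [map_smul, smul_eq_mul]; rfl
  rw [← hR, detChar_eq, detChar_eq] at hdet
  have hone : ∀ g, lam g = 1 := fun g => by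
    have h1 : lam g ^ d = 1 := Units.ext (by
      have h := congrFun hdet g
      rw [coe_detHom, coe_detHom, show R g = (lam g : ℂ) • σ g from rfl, LinearMap.det_smul, hm,
        mul_eq_right₀ (by rw [← coe_detHom]; exact Units.ne_zero _)] at h
      rw [Units.val_pow_eq_pow_val, h, Units.val_one])
    have h2 : lam g ^ N.index = 1 := by
      rw [← map_pow]; exact hlamN _ (N.pow_index_mem g)
    exact orderOf_eq_one_iff.mp (Nat.eq_one_of_dvd_coprimes hcop
      (orderOf_dvd_of_pow_eq_one h2) (orderOf_dvd_of_pow_eq_one h1))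
  rw [e]
  funext g
  simp [hone g]

/-- Exponents of a linear character realised by restriction. -/
theorem exists_hom_extending_of_local {N : Subgroup G} [hN : N.Normal] (φ : N →* ℂˣ)
    (hinv : ∀ (g : G) (x : N), φ (MulAut.conjNormal g x) = φ x)
    (hloc : ∀ p : ℕ, p.Prime → p ∣ orderOf φ → ∃ (P : Subgroup G) (hNP : N ≤ P) (ν : P →* ℂˣ),
      ¬ p ∣ P.index ∧ ∀ n : N, ν ⟨(n : G), hNP n.2⟩ = φ n) :
    ∃ t : G →* ℂˣ, ∀ n : N, t n = φ n := by
  let E : AddSubgroup ℤ :=
    { carrier := {e | ∃ t : G →* ℂˣ, ∀ n : N, t n = φ n ^ e}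
      zero_mem' := ⟨1, fun _ => (zpow_zero _).symm⟩
      add_mem' := fun ⟨s, hs⟩ ⟨t, ht⟩ => ⟨s * t, fun n => by simp [hs, ht, zpow_add]⟩
      neg_mem' := fun ⟨s, hs⟩ => ⟨s⁻¹, fun n => by simp [hs]⟩ }
  have ho : ((orderOf φ : ℕ) : ℤ) ∈ E := ⟨1, fun n => by
    rw [zpow_natCast, ← MonoidHom.pow_apply, pow_orderOf_eq_one]; rfl⟩
  obtain ⟨a, ha⟩ := Int.subgroup_cyclic E
  have hdiv : ∀ e ∈ E, a ∣ e := fun e he => by
    rw [ha, AddSubgroup.mem_closure_singleton] at he
    obtain ⟨i, rfl⟩ := he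
    exact ⟨i, by simp [mul_comm]⟩
  have hmema : a ∈ E := by rw [ha]; exact AddSubgroup.subset_closure (Set.mem_singleton a)
  have hna : a.natAbs = 1 := by
    by_contra hna
    obtain ⟨p, hp, hpa⟩ := Nat.exists_prime_and_dvd hna
    obtain ⟨P, hNP, ν, hidx, hν⟩ := hloc p hp (hpa.trans (Int.natAbs_dvd_natAbs.mpr (hdiv _ ho)))
    have hmem : ((P.index : ℕ) : ℤ) ∈ E := ⟨MonoidHom.transfer ν, fun n => by
      rw [zpow_natCast]
      refine transfer_apply_of_invariant ν (n : G) (fun x => hNP ?_) (φ n) fun x => ?_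
      · simpa using hN.conj_mem (n : G) n.2 x⁻¹
      · rw [← hinv x⁻¹ n, ← hν]
        exact congrArg ν (Subtype.ext (by simp [MulAut.conjNormal_apply]))⟩
    exact hidx (hpa.trans (Int.natAbs_dvd_natAbs.mpr (hdiv _ hmem)))
  have h1 : (1 : ℤ) ∈ E := by
    rcases Int.natAbs_eq a with e | e <;> rw [hna, Nat.cast_one] at e
    · rwa [← e]
    · have := E.neg_mem hmema
      rwa [e, neg_neg] at this
  obtain ⟨t, ht⟩ := h1
  exact ⟨t, fun n => by rw [ht, zpow_one]⟩

/-- The canonical extension of an invariant linear character of order prime to the index. -/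
theorem exists_hom_extending_coprime {N : Subgroup G} [hN : N.Normal] (φ : N →* ℂˣ)
    (hinv : ∀ (g : G) (x : N), φ (MulAut.conjNormal g x) = φ x)
    (hcop : N.index.Coprime (orderOf φ)) :
    ∃ μ : G →* ℂˣ, (∀ n : N, μ n = φ n) ∧ orderOf μ = orderOf φ ∧
      ∀ μ' : G →* ℂˣ, (∀ n : N, μ' n = φ n) → N.index.Coprime (orderOf μ') → μ' = μ := by
  let T := MonoidHom.transfer φ
  have hT : ∀ n : N, T n = φ n ^ N.index := fun n => by
    refine transfer_apply_of_invariant φ (n : G) (fun x => ?_) (φ n) fun x => ?_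
    · simpa using hN.conj_mem (n : G) n.2 x⁻¹
    · rw [← hinv x⁻¹ n]
      exact congrArg φ (Subtype.ext (by simp [MulAut.conjNormal_apply]))
  have hTo : ∀ g, T g ^ orderOf φ = 1 := fun g =>
    transfer_pow_eq_one φ (fun h => by rw [← MonoidHom.pow_apply, pow_orderOf_eq_one]; rfl) g
  obtain ⟨b, i, hb⟩ : ∃ b i : ℤ, (N.index : ℤ) * b = (orderOf φ : ℤ) * i + 1 := by
    refine ⟨Nat.gcdA N.index (orderOf φ), -Nat.gcdB N.index (orderOf φ), ?_⟩
    have := Nat.gcd_eq_gcd_ab N.index (orderOf φ)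
    rw [hcop.gcd_eq_one, Nat.cast_one] at this
    linear_combination -this
  let μ : G →* ℂˣ := (zpowGroupHom b).comp T
  have hμN : ∀ n : N, μ n = φ n := fun n => by
    show T n ^ b = φ n
    rw [hT, ← zpow_natCast, ← zpow_mul, hb, zpow_add, zpow_mul, zpow_natCast,
      ← MonoidHom.pow_apply, pow_orderOf_eq_one, MonoidHom.one_apply, one_zpow, one_mul, zpow_one]
  have hord : orderOf μ = orderOf φ := by
    apply Nat.dvd_antisymm
    · refine orderOf_dvd_of_pow_eq_one (MonoidHom.ext fun g => ?_)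
      show (T g ^ b) ^ orderOf φ = 1
      rw [← zpow_natCast, ← zpow_mul, mul_comm, zpow_mul, zpow_natCast, hTo, one_zpow]
    · refine orderOf_dvd_of_pow_eq_one (MonoidHom.ext fun n => ?_)
      rw [MonoidHom.pow_apply, ← hμN, ← MonoidHom.pow_apply, pow_orderOf_eq_one]
      rfl
  refine ⟨μ, hμN, hord, fun μ' hμ' hcop' => ?_⟩
  have hq1 : (μ' * μ⁻¹) ^ N.index = 1 := MonoidHom.ext fun g => by
    rw [MonoidHom.pow_apply, ← map_pow, MonoidHom.one_apply]
    have hn := N.pow_index_mem g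
    show μ' (g ^ N.index) * (μ (g ^ N.index))⁻¹ = 1
    rw [show μ' (g ^ N.index) = φ ⟨_, hn⟩ from hμ' ⟨_, hn⟩,
      show μ (g ^ N.index) = φ ⟨_, hn⟩ from hμN ⟨_, hn⟩, mul_inv_cancel]
  have h := Nat.eq_one_of_dvd_coprimes (hcop'.mul_right (hord ▸ hcop))
    (orderOf_dvd_of_pow_eq_one hq1)
    (orderOf_dvd_of_pow_eq_one (n := orderOf μ' * orderOf μ) (x := μ' * μ⁻¹)
      (MonoidHom.ext fun g => by
        rw [MonoidHom.pow_apply, MonoidHom.mul_apply, MonoidHom.inv_apply, mul_pow, pow_mul,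
          ← MonoidHom.pow_apply μ', pow_orderOf_eq_one, MonoidHom.one_apply, one_pow, one_mul,
          mul_comm (orderOf μ'), pow_mul, inv_pow, ← MonoidHom.pow_apply μ, pow_orderOf_eq_one,
          MonoidHom.one_apply, inv_one, one_pow]))
  exact mul_inv_eq_one.mp (orderOf_eq_one_iff.mp h)

/-- For an invariant constituent the degree ratio divides the index. -/
theorem degree_ratio_dvd_of_invariant {N : Subgroup G} [hN : N.Normal] [Fintype G] [Fintype N]
    {χ : G → ℂ} (hχ : IsIrrCharacter G χ) {ϑ : N → ℂ} (hϑ : IsIrrCharacter N ϑ)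
    (hc : classInner (fun n : N => χ n) ϑ ≠ 0) (hinv : ∀ g : G, conjNormFun N g ϑ = ϑ) :
    ∃ e : ℕ, χ 1 = e * ϑ 1 ∧ e ∣ N.index := by
  obtain ⟨m, ρ, hρ, rfl⟩ := hϑ
  have : Nontrivial (Fin m → ℂ) := nontrivial_of_irr ρ
  have hinv' : ∀ (g : G) (x : N), ρ.character (MulAut.conjNormal g x) = ρ.character x :=
    invariant_of_rep rfl fun g x => congrFun (hinv g) x
  have hμ : ∀ n : N, detHom ρ n ^ Nat.card G = (1 : G →* ℂˣ) n := fun n => by
    rw [MonoidHom.one_apply, ← map_pow]
    have : n ^ Nat.card G = 1 := Subtype.ext (by simp)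
    rw [this, map_one]
  have hk : Nat.card G ≠ 0 := Nat.card_pos.ne'
  let Γ := extGroup ρ (1 : G →* ℂˣ) (Nat.card G)
  have := finite_extGroup (ρ := ρ) (μ := (1 : G →* ℂˣ)) hk
  have := Fintype.ofFinite Γ
  let π : Γ →* G := extProj ρ 1 (Nat.card G)
  let ι : N →* Γ := extIncl ρ 1 (Nat.card G) hμ
  have hι : Function.Injective ι := fun a b h =>
    Subtype.ext (congrArg (fun z : Γ => z.1.1) h)
  have := range_extIncl_normal hμ
  let M : Subgroup Γ := ι.range
  have := Fintype.ofFinite M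
  let e : N ≃* M := MonoidHom.ofInjective hι
  let P := extRep ρ (1 : G →* ℂˣ) (Nat.card G)
  have hsurj : Function.Surjective π := extProj_surjective hinv' hk
  have hresP : ∀ n : N, P.character (e n : Γ) = ρ.character n := fun n => rfl
  have hirr : IsIrrCharacter M (fun x : M => P.character x) := by
    have he : (fun x : M => P.character x) = ρ.character ∘ e.symm.toMonoidHom := funext fun x => by
      obtain ⟨n, rfl⟩ := e.surjective x
      rw [hresP]; simp
    rw [he]
    exact isIrrCharacter_comp_surjective ⟨m, ρ, hρ, rfl⟩ e.symm.toMonoidHom e.symm.surjective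
  have hχ' : IsIrrCharacter Γ (χ ∘ π) := isIrrCharacter_comp_surjective hχ π hsurj
  obtain ⟨β, hβ, hk', he'⟩ := (gallagher M (isCharacter_character P) hirr).2.2 (χ ∘ π) hχ' (by
    intro h
    refine hc ?_
    rw [← h]
    simp only [classInner]
    rw [Nat.card_congr e.toEquiv]
    congr 1
    exact Fintype.sum_equiv e.toEquiv _ _ fun n => rfl)
  obtain ⟨l, σ, hσ, rfl⟩ := hβ
  refine ⟨Module.finrank ℂ (Fin l → ℂ), ?_, ?_⟩
  · have h1 := congrFun he' 1
    simp only [Function.comp_apply, map_one, Pi.mul_apply, Representation.char_one] at h1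
    rw [Representation.char_one]
    exact h1
  · rw [← Subgroup.index_comap_of_surjective N hsurj]
    refine degree_dvd_index_of_scalar σ _ fun γ hγ => ?_
    rw [← norm_character_eq_iff]
    let n : N := ⟨π γ, hγ⟩
    set z : Γ := (ι n)⁻¹ * γ with hz
    have hz1 : π z = 1 := by
      rw [hz, map_mul, map_inv]
      exact inv_mul_cancel (π γ)
    obtain ⟨c, hc1, hc2⟩ := exists_scalar_of_proj_one hz1
    have hβz : σ.character γ = σ.character z := by
      have h := apply_mul_of_kernel M (isCharacter_character σ) hk'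
        ⟨ι n, MonoidHom.mem_range.mpr ⟨n, rfl⟩⟩ z
      simp only [hz, mul_inv_cancel_left] at h
      exact h
    have hPz : P.character z = (c : ℂ) * (Module.finrank ℂ (Fin m → ℂ) : ℂ) := by
      show LinearMap.trace ℂ _ (z.1.2 : Module.End ℂ (Fin m → ℂ)) = _
      rw [hc2, coe_scalarUnit, map_smul, LinearMap.trace_one, smul_eq_mul]
    have h1 := congrFun he' z
    have h2 := congrFun he' 1
    simp only [Function.comp_apply, hz1, map_one, Pi.mul_apply, hPz, Representation.char_one] at h1 h2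
    rw [h2] at h1
    have h3 : (Module.finrank ℂ (Fin l → ℂ) : ℂ) = σ.character z * c :=
      mul_right_cancel₀ (Nat.cast_ne_zero.mpr (Module.finrank_pos (R := ℂ) (M := Fin m → ℂ)).ne')
        (by rw [h1]; ring)
    have hnc : ‖(c : ℂ)‖ = 1 :=
      Complex.norm_eq_one_of_pow_eq_one (n := Module.finrank ℂ (Fin m → ℂ) * Nat.card G)
        (by rw [← Units.val_pow_eq_pow_val, hc1, Units.val_one])
        (Nat.mul_ne_zero (Module.finrank_pos (R := ℂ) (M := Fin m → ℂ)).ne' hk)
    rw [hβz, ← Complex.norm_natCast, h3, norm_mul, hnc, mul_one]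

/-- The degree of an irreducible character over a normal subgroup. -/
theorem degree_ratio_dvd {N : Subgroup G} [hN : N.Normal] [Fintype G] [Fintype N]
    {χ : G → ℂ} (hχ : IsIrrCharacter G χ) {ϑ : N → ℂ} (hϑ : IsIrrCharacter N ϑ)
    (hc : classInner (fun n : N => χ n) ϑ ≠ 0) :
    ∃ e : ℕ, χ 1 = e * ϑ 1 ∧ e ∣ N.index := by
  classical
  let T := inertia N ϑ
  have := Fintype.ofFinite T
  have hNT : N ≤ T := le_inertia N (isClassFunction_irr hϑ)
  obtain ⟨ψ, hψ, hc', hind⟩ := exists_clifford_pre N hϑ hNT rfl hχ hc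
  have := Fintype.ofFinite (N.subgroupOf T)
  obtain ⟨e, he, hdvd⟩ := degree_ratio_dvd_of_invariant hψ (isIrr_subgroupOf N hNT hϑ)
    (by rw [classInner_subgroupOf N hNT ψ ϑ]; exact hc') (fun t => by
      funext x
      exact congrFun ((mem_inertia N).mp t.2) ⟨(x : T), Subgroup.mem_subgroupOf.mp x.2⟩)
  refine ⟨T.index * e, ?_, ?_⟩
  · rw [← hind, indFun_apply_one, he, Nat.cast_mul, mul_assoc]
    rfl
  · rw [← Subgroup.relIndex_mul_index hNT, mul_comm _ T.index]
    exact Nat.mul_dvd_mul_left _ hdvd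

end CfsgLib.CharTheory
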