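/-
Ordinary character theory, part 10: Galois conjugation of character values.
-/
import Cfsg.Agent.Lib.CharTheory.Linear

namespace CfsgLib.CharTheory

open Cfsg Polynomial
open scoped IntermediateField

universe u

variable {G : Type u} [Group G] [Finite G]

/-- Power maps on character values. -/
theorem exists_roots_pow {χ : G → ℂ} (hχ : IsCharacter G χ) (g : G) :
    ∃ s : Multiset ℂ, (∀ x ∈ s, x ^ Nat.card G = 1) ∧
      ∀ m : ℕ, χ (g ^ m) = (s.map (· ^ m)).sum := by
  classical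
  let C := Subgroup.zpowers g
  have := Fintype.ofFinite C
  have hres := isCharacter_restrict hχ C
  have hcomm : ∀ a b : C, a * b = b * a := fun a b => by
    obtain ⟨i, hi⟩ := Subgroup.mem_zpowers_iff.mp a.2
    obtain ⟨j, hj⟩ := Subgroup.mem_zpowers_iff.mp b.2
    exact Subtype.ext (by simp [← hi, ← hj, ← zpow_add, add_comm])
  obtain ⟨hcf, hcoef⟩ := isCharacter_iff_coeff_nat.mp hres
  choose c hc using fun φ : IrrCharacter C => hcoef φ φ.2
  choose f hf using fun φ : IrrCharacter C =>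
    exists_hom_of_degree_one (isCharacter_of_irr φ.2) (degree_one_of_commutative hcomm φ.2)
  let a : C := ⟨g, Subgroup.mem_zpowers g⟩
  refine ⟨∑ φ : IrrCharacter C, Multiset.replicate (c φ) (f φ a : ℂ), ?_, fun m => ?_⟩
  · intro x hx
    obtain ⟨φ, -, hφ⟩ := Multiset.mem_sum.mp hx
    rw [Multiset.eq_of_mem_replicate hφ, ← Units.val_pow_eq_pow_val, ← map_pow]
    have : a ^ Nat.card G = 1 := Subtype.ext (by simp [a])
    rw [this, map_one, Units.val_one]
  · have h := congrFun (eq_sum_irr hcf) (a ^ m)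
    simp only [Finset.sum_apply, Pi.smul_apply, smul_eq_mul, hc] at h
    have e : ((a ^ m : C) : G) = g ^ m := by simp [a]
    rw [← e, h]
    let M : Multiset ℂ →+ ℂ :=
      { toFun := fun s => (s.map (· ^ m)).sum
        map_zero' := by simp
        map_add' := fun a b => by simp }
    show _ = M _
    rw [map_sum]
    refine Finset.sum_congr rfl fun φ _ => ?_
    show _ = ((Multiset.replicate (c φ) (f φ a : ℂ)).map (· ^ m)).sum
    rw [Multiset.map_replicate, Multiset.sum_replicate, nsmul_eq_mul, congrFun (hf φ) (a ^ m),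
      map_pow, Units.val_pow_eq_pow_val]

/-- The field containing the character values. -/
noncomputable def rootField (n : ℕ) : IntermediateField ℚ ℂ :=
  ℚ⟮Complex.exp (2 * Real.pi * Complex.I / n)⟯

theorem isPrimitiveRoot_exp' {n : ℕ} (hn : n ≠ 0) :
    IsPrimitiveRoot (Complex.exp (2 * Real.pi * Complex.I / n)) n :=
  Complex.isPrimitiveRoot_exp n hn

theorem mem_rootField {n : ℕ} (hn : n ≠ 0) {x : ℂ} (hx : x ^ n = 1) : x ∈ rootField n := by
  have := NeZero.mk hn
  obtain ⟨i, -, rfl⟩ := (isPrimitiveRoot_exp' hn).eq_pow_of_pow_eq_one hx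
  exact pow_mem (IntermediateField.mem_adjoin_simple_self ℚ _) i

theorem isIntegral_exp {n : ℕ} (hn : n ≠ 0) :
    IsIntegral ℚ (Complex.exp (2 * Real.pi * Complex.I / n)) :=
  ((isPrimitiveRoot_exp' hn).isIntegral (Nat.pos_of_ne_zero hn)).tower_top

theorem exists_galois_hom {n m : ℕ} (hn : n ≠ 0) (hm : m.Coprime n) :
    ∃ σ : rootField n →ₐ[ℚ] ℂ, ∀ x : rootField n, (x : ℂ) ^ n = 1 → σ x = (x : ℂ) ^ m := by
  have hn' := NeZero.mk hn
  set ζ := Complex.exp (2 * Real.pi * Complex.I / n) with hζdef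
  have hζ := isPrimitiveRoot_exp' hn
  have hmem : ζ ^ m ∈ (minpoly ℚ ζ).aroots ℂ := by
    rw [mem_aroots]
    refine ⟨minpoly.ne_zero (isIntegral_exp hn), ?_⟩
    rw [← cyclotomic_eq_minpoly_rat hζ (Nat.pos_of_ne_zero hn), ← eval_map_algebraMap,
      map_cyclotomic, ← IsRoot.def, isRoot_cyclotomic_iff]
    exact hζ.pow_of_coprime m hm
  let σ : rootField n →ₐ[ℚ] ℂ :=
    (IntermediateField.algHomAdjoinIntegralEquiv ℚ (K := ℂ) (isIntegral_exp hn)).symm ⟨_, hmem⟩
  have hσ : σ (IntermediateField.AdjoinSimple.gen ℚ ζ) = ζ ^ m :=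
    IntermediateField.algHomAdjoinIntegralEquiv_symm_apply_gen ℚ (isIntegral_exp hn) ⟨_, hmem⟩
  refine ⟨σ, fun x hx => ?_⟩
  obtain ⟨i, -, hi⟩ := hζ.eq_pow_of_pow_eq_one hx
  have e : x = IntermediateField.AdjoinSimple.gen ℚ ζ ^ i := Subtype.ext (by
    rw [← hi]; rfl)
  rw [e]
  refine (map_pow σ _ i).trans ?_
  rw [hσ, ← pow_mul, mul_comm, pow_mul]
  rfl

theorem exists_pow_of_galois_hom {n : ℕ} (hn : n ≠ 0) (σ : rootField n →ₐ[ℚ] ℂ) :
    ∃ m : ℕ, m.Coprime n ∧ ∀ x : rootField n, (x : ℂ) ^ n = 1 → σ x = (x : ℂ) ^ m := by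
  have hn' := NeZero.mk hn
  set ζ := Complex.exp (2 * Real.pi * Complex.I / n) with hζdef
  have hζ := isPrimitiveRoot_exp' hn
  have hg : IsPrimitiveRoot (IntermediateField.AdjoinSimple.gen ℚ ζ) n :=
    IsPrimitiveRoot.of_map_of_injective (f := algebraMap (rootField n) ℂ) (by exact hζ)
      (algebraMap (rootField n) ℂ).injective
  obtain ⟨m, -, hm, hmσ⟩ := hζ.isPrimitiveRoot_iff.mp
    (hg.map_of_injective (f := σ) σ.injective)
  refine ⟨m, hm, fun x hx => ?_⟩
  obtain ⟨i, -, hi⟩ := hζ.eq_pow_of_pow_eq_one hx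
  have e : x = IntermediateField.AdjoinSimple.gen ℚ ζ ^ i := Subtype.ext (by
    rw [← hi]; rfl)
  rw [e]
  refine (map_pow σ _ i).trans ?_
  refine (congrArg (· ^ i) hmσ.symm).trans ?_
  show (ζ ^ m) ^ i = _
  rw [← pow_mul, mul_comm, pow_mul]
  rfl

theorem char_mem_rootField {χ : G → ℂ} (hχ : IsCharacter G χ) (g : G) :
    χ g ∈ rootField (Nat.card G) := by
  obtain ⟨s, hs, hpow⟩ := exists_roots_pow hχ g
  have := hpow 1
  simp only [pow_one, Multiset.map_id'] at this
  rw [this]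
  exact multiset_sum_mem s fun x hx => mem_rootField Nat.card_pos.ne' (hs x hx)

theorem galois_apply_char {χ : G → ℂ} (hχ : IsCharacter G χ) (g : G) {m : ℕ}
    (σ : rootField (Nat.card G) →ₐ[ℚ] ℂ)
    (hσ : ∀ x : rootField (Nat.card G), (x : ℂ) ^ Nat.card G = 1 → σ x = (x : ℂ) ^ m) :
    σ ⟨χ g, char_mem_rootField hχ g⟩ = χ (g ^ m) := by
  classical
  obtain ⟨s, hs, hpow⟩ := exists_roots_pow hχ g
  let t : Multiset (rootField (Nat.card G)) :=
    s.attach.map fun x => ⟨x.1, mem_rootField Nat.card_pos.ne' (hs x.1 x.2)⟩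
  have e : (⟨χ g, char_mem_rootField hχ g⟩ : rootField (Nat.card G)) = t.sum := by
    apply Subtype.ext
    show χ g = algebraMap (rootField (Nat.card G)) ℂ t.sum
    rw [map_multiset_sum, Multiset.map_map]
    have := hpow 1
    simp only [pow_one, Multiset.map_id'] at this
    rw [this]
    exact congrArg Multiset.sum (Multiset.attach_map_val s).symm
  rw [e, map_multiset_sum, Multiset.map_map, hpow m]
  refine congrArg Multiset.sum ?_
  conv_rhs => rw [← Multiset.attach_map_val s, Multiset.map_map]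
  exact Multiset.map_congr rfl fun x _ => hσ _ (hs x.1 x.2)

/-- An element of `rootField` fixed by all embeddings is rational. -/
theorem rat_of_fixed {n : ℕ} (hn : n ≠ 0) (a : rootField n)
    (h : ∀ σ : rootField n →ₐ[ℚ] ℂ, σ a = (a : ℂ)) : ∃ q : ℚ, (a : ℂ) = (q : ℂ) := by
  have hfd : FiniteDimensional ℚ (rootField n) :=
    IntermediateField.adjoin.finiteDimensional (isIntegral_exp hn)
  have hK : Algebra.IsAlgebraic ℚ (rootField n) := Algebra.IsAlgebraic.of_finite _ _
  have hrange := hK.range_eval_eq_rootSet_minpoly ℂ a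
  have hsub : (minpoly ℚ a).rootSet ℂ ⊆ {(a : ℂ)} := by
    rw [← hrange]
    rintro _ ⟨σ, rfl⟩
    exact h σ
  have hint : IsIntegral ℚ a := (hK.isAlgebraic a).isIntegral
  have hsep : (minpoly ℚ a).Separable := (minpoly.irreducible hint).separable
  have hdeg : (minpoly ℚ a).natDegree ≤ 1 := by
    rw [← card_rootSet_eq_natDegree hsep
      (IsAlgClosed.splits ((minpoly ℚ a).map (algebraMap ℚ ℂ)))]
    refine Fintype.card_le_one_iff.mpr fun x y => Subtype.ext ?_
    rw [hsub x.2, hsub y.2]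
  have hd1 : (minpoly ℚ a).natDegree = 1 := le_antisymm hdeg (minpoly.natDegree_pos hint)
  obtain ⟨q, hq⟩ := minpoly.mem_range_of_degree_eq_one ℚ a
    (by rw [degree_eq_natDegree (minpoly.ne_zero hint), hd1]; rfl)
  exact ⟨q, by rw [← hq]; exact eq_ratCast (algebraMap ℚ ℂ) q⟩

/-- Rationality of character values. -/
theorem rational_of_pow_invariant {χ : G → ℂ} (hχ : IsCharacter G χ) (g : G)
    (h : ∀ m : ℕ, m.Coprime (Nat.card G) → χ (g ^ m) = χ g) : ∃ q : ℚ, χ g = (q : ℂ) :=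
  rat_of_fixed Nat.card_pos.ne' ⟨χ g, char_mem_rootField hχ g⟩ fun σ => by
    obtain ⟨m, hm, hσ⟩ := exists_pow_of_galois_hom Nat.card_pos.ne' σ
    exact (galois_apply_char hχ g σ hσ).trans (h m hm)

/-- An irreducible character of degree greater than one has a zero. -/
theorem exists_zero_of_degree {χ : G → ℂ} (hχ : IsIrrCharacter G χ) (h1 : χ 1 ≠ 1) :
    ∃ g, χ g = 0 := by
  classical
  have := Fintype.ofFinite G
  by_contra hne
  push Not at hne
  have hc := isCharacter_of_irr hχ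
  set x : G → ℝ := fun g => Complex.normSq (χ g) with hx
  have hpos : ∀ g, 0 < x g := fun g => Complex.normSq_pos.mpr (hne g)
  have hnorm := classInner_irr_self hχ
  simp only [classInner, Complex.mul_conj] at hnorm
  rw [inv_mul_eq_one₀ (Nat.cast_ne_zero.mpr Nat.card_pos.ne')] at hnorm
  have hsum : ∑ g, x g = (Nat.card G : ℝ) := by
    have := congrArg Complex.re hnorm
    rw [Complex.re_sum, Complex.natCast_re] at this
    simpa [x] using this.symm
  let a : rootField (Nat.card G) :=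
    ∏ g : G, (⟨χ g, char_mem_rootField hc g⟩ * ⟨χ g⁻¹, char_mem_rootField hc g⁻¹⟩)
  have ha : (a : ℂ) = ∏ g : G, (χ g * χ g⁻¹) := by
    show algebraMap (rootField (Nat.card G)) ℂ a = _
    simp only [a, map_prod, map_mul]
    rfl
  have hax : (a : ℂ) = ((∏ g, x g : ℝ) : ℂ) := by
    rw [ha, Complex.ofReal_prod]
    refine Finset.prod_congr rfl fun g _ => ?_
    rw [char_apply_inv hc, Complex.mul_conj]
  obtain ⟨q, hq⟩ := rat_of_fixed Nat.card_pos.ne' a fun σ => by
    obtain ⟨m, hm, hσ⟩ := exists_pow_of_galois_hom Nat.card_pos.ne' σ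
    have e : σ a = ∏ g : G, (χ (g ^ m) * χ (g⁻¹ ^ m)) := by
      simp only [a, map_prod, map_mul, galois_apply_char hc _ σ hσ]
    rw [e, ha]
    exact Fintype.prod_equiv (powCoprime hm.symm) _ _ fun g => by
      simp [powCoprime, inv_pow]
  have hint : IsIntegral ℤ (q : ℂ) := by
    rw [← hq, ha]
    exact IsIntegral.prod _ fun g _ => (isIntegral_of_char hc g).mul (isIntegral_of_char hc g⁻¹)
  obtain ⟨k, rfl⟩ := exists_int_of_isIntegral_ratCast hint
  rw [hax, Rat.cast_intCast] at hq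
  have hk : (∏ g, x g) = (k : ℝ) := by exact_mod_cast hq
  have hP : (1 : ℝ) ≤ ∏ g, x g := by
    have h0 : (0 : ℝ) < k := hk ▸ Finset.prod_pos fun g _ => hpos g
    rw [hk]
    exact_mod_cast (show (0 : ℤ) < k by exact_mod_cast h0)
  have hlog : 0 ≤ ∑ g, Real.log (x g) := by
    rw [← Real.log_prod fun g _ => (hpos g).ne']
    exact Real.log_nonneg hP
  obtain ⟨d, hd, hd1⟩ := irr_degree_pos hχ
  have hx1 : x 1 ≠ 1 := by
    simp only [x, hd1, Complex.normSq_natCast]
    have : d ≠ 1 := fun e => h1 (by rw [hd1, e, Nat.cast_one])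
    intro e
    have : d * d = 1 := by exact_mod_cast e
    have := Nat.eq_one_of_mul_eq_one_right this
    omega
  have hlt : ∑ g, Real.log (x g) < ∑ g, (x g - 1) :=
    Finset.sum_lt_sum (fun g _ => Real.log_le_sub_one_of_pos (hpos g))
      ⟨1, Finset.mem_univ _, Real.log_lt_sub_one_of_pos (hpos 1) hx1⟩
  rw [Finset.sum_sub_distrib, hsum, Finset.sum_const, Finset.card_univ, nsmul_eq_mul, mul_one,
    Nat.card_eq_fintype_card, sub_self] at hlt
  linarith

theorem pow_invariant_of_rational {χ : G → ℂ} (hχ : IsCharacter G χ) (g : G) {q : ℚ}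
    (hq : χ g = (q : ℂ)) {m : ℕ} (hm : m.Coprime (Nat.card G)) : χ (g ^ m) = χ g := by
  obtain ⟨σ, hσ⟩ := exists_galois_hom Nat.card_pos.ne' hm
  rw [← galois_apply_char hχ g σ hσ]
  have e : (⟨χ g, char_mem_rootField hχ g⟩ : rootField (Nat.card G)) = algebraMap ℚ _ q :=
    Subtype.ext (hq.trans (eq_ratCast (algebraMap ℚ ℂ) q).symm)
  rw [e, AlgHom.commutes]
  exact (eq_ratCast (algebraMap ℚ ℂ) q).trans hq.symm

end CfsgLib.CharTheory
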