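/-
Ordinary character theory: counting bounds from sums of norms of nonzero algebraic integers.
-/
import Cfsg.Agent.Lib.CharTheory.Galois
import Mathlib.RingTheory.Norm.Transitivity

namespace CfsgLib.CharTheory

open Cfsg Polynomial
open scoped IntermediateField ComplexConjugate

instance rootField_finiteDimensional {n : ℕ} [NeZero n] : FiniteDimensional ℚ (rootField n) :=
  IntermediateField.adjoin.finiteDimensional (isIntegral_exp (NeZero.ne n))

theorem conj_galois {n : ℕ} (hn : n ≠ 0) (σ : rootField n →ₐ[ℚ] ℂ) {x : ℂ} (hx : x ∈ rootField n) :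
    ∃ hc : conj x ∈ rootField n, σ ⟨conj x, hc⟩ = conj (σ ⟨x, hx⟩) := by
  induction hx using IntermediateField.adjoin_induction with
  | mem x hxs =>
    rw [Set.mem_singleton_iff] at hxs
    subst hxs
    set ζ := Complex.exp (2 * Real.pi * Complex.I / n) with hζ
    have hp : ζ ^ n = 1 := (isPrimitiveRoot_exp' hn).pow_eq_one
    have hc : conj ζ = ζ⁻¹ := (Complex.inv_eq_conj (Complex.norm_eq_one_of_pow_eq_one hp hn)).symm
    have hmem : ζ ∈ rootField n := mem_rootField hn hp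
    have hinv : ζ⁻¹ ∈ rootField n := inv_mem hmem
    refine ⟨hc ▸ hinv, ?_⟩
    have hs : (σ ⟨ζ, hmem⟩) ^ n = 1 := by
      rw [← map_pow]
      exact (congrArg σ (Subtype.ext hp)).trans (map_one σ)
    have e1 : (⟨conj ζ, hc ▸ hinv⟩ : rootField n) = (⟨ζ, hmem⟩ : rootField n)⁻¹ := Subtype.ext hc
    rw [e1, map_inv₀]
    exact Complex.inv_eq_conj (Complex.norm_eq_one_of_pow_eq_one hs hn)
  | algebraMap r =>
    have hc : conj (algebraMap ℚ ℂ r) = algebraMap ℚ ℂ r := by simp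
    refine ⟨by rw [hc]; exact IntermediateField.algebraMap_mem _ r, ?_⟩
    have e : ∀ h, (⟨algebraMap ℚ ℂ r, h⟩ : rootField n) = algebraMap ℚ (rootField n) r :=
      fun h => rfl
    calc σ ⟨conj (algebraMap ℚ ℂ r), _⟩ = σ (algebraMap ℚ (rootField n) r) :=
          congrArg σ (Subtype.ext hc)
      _ = conj (σ (algebraMap ℚ (rootField n) r)) := by rw [AlgHom.commutes]; exact hc.symm
      _ = _ := rfl
  | add x y hx hy ihx ihy =>
    obtain ⟨hcx, ex⟩ := ihx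
    obtain ⟨hcy, ey⟩ := ihy
    refine ⟨(map_add (starRingEnd ℂ) x y).symm ▸ add_mem hcx hcy, ?_⟩
    have e : ∀ h, (⟨conj (x + y), h⟩ : rootField n) = ⟨conj x, hcx⟩ + ⟨conj y, hcy⟩ :=
      fun h => Subtype.ext (map_add _ _ _)
    rw [e, map_add, ex, ey, ← map_add, ← map_add]
    rfl
  | inv x hx ihx =>
    obtain ⟨hcx, ex⟩ := ihx
    refine ⟨(map_inv₀ (starRingEnd ℂ) x).symm ▸ inv_mem hcx, ?_⟩
    have e : ∀ h, (⟨conj x⁻¹, h⟩ : rootField n) = (⟨conj x, hcx⟩ : rootField n)⁻¹ :=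
      fun h => Subtype.ext (map_inv₀ _ _)
    rw [e, map_inv₀, ex, ← map_inv₀, ← map_inv₀]
    rfl
  | mul x y hx hy ihx ihy =>
    obtain ⟨hcx, ex⟩ := ihx
    obtain ⟨hcy, ey⟩ := ihy
    refine ⟨(map_mul (starRingEnd ℂ) x y).symm ▸ mul_mem hcx hcy, ?_⟩
    have e : ∀ h, (⟨conj (x * y), h⟩ : rootField n) = ⟨conj x, hcx⟩ * ⟨conj y, hcy⟩ :=
      fun h => Subtype.ext (map_mul _ _ _)
    rw [e, map_mul, ex, ey, ← map_mul, ← map_mul]
    rfl

/-- A totally positive algebraic integer has average conjugate at least one. -/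
theorem card_le_sum_pos {n : ℕ} [NeZero n] (w : rootField n) (hint : IsIntegral ℤ (w : ℂ))
    (hpos : ∀ σ : rootField n →ₐ[ℚ] ℂ, ∃ r : ℝ, 0 < r ∧ σ w = (r : ℂ)) :
    (Fintype.card (rootField n →ₐ[ℚ] ℂ) : ℝ) ≤ ∑ σ : rootField n →ₐ[ℚ] ℂ, (σ w).re := by
  classical
  haveI : Algebra.IsAlgebraic ℚ (rootField n) := Algebra.IsAlgebraic.of_finite _ _
  choose x hpos hσw using hpos
  have hprod := Algebra.norm_eq_prod_embeddings ℚ ℂ w
  simp only [hσw] at hprod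
  rw [← Complex.ofReal_prod] at hprod
  have hai : IsIntegral ℤ w :=
    (isIntegral_algHom_iff (((rootField n).val).restrictScalars ℤ) Subtype.val_injective).1 hint
  have hint' : IsIntegral ℤ (((Algebra.norm ℚ w : ℚ)) : ℂ) := by
    rw [show ((Algebra.norm ℚ w : ℚ) : ℂ) = algebraMap ℚ ℂ (Algebra.norm ℚ w) from
      (eq_ratCast (algebraMap ℚ ℂ) _).symm, Algebra.norm_eq_prod_embeddings ℚ ℂ w]
    exact IsIntegral.prod _ fun σ _ => hai.map (σ.restrictScalars ℤ)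
  obtain ⟨k, hk⟩ := exists_int_of_isIntegral_ratCast hint'
  have hP : (1 : ℝ) ≤ ∏ σ, x σ := by
    rw [eq_ratCast, hk, Rat.cast_intCast] at hprod
    have hk' : ((k : ℤ) : ℝ) = ∏ σ, x σ := by exact_mod_cast hprod
    have h1 : (0 : ℝ) < k := hk' ▸ Finset.prod_pos fun σ _ => hpos σ
    rw [← hk']
    exact_mod_cast (show (0 : ℤ) < k by exact_mod_cast h1)
  have hlog : 0 ≤ ∑ σ, Real.log (x σ) := by
    rw [← Real.log_prod fun σ _ => (hpos σ).ne']
    exact Real.log_nonneg hP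
  have hle : ∑ σ, Real.log (x σ) ≤ ∑ σ, (x σ - 1) :=
    Finset.sum_le_sum fun σ _ => Real.log_le_sub_one_of_pos (hpos σ)
  rw [Finset.sum_sub_distrib, Finset.sum_const, Finset.card_univ, nsmul_eq_mul, mul_one] at hle
  rw [Finset.sum_congr rfl fun σ _ => show (σ w).re = x σ by rw [hσw, Complex.ofReal_re]]
  linarith

/-- The conjugates of a nonzero algebraic integer have average square norm at least one. -/
theorem card_le_sum_normSq {n : ℕ} [NeZero n] (hn : n ≠ 0) (a : rootField n) (hint : IsIntegral ℤ (a : ℂ))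
    (h0 : a ≠ 0) :
    (Fintype.card (rootField n →ₐ[ℚ] ℂ) : ℝ) ≤ ∑ σ : rootField n →ₐ[ℚ] ℂ, Complex.normSq (σ a) := by
  obtain ⟨hc, -⟩ := conj_galois hn ((rootField n).val) a.2
  have hσw : ∀ σ : rootField n →ₐ[ℚ] ℂ,
      σ (a * ⟨conj (a : ℂ), hc⟩) = (Complex.normSq (σ a) : ℂ) := by
    intro σ
    obtain ⟨hc', he⟩ := conj_galois hn σ a.2
    rw [map_mul, show σ ⟨conj (a : ℂ), hc⟩ = conj (σ ⟨(a : ℂ), a.2⟩) from he, Complex.mul_conj]
  refine le_of_le_of_eq (card_le_sum_pos (a * ⟨conj (a : ℂ), hc⟩)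
    (hint.mul (hint.map ((Complex.conjAe.toAlgHom).restrictScalars ℤ))) fun σ =>
      ⟨_, Complex.normSq_pos.2 (by rw [Ne, map_eq_zero_iff σ σ.injective]; exact h0), hσw σ⟩)
    (Finset.sum_congr rfl fun σ _ => by rw [hσw σ, Complex.ofReal_re])

/-- Nonzero algebraic integers with rational sum of square norms are few. -/
theorem card_le_of_sum_normSq {n : ℕ} (hn : n ≠ 0) {ι : Type*} (S : Finset ι) (z : ι → ℂ)
    (hz : ∀ i ∈ S, z i ∈ rootField n) (hint : ∀ i ∈ S, IsIntegral ℤ (z i))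
    (hne : ∀ i ∈ S, z i ≠ 0) (T : ℕ) (hT : ∑ i ∈ S, z i * conj (z i) = (T : ℂ)) :
    S.card ≤ T := by
  classical
  haveI : NeZero n := ⟨hn⟩
  have hc : ∀ i : S, conj (z i) ∈ rootField n := fun i =>
    (conj_galois hn ((rootField n).val) (hz i i.2)).1
  have hsum : (∑ i : S, (⟨z i, hz i i.2⟩ : rootField n) * ⟨conj (z i), hc i⟩) = (T : rootField n) := by
    apply Subtype.ext
    push_cast
    rw [← hT, ← Finset.sum_coe_sort S]
  have hσ : ∀ σ : rootField n →ₐ[ℚ] ℂ,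
      ∑ i : S, Complex.normSq (σ ⟨z i, hz i i.2⟩) = (T : ℝ) := by
    intro σ
    have h := congrArg σ hsum
    simp only [map_sum, map_mul, map_natCast] at h
    have e : ∀ i : S, σ ⟨conj (z i), hc i⟩ = conj (σ ⟨z i, hz i i.2⟩) := fun i =>
      (conj_galois hn σ (hz i i.2)).2
    simp only [e, Complex.mul_conj] at h
    rw [← Complex.ofReal_sum] at h
    exact_mod_cast h
  have hN : (0 : ℝ) < Fintype.card (rootField n →ₐ[ℚ] ℂ) := by
    exact_mod_cast Fintype.card_pos_iff.2 ⟨(rootField n).val⟩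
  have h1 : (S.card : ℝ) * Fintype.card (rootField n →ₐ[ℚ] ℂ) ≤
      (T : ℝ) * Fintype.card (rootField n →ₐ[ℚ] ℂ) := by
    calc (S.card : ℝ) * Fintype.card (rootField n →ₐ[ℚ] ℂ)
        = ∑ _i : S, (Fintype.card (rootField n →ₐ[ℚ] ℂ) : ℝ) := by simp
      _ ≤ ∑ i : S, ∑ σ : rootField n →ₐ[ℚ] ℂ, Complex.normSq (σ ⟨z i, hz i i.2⟩) :=
          Finset.sum_le_sum fun i _ => card_le_sum_normSq hn _ (hint i i.2) fun h =>
            hne i i.2 (congrArg Subtype.val h)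
      _ = ∑ σ : rootField n →ₐ[ℚ] ℂ, ∑ i : S, Complex.normSq (σ ⟨z i, hz i i.2⟩) := Finset.sum_comm
      _ = _ := by
          rw [Finset.sum_congr rfl fun σ _ => hσ σ, Finset.sum_const, nsmul_eq_mul, mul_comm]
          rfl
  exact_mod_cast le_of_mul_le_mul_right h1 hN

/-- Weighted count of nonzero algebraic integers with bounded sums of square norms. -/
theorem weighted_card_le {n : ℕ} [NeZero n] {ι : Type*} (S : Finset ι) (u : ι → rootField n)
    (m : ι → ℕ) (hint : ∀ i ∈ S, IsIntegral ℤ ((u i : ℂ))) (hne : ∀ i ∈ S, u i ≠ 0) (T : ℕ)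
    (hT : ∀ σ : rootField n →ₐ[ℚ] ℂ, ∑ i ∈ S, (m i : ℝ) * Complex.normSq (σ (u i)) ≤ (T : ℝ)) :
    ∑ i ∈ S, m i ≤ T := by
  have hN : (0 : ℝ) < Fintype.card (rootField n →ₐ[ℚ] ℂ) := by
    exact_mod_cast Fintype.card_pos_iff.2 ⟨(rootField n).val⟩
  have h1 : ((∑ i ∈ S, m i : ℕ) : ℝ) * Fintype.card (rootField n →ₐ[ℚ] ℂ) ≤
      (T : ℝ) * Fintype.card (rootField n →ₐ[ℚ] ℂ) := by
    calc ((∑ i ∈ S, m i : ℕ) : ℝ) * Fintype.card (rootField n →ₐ[ℚ] ℂ)
        = ∑ i ∈ S, (m i : ℝ) * (Fintype.card (rootField n →ₐ[ℚ] ℂ) : ℝ) := by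
          push_cast; rw [Finset.sum_mul]
      _ ≤ ∑ i ∈ S, (m i : ℝ) * ∑ σ : rootField n →ₐ[ℚ] ℂ, Complex.normSq (σ (u i)) :=
          Finset.sum_le_sum fun i hi => mul_le_mul_of_nonneg_left
            (card_le_sum_normSq (NeZero.ne n) _ (hint i hi) (hne i hi)) (Nat.cast_nonneg _)
      _ = ∑ σ : rootField n →ₐ[ℚ] ℂ, ∑ i ∈ S, (m i : ℝ) * Complex.normSq (σ (u i)) := by
          simp only [Finset.mul_sum]; exact Finset.sum_comm
      _ ≤ ∑ _σ : rootField n →ₐ[ℚ] ℂ, (T : ℝ) := Finset.sum_le_sum fun σ _ => hT σ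
      _ = _ := by rw [Finset.sum_const, Finset.card_univ, nsmul_eq_mul, mul_comm]
  exact_mod_cast le_of_mul_le_mul_right h1 hN

/-- Weighted count with a bound on average over the conjugates. -/
theorem weighted_card_le_avg {n : ℕ} [NeZero n] {ι : Type*} (S : Finset ι) (u : ι → rootField n)
    (m : ι → ℕ) (hint : ∀ i ∈ S, IsIntegral ℤ ((u i : ℂ))) (hne : ∀ i ∈ S, u i ≠ 0) (T : ℤ)
    (hT : ∑ σ : rootField n →ₐ[ℚ] ℂ, ∑ i ∈ S, (m i : ℝ) * Complex.normSq (σ (u i)) ≤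
      (Fintype.card (rootField n →ₐ[ℚ] ℂ) : ℝ) * T) :
    ((∑ i ∈ S, m i : ℕ) : ℤ) ≤ T := by
  have hN : (0 : ℝ) < Fintype.card (rootField n →ₐ[ℚ] ℂ) := by
    exact_mod_cast Fintype.card_pos_iff.2 ⟨(rootField n).val⟩
  have h1 : ((∑ i ∈ S, m i : ℕ) : ℝ) * Fintype.card (rootField n →ₐ[ℚ] ℂ) ≤
      (T : ℝ) * Fintype.card (rootField n →ₐ[ℚ] ℂ) := by
    calc ((∑ i ∈ S, m i : ℕ) : ℝ) * Fintype.card (rootField n →ₐ[ℚ] ℂ)
        = ∑ i ∈ S, (m i : ℝ) * (Fintype.card (rootField n →ₐ[ℚ] ℂ) : ℝ) := by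
          push_cast; rw [Finset.sum_mul]
      _ ≤ ∑ i ∈ S, (m i : ℝ) * ∑ σ : rootField n →ₐ[ℚ] ℂ, Complex.normSq (σ (u i)) :=
          Finset.sum_le_sum fun i hi => mul_le_mul_of_nonneg_left
            (card_le_sum_normSq (NeZero.ne n) _ (hint i hi) (hne i hi)) (Nat.cast_nonneg _)
      _ = ∑ σ : rootField n →ₐ[ℚ] ℂ, ∑ i ∈ S, (m i : ℝ) * Complex.normSq (σ (u i)) := by
          simp only [Finset.mul_sum]; exact Finset.sum_comm
      _ ≤ _ := hT.trans (le_of_eq (mul_comm _ _))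
  exact_mod_cast le_of_mul_le_mul_right h1 hN

end CfsgLib.CharTheory
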