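/-
Ordinary character theory: counting zeros, degrees above normal subgroups, codegrees, products of
commutators.
-/
import Cfsg.Agent.Lib.CharTheory.GaloisBound
import Cfsg.Agent.Lib.CharTheory.Gallagher
import Cfsg.Prelude.Def_Blocks

namespace CfsgLib.CharTheory

open Cfsg
open scoped ComplexConjugate

set_option maxHeartbeats 400000

universe u

variable {G : Type u} [Group G]

/-- The square norms of an irreducible character add up to the order of the group. -/
theorem sum_mul_conj_irr [Fintype G] {χ : G → ℂ} (hχ : IsIrrCharacter G χ) :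
    ∑ g : G, χ g * conj (χ g) = (Nat.card G : ℂ) := by
  have h := classInner_irr_self hχ
  simp only [classInner] at h
  rwa [inv_mul_eq_one₀ (Nat.cast_ne_zero.mpr Nat.card_pos.ne'), eq_comm] at h

theorem sum_norm_sq_irr [Fintype G] {χ : G → ℂ} (hχ : IsIrrCharacter G χ) :
    ∑ g : G, ‖χ g‖ ^ 2 = (Nat.card G : ℝ) := by
  have h := sum_mul_conj_irr hχ
  simp only [Complex.mul_conj, Complex.normSq_eq_norm_sq] at h
  rw [← Complex.ofReal_sum] at h
  exact_mod_cast h

/-- A set of nonzero character values with natural sum of square norms `T` has at most `T`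
elements. -/
theorem card_le_of_char_sum [Finite G] {χ : G → ℂ} (hχ : IsCharacter G χ) (S : Finset G)
    (hne : ∀ g ∈ S, χ g ≠ 0) (T : ℕ) (hT : ∑ g ∈ S, ‖χ g‖ ^ 2 = (T : ℝ)) : S.card ≤ T :=
  card_le_of_sum_normSq Nat.card_pos.ne' S χ (fun g _ => char_mem_rootField hχ g)
    (fun g _ => isIntegral_of_char hχ g) hne T (by
      simp only [Complex.mul_conj, Complex.normSq_eq_norm_sq]
      rw [← Complex.ofReal_sum, hT, Complex.ofReal_natCast])

theorem charDegree_spec' [Finite G] {χ : G → ℂ} (h : IsIrrCharacter G χ) :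
    χ 1 = (charDegree χ : ℂ) ∧ 0 < charDegree χ := by
  have := Fintype.ofFinite G
  obtain ⟨d, hd, hd1⟩ := irr_degree_pos h
  have e : charDegree χ = d := by rw [charDegree, hd1, Complex.natCast_re, Nat.floor_natCast]
  rw [e]
  exact ⟨hd1, hd⟩

theorem norm_one_eq_charDegree [Finite G] {χ : G → ℂ} (h : IsIrrCharacter G χ) :
    ‖χ 1‖ = (charDegree χ : ℝ) := by
  rw [(charDegree_spec' h).1, Complex.norm_natCast]

/-- Degree squares above a normal subgroup. -/
theorem sum_degree_sq_kernel [Finite G] (N : Subgroup G) [N.Normal]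
    [Fintype {χ : IrrCharacter G // ∀ n ∈ N, (χ : G → ℂ) n = (χ : G → ℂ) 1}] :
    ∑ χ : {χ : IrrCharacter G // ∀ n ∈ N, (χ : G → ℂ) n = (χ : G → ℂ) 1},
      charDegree (χ.1 : G → ℂ) ^ 2 = N.index := by
  classical
  have : Fintype (G ⧸ N) := Fintype.ofFinite _
  have h := sum_irr_degree_sq (G := G ⧸ N)
  have e : ∑ ψ : IrrCharacter (G ⧸ N), ((ψ : G ⧸ N → ℂ) 1) ^ 2 =
      ∑ χ : {χ : IrrCharacter G // ∀ n ∈ N, (χ : G → ℂ) n = (χ : G → ℂ) 1},
        ((χ.1 : G → ℂ) 1) ^ 2 :=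
    Fintype.sum_equiv (quotientIrrEquiv N) _ _ fun ψ => rfl
  rw [e] at h
  have e2 : ∀ χ : {χ : IrrCharacter G // ∀ n ∈ N, (χ : G → ℂ) n = (χ : G → ℂ) 1},
      ((χ.1 : G → ℂ) 1) ^ 2 = ((charDegree (χ.1 : G → ℂ) ^ 2 : ℕ) : ℂ) := fun χ => by
    rw [(charDegree_spec' χ.1.2).1]; push_cast; ring
  simp only [e2] at h
  rw [← Nat.cast_sum, Nat.cast_inj] at h
  rw [h]
  rfl

/-- The number of elements in the kernel. -/
theorem natCard_kernel [Finite G] {χ : G → ℂ} (hχ : IsCharacter G χ) :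
    Nat.card {g : G // χ g = χ 1} = Nat.card (charKernel χ hχ) :=
  Nat.card_congr (Equiv.subtypeEquivRight fun g => (mem_charKernel hχ g).symm)

/-- The degree divides the index of the kernel. -/
theorem charDegree_dvd_index_kernel [Finite G] {χ : G → ℂ} (hχ : IsIrrCharacter G χ) :
    charDegree χ ∣ (charKernel χ (isCharacter_of_irr hχ)).index := by
  obtain ⟨ψ, hψ, e⟩ := exists_quotient_irr (charKernel χ (isCharacter_of_irr hχ)) hχ
    fun n hn => (mem_charKernel _ n).mp hn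
  obtain ⟨m, ρ, hρ, rfl⟩ := hψ
  have h := finrank_dvd_card ρ
  have hd := (charDegree_spec' hχ).1
  rw [congrFun e 1] at hd
  rw [show ((1 : G) : G ⧸ charKernel χ (isCharacter_of_irr hχ)) = 1 from rfl, ρ.char_one,
    Nat.cast_inj] at hd
  rw [← hd]
  exact h

/-- The codegree is the index of the kernel divided by the degree. -/
theorem codegree_eq [Finite G] {χ : G → ℂ} (hχ : IsIrrCharacter G χ) :
    Nat.card G / (Nat.card {g : G // χ g = χ 1} * charDegree χ) =
      (charKernel χ (isCharacter_of_irr hχ)).index / charDegree χ := by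
  rw [natCard_kernel (isCharacter_of_irr hχ), ← Nat.div_div_eq_div_mul,
    ← Subgroup.card_mul_index (charKernel χ (isCharacter_of_irr hχ)),
    Nat.mul_div_cancel_left _ Nat.card_pos]

/-- Some codegree is divisible by each prime divisor of the order. -/
theorem exists_prime_dvd_codegree [Finite G] {p : ℕ} (hp : p.Prime) (hdvd : p ∣ Nat.card G) :
    ∃ χ : IrrCharacter G,
      p ∣ (charKernel (χ : G → ℂ) (isCharacter_of_irr χ.2)).index / charDegree (χ : G → ℂ) := by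
  classical
  obtain ⟨N, ⟨hN, hpN⟩, hmin⟩ := exists_minimalFor_of_wellFoundedLT
    (fun N : Subgroup G => N.Normal ∧ ¬ p ∣ N.index) id
    ⟨⊤, inferInstance, by rw [Subgroup.index_top]; exact hp.not_dvd_one⟩
  by_contra hno
  push Not at hno
  have : Fintype {χ : IrrCharacter G // ∀ n ∈ (⊥ : Subgroup G), (χ : G → ℂ) n = (χ : G → ℂ) 1} :=
    Fintype.ofFinite _
  have : Fintype {χ : IrrCharacter G // ∀ n ∈ N, (χ : G → ℂ) n = (χ : G → ℂ) 1} :=
    Fintype.ofFinite _
  have hout : ∀ χ : IrrCharacter G, ¬ (∀ n ∈ N, (χ : G → ℂ) n = (χ : G → ℂ) 1) →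
      p ∣ charDegree (χ : G → ℂ) := by
    intro χ hχ
    set K := charKernel (χ : G → ℂ) (isCharacter_of_irr χ.2) with hK
    have hlt : K ⊓ N < N := lt_of_le_of_ne inf_le_right fun e =>
      hχ fun n hn => (mem_charKernel _ n).mp (inf_eq_right.mp e hn)
    have hKN : (K ⊓ N).Normal := inferInstance
    have hp' : p ∣ (K ⊓ N).index := by
      by_contra hc
      exact (not_le_of_gt hlt) (hmin ⟨hKN, hc⟩ hlt.le)
    rw [← Subgroup.relIndex_mul_index (inf_le_right : K ⊓ N ≤ N), Subgroup.inf_relIndex_right]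
      at hp'
    have h1 : p ∣ K.index :=
      ((hp.dvd_mul.mp hp').resolve_right hpN).trans (Subgroup.relIndex_dvd_index_of_normal K N)
    obtain ⟨c, hc⟩ := charDegree_dvd_index_kernel χ.2
    rw [← hK] at hc
    have h2 := hno χ
    rw [← hK, hc, Nat.mul_div_cancel_left _ (charDegree_spec' χ.2).2] at h2
    rw [hc] at h1
    exact (hp.dvd_mul.mp h1).resolve_right h2
  have hall := sum_degree_sq_kernel (⊥ : Subgroup G)
  have hin := sum_degree_sq_kernel N
  rw [Subgroup.index_bot] at hall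
  have e1 : ∑ χ : {χ : IrrCharacter G // ∀ n ∈ (⊥ : Subgroup G), (χ : G → ℂ) n = (χ : G → ℂ) 1},
      charDegree (χ.1 : G → ℂ) ^ 2 = ∑ χ : IrrCharacter G, charDegree (χ : G → ℂ) ^ 2 :=
    Fintype.sum_equiv (Equiv.subtypeUnivEquiv fun χ n hn => by rw [Subgroup.mem_bot.mp hn]) _ _
      fun χ => rfl
  have e2 : ∑ χ : {χ : IrrCharacter G // ∀ n ∈ N, (χ : G → ℂ) n = (χ : G → ℂ) 1},
      charDegree (χ.1 : G → ℂ) ^ 2 = ∑ χ ∈ Finset.univ.filter
        (fun χ : IrrCharacter G => ∀ n ∈ N, (χ : G → ℂ) n = (χ : G → ℂ) 1),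
        charDegree (χ : G → ℂ) ^ 2 := by
    rw [Finset.sum_subtype _ (p := fun χ : IrrCharacter G =>
      ∀ n ∈ N, (χ : G → ℂ) n = (χ : G → ℂ) 1) (fun χ => by simp)]
  rw [e1, ← Finset.sum_filter_add_sum_filter_not Finset.univ
    (fun χ : IrrCharacter G => ∀ n ∈ N, (χ : G → ℂ) n = (χ : G → ℂ) 1), ← e2, hin] at hall
  refine hpN ((Nat.dvd_add_left ?_).mp (hall ▸ hdvd))
  exact Finset.dvd_sum fun χ hχ => dvd_pow (hout χ (Finset.mem_filter.mp hχ).2) two_ne_zero

/-- Averaging a character over commutators. -/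
theorem sum_commutator_mul_char [Fintype G] {χ : G → ℂ} (hχ : IsIrrCharacter G χ) (y : G) :
    ∑ b : G, ∑ a : G, χ (a * b * a⁻¹ * b⁻¹ * y) = (Nat.card G : ℂ) ^ 2 * χ y / χ 1 ^ 2 := by
  simp only [mul_assoc _ _⁻¹ y, sum_conj_mul_char hχ]
  rw [← Finset.sum_div, ← Finset.mul_sum, sum_char_mul_char hχ]
  ring

/-- The number of expressions of an element as a product of two commutators. -/
theorem card_two_commutators [Fintype G] (g : G) :
    (Nat.card {q : (G × G) × (G × G) //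
      (q.1.1 * q.1.2 * q.1.1⁻¹ * q.1.2⁻¹) * (q.2.1 * q.2.2 * q.2.1⁻¹ * q.2.2⁻¹) = g} : ℂ) =
      (Nat.card G : ℂ) ^ 3 * ∑ χ : IrrCharacter G, (χ : G → ℂ) g⁻¹ / (χ : G → ℂ) 1 ^ 3 := by
  classical
  have hG : (Nat.card G : ℂ) ≠ 0 := Nat.cast_ne_zero.mpr Nat.card_pos.ne'
  apply mul_left_cancel₀ hG
  rw [Nat.card_eq_fintype_card (α := {q : (G × G) × (G × G) // _}), Fintype.card_subtype,
    Finset.mul_sum, Finset.mul_sum, ← Finset.sum_boole, Finset.mul_sum]
  have hind : ∀ x : G, (Nat.card G : ℂ) * (if x = g then (1 : ℂ) else 0) =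
      ∑ χ : IrrCharacter G, (χ : G → ℂ) (x * g⁻¹) * (χ : G → ℂ) 1 := by
    intro x
    rw [sum_irr_apply_mul_degree, mul_ite, mul_one, mul_zero]
    exact if_congr mul_inv_eq_one.symm rfl rfl
  simp only [hind]
  rw [Finset.sum_comm]
  refine Finset.sum_congr rfl fun χ _ => ?_
  rw [← Finset.sum_mul]
  have h2 : ∑ q : (G × G) × (G × G), (χ : G → ℂ) ((q.1.1 * q.1.2 * q.1.1⁻¹ * q.1.2⁻¹) *
      (q.2.1 * q.2.2 * q.2.1⁻¹ * q.2.2⁻¹) * g⁻¹) =
      (Nat.card G : ℂ) ^ 4 * (χ : G → ℂ) g⁻¹ / (χ : G → ℂ) 1 ^ 4 := by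
    rw [Fintype.sum_prod_type_right]
    have h3 : ∀ y : G × G, ∑ x : G × G, (χ : G → ℂ) ((x.1 * x.2 * x.1⁻¹ * x.2⁻¹) *
        (y.1 * y.2 * y.1⁻¹ * y.2⁻¹) * g⁻¹) =
        (Nat.card G : ℂ) ^ 2 * (χ : G → ℂ) (y.1 * y.2 * y.1⁻¹ * y.2⁻¹ * g⁻¹) /
          (χ : G → ℂ) 1 ^ 2 := fun y => by
      rw [Fintype.sum_prod_type_right, ← sum_commutator_mul_char χ.2]
      simp only [mul_assoc]
    simp only [h3]
    rw [← Finset.sum_div, ← Finset.mul_sum, Fintype.sum_prod_type_right, sum_commutator_mul_char χ.2]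
    have := irr_ne_zero χ.2
    field_simp
  rw [h2]
  have := irr_ne_zero χ.2
  field_simp

end CfsgLib.CharTheory
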