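/-
Ordinary character theory, part 11: monomial characters, nilpotent groups, Taketa.
-/
import Cfsg.Agent.Lib.CharTheory.Degree

namespace CfsgLib.CharTheory

open Cfsg
open scoped ComplexConjugate

universe u

variable {G : Type u} [Group G] [Fintype G]

theorem indFun_congr_subgroup {H K : Subgroup G} (e : H = K) (θ : H → ℂ) :
    indFun H θ = indFun K (fun x => θ ⟨(x : G), e ▸ x.2⟩) := by
  subst e; rfl

theorem indFun_top {θ : (⊤ : Subgroup G) → ℂ} {χ : G → ℂ} (hχ : IsClassFunction G χ)
    (h : ∀ x : (⊤ : Subgroup G), θ x = χ x) : indFun ⊤ θ = χ := by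
  funext g
  simp only [indFun]
  have : ∀ y : G, extendByZero (⊤ : Subgroup G) θ (y⁻¹ * g * y) = χ g := fun y => by
    rw [extendByZero_of_mem _ _ (Subgroup.mem_top _), h]
    simpa using hχ g y⁻¹
  rw [Finset.sum_congr rfl fun y _ => this y, Finset.sum_const, Finset.card_univ, nsmul_eq_mul,
    Subgroup.card_top, Nat.card_eq_fintype_card]
  field_simp [Nat.cast_ne_zero.mpr (Fintype.card_pos (α := G)).ne']

/-- Induction commutes with inflation. -/
theorem indFun_comap {Q : Type*} [Group Q] [Fintype Q] (π : G →* Q)
    (hπ : Function.Surjective π) (H : Subgroup Q) (θ : H → ℂ) (g : G) :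
    indFun (H.comap π) (fun x => θ ⟨π x, x.2⟩) g = indFun H θ (π g) := by
  classical
  simp only [indFun]
  have he : ∀ y : G, extendByZero (H.comap π) (fun x => θ ⟨π x, x.2⟩) (y⁻¹ * g * y) =
      extendByZero H θ ((π y)⁻¹ * π g * π y) := by
    intro y
    by_cases h : y⁻¹ * g * y ∈ H.comap π
    · rw [extendByZero_of_mem _ _ h]
      have h' : (π y)⁻¹ * π g * π y ∈ H := by simpa using Subgroup.mem_comap.mp h
      rw [extendByZero_of_mem _ _ h']
      exact congrArg θ (Subtype.ext (by simp))
    · rw [extendByZero_of_not_mem _ _ h,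
        extendByZero_of_not_mem _ _ (fun h' => h (Subgroup.mem_comap.mpr (by simpa using h')))]
  rw [Finset.sum_congr rfl fun y _ => he y]
  have hk : ∀ q : Q, (Finset.univ.filter fun y => π y = q).card = Nat.card π.ker := by
    intro q
    obtain ⟨y0, rfl⟩ := hπ q
    rw [← Fintype.card_subtype, ← Nat.card_eq_fintype_card]
    exact Nat.card_congr
      { toFun := fun y => ⟨y0⁻¹ * y, by simp [MonoidHom.mem_ker, y.2]⟩
        invFun := fun k => ⟨y0 * k, by simp [MonoidHom.mem_ker.mp k.2]⟩
        left_inv := fun y => Subtype.ext (by simp)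
        right_inv := fun k => Subtype.ext (by simp) }
  have hsum : ∑ y : G, extendByZero H θ ((π y)⁻¹ * π g * π y) =
      (Nat.card π.ker : ℂ) * ∑ q : Q, extendByZero H θ (q⁻¹ * π g * q) := by
    rw [Finset.mul_sum, ← Finset.sum_fiberwise Finset.univ π]
    refine Finset.sum_congr rfl fun q _ => ?_
    rw [Finset.sum_congr rfl fun y hy => by rw [(Finset.mem_filter.mp hy).2], Finset.sum_const,
      hk, nsmul_eq_mul]
  have hc : Nat.card (H.comap π) = Nat.card π.ker * Nat.card H := by
    apply Nat.eq_of_mul_eq_mul_right (Nat.pos_of_ne_zero (Subgroup.index_ne_zero_of_finite (H := H)))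
    rw [mul_assoc, Subgroup.card_mul_index]
    conv_lhs => rw [← Subgroup.index_comap_of_surjective H hπ, Subgroup.card_mul_index]
    rw [← Subgroup.card_mul_index π.ker, Subgroup.index_ker, MonoidHom.range_eq_top.mpr hπ,
      Subgroup.card_top]
  rw [hsum, hc, Nat.cast_mul, mul_inv, ← mul_assoc, mul_right_comm _ _ (Nat.card π.ker : ℂ),
    inv_mul_cancel₀ (Nat.cast_ne_zero.mpr (Nat.card_pos (α := π.ker)).ne'), one_mul]

/-- Being induced from a linear character. -/
def IsMonomialChar (χ : G → ℂ) : Prop :=
  ∃ (H : Subgroup G) (lam : H →* ℂˣ), χ = indFun H (fun h => (lam h : ℂ))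

theorem isMonomialChar_linear {χ : G → ℂ} (hχ : IsCharacter G χ) (h1 : χ 1 = 1) :
    IsMonomialChar χ := by
  obtain ⟨φ, hφ⟩ := exists_hom_of_degree_one hχ h1
  refine ⟨⊤, φ.comp (⊤ : Subgroup G).subtype, (indFun_top (isClassFunction_char hχ) fun x => ?_).symm⟩
  rw [hφ]; rfl

theorem isMonomialChar_indFun {T : Subgroup G} [Fintype T] {ψ : T → ℂ} (hψ : IsMonomialChar ψ) :
    IsMonomialChar (indFun T ψ) := by
  obtain ⟨H, lam, rfl⟩ := hψ
  have hle : H.map T.subtype ≤ T := Subgroup.map_subtype_le H
  have he : (H.map T.subtype).subgroupOf T = H :=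
    Subgroup.comap_map_eq_self_of_injective T.subtype_injective H
  let lam' : (H.map T.subtype : Subgroup G) →* ℂˣ :=
    lam.comp (Subgroup.equivMapOfInjective H T.subtype T.subtype_injective).symm.toMonoidHom
  refine ⟨H.map T.subtype, lam', ?_⟩
  rw [← indFun_trans _ T hle (fun x => (lam' x : ℂ))]
  congr 1
  rw [indFun_congr_subgroup he]
  congr 1
  funext x
  refine congrArg (fun z => (lam z : ℂ)) ?_
  symm
  rw [MulEquiv.coe_toMonoidHom, MulEquiv.symm_apply_eq]
  rfl

end CfsgLib.CharTheory

namespace CfsgLib.CharTheory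

open Cfsg

universe u

/-- Nilpotent groups are monomial. -/
theorem isMonomialChar_of_nilpotent {G : Type u} [Group G] [Fintype G] [Group.IsNilpotent G]
    {χ : G → ℂ} (hχ : IsIrrCharacter G χ) : IsMonomialChar χ := by
  classical
  suffices ∀ n, ∀ (G : Type u) [Group G] [Fintype G] [Group.IsNilpotent G] (χ : G → ℂ),
      Nat.card G = n → IsIrrCharacter G χ → IsMonomialChar χ from this _ G χ rfl hχ
  intro n
  induction n using Nat.strong_induction_on with
  | _ n ih =>
  intro G _ _ _ χ hn hχ
  by_cases h1 : χ 1 = 1
  · exact isMonomialChar_linear (isCharacter_of_irr hχ) h1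
  have hc := isCharacter_of_irr hχ
  by_cases hK : charKernel χ hc = ⊥
  swap
  · obtain ⟨ψ, hψ, hψe⟩ := exists_quotient_irr (charKernel χ hc) hχ
      (fun x hx => (mem_charKernel hc x).mp hx)
    have := Fintype.ofFinite (G ⧸ charKernel χ hc)
    have hlt : Nat.card (G ⧸ charKernel χ hc) < n := by
      rw [← hn]
      have h1 := Subgroup.card_eq_card_quotient_mul_card_subgroup (charKernel χ hc)
      have h2 := Subgroup.one_lt_card_iff_ne_bot _ |>.mpr hK
      have h3 : 0 < Nat.card (G ⧸ charKernel χ hc) := Nat.card_pos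
      rw [h1]
      exact lt_mul_of_one_lt_right h3 h2
    obtain ⟨H, lam, hH⟩ := ih _ hlt _ ψ rfl hψ
    let π := QuotientGroup.mk' (charKernel χ hc)
    refine ⟨H.comap π, lam.comp (π.subgroupComap H), ?_⟩
    funext g
    refine (congrFun hψe g).trans ?_
    rw [hH]
    exact (indFun_comap π (QuotientGroup.mk'_surjective _) H (fun h => (lam h : ℂ)) g).symm
  have hnab : ¬ ∀ a b : G, a * b = b * a := fun h => h1 (degree_one_of_commutative h hχ)
  obtain ⟨A, hAn, hAab, hAZ⟩ : ∃ A : Subgroup G, A.Normal ∧ (∀ a ∈ A, ∀ b ∈ A, a * b = b * a) ∧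
      ¬ A ≤ Subgroup.center G := by
    have hZ : Subgroup.center G ≠ ⊤ := fun e => hnab fun a b =>
      (Subgroup.mem_center_iff.mp (show a ∈ Subgroup.center G by rw [e]; trivial) b).symm
    have : Nontrivial (G ⧸ Subgroup.center G) :=
      QuotientGroup.nontrivial_iff.mpr hZ
    obtain ⟨q, hq, hq1⟩ := (Subgroup.bot_or_exists_ne_one _).resolve_left
      (Group.IsNilpotent.center_ne_bot (G := G ⧸ Subgroup.center G))
    obtain ⟨x, rfl⟩ := QuotientGroup.mk_surjective q
    let A := Subgroup.closure (insert x (Subgroup.center G : Set G))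
    refine ⟨A, ⟨?_⟩, ?_, ?_⟩
    · intro a ha g
      revert a
      show ∀ a ∈ A, g * a * g⁻¹ ∈ A
      intro a ha
      induction ha using Subgroup.closure_induction with
      | mem y hy =>
        rcases hy with rfl | hy
        · have h := Subgroup.mem_center_iff.mp hq (g : G ⧸ Subgroup.center G)
          have hz : g * y * g⁻¹ * y⁻¹ ∈ Subgroup.center G := by
            rw [← QuotientGroup.eq_one_iff]
            simp only [QuotientGroup.mk_mul, QuotientGroup.mk_inv]
            rw [h]; group
          have := mul_mem (Subgroup.subset_closure (Set.mem_insert_of_mem y hz) :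
            g * y * g⁻¹ * y⁻¹ ∈ A) (Subgroup.subset_closure (Set.mem_insert y _) : y ∈ A)
          simpa using this
        · rw [Subgroup.mem_center_iff.mp hy g, mul_inv_cancel_right]
          exact Subgroup.subset_closure (Set.mem_insert_of_mem _ hy)
      | one => simp
      | mul y z _ _ hy hz =>
        have := mul_mem hy hz
        simpa [mul_assoc] using this
      | inv y _ hy =>
        have := inv_mem hy
        simpa [mul_assoc] using this
    · have : A ≤ Subgroup.centralizer (A : Set G) := by
        have step : insert x (Subgroup.center G : Set G) ⊆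
            Subgroup.centralizer (insert x (Subgroup.center G : Set G)) := by
          intro a ha
          rw [SetLike.mem_coe, Subgroup.mem_centralizer_iff]
          intro b hb
          rcases ha with rfl | ha
          · rcases hb with rfl | hb
            · rfl
            · exact (Subgroup.mem_center_iff.mp hb a).symm
          · exact Subgroup.mem_center_iff.mp ha b
        rw [Subgroup.centralizer_closure]
        exact (Subgroup.closure_le _).mpr step
      exact fun a ha b hb => (Subgroup.mem_centralizer_iff.mp (this ha) b hb).symm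
    · exact fun hle => hq1 ((QuotientGroup.eq_one_iff x).mpr
        (hle (Subgroup.subset_closure (Set.mem_insert x _))))
  have := hAn
  have := Fintype.ofFinite A
  obtain ⟨θ, hθ, hne⟩ := exists_constituent (isCharacter_restrict hc A)
    (fun e => irr_ne_zero hχ (congrFun e 1))
  have hAT := le_inertia A (isClassFunction_irr hθ)
  have := Fintype.ofFinite (inertia A θ)
  by_cases hT : inertia A θ = ⊤
  · exfalso
    refine hAZ fun a ha => ?_
    have hres := clifford_invariant A hχ hθ hne fun g => (mem_inertia A).mp (hT ▸ Subgroup.mem_top g)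
    have hθ1 := degree_one_of_commutative (fun a b => Subtype.ext (hAab a a.2 b b.2)) hθ
    obtain ⟨φ, hφ⟩ := exists_hom_of_degree_one (isCharacter_of_irr hθ) hθ1
    obtain ⟨m, ρ, hρ, rfl⟩ := hχ
    have hnorm : ‖ρ.character a‖ = (Module.finrank ℂ (Fin m → ℂ) : ℝ) := by
      rw [← Complex.norm_natCast, ← ρ.char_one]
      have e1 := congrFun hres ⟨a, ha⟩
      have e2 := congrFun hres 1
      simp only [Pi.smul_apply, smul_eq_mul] at e1 e2
      rw [hθ1, mul_one] at e2
      rw [show ρ.character a = ρ.character ((⟨a, ha⟩ : A) : G) from rfl, e1,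
        show ρ.character 1 = ρ.character ((1 : A) : G) from rfl, e2, norm_mul,
        congrFun hφ ⟨a, ha⟩]
      conv_rhs => rw [← mul_one (‖classInner (fun n : A => ρ.character n) θ‖)]
      congr 1
      refine Complex.norm_eq_one_of_pow_eq_one (n := Nat.card A) ?_ Nat.card_pos.ne'
      rw [← Units.val_pow_eq_pow_val, ← map_pow, pow_card_eq_one', map_one, Units.val_one]
    obtain ⟨ω, hω⟩ := (norm_character_eq_iff ρ a).mp hnorm
    rw [Subgroup.mem_center_iff]
    intro g
    have hk : ρ.character (g * a * g⁻¹ * a⁻¹) = ρ.character 1 := by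
      have e : ρ (g * a * g⁻¹ * a⁻¹) = 1 := by
        have h' : ρ (g * a) = ρ (a * g) := by simp [map_mul, hω, ← Module.End.one_eq_id]
        rw [show g * a * g⁻¹ * a⁻¹ = g * a * (a * g)⁻¹ by group, map_mul, h', ← map_mul,
          mul_inv_cancel, map_one]
      rw [ρ.char_one, Representation.character, e, LinearMap.trace_one]
    have hmem := (mem_charKernel hc _).mpr hk
    rw [hK, Subgroup.mem_bot, mul_inv_eq_one, mul_inv_eq_iff_eq_mul] at hmem
    exact hmem
  · obtain ⟨ψ, hψ, -, hind⟩ := exists_clifford_pre A hθ hAT rfl hχ hne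
    have hlt : Nat.card (inertia A θ) < n := by
      rw [← hn]
      exact lt_of_le_of_ne (Subgroup.card_le_card_group _) fun e =>
        hT ((Subgroup.card_eq_iff_eq_top _).mp e)
    rw [← hind]
    exact isMonomialChar_indFun (ih _ hlt _ ψ rfl hψ)

/-- A character equal to the full degree on an element when induced from the trivial character. -/
theorem mem_of_indFun_one_eq {G : Type u} [Group G] [Fintype G] (H : Subgroup G) {g : G}
    (h : indFun H (fun _ => 1) g = indFun H (fun _ => 1) 1) (y : G) : y⁻¹ * g * y ∈ H := by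
  classical
  rw [indFun_apply_one, mul_one] at h
  have he : ∀ x : G, extendByZero H (fun _ => (1 : ℂ)) (x⁻¹ * g * x) =
      if x⁻¹ * g * x ∈ H then 1 else 0 := fun x => by
    split
    · exact extendByZero_of_mem _ _ ‹_›
    · exact extendByZero_of_not_mem _ _ ‹_›
  simp only [indFun, he] at h
  rw [Finset.sum_boole, inv_mul_eq_iff_eq_mul₀ (Nat.cast_ne_zero.mpr Nat.card_pos.ne'),
    ← Nat.cast_mul, Nat.cast_inj, Subgroup.card_mul_index, Nat.card_eq_fintype_card,
    ← Finset.card_univ] at h
  by_contra hy
  exact absurd h (Finset.card_lt_card (Finset.filter_ssubset.mpr ⟨y, Finset.mem_univ _, hy⟩)).ne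

/-- Taketa's theorem. -/
theorem isSolvable_of_monomial {G : Type u} [Group G] [Fintype G]
    (hM : ∀ χ : G → ℂ, IsIrrCharacter G χ → IsMonomialChar χ) : Group.IsSolvable G := by
  classical
  have key : ∀ d : ℕ, ∀ χ : G → ℂ, IsIrrCharacter G χ → (χ 1).re ≤ d →
      ∀ g ∈ derivedSeries G d, χ g = χ 1 := by
    intro d
    induction d with
    | zero =>
      intro χ hχ hd
      obtain ⟨k, hk, e⟩ := irr_degree_pos hχ
      rw [e, Complex.natCast_re, Nat.cast_le] at hd
      omega
    | succ d ih =>
      intro χ hχ hd g hg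
      by_cases hd' : (χ 1).re ≤ d
      · exact ih χ hχ hd' g (derivedSeries_antitone G (Nat.le_succ d) hg)
      obtain ⟨H, lam, hH⟩ := hM χ hχ
      have := Fintype.ofFinite H
      have hdeg : χ 1 = (H.index : ℂ) := by
        rw [hH, indFun_apply_one, map_one, Units.val_one, mul_one]
      have hidx : H.index = d + 1 := by
        rw [hdeg, Complex.natCast_re, Nat.cast_le] at hd
        rw [hdeg, Complex.natCast_re, Nat.cast_le] at hd'
        omega
      by_cases hd0 : d = 0
      · subst hd0
        have h1 : χ 1 = 1 := by rw [hdeg, hidx]; simp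
        obtain ⟨φ, hφ⟩ := exists_hom_of_degree_one (isCharacter_of_irr hχ) h1
        rw [derivedSeries_one] at hg
        rw [hφ]
        simp only [map_one, MonoidHom.mem_ker.mp (Abelianization.commutator_subset_ker φ hg)]
      -- `derivedSeries d` lies in every conjugate of `H`
      have hcore : ∀ k ∈ derivedSeries G d, ∀ y : G, y⁻¹ * k * y ∈ H := by
        intro k hk
        refine mem_of_indFun_one_eq H ?_
        have hperm : IsCharacter G (indFun H (fun _ => 1)) := isCharacter_indFun H isCharacter_one
        have h1c : classInner (indFun H (fun _ => (1 : ℂ))) (fun _ => 1) ≠ 0 := by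
          rw [frobenius_reciprocity H _ (isClassFunction_irr isIrrCharacter_one),
            classInner_irr_self (χ := fun _ : H => (1 : ℂ)) isIrrCharacter_one]
          exact one_ne_zero
        have hrest := isCharacter_sub_irr hperm isIrrCharacter_one h1c
        have heach : ∀ φ : IrrCharacter G, classInner (indFun H (fun _ => 1)) (φ : G → ℂ) ≠ 0 →
            (φ : G → ℂ) k = (φ : G → ℂ) 1 := by
          intro φ hφ
          refine ih φ φ.2 ?_ k hk
          by_cases hφ1 : (φ : G → ℂ) = fun _ => 1
          · rw [hφ1, Complex.one_re]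
            exact_mod_cast Nat.one_le_iff_ne_zero.mpr hd0
          · have hc2 : classInner (indFun H (fun _ => (1 : ℂ)) - fun _ => 1) (φ : G → ℂ) ≠ 0 := by
              rw [classInner_sub_left, classInner_irr_ne isIrrCharacter_one φ.2 (Ne.symm hφ1),
                sub_zero]
              exact hφ
            have hle := classInner_mono_degree hrest (isCharacter_of_irr φ.2)
              (isCharacter_sub_irr hrest φ.2 hc2)
            rw [Pi.sub_apply, indFun_apply_one, mul_one, hidx, Nat.cast_succ, add_sub_cancel_right,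
              Complex.natCast_re] at hle
            exact hle
        have hs := eq_sum_irr (isClassFunction_char hperm)
        rw [hs]
        simp only [Finset.sum_apply, Pi.smul_apply, smul_eq_mul]
        refine Finset.sum_congr rfl fun φ _ => ?_
        by_cases h0 : classInner (indFun H (fun _ => 1)) (φ : G → ℂ) = 0
        · simp [h0]
        · rw [heach φ h0]
      -- hence commutators act trivially
      have hlam : ∀ y : G, extendByZero H (fun h => (lam h : ℂ)) (y⁻¹ * g * y) = 1 := by
        intro y
        let c := MulAut.conj y⁻¹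
        have hle : (derivedSeries G d).map c.toMonoidHom ≤ H := by
          rintro _ ⟨k, hk, rfl⟩
          simpa [c] using hcore k hk y
        have hmap : c g ∈ ((derivedSeries G d).map c.toMonoidHom |>.subgroupOf H |>
            (fun K => ⁅K, K⁆)).map H.subtype := by
          rw [Subgroup.map_commutator, Subgroup.map_subgroupOf_eq_of_le hle,
            ← Subgroup.map_commutator]
          exact ⟨g, by rwa [← derivedSeries_succ], rfl⟩
        obtain ⟨z, hz, hzc⟩ := hmap
        have hmem : y⁻¹ * g * y ∈ H := by
          have := z.2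
          rw [show (z : G) = c g from hzc] at this
          simpa [c] using this
        rw [extendByZero_of_mem _ _ hmem]
        have e : (⟨y⁻¹ * g * y, hmem⟩ : H) = z := Subtype.ext (by
          rw [show (z : G) = c g from hzc]; simp [c])
        rw [e, MonoidHom.mem_ker.mp (Abelianization.commutator_subset_ker lam
          (Subgroup.commutator_mono le_top le_top hz)), Units.val_one]
      rw [hdeg, hH, indFun, Finset.sum_congr rfl fun y _ => hlam y, Finset.sum_const,
        nsmul_eq_mul, mul_one, Finset.card_univ, inv_mul_eq_iff_eq_mul₀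
        (Nat.cast_ne_zero.mpr Nat.card_pos.ne'), ← Nat.cast_mul, Subgroup.card_mul_index,
        Nat.card_eq_fintype_card]
  refine (Group.isSolvable_def G).mpr ⟨Nat.card G, ?_⟩
  rw [Subgroup.eq_bot_iff_forall]
  intro g hg
  refine isConj_one_right.mp (isConj_of_forall_irr fun χ => ?_).symm
  refine key _ χ χ.2 ?_ g hg
  obtain ⟨m, ρ, hρ, e⟩ := χ.2
  rw [← e, ρ.char_one, Complex.natCast_re, Nat.cast_le]
  exact Nat.le_of_dvd Nat.card_pos (finrank_dvd_card ρ)

end CfsgLib.CharTheory
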