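/-
Ordinary character theory, part 18: permutation characters on cosets, quasi-elementary subgroups
and the theorems of Solomon and Artin on the ring they span.
-/
import Cfsg.Agent.Lib.CharTheory.Monomial
import Cfsg.Agent.S0190

namespace CfsgLib.CharTheory

open Cfsg

universe u

variable {G : Type u} [Group G]

/-- The permutation character on the cosets of a subgroup. -/
noncomputable def permChar (H : Subgroup G) (x : G) : ℤ :=
  (Nat.card (MulAction.fixedBy (G ⧸ H) x) : ℤ)

theorem indFun_one_eq_permChar [Fintype G] (H : Subgroup G) (x : G) :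
    indFun H (fun _ => 1) x = (permChar H x : ℂ) := by
  have h := congrFun (Cfsg.Agent.S0190.result (G ⧸ H) ((1 : G) : G ⧸ H)) x
  rw [indFun_congr_subgroup (MulAction.stabilizer_quotient H)] at h
  rw [← h, permChar, Int.cast_natCast]

theorem fix_mk_iff (H : Subgroup G) (x y : G) :
    x • (y : G ⧸ H) = (y : G ⧸ H) ↔ y⁻¹ * x * y ∈ H := by
  rw [MulAction.Quotient.smul_coe, eq_comm, QuotientGroup.eq, smul_eq_mul, mul_assoc]

theorem card_mul_permChar [Finite G] (H : Subgroup G) (x : G) :
    (Nat.card H : ℤ) * permChar H x = (Nat.card {y : G // y⁻¹ * x * y ∈ H} : ℤ) := by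
  rw [permChar, ← Nat.cast_mul, Nat.cast_inj, mul_comm, ← Nat.card_prod]
  refine Nat.card_congr ?_
  refine
    { toFun := fun p => ⟨(p.1 : G ⧸ H).out * (p.2 : G), ?_⟩
      invFun := fun y => (⟨((y : G) : G ⧸ H), (fix_mk_iff H x y).mpr y.2⟩,
        ⟨((y : G) : G ⧸ H).out⁻¹ * (y : G), QuotientGroup.eq.mp (QuotientGroup.out_eq' _)⟩)
      left_inv := fun p => ?_
      right_inv := fun y => Subtype.ext (by simp) }
  · have hp := p.1.2
    rw [MulAction.mem_fixedBy, ← QuotientGroup.out_eq' (p.1 : G ⧸ H), fix_mk_iff] at hp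
    have := mul_mem (mul_mem (inv_mem p.2.2) hp) p.2.2
    simpa [mul_assoc] using this
  · have he : (((p.1 : G ⧸ H).out * (p.2 : G) : G) : G ⧸ H) = (p.1 : G ⧸ H) := by
      rw [QuotientGroup.mk_mul_of_mem _ p.2.2, QuotientGroup.out_eq']
    refine Prod.ext (Subtype.ext he) (Subtype.ext ?_)
    simp only [he, inv_mul_cancel_left]

theorem permChar_conj [Finite G] (H : Subgroup G) (x g : G) :
    permChar H (g * x * g⁻¹) = permChar H x := by
  have hne : (Nat.card H : ℤ) ≠ 0 := by exact_mod_cast Nat.card_pos.ne'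
  refine mul_left_cancel₀ hne ?_
  rw [card_mul_permChar, card_mul_permChar, Nat.cast_inj]
  exact Nat.card_congr
    { toFun := fun y => ⟨g⁻¹ * y, by simpa [mul_assoc] using y.2⟩
      invFun := fun y => ⟨g * y, by simpa [mul_assoc] using y.2⟩
      left_inv := fun y => Subtype.ext (by simp)
      right_inv := fun y => Subtype.ext (by simp) }

theorem permChar_zpowers [Finite G] (H : Subgroup G) {x y : G}
    (h : Subgroup.zpowers x = Subgroup.zpowers y) : permChar H x = permChar H y := by
  have hne : (Nat.card H : ℤ) ≠ 0 := by exact_mod_cast Nat.card_pos.ne'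
  refine mul_left_cancel₀ hne ?_
  rw [card_mul_permChar, card_mul_permChar, Nat.cast_inj]
  refine Nat.card_congr (Equiv.subtypeEquivRight fun z => ?_)
  have key : ∀ w : G, z⁻¹ * w * z ∈ H ↔ Subgroup.zpowers w ≤ H.comap (MulAut.conj z⁻¹).toMonoidHom :=
    fun w => by simp [Subgroup.zpowers_le, Subgroup.mem_comap]
  rw [key x, key y, h]

/-- Permutation characters multiply into combinations of permutation characters of subgroups. -/
theorem permChar_mul_decomp [Fintype G] (H K : Subgroup G) :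
    ∃ a : Subgroup G → ℕ, (∀ U, a U ≠ 0 → U ≤ H) ∧
      indFun H (fun _ => 1) * indFun K (fun _ => 1) =
        ∑ U : Subgroup G, (a U : ℂ) • indFun U (fun _ => 1) := by
  classical
  have := Fintype.ofFinite H
  have := Fintype.ofFinite (G ⧸ K)
  let Ω := Quotient (MulAction.orbitRel H (G ⧸ K))
  have := Fintype.ofFinite Ω
  let S : Ω → Subgroup H := fun q => MulAction.stabilizer H q.out
  let U : Ω → Subgroup G := fun q => (S q).map H.subtype
  refine ⟨fun V => (Finset.univ.filter fun q => U q = V).card, fun V hV => ?_, ?_⟩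
  · obtain ⟨q, hq⟩ := Finset.card_ne_zero.mp hV
    exact (Finset.mem_filter.mp hq).2 ▸ Subgroup.map_subtype_le _
  have hres : (fun h : H => indFun K (fun _ => (1 : ℂ)) h) =
      ∑ q : Ω, indFun (S q) (fun _ => 1) := by
    funext h
    rw [indFun_one_eq_permChar, permChar, Finset.sum_apply, Int.cast_natCast]
    have e : ∀ q : Ω, indFun (S q) (fun _ => (1 : ℂ)) h =
        (Nat.card {z : G ⧸ K // (h : G) • z = z ∧ Quotient.mk (MulAction.orbitRel H (G ⧸ K)) z = q} : ℂ) := by
      intro q
      have e1 := congrFun (Cfsg.Agent.S0190.result (G := H) (MulAction.orbit H q.out)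
        ⟨q.out, MulAction.mem_orbit_self _⟩) h
      have hS : MulAction.stabilizer H (⟨q.out, MulAction.mem_orbit_self _⟩ : MulAction.orbit H q.out) =
          S q := by
        ext k
        rw [MulAction.mem_stabilizer_iff, MulAction.mem_stabilizer_iff, Subtype.ext_iff]
        rfl
      rw [indFun_congr_subgroup hS] at e1
      rw [← e1, Nat.cast_inj]
      refine Nat.card_congr ?_
      refine
        { toFun := fun z => ⟨(z.1 : G ⧸ K), congrArg Subtype.val z.2, ?_⟩
          invFun := fun z => ⟨⟨z.1, ?_⟩, Subtype.ext z.2.1⟩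
          left_inv := fun z => rfl
          right_inv := fun z => rfl }
      · exact (Quotient.sound (MulAction.orbitRel_apply.mpr z.1.2)).trans (Quotient.out_eq q)
      · exact MulAction.orbitRel_apply.mp (Quotient.exact (z.2.2.trans (Quotient.out_eq q).symm))
    simp only [e]
    rw [← Nat.cast_sum, Nat.cast_inj]
    simp only [Nat.card_eq_fintype_card, Fintype.card_subtype]
    rw [← Finset.card_eq_sum_card_fiberwise (t := (Finset.univ : Finset Ω))
      (f := Quotient.mk (MulAction.orbitRel H (G ⧸ K)))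
      (s := Finset.univ.filter fun z : G ⧸ K => (h : G) • z = z) (fun z _ => Finset.mem_univ _) |>.trans
      (Finset.sum_congr rfl fun q _ => by rw [Finset.filter_filter])]
    rfl
  have hcf := indFun_isClassFunction K (fun _ => (1 : ℂ))
  rw [← indFun_mul H (fun _ => 1) hcf,
    show ((fun _ => 1 : H → ℂ) * fun h : H => indFun K (fun _ => (1 : ℂ)) h) =
      (fun h : H => indFun K (fun _ => (1 : ℂ)) h) from funext fun h => one_mul _, hres, indFun_sum]
  have e3 : ∀ q : Ω, indFun H (indFun (S q) (fun _ => (1 : ℂ))) = indFun (U q) (fun _ => 1) := by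
    intro q
    rw [← indFun_trans (U q) H (Subgroup.map_subtype_le _) (fun _ => (1 : ℂ))]
    congr 1
    have hUS : (U q).subgroupOf H = S q :=
      Subgroup.comap_map_eq_self_of_injective H.subtype_injective (S q)
    exact (indFun_congr_subgroup hUS (fun _ => (1 : ℂ))).symm
  simp only [e3]
  rw [← Finset.sum_fiberwise Finset.univ U]
  refine Finset.sum_congr rfl fun V _ => ?_
  rw [Finset.sum_congr rfl fun q hq => by rw [(Finset.mem_filter.mp hq).2], Finset.sum_const,
    Nat.cast_smul_eq_nsmul]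

/-- Quasi-elementary subgroups. -/
def IsQuasi (p : ℕ) (H : Subgroup G) : Prop :=
  ∃ C : Subgroup G, C ≤ H ∧ H ≤ Subgroup.normalizer (C : Set G) ∧ IsCyclic C ∧
    Nat.Coprime (Nat.card C) p ∧ ∃ k : ℕ, C.relIndex H = p ^ k

theorem isQuasi_of_le [Finite G] {p : ℕ} (hp : p.Prime) {H U : Subgroup G} (hH : IsQuasi p H)
    (hU : U ≤ H) : IsQuasi p U := by
  obtain ⟨C, hCH, hHN, hcyc, hcop, k, hk⟩ := hH
  refine ⟨C ⊓ U, inf_le_right, fun u hu => ?_, ?_, ?_, ?_⟩
  · rw [Subgroup.mem_normalizer_iff]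
    intro c
    have h1 := Subgroup.mem_normalizer_iff.mp (hHN (hU hu)) c
    have h2 : c ∈ U ↔ u * c * u⁻¹ ∈ U :=
      ⟨fun h => mul_mem (mul_mem hu h) (inv_mem hu), fun h => by
        simpa [mul_assoc] using mul_mem (mul_mem (inv_mem hu) h) hu⟩
    simp only [Subgroup.mem_inf]
    rw [h1, h2]
  · have := hcyc
    exact Subgroup.isCyclic_of_le (inf_le_left : C ⊓ U ≤ C)
  · exact hcop.coprime_dvd_left (Subgroup.card_dvd_of_le inf_le_left)
  · have hnorm : (C.subgroupOf H).Normal := Subgroup.normal_subgroupOf_of_le_normalizer hHN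
    have hdvd : (C.subgroupOf H).relIndex (U.subgroupOf H) ∣ (C.subgroupOf H).index :=
      Subgroup.relIndex_dvd_index_of_normal _ _
    rw [Subgroup.relIndex_subgroupOf hU, show (C.subgroupOf H).index = p ^ k from hk] at hdvd
    obtain ⟨j, -, hj⟩ := (Nat.dvd_prime_pow hp).mp hdvd
    exact ⟨j, by rw [Subgroup.inf_relIndex_right, hj]⟩

theorem mem_of_pow_mem_of_coprime [Finite G] {H : Subgroup G} {y : G} {m : ℕ}
    (hcop : (orderOf y).Coprime m) (h : y ^ m ∈ H) : y ∈ H := by
  have hb : (1 : ℤ) = (orderOf y : ℤ) * Nat.gcdA (orderOf y) m + (m : ℤ) * Nat.gcdB (orderOf y) m := by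
    rw [← Nat.gcd_eq_gcd_ab, hcop.gcd_eq_one, Nat.cast_one]
  rw [← zpow_one y, hb, zpow_add, zpow_mul, zpow_natCast, pow_orderOf_eq_one, one_zpow, one_mul,
    zpow_mul, zpow_natCast]
  exact H.zpow_mem h _

/-- Solomon's key lemma. -/
theorem exists_quasi_value [Finite G] (x : G) {p : ℕ} (hp : p.Prime) :
    ∃ H : Subgroup G, IsQuasi p H ∧ ¬ (p : ℤ) ∣ permChar H x := by
  classical
  have := Fact.mk hp
  obtain ⟨a, m, hm, hxo⟩ := Nat.exists_eq_pow_mul_and_not_dvd (orderOf_pos x).ne' p hp.ne_one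
  set C := Subgroup.zpowers (x ^ p ^ a) with hCdef
  have hcardC : Nat.card C = m := by
    rw [hCdef, Nat.card_zpowers, orderOf_pow' _ (pow_ne_zero _ hp.ne_zero), hxo,
      Nat.gcd_mul_right_left, Nat.mul_div_cancel_left _ (pow_pos hp.pos a)]
  set N := Subgroup.normalizer (C : Set G) with hNdef
  have hxN : x ∈ N := by
    rw [hNdef, Subgroup.mem_normalizer_iff]
    intro c
    constructor
    · intro hc
      obtain ⟨i, rfl⟩ := Subgroup.mem_zpowers_iff.mp hc
      have : x * (x ^ p ^ a) ^ i * x⁻¹ = (x ^ p ^ a) ^ i := by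
        rw [((Commute.refl x).pow_right _ |>.zpow_right i).eq, mul_inv_cancel_right]
      rw [this]; exact hc
    · intro hc
      obtain ⟨i, hi⟩ := Subgroup.mem_zpowers_iff.mp hc
      have : c = (x ^ p ^ a) ^ i := by
        have hc2 : c = x⁻¹ * (x ^ p ^ a) ^ i * x := by rw [hi]; group
        rw [hc2, ((Commute.refl x).pow_right _ |>.zpow_right i).inv_left.eq, inv_mul_cancel_right]
      rw [this]; exact ⟨i, rfl⟩
  have hCN : C ≤ N := Subgroup.le_normalizer
  set C' := C.subgroupOf N with hC'def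
  have hC' : C'.Normal := Subgroup.normal_in_normalizer
  let q : N →* N ⧸ C' := QuotientGroup.mk' C'
  have hpg : IsPGroup p (Subgroup.zpowers (q ⟨x, hxN⟩)) := by
    have h1 : q ⟨x, hxN⟩ ^ p ^ a = 1 := by
      rw [← map_pow]
      exact (QuotientGroup.eq_one_iff _).mpr (Subgroup.mem_subgroupOf.mpr (Subgroup.mem_zpowers _))
    intro w
    refine ⟨a, Subtype.ext ?_⟩
    obtain ⟨i, hi⟩ := Subgroup.mem_zpowers_iff.mp w.2
    rw [Subgroup.coe_pow, ← hi, ← zpow_natCast, ← zpow_mul, mul_comm, zpow_mul, zpow_natCast, h1,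
      one_zpow, Subgroup.coe_one]
  obtain ⟨Q, hQ⟩ := hpg.exists_le_sylow
  set H₁ := (Q : Subgroup (N ⧸ C')).comap q with hH₁
  set H := H₁.map N.subtype with hHdef
  have hxH₁ : (⟨x, hxN⟩ : N) ∈ H₁ := hQ (Subgroup.mem_zpowers _)
  have hC'H₁ : C' ≤ H₁ := fun c hc => by
    show q c ∈ (Q : Subgroup (N ⧸ C'))
    rw [show q c = 1 from (QuotientGroup.eq_one_iff c).mpr hc]
    exact one_mem _
  have hHN : H ≤ N := Subgroup.map_subtype_le _
  have hsub : H.subgroupOf N = H₁ := Subgroup.comap_map_eq_self_of_injective N.subtype_injective H₁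
  have hCH : C ≤ H := fun c hc =>
    ⟨⟨c, hCN hc⟩, hC'H₁ (Subgroup.mem_subgroupOf.mpr hc), rfl⟩
  have hmemH₁ : ∀ w : N, w ∈ H₁ ↔ (w : G) ∈ H := fun w => by
    rw [← hsub, Subgroup.mem_subgroupOf]
  have hidxH : H₁.index = (Q : Subgroup (N ⧸ C')).index :=
    Subgroup.index_comap_of_surjective _ (QuotientGroup.mk'_surjective C')
  have hrel : ∃ k, C.relIndex H = p ^ k := by
    obtain ⟨k, hk⟩ := Q.2.exists_card_eq
    refine ⟨k, ?_⟩
    rw [← Subgroup.relIndex_subgroupOf hHN, hsub, ← hk]
    have h1 : C'.relIndex H₁ * H₁.index = C'.index := Subgroup.relIndex_mul_index hC'H₁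
    have h2 : Nat.card (Q : Subgroup (N ⧸ C')) * (Q : Subgroup (N ⧸ C')).index = C'.index := by
      rw [Subgroup.card_mul_index]; rfl
    rw [hidxH] at h1
    exact Nat.eq_of_mul_eq_mul_right (Nat.pos_of_ne_zero Subgroup.index_ne_zero_of_finite)
      (h1.trans h2.symm)
  have hCcop : Nat.Coprime (Nat.card C) p := by
    rw [hcardC]; exact (hp.coprime_iff_not_dvd.mpr hm).symm
  refine ⟨H, ⟨C, hCH, hHN, ⟨⟨⟨_, Subgroup.mem_zpowers _⟩, fun ⟨_, i, hi⟩ => ⟨i, Subtype.ext (by simpa using hi)⟩⟩⟩,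
    hCcop, hrel⟩, ?_⟩
  -- the fixed cosets lie in `N`
  set x' : N := ⟨x, hxN⟩
  have hfix : ∀ g : G, g⁻¹ * x * g ∈ H → g ∈ N := by
    intro g hg
    have hmem : ∀ c ∈ C, g⁻¹ * c * g ∈ C := by
      intro c hc
      obtain ⟨k, hk⟩ := hrel
      have hcH : g⁻¹ * c * g ∈ H := by
        obtain ⟨i, rfl⟩ := Subgroup.mem_zpowers_iff.mp hc
        have := Subgroup.zpow_mem _ (Subgroup.pow_mem _ hg (p ^ a)) i
        have e : ∀ b : ℕ, (g⁻¹ * x * g) ^ b = g⁻¹ * x ^ b * g := fun b => by
          simpa using (conj_pow (i := b) (a := g⁻¹) (b := x))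
        rw [e] at this
        have e2 : (g⁻¹ * x ^ p ^ a * g) ^ i = g⁻¹ * (x ^ p ^ a) ^ i * g := by
          simpa using (conj_zpow (i := i) (a := g⁻¹) (b := x ^ p ^ a))
        rwa [e2] at this
      have hn : (C.subgroupOf H).Normal := Subgroup.normal_subgroupOf_of_le_normalizer hHN
      have hp' := (C.subgroupOf H).pow_index_mem ⟨_, hcH⟩
      rw [show (C.subgroupOf H).index = p ^ k from hk, Subgroup.mem_subgroupOf] at hp'
      refine mem_of_pow_mem_of_coprime ?_ (by simpa using hp')
      have ho : orderOf (g⁻¹ * c * g) = orderOf c := by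
        simpa using (orderOf_injective (MulAut.conj g⁻¹).toMonoidHom (MulAut.conj g⁻¹).injective c)
      rw [ho]
      refine Nat.Coprime.pow_right _ (hCcop.coprime_dvd_left ?_)
      exact (Subgroup.orderOf_mk c hc) ▸ orderOf_dvd_natCard (⟨c, hc⟩ : C)
    have hmap : C.map (MulAut.conj g⁻¹).toMonoidHom = C :=
      Subgroup.eq_of_le_of_card_ge (by
        rintro _ ⟨c, hc, rfl⟩
        simpa using hmem c hc) (by
        rw [Subgroup.card_map_of_injective (MulAut.conj g⁻¹).injective])
    rw [hNdef, Subgroup.mem_normalizer_iff]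
    intro c
    constructor
    · intro hc
      rw [← hmap] at hc
      obtain ⟨d, hd, rfl⟩ := hc
      simpa [mul_assoc] using hd
    · intro hc
      have := hmem _ hc
      simpa [mul_assoc] using this
  have hval : Nat.card (MulAction.fixedBy (G ⧸ H) x) = Nat.card (MulAction.fixedBy (N ⧸ H₁) x') := by
    refine (Nat.card_congr (Equiv.ofBijective (fun z => ?_) ⟨?_, ?_⟩)).symm
    · refine ⟨(((z.1.out : N) : G) : G ⧸ H), ?_⟩
      have hz := z.2
      rw [MulAction.mem_fixedBy, ← QuotientGroup.out_eq' z.1, fix_mk_iff] at hz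
      rw [MulAction.mem_fixedBy, fix_mk_iff]
      exact ⟨_, hz, by simp [x']⟩
    · intro z w h
      have h' := QuotientGroup.eq.mp (congrArg Subtype.val h)
      apply Subtype.ext
      rw [← QuotientGroup.out_eq' z.1, ← QuotientGroup.out_eq' w.1, QuotientGroup.eq, hmemH₁]
      simpa using h'
    · intro z
      obtain ⟨g, hg⟩ := QuotientGroup.mk_surjective z.1
      have hz := z.2
      rw [MulAction.mem_fixedBy, ← hg, fix_mk_iff] at hz
      have hgN := hfix g hz
      refine ⟨⟨((⟨g, hgN⟩ : N) : N ⧸ H₁), ?_⟩, Subtype.ext ?_⟩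
      · rw [MulAction.mem_fixedBy, fix_mk_iff, hmemH₁]
        simpa [x'] using hz
      · refine Eq.trans ?_ hg
        simp only
        rw [QuotientGroup.eq]
        have := QuotientGroup.eq.mp (QuotientGroup.out_eq' ((⟨g, hgN⟩ : N) : N ⧸ H₁))
        rw [hmemH₁] at this
        simpa using this
  rw [permChar, hval, Int.natCast_dvd_natCast]
  -- modulo `p` the fixed points count the index
  have := Fintype.ofFinite (N ⧸ H₁)
  let Z := Subgroup.zpowers x'
  have hdvd : ¬ p ∣ H₁.index := by rw [hidxH]; exact Q.not_dvd_index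
  set y : N := x' ^ m
  have hy : IsPGroup p (Subgroup.zpowers y) := by
    refine IsPGroup.of_card (n := a) ?_
    rw [Nat.card_zpowers]
    rw [← Subgroup.orderOf_coe]
    show orderOf ((x' ^ m : N) : G) = _
    rw [Subgroup.coe_pow, orderOf_pow' _ (fun e => hm (by rw [e]; exact dvd_zero p)), hxo, Nat.gcd_mul_left_left,
      Nat.mul_div_cancel _ (Nat.pos_of_ne_zero fun e => hm (by rw [e]; exact dvd_zero p))]
  have hfp : ∀ z : N ⧸ H₁, x' • z = z ↔ y • z = z := by
    intro z
    have hker : ∀ c : N, c ∈ C' → c • z = z := by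
      intro c hc
      obtain ⟨w, rfl⟩ := QuotientGroup.mk_surjective z
      rw [fix_mk_iff]
      exact hC'H₁ (by simpa using hC'.conj_mem c hc w⁻¹)
    have hpa : x' ^ p ^ a ∈ C' := Subgroup.mem_subgroupOf.mpr (by simp [x', hCdef])
    constructor
    · intro h
      have : x' ∈ MulAction.stabilizer N z := h
      exact (MulAction.stabilizer N z).pow_mem this m
    · intro h
      have h1 : y ∈ MulAction.stabilizer N z := h
      have h2 : x' ^ p ^ a ∈ MulAction.stabilizer N z := hker _ hpa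
      have hb : (1 : ℤ) = (m : ℤ) * Nat.gcdA m (p ^ a) + ((p ^ a : ℕ) : ℤ) * Nat.gcdB m (p ^ a) := by
        rw [← Nat.gcd_eq_gcd_ab,
          (Nat.Coprime.pow_right a (hp.coprime_iff_not_dvd.mpr hm).symm).gcd_eq_one, Nat.cast_one]
      show x' ∈ MulAction.stabilizer N z
      rw [← zpow_one x', hb, zpow_add, zpow_mul, zpow_mul, zpow_natCast, zpow_natCast]
      exact mul_mem (Subgroup.zpow_mem _ h1 _) (Subgroup.zpow_mem _ h2 _)
  have hmodeq := hy.card_modEq_card_fixedPoints (N ⧸ H₁)
  rw [show Nat.card (MulAction.fixedBy (N ⧸ H₁) x') =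
      Nat.card (MulAction.fixedPoints (Subgroup.zpowers y) (N ⧸ H₁)) from
    Nat.card_congr (Equiv.subtypeEquivRight fun z => by
      rw [MulAction.mem_fixedBy, hfp, MulAction.mem_fixedPoints]
      refine ⟨fun h w => ?_, fun h => h ⟨y, Subgroup.mem_zpowers y⟩⟩
      obtain ⟨i, hi⟩ := Subgroup.mem_zpowers_iff.mp w.2
      show (w : N) • z = z
      rw [← hi]
      exact (MulAction.stabilizer N z).zpow_mem h i)]
  intro h
  exact hdvd ((Nat.ModEq.dvd_iff hmodeq dvd_rfl).mpr h)

/-- Artin's lemma: rational class functions times the order. -/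
theorem artin_mem [Fintype G] (f : G → ℤ) (hconj : ∀ x g : G, f (g * x * g⁻¹) = f x)
    (hgen : ∀ x y : G, Subgroup.zpowers x = Subgroup.zpowers y → f x = f y) :
    (fun x => (Nat.card G : ℤ) * f x) ∈
      AddSubgroup.closure {h : G → ℤ | ∃ C : Subgroup G, IsCyclic C ∧ h = permChar C} := by
  classical
  set R := AddSubgroup.closure {h : G → ℤ | ∃ C : Subgroup G, IsCyclic C ∧ h = permChar C}
  let e : G → (G → ℤ) := fun c x =>
    (Nat.card {y : G // Subgroup.zpowers (y⁻¹ * x * y) = Subgroup.zpowers c} : ℤ)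
  -- all the generators of one cyclic subgroup give the same function
  let E : Subgroup G → (G → ℤ) := fun C x =>
    (Nat.card {y : G // Subgroup.zpowers (y⁻¹ * x * y) = C} : ℤ)
  have hE : ∀ n, ∀ C : Subgroup G, Nat.card C = n → E C ∈ R := by
    intro n
    induction n using Nat.strong_induction_on with
    | _ n ih =>
    intro C hC
    by_cases hcyc : IsCyclic C
    swap
    · have : E C = 0 := by
        funext x
        have : IsEmpty {y : G // Subgroup.zpowers (y⁻¹ * x * y) = C} := ⟨fun y => hcyc (by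
          have := Subgroup.isCyclic_zpowers (y.1⁻¹ * x * y.1)
          rwa [y.2] at this)⟩
        simp [E]
      rw [this]; exact zero_mem R
    have hsum : (fun x => (Nat.card C : ℤ) * permChar C x) =
        ∑ D ∈ Finset.univ.filter (fun D : Subgroup G => D ≤ C), E D := by
      funext x
      rw [card_mul_permChar, Finset.sum_apply]
      simp only [E]
      rw [← Nat.cast_sum, Nat.cast_inj, Nat.card_eq_fintype_card, Fintype.card_subtype]
      simp only [Nat.card_eq_fintype_card, Fintype.card_subtype]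
      rw [Finset.card_eq_sum_card_fiberwise (f := fun y => Subgroup.zpowers (y⁻¹ * x * y))
        (t := Finset.univ.filter (fun D : Subgroup G => D ≤ C))
        (fun y hy => Finset.mem_filter.mpr ⟨Finset.mem_univ _,
          Subgroup.zpowers_le.mpr (Finset.mem_filter.mp hy).2⟩)]
      refine Finset.sum_congr rfl fun D hD => ?_
      congr 1
      ext y
      simp only [Finset.mem_filter, Finset.mem_univ, true_and]
      exact ⟨fun h => h.2, fun h => ⟨(Finset.mem_filter.mp hD).2 (h ▸ Subgroup.mem_zpowers _), h⟩⟩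
    rw [← Finset.add_sum_erase _ _ (Finset.mem_filter.mpr ⟨Finset.mem_univ C, le_refl C⟩ :
      C ∈ Finset.univ.filter (fun D : Subgroup G => D ≤ C))] at hsum
    rw [eq_sub_of_add_eq hsum.symm]
    refine sub_mem ?_ (sum_mem fun D hD => ?_)
    · have hmem : permChar C ∈ R := AddSubgroup.subset_closure ⟨C, hcyc, rfl⟩
      have := AddSubgroup.zsmul_mem R hmem (Nat.card C : ℤ)
      simpa [Pi.smul_def] using this
    · obtain ⟨hne, hle⟩ := Finset.mem_erase.mp hD
      refine ih (Nat.card D) ?_ D rfl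
      rw [← hC]
      exact lt_of_le_of_ne (Subgroup.card_le_of_le (Finset.mem_filter.mp hle).2) fun h =>
        hne (Subgroup.eq_of_le_of_card_ge (Finset.mem_filter.mp hle).2 h.ge)
  choose! gen hgn using fun (C : Subgroup G) (h : IsCyclic C) =>
    (Subgroup.isCyclic_iff_exists_zpowers_eq_top C).mp h
  have key : (fun x => (Nat.card G : ℤ) * f x) = ∑ C : Subgroup G, f (gen C) • E C := by
    funext x
    simp only [Finset.sum_apply, Pi.smul_apply, smul_eq_mul, E]
    rw [show (Nat.card G : ℤ) * f x = ∑ _y : G, f x by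
      simp [Finset.sum_const, Nat.card_eq_fintype_card],
      ← Finset.sum_fiberwise Finset.univ (fun y => Subgroup.zpowers (y⁻¹ * x * y))]
    refine Finset.sum_congr rfl fun C _ => ?_
    rw [Nat.card_eq_fintype_card, Fintype.card_subtype,
      Finset.sum_congr rfl fun y hy => ?_, Finset.sum_const, nsmul_eq_mul, mul_comm]
    have hy' := (Finset.mem_filter.mp hy).2
    have hcyc : IsCyclic C := hy' ▸ Subgroup.isCyclic_zpowers _
    rw [← hconj x y⁻¹, inv_inv]
    exact (hgen _ _ (hy'.trans (hgn C hcyc).symm))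
  rw [key]
  exact sum_mem fun C _ => AddSubgroup.zsmul_mem R (hE _ C rfl) _

theorem isQuasi_of_cyclic [Finite G] {p : ℕ} (hp : p.Prime) {H : Subgroup G} (h : IsCyclic H) :
    IsQuasi p H := by
  obtain ⟨g, hg⟩ := (Subgroup.isCyclic_iff_exists_zpowers_eq_top H).mp h
  obtain ⟨a, m, hm, hgo⟩ := Nat.exists_eq_pow_mul_and_not_dvd (orderOf_pos g).ne' p hp.ne_one
  subst hg
  refine ⟨Subgroup.zpowers (g ^ p ^ a), Subgroup.zpowers_le.mpr (Subgroup.npow_mem_zpowers g _),
    ?_, Subgroup.isCyclic_zpowers _, ?_, a, ?_⟩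
  · rw [Subgroup.zpowers_le, Subgroup.mem_normalizer_iff]
    intro c
    constructor
    · intro hc
      obtain ⟨i, rfl⟩ := Subgroup.mem_zpowers_iff.mp hc
      rw [((Commute.refl g).pow_right _ |>.zpow_right i).eq, mul_inv_cancel_right]
      exact hc
    · intro hc
      obtain ⟨i, hi⟩ := Subgroup.mem_zpowers_iff.mp hc
      have hc2 : c = g⁻¹ * (g ^ p ^ a) ^ i * g := by rw [hi]; group
      rw [hc2, ((Commute.refl g).pow_right _ |>.zpow_right i).inv_left.eq, inv_mul_cancel_right]
      exact ⟨i, rfl⟩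
  · rw [Nat.card_zpowers, orderOf_pow' _ (pow_ne_zero _ hp.ne_zero), hgo, Nat.gcd_mul_right_left,
      Nat.mul_div_cancel_left _ (pow_pos hp.pos a)]
    exact (hp.coprime_iff_not_dvd.mpr hm).symm
  · have hle : Subgroup.zpowers (g ^ p ^ a) ≤ Subgroup.zpowers g :=
      Subgroup.zpowers_le.mpr (Subgroup.npow_mem_zpowers g _)
    have h2 := Subgroup.card_mul_index ((Subgroup.zpowers (g ^ p ^ a)).subgroupOf (Subgroup.zpowers g))
    rw [Nat.card_congr (Subgroup.subgroupOfEquivOfLe hle).toEquiv, Nat.card_zpowers, Nat.card_zpowers,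
      orderOf_pow' _ (pow_ne_zero _ hp.ne_zero), hgo, Nat.gcd_mul_right_left,
      Nat.mul_div_cancel_left _ (pow_pos hp.pos a), mul_comm] at h2
    exact Nat.eq_of_mul_eq_mul_right (Nat.pos_of_ne_zero fun e => hm (by rw [e]; exact dvd_zero p)) h2

/-- Solomon's theorem. -/
theorem solomon [Fintype G] {p : ℕ} (hp : p.Prime) :
    ∃ m : ℤ, ¬ (p : ℤ) ∣ m ∧
      (fun _ : G => m) ∈ AddSubgroup.closure {h : G → ℤ | ∃ H, IsQuasi p H ∧ h = permChar H} := by
  classical
  set S := {h : G → ℤ | ∃ H, IsQuasi p H ∧ h = permChar H}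
  set R := AddSubgroup.closure S
  have hmul : ∀ f ∈ R, ∀ g ∈ R, f * g ∈ R := by
    have hgen : ∀ f ∈ S, ∀ g ∈ S, f * g ∈ R := by
      rintro _ ⟨H, hH, rfl⟩ _ ⟨K, -, rfl⟩
      obtain ⟨a, haH, ha⟩ := permChar_mul_decomp H K
      have : permChar H * permChar K = ∑ U : Subgroup G, (a U : ℤ) • permChar U := by
        funext x
        have h := congrFun ha x
        simp only [Pi.mul_apply, Finset.sum_apply, Pi.smul_apply, indFun_one_eq_permChar,
          smul_eq_mul] at h ⊢
        exact_mod_cast h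
      rw [this]
      refine sum_mem fun U _ => ?_
      by_cases h0 : a U = 0
      · simp [h0]
      · exact AddSubgroup.zsmul_mem R
          (AddSubgroup.subset_closure (⟨U, isQuasi_of_le hp hH (haH U h0), rfl⟩ : permChar U ∈ S)) _
    intro f hf g hg
    induction hf using AddSubgroup.closure_induction with
    | mem f hf =>
      induction hg using AddSubgroup.closure_induction with
      | mem g hg => exact hgen f hf g hg
      | zero => simp
      | add g g' _ _ h h' => rw [mul_add]; exact add_mem h h'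
      | neg g _ h => rw [mul_neg]; exact neg_mem h
    | zero => simp
    | add f f' _ _ h h' => rw [add_mul]; exact add_mem h h'
    | neg f _ h => rw [neg_mul]; exact neg_mem h
  have hpow : ∀ f ∈ R, ∀ k : ℕ, f ^ (k + 1) ∈ R := by
    intro f hf k
    induction k with
    | zero => simpa using hf
    | succ k ih => rw [pow_succ]; exact hmul _ ih _ hf
  have := Fact.mk hp
  -- an element congruent to one everywhere
  have hone : ∀ s : Finset G, ∃ g ∈ R, ∀ x ∈ s, (g x : ZMod p) = 1 := by
    intro s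
    induction s using Finset.induction_on with
    | empty => exact ⟨0, zero_mem R, by simp⟩
    | insert x s hx ih =>
      obtain ⟨g, hg, hgs⟩ := ih
      obtain ⟨H, hH, hval⟩ := exists_quasi_value x hp
      obtain ⟨k, hk⟩ : ∃ k, p - 1 = k + 1 := ⟨p - 2, by have := hp.two_le; omega⟩
      have hf : permChar H ^ (k + 1) ∈ R :=
        hpow _ (AddSubgroup.subset_closure ⟨H, hH, rfl⟩) k
      refine ⟨g + permChar H ^ (k + 1) - g * permChar H ^ (k + 1),
        sub_mem (add_mem hg hf) (hmul _ hg _ hf), fun y hy => ?_⟩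
      simp only [Pi.sub_apply, Pi.add_apply, Pi.mul_apply, Pi.pow_apply, Int.cast_sub, Int.cast_add,
        Int.cast_mul, Int.cast_pow]
      rcases Finset.mem_insert.mp hy with rfl | hy
      · rw [← hk, ZMod.pow_card_sub_one_eq_one (fun e => hval ((ZMod.intCast_zmod_eq_zero_iff_dvd _ _).mp e))]
        ring
      · rw [hgs y hy]; ring
  obtain ⟨g, hg, hg1⟩ := hone Finset.univ
  obtain ⟨a, m, hm, hG⟩ := Nat.exists_eq_pow_mul_and_not_dvd (Nat.card_pos (α := G)).ne' p hp.ne_one
  refine ⟨(m : ℤ), fun h => hm (Int.natCast_dvd_natCast.mp h), ?_⟩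
  -- values
  have hRprop : ∀ f ∈ R, (∀ x k : G, f (k * x * k⁻¹) = f x) ∧
      ∀ x y : G, Subgroup.zpowers x = Subgroup.zpowers y → f x = f y := by
    intro f hf
    induction hf using AddSubgroup.closure_induction with
    | mem f hf =>
      obtain ⟨H, -, rfl⟩ := hf
      exact ⟨fun x k => permChar_conj H x k, fun x y h => permChar_zpowers H h⟩
    | zero => exact ⟨fun _ _ => rfl, fun _ _ _ => rfl⟩
    | add f f' _ _ h h' =>
      exact ⟨fun x k => by simp [h.1 x k, h'.1 x k], fun x y e => by simp [h.2 x y e, h'.2 x y e]⟩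
    | neg f _ h => exact ⟨fun x k => by simp [h.1 x k], fun x y e => by simp [h.2 x y e]⟩
  obtain ⟨b, hb⟩ : ∃ b, p ^ a = b + 1 := ⟨p ^ a - 1, by have := pow_pos hp.pos a; omega⟩
  have hgp := hpow g hg b
  rw [← hb] at hgp
  have hdvd : ∀ x, ((p : ℤ) ^ a) ∣ g x ^ p ^ a - 1 := by
    intro x
    have h1 : (p : ℤ) ∣ g x - 1 := by
      rw [← ZMod.intCast_zmod_eq_zero_iff_dvd, Int.cast_sub, hg1 x (Finset.mem_univ _), Int.cast_one,
        sub_self]
    have h2 := dvd_sub_pow_of_dvd_sub (R := ℤ) (p := p) (a := g x) (b := 1) (by simpa using h1) a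
    rw [one_pow] at h2
    exact dvd_trans (pow_dvd_pow _ (Nat.le_succ a)) h2
  choose q hq using hdvd
  have hqc : ∀ x k : G, q (k * x * k⁻¹) = q x := fun x k => by
    refine mul_left_cancel₀ (pow_ne_zero a (Int.natCast_ne_zero.mpr hp.ne_zero)) ?_
    rw [← hq, ← hq, show g (k * x * k⁻¹) = g x from (hRprop g hg).1 x k]
  have hqz : ∀ x y : G, Subgroup.zpowers x = Subgroup.zpowers y → q x = q y := fun x y e => by
    refine mul_left_cancel₀ (pow_ne_zero a (Int.natCast_ne_zero.mpr hp.ne_zero)) ?_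
    rw [← hq, ← hq, (hRprop g hg).2 x y e]
  have hart : (fun x => (Nat.card G : ℤ) * q x) ∈ R :=
    (AddSubgroup.closure_mono (fun h hh => by
      obtain ⟨C, hC, e⟩ := hh
      exact ⟨C, isQuasi_of_cyclic hp hC, e⟩)) (artin_mem q hqc hqz)
  have e : (fun _ : G => (m : ℤ)) = (m : ℤ) • (g ^ p ^ a) - fun x => (Nat.card G : ℤ) * q x := by
    funext x
    have hGz : (Nat.card G : ℤ) = (p : ℤ) ^ a * m := by exact_mod_cast hG
    simp only [Pi.sub_apply, Pi.smul_apply, Pi.pow_apply, smul_eq_mul, hGz]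
    linear_combination -(m : ℤ) * hq x
  rw [e]
  exact sub_mem (AddSubgroup.zsmul_mem R hgp _) hart

end CfsgLib.CharTheory
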