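/-
Ordinary character theory, part 19: elementary groups and the induction theorems of Brauer.
-/
import Cfsg.Agent.Lib.CharTheory.PermChar

namespace CfsgLib.CharTheory

open Cfsg

universe u

variable {G : Type u} [Group G]

/-! ### Elementary groups -/

theorem isElementary_congr {E F : Type u} [Group E] [Group F] (e : E ≃* F) {p : ℕ}
    (h : IsElementary p E) : IsElementary p F := by
  obtain ⟨x, hx, hcop, k, hk⟩ := h
  refine ⟨e x, ?_, ?_, k, ?_⟩
  · rw [Subgroup.mem_center_iff] at hx ⊢
    intro y
    obtain ⟨z, rfl⟩ := e.surjective y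
    rw [← map_mul, ← map_mul, hx z]
  · rwa [show e x = e.toMonoidHom x from rfl, orderOf_injective e.toMonoidHom e.injective x]
  · rw [← hk, show Subgroup.zpowers (e x) = (Subgroup.zpowers x).map e.toMonoidHom from
      (MonoidHom.map_zpowers e.toMonoidHom x).symm]
    exact Subgroup.index_map_equiv _ e

theorem isNilpotent_of_elementary {E : Type u} [Group E] [Finite E] {p : ℕ} (hp : p.Prime)
    (h : IsElementary p E) : Group.IsNilpotent E := by
  obtain ⟨x, hx, -, k, hk⟩ := h
  have hle : Subgroup.zpowers x ≤ Subgroup.center E := Subgroup.zpowers_le.mpr hx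
  have : (Subgroup.zpowers x).Normal := ⟨fun y hy g => by
    rw [Subgroup.mem_center_iff.mp (hle hy) g, mul_inv_cancel_right]
    exact hy⟩
  have := Fact.mk hp
  have hQ : IsPGroup p (E ⧸ Subgroup.zpowers x) := IsPGroup.of_card (n := k) hk
  have := hQ.isNilpotent
  exact Subgroup.isNilpotent_of_ker_le_center (QuotientGroup.mk' (Subgroup.zpowers x))
    (by rw [QuotientGroup.ker_mk']; exact hle)

theorem isElementary_subgroup {E : Type u} [Group E] [Finite E] {p : ℕ} (hp : p.Prime)
    (h : IsElementary p E) (U : Subgroup E) : IsElementary p U := by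
  obtain ⟨x, hx, hcop, k, hk⟩ := h
  set Z := Subgroup.zpowers x
  have hle : Z ≤ Subgroup.center E := Subgroup.zpowers_le.mpr hx
  have : Z.Normal := ⟨fun y hy g => by
    rw [Subgroup.mem_center_iff.mp (hle hy) g, mul_inv_cancel_right]
    exact hy⟩
  obtain ⟨y, hy⟩ := (Subgroup.isCyclic_iff_exists_zpowers_eq_top (Z ⊓ U)).mp
    (Subgroup.isCyclic_of_le (inf_le_left : Z ⊓ U ≤ Z))
  have hymem : y ∈ Z ⊓ U := hy ▸ Subgroup.mem_zpowers y
  have hzp : Subgroup.zpowers (⟨y, hymem.2⟩ : U) = (Z ⊓ U).subgroupOf U := by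
    apply Subgroup.map_injective U.subtype_injective
    rw [MonoidHom.map_zpowers, Subgroup.map_subgroupOf_eq_of_le inf_le_right]
    exact hy
  obtain ⟨j, -, hj⟩ := (Nat.dvd_prime_pow hp).mp
    (hk ▸ (Subgroup.relIndex_dvd_index_of_normal Z U) : Z.relIndex U ∣ p ^ k)
  refine ⟨⟨y, hymem.2⟩, ?_, ?_, j, ?_⟩
  · rw [Subgroup.mem_center_iff]
    exact fun u => Subtype.ext (Subgroup.mem_center_iff.mp (hle hymem.1) u)
  · rw [Subgroup.orderOf_mk]
    refine hcop.coprime_dvd_left ?_
    rw [← Nat.card_zpowers x]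
    exact (Subgroup.orderOf_mk y hymem.1) ▸ orderOf_dvd_natCard (⟨y, hymem.1⟩ : Z)
  · rw [hzp, ← hj]
    exact Subgroup.inf_relIndex_right Z U

theorem isElementary_of_le [Finite G] {p : ℕ} (hp : p.Prime) {E U : Subgroup G}
    (h : IsElementary p E) (hU : U ≤ E) : IsElementary p U :=
  isElementary_congr (Subgroup.subgroupOfEquivOfLe hU) (isElementary_subgroup hp h (U.subgroupOf E))

theorem isElementary_map {H : Type u} [Group H] (f : H →* G) (hf : Function.Injective f) {p : ℕ}
    {E : Subgroup H} (h : IsElementary p E) : IsElementary p (E.map f) :=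
  isElementary_congr (E.equivMapOfInjective f hf) h

/-- The `p`-regular elements of a finite elementary group form a direct factor. -/
theorem exists_regular_part {E : Type u} [Group E] [Finite E] {p q : ℕ} (hp : p.Prime) (hq : q.Prime)
    (h : IsElementary q E) :
    ∃ Q : Subgroup E, (∃ k, Q.index = p ^ k ∧ ∃ P : Subgroup E, Nat.card P = p ^ k ∧
      P ≤ Subgroup.centralizer (Q : Set E)) ∧ Nat.Coprime (Nat.card Q) p ∧
      ∀ e : E, Nat.Coprime (orderOf e) p → e ∈ Q := by
  have := Fact.mk hp
  obtain ⟨x, hx, hcop, k, hk⟩ := h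
  set Z := Subgroup.zpowers x with hZ
  have hle : Z ≤ Subgroup.center E := Subgroup.zpowers_le.mpr hx
  have hZn : Z.Normal := ⟨fun y hy g => by
    rw [Subgroup.mem_center_iff.mp (hle hy) g, mul_inv_cancel_right]
    exact hy⟩
  by_cases hqp : q = p
  · subst hqp
    refine ⟨Z, ⟨k, hk, ?_⟩, by rw [Nat.card_zpowers]; exact hcop, fun e he => ?_⟩
    · obtain ⟨P⟩ : Nonempty (Sylow q E) := inferInstance
      obtain ⟨j, hj⟩ := P.2.exists_card_eq
      refine ⟨(P : Subgroup E), ?_, fun a _ => ?_⟩
      · have h1 : q ^ k * Nat.card Z = Nat.card E := by rw [← hk, mul_comm, Subgroup.card_mul_index]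
        have h2 := P.card_eq_multiplicity
        have hnd : ¬ q ∣ Nat.card Z := by
          rw [Nat.card_zpowers]
          exact hp.coprime_iff_not_dvd.mp hcop.symm
        rw [h2, ← h1, Nat.factorization_mul (pow_ne_zero _ hp.ne_zero) Nat.card_pos.ne',
          Nat.factorization_pow]
        simp [hp.factorization_self, Nat.factorization_eq_zero_of_not_dvd hnd]
      · rw [Subgroup.mem_centralizer_iff]
        exact fun z hz => (Subgroup.mem_center_iff.mp (hle hz) a).symm
    · refine mem_of_pow_mem_of_coprime (m := Z.index) ?_ (Z.pow_index_mem e)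
      rw [hk]; exact he.pow_right k
  · -- the Sylow `p`-subgroup is central
    obtain ⟨P⟩ : Nonempty (Sylow p E) := inferInstance
    have hPZ : (P : Subgroup E) ≤ Z := fun a ha => by
      refine mem_of_pow_mem_of_coprime (m := Z.index) ?_ (Z.pow_index_mem a)
      rw [hk]
      obtain ⟨j, hj⟩ := P.2 ⟨a, ha⟩
      have hd : orderOf a ∣ p ^ j := orderOf_dvd_of_pow_eq_one (by simpa using congrArg Subtype.val hj)
      exact (Nat.Coprime.pow j k ((Nat.coprime_primes hp hq).mpr (Ne.symm hqp))).coprime_dvd_left hd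
    have hPc : (P : Subgroup E) ≤ Subgroup.center E := hPZ.trans hle
    have hPn : (P : Subgroup E).Normal := ⟨fun a ha g => by
      rw [Subgroup.mem_center_iff.mp (hPc ha) g, mul_inv_cancel_right]
      exact ha⟩
    obtain ⟨Q, hQ⟩ := Subgroup.exists_right_complement'_of_coprime P.card_coprime_index
    have hQP : Nat.card Q = (P : Subgroup E).index := hQ.symm.index_eq_card.symm
    obtain ⟨j, hj⟩ := P.2.exists_card_eq
    have hQi : Q.index = p ^ j := by
      rw [← hj]
      exact hQ.index_eq_card
    have hQc : Nat.Coprime (Nat.card Q) p := by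
      rw [hQP]; exact (hp.coprime_iff_not_dvd.mpr P.not_dvd_index).symm
    refine ⟨Q, ⟨j, hQi, (P : Subgroup E), hj, fun a ha => ?_⟩, hQc, fun e he => ?_⟩
    · rw [Subgroup.mem_centralizer_iff]
      exact fun z _ => Subgroup.mem_center_iff.mp (hPc ha) z
    · obtain ⟨⟨a, b⟩, hab⟩ := hQ.2 e
      simp only at hab
      have hcomm : Commute (a : E) (b : E) := (Subgroup.mem_center_iff.mp (hPc a.2) b).symm
      have hb1 : (b : E) ^ Nat.card Q = 1 := by
        rw [← Subgroup.coe_pow, pow_card_eq_one', Subgroup.coe_one]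
      have hpow : e ^ (orderOf e * Nat.card Q) = 1 := by
        rw [pow_mul, pow_orderOf_eq_one, one_pow]
      rw [← hab, hcomm.mul_pow, mul_comm (orderOf _), pow_mul (b : E), hb1, one_pow, mul_one] at hpow
      have ha1 : (a : E) ^ p ^ j = 1 := by
        rw [← hj, ← Subgroup.coe_pow, pow_card_eq_one', Subgroup.coe_one]
      have hd1 := orderOf_dvd_of_pow_eq_one hpow
      have hd2 := orderOf_dvd_of_pow_eq_one ha1
      have hone := Nat.eq_one_of_dvd_coprimes
        ((Nat.Coprime.mul_left hQc (hab ▸ he)).pow_right j) hd1 hd2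
      rw [orderOf_eq_one_iff] at hone
      rw [← hab, hone, one_mul]
      exact b.2

/-! ### Induction of functions -/

theorem indFun_map_subtype [Fintype G] (T : Subgroup G) [Fintype T] (H : Subgroup T) (φ : H → ℂ) :
    indFun T (indFun H φ) = indFun (H.map T.subtype)
      (fun x => φ ((Subgroup.equivMapOfInjective H T.subtype T.subtype_injective).symm x)) := by
  have he : (H.map T.subtype).subgroupOf T = H :=
    Subgroup.comap_map_eq_self_of_injective T.subtype_injective H
  rw [← indFun_trans (H.map T.subtype) T (Subgroup.map_subtype_le H)]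
  congr 1
  rw [indFun_congr_subgroup he]
  congr 1
  funext x
  refine congrArg φ ?_
  symm
  rw [MulEquiv.symm_apply_eq]
  rfl

/-- The functions induced from characters of `p`-elementary subgroups. -/
def elemSpan (p : ℕ) (G : Type u) [Group G] [Fintype G] : AddSubgroup (G → ℂ) :=
  AddSubgroup.closure {f | ∃ (E : Subgroup G) (φ : E → ℂ), IsElementary p E ∧ IsCharacter E φ ∧
    f = indFun E φ}

theorem elemSpan_mem_indFun [Fintype G] {p : ℕ} {T : Subgroup G} [Fintype T] {f : T → ℂ}
    (hf : f ∈ elemSpan p T) : indFun T f ∈ elemSpan p G := by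
  induction hf using AddSubgroup.closure_induction with
  | mem f hf =>
    obtain ⟨E, φ, hE, hφ, rfl⟩ := hf
    rw [indFun_map_subtype]
    exact AddSubgroup.subset_closure ⟨_, _, isElementary_map T.subtype T.subtype_injective hE,
      isCharacter_comp hφ
        (Subgroup.equivMapOfInjective E T.subtype T.subtype_injective).symm.toMonoidHom, rfl⟩
  | zero => rw [indFun_zero]; exact zero_mem _
  | add f g _ _ h h' => rw [indFun_add]; exact add_mem h h'
  | neg f _ h => rw [indFun_neg]; exact neg_mem h

theorem elemSpan_mul_char [Fintype G] {p : ℕ} {f χ : G → ℂ} (hf : f ∈ elemSpan p G)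
    (hχ : IsCharacter G χ) : f * χ ∈ elemSpan p G := by
  induction hf using AddSubgroup.closure_induction with
  | mem f hf =>
    obtain ⟨E, φ, hE, hφ, rfl⟩ := hf
    rw [← indFun_mul E φ (isClassFunction_char hχ)]
    exact AddSubgroup.subset_closure
      ⟨E, _, hE, isCharacter_mul hφ (isCharacter_restrict hχ E), rfl⟩
  | zero => rw [zero_mul]; exact zero_mem _
  | add f g _ _ h h' => rw [add_mul]; exact add_mem h h'
  | neg f _ h => rw [neg_mul]; exact neg_mem h

/-- An invariant linear character trivial on the fixed points of a `p`-group of operators. -/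
theorem linear_eq_one_of_fixed_points [Finite G] {p : ℕ} [Fact p.Prime] {C P : Subgroup G}
    [hC : C.Normal] (hP : IsPGroup p P) (hcop : Nat.Coprime (Nat.card C) p) (φ : C →* ℂˣ)
    (hinv : ∀ g ∈ P, ∀ c : C, φ (MulAut.conjNormal g c) = φ c)
    (hker : ∀ c : C, (c : G) ∈ Subgroup.centralizer (P : Set G) → φ c = 1) : φ = 1 := by
  classical
  ext c
  let X := {d : C // φ d = φ c}
  let act : MulAction P X :=
    { smul := fun g d => ⟨MulAut.conjNormal (g : G) d.1, (hinv g g.2 d.1).trans d.2⟩
      one_smul := fun d => Subtype.ext (by show MulAut.conjNormal ((1 : P) : G) d.1 = d.1; simp)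
      mul_smul := fun a b d => Subtype.ext (by
        show MulAut.conjNormal ((a * b : P) : G) d.1 = MulAut.conjNormal (a : G) (MulAut.conjNormal (b : G) d.1)
        rw [Subgroup.coe_mul, map_mul]; rfl) }
  have hcard : ¬ p ∣ Nat.card X := by
    have e : Nat.card X = Nat.card φ.ker := Nat.card_congr
      { toFun := fun d => ⟨c⁻¹ * d.1, by
          rw [MonoidHom.mem_ker, map_mul, map_inv, d.2, inv_mul_cancel]⟩
        invFun := fun k => ⟨c * k.1, by rw [map_mul, MonoidHom.mem_ker.mp k.2, mul_one]⟩
        left_inv := fun d => Subtype.ext (by simp)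
        right_inv := fun k => Subtype.ext (by simp) }
    rw [e]
    exact fun h => (Fact.out : p.Prime).coprime_iff_not_dvd.mp hcop.symm
      (h.trans (Subgroup.card_subgroup_dvd_card _))
  obtain ⟨d, hd⟩ := hP.nonempty_fixed_point_of_prime_not_dvd_card (α := X) hcard
  have hmem : (d.1 : G) ∈ Subgroup.centralizer (P : Set G) := by
    rw [Subgroup.mem_centralizer_iff]
    intro g hg
    have h := congrArg (fun z : X => (z.1 : G)) (hd ⟨g, hg⟩)
    change ((MulAut.conjNormal g d.1 : C) : G) = _ at h
    rw [MulAut.conjNormal_apply] at h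
    exact mul_inv_eq_iff_eq_mul.mp h
  rw [← d.2, hker d.1 hmem]
  rfl

/-- The principal character of a quasi-elementary group. -/
theorem one_mem_elemSpan_quasi {p : ℕ} (hp : p.Prime) {G : Type u} [Group G] [Fintype G]
    (h : ∃ C : Subgroup G, C.Normal ∧ IsCyclic C ∧ Nat.Coprime (Nat.card C) p ∧
      ∃ k, C.index = p ^ k) :
    (fun _ : G => (1 : ℂ)) ∈ elemSpan p G := by
  classical
  suffices ∀ n, ∀ (G : Type u) [Group G] [Fintype G], Nat.card G = n →
      (∃ C : Subgroup G, C.Normal ∧ IsCyclic C ∧ Nat.Coprime (Nat.card C) p ∧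
        ∃ k, C.index = p ^ k) → (fun _ : G => (1 : ℂ)) ∈ elemSpan p G from this _ G rfl h
  intro n
  induction n using Nat.strong_induction_on with
  | _ n ih =>
  intro G _ _ hn ⟨C, hCn, hCcyc, hCcop, k, hk⟩
  have := Fact.mk hp
  by_cases helem : IsElementary p (⊤ : Subgroup G)
  · exact AddSubgroup.subset_closure ⟨⊤, fun _ => 1, helem, isCharacter_one,
      (indFun_top (isClassFunction_char isCharacter_one) fun _ => rfl).symm⟩
  obtain ⟨P⟩ : Nonempty (Sylow p G) := inferInstance
  set Z := C ⊓ Subgroup.centralizer ((P : Subgroup G) : Set G) with hZ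
  obtain ⟨z, hz⟩ := (Subgroup.isCyclic_iff_exists_zpowers_eq_top Z).mp
    (Subgroup.isCyclic_of_le (inf_le_left : Z ≤ C))
  set E := Z ⊔ (P : Subgroup G) with hE
  have hCab : ∀ a ∈ C, ∀ b ∈ C, a * b = b * a := fun a ha b hb =>
    congrArg Subtype.val ((IsCyclic.commGroup (α := C)).mul_comm ⟨a, ha⟩ ⟨b, hb⟩)
  have hZE : ∀ a ∈ Z, ∀ e ∈ E, e * a = a * e := by
    intro a ha e he
    have hle : E ≤ Subgroup.centralizer ({a} : Set G) := by
      rw [hE, sup_le_iff]
      exact ⟨fun b hb => Subgroup.mem_centralizer_singleton_iff.mpr (hCab b hb.1 a ha.1),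
        fun b hb => Subgroup.mem_centralizer_singleton_iff.mpr
          (Subgroup.mem_centralizer_iff.mp ha.2 b hb)⟩
    exact Subgroup.mem_centralizer_singleton_iff.mp (hle he)
  have hEelem : IsElementary p E := by
    have hzZ : z ∈ Z := hz ▸ Subgroup.mem_zpowers z
    have hzE : z ∈ E := (le_sup_left : Z ≤ E) hzZ
    refine ⟨⟨z, hzE⟩, ?_, ?_, ?_⟩
    · rw [Subgroup.mem_center_iff]
      exact fun e => Subtype.ext (hZE z hzZ e e.2)
    · rw [Subgroup.orderOf_mk, ← Nat.card_zpowers, hz]
      exact hCcop.coprime_dvd_left (Subgroup.card_dvd_of_le inf_le_left)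
    · obtain ⟨j, -, hj⟩ := (Nat.dvd_prime_pow hp).mp
        (hk ▸ (Subgroup.relIndex_dvd_index_of_normal C E) : C.relIndex E ∣ p ^ k)
      refine ⟨j, ?_⟩
      have hCE : C ⊓ E = Z := by
        refine le_antisymm (fun a ha => ?_) (le_inf inf_le_left le_sup_left)
        have hPn : (P : Subgroup G) ≤ Subgroup.normalizer (Z : Set G) := fun b hb => by
          rw [Subgroup.mem_normalizer_iff]
          intro c
          constructor
          · intro hc
            rwa [Subgroup.mem_centralizer_iff.mp hc.2 b hb, mul_inv_cancel_right]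
          · intro hc
            have := Subgroup.mem_centralizer_iff.mp hc.2 b hb
            have hcb : c = b * c * b⁻¹ := by
              calc c = b⁻¹ * (b * c * b⁻¹) * b := by group
                _ = b⁻¹ * (b * (b * c * b⁻¹)) := by rw [this]; group
                _ = _ := by group
            rw [hcb]; exact hc
        obtain ⟨u, hu, v, hv, rfl⟩ : ∃ u ∈ Z, ∃ v ∈ (P : Subgroup G), u * v = a := by
          have h1 : a ∈ ((Z ⊔ (P : Subgroup G) : Subgroup G) : Set G) := ha.2
          rw [Subgroup.coe_mul_of_right_le_normalizer_left Z _ hPn] at h1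
          obtain ⟨u, hu, v, hv, e⟩ := h1
          exact ⟨u, hu, v, hv, e⟩
        have hvC : v ∈ C := by
          have := C.mul_mem (C.inv_mem hu.1) ha.1
          rwa [inv_mul_cancel_left] at this
        have hv1 : v = 1 := by
          obtain ⟨i, hi⟩ := P.2 ⟨v, hv⟩
          have h1 : orderOf v ∣ p ^ i := orderOf_dvd_of_pow_eq_one (by simpa using congrArg Subtype.val hi)
          have h2 : orderOf v ∣ Nat.card C := (Subgroup.orderOf_mk v hvC) ▸ orderOf_dvd_natCard (⟨v, hvC⟩ : C)
          exact orderOf_eq_one_iff.mp (Nat.eq_one_of_dvd_coprimes (hCcop.pow_right i) h2 h1)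
        rw [hv1, mul_one]; exact hu
      have hzp : Subgroup.zpowers (⟨z, hzE⟩ : E) = Z.subgroupOf E := by
        apply Subgroup.map_injective E.subtype_injective
        rw [MonoidHom.map_zpowers, Subgroup.map_subgroupOf_eq_of_le le_sup_left]
        exact hz
      rw [hzp, ← hj, ← hCE]
      exact Subgroup.inf_relIndex_right C E
  have hEC : E ⊔ C = ⊤ := by
    refine Subgroup.index_eq_one.mp ?_
    have hP' : ¬ p ∣ (E ⊔ C).index := fun h => P.not_dvd_index
      (h.trans (Subgroup.index_dvd_of_le ((le_sup_right : (P : Subgroup G) ≤ E).trans le_sup_left)))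
    obtain ⟨j, -, hj⟩ := (Nat.dvd_prime_pow hp).mp
      (hk ▸ Subgroup.index_dvd_of_le (le_sup_right : C ≤ E ⊔ C))
    rcases Nat.eq_zero_or_pos j with rfl | hj0
    · rw [hj, pow_zero]
    · exact absurd (hj ▸ dvd_pow_self p hj0.ne') hP'
  have := Fintype.ofFinite E
  have := Fintype.ofFinite C
  set π := indFun E (fun _ => (1 : ℂ)) with hπ
  have hπmem : π ∈ elemSpan p G :=
    AddSubgroup.subset_closure ⟨E, _, hEelem, isCharacter_one, rfl⟩
  have hπc : IsCharacter G π := isCharacter_indFun E isCharacter_one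
  have hπ1 : classInner π (fun _ => 1) = 1 := by
    rw [hπ, frobenius_reciprocity E _ (isClassFunction_irr isIrrCharacter_one)]
    exact classInner_irr_self (χ := fun _ : E => (1 : ℂ)) isIrrCharacter_one
  have hothers : ∀ χ : IrrCharacter G, (χ : G → ℂ) ≠ (fun _ => 1) →
      classInner π (χ : G → ℂ) ≠ 0 → (χ : G → ℂ) ∈ elemSpan p G := by
    rintro ⟨χ, hχ⟩ hχ1 hne
    simp only at hχ1 hne ⊢
    have hne' : classInner (fun e : E => χ e) (fun _ => 1) ≠ 0 := by
      intro h0
      refine hne ?_
      rw [hπ, frobenius_reciprocity E _ (isClassFunction_irr hχ), ← classInner_comm, h0, map_zero]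
    obtain ⟨θ, hθ, hθc⟩ := exists_constituent (isCharacter_restrict (isCharacter_of_irr hχ) C)
      (fun e => irr_ne_zero hχ (congrFun e 1))
    have hθ1 := degree_one_of_commutative (fun a b => Subtype.ext (hCab a a.2 b b.2)) hθ
    obtain ⟨φ, rfl⟩ := exists_hom_of_degree_one (isCharacter_of_irr hθ) hθ1
    have hAT := le_inertia C (isClassFunction_irr hθ)
    have := Fintype.ofFinite (inertia C fun c => (φ c : ℂ))
    by_cases hT : inertia C (fun c => (φ c : ℂ)) = ⊤
    · exfalso
      have hinv : ∀ g : G, conjNormFun C g (fun c => (φ c : ℂ)) = fun c => (φ c : ℂ) :=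
        fun g => (mem_inertia C).mp (hT ▸ Subgroup.mem_top g)
      have hres := clifford_invariant C hχ hθ hθc hinv
      have hinv' : ∀ g ∈ (P : Subgroup G), ∀ c : C, φ (MulAut.conjNormal g c) = φ c := fun g _ c =>
        Units.ext (by
          rw [show MulAut.conjNormal g c = (⟨g * c * g⁻¹, hCn.conj_mem c c.2 g⟩ : C) from
            Subtype.ext (MulAut.conjNormal_apply g c)]
          exact congrFun (hinv g) c)
      have hχval : ∀ c : C, χ c = χ 1 * φ c := fun c => by
        have e1 := congrFun hres c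
        have e2 := congrFun hres 1
        simp only [Pi.smul_apply, smul_eq_mul, map_one, Units.val_one, mul_one] at e1 e2
        rw [e1, show χ 1 = χ ((1 : C) : G) from rfl, e2]
      obtain ⟨m, ρ, hρ, rfl⟩ := hχ
      -- a vector fixed by `E`
      have : Invertible (Nat.card E : ℂ) := invertibleOfNonzero (Nat.cast_ne_zero.mpr Nat.card_pos.ne')
      have hfix : ∃ v, v ≠ 0 ∧ ∀ e ∈ E, ρ e v = v := by
        have hinv2 : (Module.finrank ℂ (Representation.invariants (ρ.comp E.subtype)) : ℂ) ≠ 0 := by
          rw [← Representation.card_inv_mul_sum_char_eq_finrank]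
          simpa [classInner, Representation.character] using hne'
        obtain ⟨v, hv, hv0⟩ := Submodule.exists_mem_ne_zero_of_ne_bot
          (p := Representation.invariants (ρ.comp E.subtype))
          (fun h => hinv2 (by rw [h, finrank_bot, Nat.cast_zero]))
        exact ⟨v, hv0, fun e he => hv ⟨e, he⟩⟩
      obtain ⟨v, hv0, hv⟩ := hfix
      have hscal : ∀ c : C, ρ c = (φ c : ℂ) • LinearMap.id := by
        intro c
        obtain ⟨ω, hω⟩ := (norm_character_eq_iff ρ (c : G)).mp (by
          rw [hχval, norm_mul, ρ.char_one, Complex.norm_natCast,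
            Complex.norm_eq_one_of_pow_eq_one (n := Nat.card C)
              (by rw [← Units.val_pow_eq_pow_val, ← map_pow, pow_card_eq_one', map_one, Units.val_one])
              Nat.card_pos.ne', mul_one])
        have h1 := hχval c
        rw [Representation.character, hω, map_smul, ← Module.End.one_eq_id, LinearMap.trace_one,
          smul_eq_mul, ρ.char_one, mul_comm] at h1
        have hd : (Module.finrank ℂ (Fin m → ℂ) : ℂ) ≠ 0 := by
          rw [← ρ.char_one]; exact irr_ne_zero (isIrrCharacter_character ρ)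
        rw [hω, mul_left_cancel₀ hd h1]
      have hker : ∀ c : C, (c : G) ∈ Subgroup.centralizer ((P : Subgroup G) : Set G) → φ c = 1 := by
        intro c hc
        have h1 : ρ c v = v := hv c ((le_sup_left : Z ≤ E) ⟨c.2, hc⟩)
        rw [hscal, LinearMap.smul_apply, LinearMap.id_apply] at h1
        exact Units.ext (by
          have h2 : ((φ c : ℂ) - 1) • v = 0 := by rw [sub_smul, one_smul, h1, sub_self]
          simpa [sub_eq_zero] using (smul_eq_zero.mp h2).resolve_right hv0)
      have hφ1 := linear_eq_one_of_fixed_points P.2 hCcop φ hinv' hker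
      have hall : ∀ g : G, ρ g v = v := by
        intro g
        obtain ⟨a, ha, b, hb, rfl⟩ := Subgroup.mem_sup_of_normal_right.mp (hEC ▸ Subgroup.mem_top g)
        rw [map_mul, Module.End.mul_apply, hscal ⟨b, hb⟩, hφ1]
        simp [hv a ha]
      have : Invertible (Nat.card G : ℂ) := invertibleOfNonzero (Nat.cast_ne_zero.mpr Nat.card_pos.ne')
      have h0 := classInner_irr_ne (isIrrCharacter_character ρ) isIrrCharacter_one hχ1
      have h1 : (Module.finrank ℂ (Representation.invariants ρ) : ℂ) = 0 := by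
        rw [← Representation.card_inv_mul_sum_char_eq_finrank]
        simpa [classInner] using h0
      rw [Nat.cast_eq_zero, Submodule.finrank_eq_zero] at h1
      exact hv0 ((Submodule.eq_bot_iff _).mp h1 v hall)
    · obtain ⟨ψ, hψ, -, hind⟩ := exists_clifford_pre C hθ hAT rfl hχ hθc
      have hlt : Nat.card (inertia C fun c => (φ c : ℂ)) < n := by
        rw [← hn]
        exact lt_of_le_of_ne (Subgroup.card_le_card_group _) fun e =>
          hT ((Subgroup.card_eq_iff_eq_top _).mp e)
      have hone := ih _ hlt (inertia C fun c => (φ c : ℂ)) rfl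
        ⟨C.subgroupOf _, Subgroup.normal_subgroupOf,
          ⟨by
            obtain ⟨⟨g, hg⟩⟩ := hCcyc
            refine ⟨(Subgroup.subgroupOfEquivOfLe hAT).symm g, fun x => ?_⟩
            obtain ⟨i, hi⟩ := hg ((Subgroup.subgroupOfEquivOfLe hAT) x)
            exact ⟨i, (Subgroup.subgroupOfEquivOfLe hAT).injective (by
              simp only [map_zpow, MulEquiv.apply_symm_apply]; exact hi)⟩⟩,
          by rwa [Nat.card_congr (Subgroup.subgroupOfEquivOfLe hAT).toEquiv],
          (Nat.dvd_prime_pow hp).mp (hk ▸ Subgroup.relIndex_dvd_index_of_normal C _) |>.imp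
            fun _ h => h.2⟩
      rw [← hind]
      have := elemSpan_mul_char hone (isCharacter_of_irr hψ)
      refine elemSpan_mem_indFun ?_
      rwa [show ((fun _ => 1) * ψ) = ψ from funext fun t => one_mul _] at this
  -- subtract
  have hdec := eq_sum_irr (isClassFunction_char hπc)
  rw [← Finset.add_sum_erase _ _ (Finset.mem_univ (⟨fun _ => 1, isIrrCharacter_one⟩ : IrrCharacter G)),
    hπ1, one_smul] at hdec
  have hone' : (fun _ : G => (1 : ℂ)) = π - ∑ χ ∈ (Finset.univ : Finset (IrrCharacter G)).erase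
      ⟨fun _ => 1, isIrrCharacter_one⟩, classInner π χ • (χ : G → ℂ) := eq_sub_of_add_eq hdec.symm
  rw [hone']
  refine sub_mem hπmem (sum_mem fun χ hχ => ?_)
  obtain ⟨m, hm⟩ := classInner_char_nat hπc (isCharacter_of_irr χ.2)
  rw [hm, Nat.cast_smul_eq_nsmul]
  by_cases h0 : m = 0
  · simp [h0]
  · exact AddSubgroup.nsmul_mem _ (hothers χ (fun e => (Finset.mem_erase.mp hχ).1 (Subtype.ext e))
      (by rw [hm]; exact Nat.cast_ne_zero.mpr h0)) _

/-- Brauer's theorem for one prime. -/
theorem const_mem_elemSpan [Fintype G] {p : ℕ} (hp : p.Prime) :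
    ∃ m : ℤ, ¬ (p : ℤ) ∣ m ∧ (fun _ : G => (m : ℂ)) ∈ elemSpan p G := by
  obtain ⟨m, hm, hmem⟩ := solomon (G := G) hp
  refine ⟨m, hm, ?_⟩
  suffices ∀ f ∈ AddSubgroup.closure {h : G → ℤ | ∃ H, IsQuasi p H ∧ h = permChar H},
      (fun x => (f x : ℂ)) ∈ elemSpan p G from this _ hmem
  intro f hf
  induction hf using AddSubgroup.closure_induction with
  | mem f hf =>
    obtain ⟨H, ⟨C, hCH, hHN, hcyc, hcop, k, hk⟩, rfl⟩ := hf
    have := Fintype.ofFinite H
    rw [show (fun x => (permChar H x : ℂ)) = indFun H (fun _ => 1) from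
      funext fun x => (indFun_one_eq_permChar H x).symm]
    refine elemSpan_mem_indFun (one_mem_elemSpan_quasi hp
      ⟨C.subgroupOf H, Subgroup.normal_subgroupOf_of_le_normalizer hHN, ?_,
        by rwa [Nat.card_congr (Subgroup.subgroupOfEquivOfLe hCH).toEquiv], k, hk⟩)
    obtain ⟨⟨g, hg⟩⟩ := hcyc
    refine ⟨(Subgroup.subgroupOfEquivOfLe hCH).symm g, fun x => ?_⟩
    obtain ⟨i, hi⟩ := hg ((Subgroup.subgroupOfEquivOfLe hCH) x)
    exact ⟨i, (Subgroup.subgroupOfEquivOfLe hCH).injective (by
      simp only [map_zpow, MulEquiv.apply_symm_apply]; exact hi)⟩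
  | zero =>
    simp only [Pi.zero_apply, Int.cast_zero]
    exact zero_mem _
  | add f g _ _ h h' =>
    simp only [Pi.add_apply, Int.cast_add]
    exact add_mem h h'
  | neg f _ h =>
    simp only [Pi.neg_apply, Int.cast_neg]
    exact neg_mem h

/-- The functions induced from linear characters of elementary subgroups. -/
def linSpan (G : Type u) [Group G] [Fintype G] : AddSubgroup (G → ℂ) :=
  AddSubgroup.closure {f | ∃ (E : Subgroup G) (lam : E →* ℂˣ) (p : ℕ), p.Prime ∧ IsElementary p E ∧
    f = indFun E (fun e => (lam e : ℂ))}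

theorem indFun_char_mem_linSpan [Fintype G] {p : ℕ} (hp : p.Prime) {E : Subgroup G}
    (hE : IsElementary p E) {φ : E → ℂ} (hφ : IsCharacter E φ) : indFun E φ ∈ linSpan G := by
  classical
  have := Fintype.ofFinite E
  have := isNilpotent_of_elementary hp hE
  rw [eq_sum_irr (isClassFunction_char hφ), indFun_sum]
  refine sum_mem fun χ _ => ?_
  obtain ⟨m, hm⟩ := classInner_char_nat hφ (isCharacter_of_irr χ.2)
  rw [hm, indFun_smul, Nat.cast_smul_eq_nsmul]
  refine AddSubgroup.nsmul_mem _ ?_ _
  obtain ⟨H, lam, hH⟩ := isMonomialChar_of_nilpotent χ.2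
  rw [hH, indFun_map_subtype]
  exact AddSubgroup.subset_closure ⟨_,
    lam.comp (Subgroup.equivMapOfInjective H E.subtype E.subtype_injective).symm.toMonoidHom, p, hp,
    isElementary_map E.subtype E.subtype_injective (isElementary_subgroup hp hE H), rfl⟩

theorem elemSpan_le_linSpan [Fintype G] {p : ℕ} (hp : p.Prime) : elemSpan p G ≤ linSpan G := by
  refine (AddSubgroup.closure_le _).mpr ?_
  rintro _ ⟨E, φ, hE, hφ, rfl⟩
  exact indFun_char_mem_linSpan hp hE hφ

theorem one_mem_linSpan [Fintype G] : (fun _ : G => (1 : ℂ)) ∈ linSpan G := by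
  let E : AddSubgroup ℤ :=
    { carrier := {m | (fun _ : G => (m : ℂ)) ∈ linSpan G}
      zero_mem' := by
        show (fun _ : G => ((0 : ℤ) : ℂ)) ∈ linSpan G
        simp only [Int.cast_zero]; exact zero_mem _
      add_mem' := fun {a b} ha hb => by
        show (fun _ : G => ((a + b : ℤ) : ℂ)) ∈ linSpan G
        simp only [Int.cast_add]; exact add_mem ha hb
      neg_mem' := fun {a} ha => by
        show (fun _ : G => ((-a : ℤ) : ℂ)) ∈ linSpan G
        simp only [Int.cast_neg]; exact neg_mem ha }
  obtain ⟨a, ha⟩ := Int.subgroup_cyclic E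
  have hdiv : ∀ e ∈ E, a ∣ e := fun e he => by
    rw [ha, AddSubgroup.mem_closure_singleton] at he
    obtain ⟨i, rfl⟩ := he
    exact ⟨i, by simp [mul_comm]⟩
  have hmema : a ∈ E := by rw [ha]; exact AddSubgroup.subset_closure (Set.mem_singleton a)
  have hna : a.natAbs = 1 := by
    by_contra hna
    obtain ⟨p, hp, hpa⟩ := Nat.exists_prime_and_dvd hna
    obtain ⟨m, hm, hmem⟩ := const_mem_elemSpan (G := G) hp
    exact hm ((Int.natCast_dvd.mpr hpa).trans (hdiv m (elemSpan_le_linSpan hp hmem)))
  have h1 : (1 : ℤ) ∈ E := by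
    rcases Int.natAbs_eq a with e | e <;> rw [hna, Nat.cast_one] at e
    · rwa [← e]
    · have := E.neg_mem hmema
      rwa [e, neg_neg] at this
  simpa using (show (fun _ : G => ((1 : ℤ) : ℂ)) ∈ linSpan G from h1)

/-- Brauer's induction theorem. -/
theorem char_mem_linSpan [Fintype G] {χ : G → ℂ} (hχ : IsCharacter G χ) : χ ∈ linSpan G := by
  suffices ∀ f ∈ linSpan G, f * χ ∈ linSpan G by
    have := this _ one_mem_linSpan
    rwa [show ((fun _ => 1) * χ) = χ from funext fun t => one_mul _] at this
  intro f hf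
  induction hf using AddSubgroup.closure_induction with
  | mem f hf =>
    obtain ⟨E, lam, p, hp, hE, rfl⟩ := hf
    rw [← indFun_mul E _ (isClassFunction_char hχ)]
    exact indFun_char_mem_linSpan hp hE
      (isCharacter_mul (isCharacter_of_irr (isIrrCharacter_linear lam)) (isCharacter_restrict hχ E))
  | zero => rw [zero_mul]; exact zero_mem _
  | add f g _ _ h h' => rw [add_mul]; exact add_mem h h'
  | neg f _ h => rw [neg_mul]; exact neg_mem h

/-- Brauer's characterization of generalized characters. -/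
theorem isGenChar_of_elementary [Finite G] {θ : G → ℂ} (hθ : IsClassFunction G θ)
    (hE : ∀ (E : Subgroup G) (p : ℕ), p.Prime → IsElementary p E →
      IsGeneralizedCharacter E (fun e : E => θ e)) : IsGeneralizedCharacter G θ := by
  have := Fintype.ofFinite G
  suffices ∀ f ∈ linSpan G, IsGeneralizedCharacter G (f * θ) by
    have := this _ one_mem_linSpan
    rwa [show ((fun _ => 1) * θ) = θ from funext fun t => one_mul _] at this
  intro f hf
  induction hf using AddSubgroup.closure_induction with
  | mem f hf =>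
    obtain ⟨E, lam, p, hp, hel, rfl⟩ := hf
    have := Fintype.ofFinite E
    rw [← indFun_mul E _ hθ]
    exact isGenChar_indFun E (isGenChar_mul
      (isGenChar_of_char (isCharacter_of_irr (isIrrCharacter_linear lam))) (hE E p hp hel))
  | zero => rw [zero_mul]; exact isGenChar_zero
  | add f g _ _ h h' => rw [add_mul]; exact isGenChar_add h h'
  | neg f _ h => rw [neg_mul]; exact isGenChar_neg h

/-- Artin's induction theorem. -/
theorem artin_induction [Fintype G] {χ : G → ℂ} (hχ : IsCharacter G χ) :
    (Nat.card G : ℂ) • χ ∈ AddSubgroup.closure {f : G → ℂ | ∃ (A : Subgroup G) (lam : A →* ℂˣ),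
      IsCyclic A ∧ f = indFun A (fun a => (lam a : ℂ))} := by
  classical
  set R := AddSubgroup.closure {f : G → ℂ | ∃ (A : Subgroup G) (lam : A →* ℂˣ),
    IsCyclic A ∧ f = indFun A (fun a => (lam a : ℂ))}
  have h := artin_mem (G := G) (fun _ => 1) (fun _ _ => rfl) (fun _ _ _ => rfl)
  suffices ∀ f ∈ AddSubgroup.closure {h : G → ℤ | ∃ C : Subgroup G, IsCyclic C ∧ h = permChar C},
      (fun x => (f x : ℂ)) * χ ∈ R by
    have := this _ h
    rwa [show ((fun x : G => (((Nat.card G : ℤ) * 1 : ℤ) : ℂ)) * χ) = (Nat.card G : ℂ) • χ from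
      funext fun x => by simp] at this
  intro f hf
  induction hf using AddSubgroup.closure_induction with
  | mem f hf =>
    obtain ⟨C, hC, rfl⟩ := hf
    have := Fintype.ofFinite C
    have hcf := isCharacter_restrict hχ C
    rw [show (fun x => (permChar C x : ℂ)) = indFun C (fun _ => 1) from
      funext fun x => (indFun_one_eq_permChar C x).symm, ← indFun_mul C _ (isClassFunction_char hχ),
      show ((fun _ => 1) * fun c : C => χ c) = fun c : C => χ c from funext fun c => one_mul _,
      eq_sum_irr (isClassFunction_char hcf), indFun_sum]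
    refine sum_mem fun ψ _ => ?_
    obtain ⟨m, hm⟩ := classInner_char_nat hcf (isCharacter_of_irr ψ.2)
    rw [hm, indFun_smul, Nat.cast_smul_eq_nsmul]
    refine AddSubgroup.nsmul_mem _ ?_ _
    obtain ⟨lam, hlam⟩ := exists_hom_of_degree_one (isCharacter_of_irr ψ.2)
      (degree_one_of_commutative (IsCyclic.commGroup (α := C)).mul_comm ψ.2)
    rw [hlam]
    exact AddSubgroup.subset_closure ⟨C, lam, hC, rfl⟩
  | zero =>
    simp only [Pi.zero_apply, Int.cast_zero]
    rw [show ((fun _ : G => (0 : ℂ)) * χ) = 0 from funext fun x => zero_mul _]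
    exact zero_mem _
  | add f g _ _ h h' =>
    rw [show ((fun x => ((f + g) x : ℂ)) * χ) = (fun x => (f x : ℂ)) * χ + (fun x => (g x : ℂ)) * χ
      from funext fun x => by simp [add_mul]]
    exact add_mem h h'
  | neg f _ h =>
    rw [show ((fun x => ((-f) x : ℂ)) * χ) = -((fun x => (f x : ℂ)) * χ)
      from funext fun x => by simp]
    exact neg_mem h

/-- Turning membership in a closure into a list. -/
theorem exists_list_of_mem_closure {ι : Type*} {M : Type*} [AddCommGroup M] [Module ℂ M]
    (P : ι → Prop) (F : ι → M) {S : Set M} (hS : ∀ f ∈ S, ∃ t, P t ∧ F t = f) {x : M}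
    (hx : x ∈ AddSubgroup.closure S) :
    ∃ l : List (ι × ℤ), (∀ t ∈ l, P t.1) ∧ x = (l.map fun t => (t.2 : ℂ) • F t.1).sum := by
  induction hx using AddSubgroup.closure_induction with
  | mem f hf =>
    obtain ⟨t, ht, rfl⟩ := hS f hf
    exact ⟨[(t, 1)], by simpa using ht, by simp⟩
  | zero => exact ⟨[], by simp, by simp⟩
  | add a b _ _ h h' =>
    obtain ⟨l, hl, rfl⟩ := h
    obtain ⟨l', hl', rfl⟩ := h'
    exact ⟨l ++ l', fun t ht => (List.mem_append.mp ht).elim (hl t) (hl' t), by simp⟩
  | neg a _ h =>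
    obtain ⟨l, hl, rfl⟩ := h
    refine ⟨l.map fun t => (t.1, -t.2), fun t ht => ?_, ?_⟩
    · obtain ⟨s, hs, rfl⟩ := List.mem_map.mp ht
      exact hl s hs
    · suffices ∀ l : List (ι × ℤ), -(l.map fun t => (t.2 : ℂ) • F t.1).sum =
          ((l.map fun t => (t.1, -t.2)).map fun t => (t.2 : ℂ) • F t.1).sum from this l
      intro l
      induction l with
      | nil => simp
      | cons t l ih =>
        simp only [List.map_cons, List.sum_cons, neg_add, ih, Int.cast_neg, neg_smul]

end CfsgLib.CharTheory
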