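/-
Ordinary character theory, part 14: trivial intersection sets and the isometry lemma.
-/
import Cfsg.Agent.Lib.CharTheory.Irr
import Cfsg.Agent.Lib.CharTheory.Induced

namespace CfsgLib.CharTheory

open Cfsg
open scoped ComplexConjugate

universe u

variable {G : Type u} [Group G] [Fintype G]

/-- On a trivial intersection set induction does not change values. -/
theorem indFun_apply_of_TI (N : Subgroup G) (S : Set G)
    (hTI : ∀ g : G, g ∉ N → ∀ s ∈ S, g * s * g⁻¹ ∈ S → s = 1)
    {f : N → ℂ} (hf : IsClassFunction N f) (hfS : ∀ x : N, (x : G) ∉ S → f x = 0) (hf1 : f 1 = 0)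
    (x : N) (hx : (x : G) ∈ S) : indFun N f x = f x := by
  classical
  by_cases hx1 : x = 1
  · subst hx1
    show indFun N f 1 = f 1
    rw [indFun_apply_one, hf1, mul_zero]
  have key : ∀ y : G, extendByZero N f (y⁻¹ * x * y) = if y ∈ N then f x else 0 := by
    intro y
    split
    · rename_i hy
      have hmem : y⁻¹ * x * y ∈ N := mul_mem (mul_mem (inv_mem hy) x.2) hy
      rw [extendByZero_of_mem _ _ hmem]
      have := hf x ⟨y, hy⟩⁻¹
      rw [← this]
      exact congrArg f (Subtype.ext (by simp))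
    · rename_i hy
      by_cases hmem : y⁻¹ * x * y ∈ N
      · rw [extendByZero_of_mem _ _ hmem]
        by_contra hne
        have hS : y⁻¹ * x * y ∈ S := by
          by_contra hnS
          exact hne (hfS ⟨_, hmem⟩ hnS)
        have h1 := hTI y hy _ hS (by simpa [mul_assoc] using hx)
        refine hx1 (Subtype.ext ?_)
        calc (x : G) = y * (y⁻¹ * x * y) * y⁻¹ := by group
          _ = ((1 : N) : G) := by rw [h1]; simp
      · exact extendByZero_of_not_mem _ _ hmem
  simp only [indFun, key]
  rw [← Finset.sum_filter, Finset.sum_const, nsmul_eq_mul, ← Fintype.card_subtype,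
    ← Nat.card_eq_fintype_card, ← mul_assoc,
    inv_mul_cancel₀ (Nat.cast_ne_zero.mpr (Nat.card_pos (α := N)).ne'), one_mul]

/-- Induction is an isometry on functions supported on a trivial intersection set. -/
theorem classInner_indFun_of_TI (N : Subgroup G) [Fintype N] (S : Set G)
    (hTI : ∀ g : G, g ∉ N → ∀ s ∈ S, g * s * g⁻¹ ∈ S → s = 1)
    {f f' : N → ℂ} (hf' : IsClassFunction N f') (hfS : ∀ x : N, (x : G) ∉ S → f x = 0)
    (hf'S : ∀ x : N, (x : G) ∉ S → f' x = 0) (hf'1 : f' 1 = 0) :
    classInner (indFun N f) (indFun N f') = classInner f f' := by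
  rw [frobenius_reciprocity N f (indFun_isClassFunction N f')]
  simp only [classInner]
  congr 1
  refine Finset.sum_congr rfl fun x _ => ?_
  by_cases hx : (x : G) ∈ S
  · rw [indFun_apply_of_TI N S hTI hf' hf'S hf'1 x hx]
  · rw [hfS x hx, zero_mul, zero_mul]

/-- A generalized character of norm two vanishing at the identity. -/
theorem exists_eq_irr_sub_irr {τ : G → ℂ} (h : IsGeneralizedCharacter G τ)
    (hn : classInner τ τ = 2) (h1 : τ 1 = 0) :
    ∃ a b : G → ℂ, IsIrrCharacter G a ∧ IsIrrCharacter G b ∧ a ≠ b ∧ τ = a - b := by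
  classical
  obtain ⟨hcf, hcoef⟩ := isGenChar_iff_coeff_int.mp h
  choose c hc using fun φ : IrrCharacter G => hcoef φ φ.2
  have heq := eq_sum_irr hcf
  simp only [hc] at heq
  have hsq : ∑ φ : IrrCharacter G, c φ * c φ = 2 := by
    have e : (2 : ℂ) = ∑ φ : IrrCharacter G, ((c φ : ℂ) * (c φ : ℂ)) := by
      rw [← hn]
      conv_lhs => rw [classInner_eq_sum_irr hcf]
      exact Finset.sum_congr rfl fun φ _ => by rw [hc, ← classInner_comm, hc, map_intCast]
    exact_mod_cast e.symm
  have hle : ∀ φ, c φ * c φ ≤ 1 := by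
    intro φ
    have h2 : c φ * c φ ≤ 2 := hsq ▸
      Finset.single_le_sum (fun i _ => mul_self_nonneg (c i)) (Finset.mem_univ φ)
    have : -2 < c φ ∧ c φ < 2 := ⟨by nlinarith, by nlinarith⟩
    have h3 : c φ = -1 ∨ c φ = 0 ∨ c φ = 1 := by omega
    rcases h3 with e | e | e <;> rw [e] <;> norm_num
  obtain ⟨a, ha⟩ : ∃ a, 0 < c a := by
    by_contra hno
    push Not at hno
    -- all coefficients are non-positive, so the value at the identity is negative
    choose d hd hdeq using fun φ : IrrCharacter G => irr_degree_pos φ.2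
    have e := congrFun heq 1
    simp only [h1, Finset.sum_apply, Pi.smul_apply, smul_eq_mul, hdeq] at e
    have e' : (0 : ℤ) = ∑ φ : IrrCharacter G, c φ * (d φ : ℤ) := by exact_mod_cast e
    have hz := (Finset.sum_eq_zero_iff_of_nonpos fun φ _ =>
      mul_nonpos_of_nonpos_of_nonneg (hno φ) (Int.natCast_nonneg _)).mp e'.symm
    have : ∑ φ : IrrCharacter G, c φ * c φ = 0 := Finset.sum_eq_zero fun φ hφ => by
      rcases mul_eq_zero.mp (hz φ hφ) with h | h
      · rw [h, mul_zero]
      · exact absurd h (by exact_mod_cast (hd φ).ne')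
    omega
  obtain ⟨b, hb⟩ : ∃ b, c b < 0 := by
    by_contra hno
    push Not at hno
    choose d hd hdeq using fun φ : IrrCharacter G => irr_degree_pos φ.2
    have e := congrFun heq 1
    simp only [h1, Finset.sum_apply, Pi.smul_apply, smul_eq_mul, hdeq] at e
    have e' : (0 : ℤ) = ∑ φ : IrrCharacter G, c φ * (d φ : ℤ) := by exact_mod_cast e
    have hz := (Finset.sum_eq_zero_iff_of_nonneg fun φ _ =>
      mul_nonneg (hno φ) (Int.natCast_nonneg _)).mp e'.symm
    rcases mul_eq_zero.mp (hz a (Finset.mem_univ _)) with h | h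
    · omega
    · exact absurd h (by exact_mod_cast (hd a).ne')
  have hab : a ≠ b := fun e => by rw [e] at ha; omega
  have hca : c a = 1 := by have := hle a; nlinarith
  have hcb : c b = -1 := by have := hle b; nlinarith
  have hrest : ∀ φ, φ ≠ a → φ ≠ b → c φ = 0 := by
    intro φ hφa hφb
    by_contra hne
    have hsub := Finset.sum_le_sum_of_subset_of_nonneg (s := {a, b, φ}) (t := Finset.univ)
      (Finset.subset_univ _) (fun i _ _ => mul_self_nonneg (c i))
    rw [hsq, Finset.sum_insert (by simp [hab, Ne.symm hφa]),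
      Finset.sum_insert (by simp [Ne.symm hφb]), Finset.sum_singleton, hca, hcb] at hsub
    have : 0 < c φ * c φ := mul_self_pos.mpr hne
    omega
  refine ⟨a, b, a.2, b.2, fun e => hab (Subtype.ext e), ?_⟩
  rw [heq, ← Finset.sum_subset (Finset.subset_univ ({a, b} : Finset (IrrCharacter G)))
    (fun φ _ hφ => by
      simp only [Finset.mem_insert, Finset.mem_singleton, not_or] at hφ
      simp [hrest φ hφ.1 hφ.2]), Finset.sum_pair hab, hca, hcb]
  simp [sub_eq_add_neg]

/-- The isometry lemma behind exceptional characters. -/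
theorem exists_coherent_family {n : ℕ} (i₀ : Fin n) (τ : Fin n → (G → ℂ)) (h0 : τ i₀ = 0)
    (hgen : ∀ i, IsGeneralizedCharacter G (τ i)) (hone : ∀ i, τ i 1 = 0)
    (hgram : ∀ i j, i ≠ i₀ → j ≠ i₀ → classInner (τ i) (τ j) = if i = j then 2 else 1) :
    ∃ ε : ℂ, (ε = 1 ∨ ε = -1) ∧ ∃ μ : Fin n → (G → ℂ), (∀ i, IsIrrCharacter G (μ i)) ∧
      Function.Injective μ ∧ ∀ i, τ i = ε • (μ i - μ i₀) := by
  classical
  by_cases hall : ∀ i, i = i₀
  · refine ⟨1, Or.inl rfl, fun _ _ => 1, fun _ => isIrrCharacter_one,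
      fun i j _ => (hall i).trans (hall j).symm, fun i => ?_⟩
    rw [hall i, h0, sub_self, smul_zero]
  push Not at hall
  obtain ⟨i₁, hi₁⟩ := hall
  have hab : ∀ i, i ≠ i₀ → ∃ a b : G → ℂ, IsIrrCharacter G a ∧ IsIrrCharacter G b ∧ a ≠ b ∧
      τ i = a - b := fun i hi =>
    exists_eq_irr_sub_irr (hgen i) (by rw [hgram i i hi hi, if_pos rfl]) (hone i)
  choose! A B hA hB hne hτ using hab
  have hpair : ∀ i j, i ≠ i₀ → j ≠ i₀ → i ≠ j →
      (A i = A j ∧ B i ≠ B j) ∨ (B i = B j ∧ A i ≠ A j) := by
    intro i j hi hj hij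
    have h := hgram i j hi hj
    rw [if_neg hij, hτ i hi, hτ j hj] at h
    simp only [classInner_sub_left, classInner_sub_right, classInner_irr (hA i hi) (hA j hj),
      classInner_irr (hA i hi) (hB j hj), classInner_irr (hB i hi) (hA j hj),
      classInner_irr (hB i hi) (hB j hj)] at h
    by_cases h1 : A i = A j
    · refine Or.inl ⟨h1, fun h2 => ?_⟩
      have n1 : A i ≠ B j := fun e => hne j hj (h1.symm.trans e)
      have n2 : B i ≠ A j := fun e => hne i hi (h1.trans e.symm)
      simp [h1, h2, n1, n2, hne j hj, (hne j hj).symm] at h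
    · refine Or.inr ⟨?_, h1⟩
      by_contra h2
      simp only [if_neg h1, if_neg h2] at h
      split_ifs at h <;> norm_num at h
  have hside : (∀ j, j ≠ i₀ → A j = A i₁) ∨ (∀ j, j ≠ i₀ → B j = B i₁) := by
    by_contra hcon
    push Not at hcon
    obtain ⟨⟨j, hj, hj'⟩, ⟨k, hk, hk'⟩⟩ := hcon
    have hji : j ≠ i₁ := fun e => hj' (by rw [e])
    have hki : k ≠ i₁ := fun e => hk' (by rw [e])
    have hjB : B j = B i₁ := ((hpair j i₁ hj hi₁ hji).resolve_left fun h => hj' h.1).1
    have hkA : A k = A i₁ := ((hpair k i₁ hk hi₁ hki).resolve_right fun h => hk' h.1).1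
    have hjk : j ≠ k := fun e => hk' (e ▸ hjB)
    rcases hpair j k hj hk hjk with ⟨h, -⟩ | ⟨h, -⟩
    · exact hj' (h.trans hkA)
    · exact hk' (h.symm.trans hjB)
  have hinj : ∀ i j, i ≠ i₀ → j ≠ i₀ → τ i = τ j → i = j := by
    intro i j hi hj e
    by_contra hij
    have h := hgram i j hi hj
    rw [if_neg hij, e, hgram j j hj hj, if_pos rfl] at h
    norm_num at h
  rcases hside with hs | hs
  · refine ⟨-1, Or.inr rfl, fun i => if i = i₀ then A i₁ else B i, fun i => ?_, ?_, fun i => ?_⟩
    · dsimp only; split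
      · exact hA i₁ hi₁
      · exact hB i ‹_›
    · intro i j e
      dsimp only at e
      split_ifs at e with hi hj hj
      · exact hi.trans hj.symm
      · exact absurd ((hs j hj).trans e) (hne j hj)
      · exact absurd ((hs i hi).trans e.symm) (hne i hi)
      · exact hinj i j hi hj (by rw [hτ i hi, hτ j hj, hs i hi, hs j hj, e])
    · by_cases hi : i = i₀
      · rw [hi, h0, sub_self, smul_zero]
      · simp only [if_neg hi, if_pos, neg_one_smul, neg_sub]
        rw [hτ i hi, hs i hi]
  · refine ⟨1, Or.inl rfl, fun i => if i = i₀ then B i₁ else A i, fun i => ?_, ?_, fun i => ?_⟩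
    · dsimp only; split
      · exact hB i₁ hi₁
      · exact hA i ‹_›
    · intro i j e
      dsimp only at e
      split_ifs at e with hi hj hj
      · exact hi.trans hj.symm
      · exact absurd ((hs j hj).trans e).symm (hne j hj)
      · exact absurd (e.trans (hs i hi).symm) (hne i hi)
      · exact hinj i j hi hj (by rw [hτ i hi, hτ j hj, hs i hi, hs j hj, e])
    · by_cases hi : i = i₀
      · rw [hi, h0, sub_self, smul_zero]
      · simp only [if_neg hi, if_pos, one_smul]
        rw [hτ i hi, hs i hi]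

end CfsgLib.CharTheory
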