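/-
Irreducible characters up to sign.
-/
import Cfsg.Agent.Lib.CharTheory.Irr

set_option autoImplicit false

namespace CfsgLib.CharTheory

open Cfsg
open scoped ComplexConjugate

universe u

variable {G : Type u} [Group G] [Fintype G]

/-- An irreducible character or the negative of one. -/
def IsSignedIrr (a : G → ℂ) : Prop := IsIrrCharacter G a ∨ IsIrrCharacter G (-a)

theorem classInner_self_signed {a : G → ℂ} (ha : IsSignedIrr a) : classInner a a = 1 := by
  rcases ha with h | h
  · exact classInner_irr_self h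
  · simpa [classInner_neg_left, classInner_neg_right] using classInner_irr_self h

theorem signed_cases {a b : G → ℂ} (ha : IsSignedIrr a) (hb : IsSignedIrr b) :
    classInner a b = 0 ∨ ∃ ε : ℂ, (ε = 1 ∨ ε = -1) ∧ a = ε • b := by
  classical
  have hia : ∃ ε : ℂ, (ε = 1 ∨ ε = -1) ∧ IsIrrCharacter G (ε • a) := by
    rcases ha with h | h
    · exact ⟨1, Or.inl rfl, by rwa [one_smul]⟩
    · exact ⟨-1, Or.inr rfl, by rwa [neg_smul, one_smul]⟩
  have hib : ∃ η : ℂ, (η = 1 ∨ η = -1) ∧ IsIrrCharacter G (η • b) := by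
    rcases hb with h | h
    · exact ⟨1, Or.inl rfl, by rwa [one_smul]⟩
    · exact ⟨-1, Or.inr rfl, by rwa [neg_smul, one_smul]⟩
  obtain ⟨ε, hε, hA⟩ := hia
  obtain ⟨η, hη, hB⟩ := hib
  by_cases he : ε • a = η • b
  · refine Or.inr ⟨ε * η, by rcases hε with rfl | rfl <;> rcases hη with rfl | rfl <;> norm_num, ?_⟩
    have hε2 : ε * ε = 1 := by rcases hε with rfl | rfl <;> norm_num
    rw [mul_smul, ← he, ← mul_smul, hε2, one_smul]
  · have h := classInner_irr_ne hA hB he
    rw [classInner_smul_left, classInner_smul_right] at h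
    refine Or.inl ?_
    rcases hε with rfl | rfl <;> rcases hη with rfl | rfl <;> simpa using h

theorem four_signed_aux {α β γ δ : G → ℂ} (hα : IsSignedIrr α) (hβ : IsSignedIrr β) (hγ : IsSignedIrr γ)
    (hδ : IsSignedIrr δ) {u v : ℝ} (hu : u ≠ 0) (hv : v ≠ 0)
    (hab : classInner α β = 0) (hcd : classInner γ δ = 0)
    (hmix : (u : ℂ) * (classInner α γ - classInner β γ) = (v : ℂ) * (classInner α δ - classInner β δ))
    (h1 : α 1 = β 1) (h2 : (u : ℂ) * γ 1 = (v : ℂ) * δ 1) : classInner α γ = 0 := by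
  rcases signed_cases hα hγ with h | ⟨ε, hε, rfl⟩
  · exact h
  exfalso
  have hε2 : ε * ε = 1 := by rcases hε with rfl | rfl <;> norm_num
  have hε0 : ε ≠ 0 := fun e => by simp [e] at hε2
  have hεc : conj ε = ε := by rcases hε with rfl | rfl <;> simp
  have hgb : classInner γ β = 0 := by
    rw [classInner_smul_left] at hab
    exact (mul_eq_zero.mp hab).resolve_left hε0
  have hbg : classInner β γ = 0 := by rw [← classInner_comm, hgb, map_zero]
  rw [classInner_smul_left, classInner_smul_left, classInner_self_signed hγ, hcd, hbg] at hmix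
  simp only [mul_one, mul_zero, sub_zero, zero_sub] at hmix
  rcases signed_cases hβ hδ with h | ⟨η, hη, rfl⟩
  · rw [h, neg_zero, mul_zero] at hmix
    rcases mul_eq_zero.mp hmix with e | e
    · exact hu (by exact_mod_cast e)
    · exact hε0 e
  rw [classInner_smul_left, classInner_self_signed hδ, mul_one] at hmix
  have hη2 : η * η = 1 := by rcases hη with rfl | rfl <;> norm_num
  simp only [Pi.smul_apply, smul_eq_mul] at h1
  have hd : δ 1 ≠ 0 := by
    rcases hδ with h | h
    · exact irr_ne_zero h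
    · intro e; exact irr_ne_zero h (by rw [Pi.neg_apply, e, neg_zero])
  have hsq : ((v : ℂ) * v + u * u) * δ 1 = 0 := by
    have : (u : ℂ) * ((v : ℂ) * v + u * u) * δ 1 = 0 := by
      linear_combination (-(v : ℂ) * u) * h2 + ((u : ℂ) * u * v * ε) * h1 + ((u : ℂ) * u * ε * δ 1) * hmix + (-(u : ℂ) ^ 2 * v * γ 1) * hε2 + (-(u : ℂ) ^ 3 * δ 1) * hε2
    rw [mul_assoc] at this
    exact (mul_eq_zero.mp this).resolve_left (by exact_mod_cast hu)
  have h3 : (v : ℂ) * v + u * u = 0 := (mul_eq_zero.mp hsq).resolve_right hd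
  have h4 : v * v + u * u = 0 := by exact_mod_cast h3
  have := mul_self_pos.mpr hu
  nlinarith

theorem four_signed {α β γ δ : G → ℂ} (hα : IsSignedIrr α) (hβ : IsSignedIrr β) (hγ : IsSignedIrr γ)
    (hδ : IsSignedIrr δ) {u v : ℝ} (hu : u ≠ 0) (hv : v ≠ 0)
    (hab : classInner α β = 0) (hcd : classInner γ δ = 0)
    (hmix : classInner (α - β) ((u : ℂ) • γ - (v : ℂ) • δ) = 0) (h1 : α 1 = β 1)
    (h2 : (u : ℂ) * γ 1 = (v : ℂ) * δ 1) :
    classInner α γ = 0 ∧ classInner α δ = 0 ∧ classInner β γ = 0 ∧ classInner β δ = 0 := by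
  have hba : classInner β α = 0 := by rw [← classInner_comm, hab, map_zero]
  have hdc : classInner δ γ = 0 := by rw [← classInner_comm, hcd, map_zero]
  have e : (u : ℂ) * (classInner α γ - classInner β γ) = (v : ℂ) * (classInner α δ - classInner β δ) := by
    simp only [classInner_sub_left, classInner_sub_right, classInner_smul_right, Complex.conj_ofReal] at hmix
    linear_combination hmix
  exact ⟨four_signed_aux hα hβ hγ hδ hu hv hab hcd e h1 h2,
    four_signed_aux hα hβ hδ hγ hv hu hab hdc e.symm h1 h2.symm,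
    four_signed_aux hβ hα hγ hδ hu hv hba hcd (by linear_combination -e) h1.symm h2,
    four_signed_aux hβ hα hδ hγ hv hu hba hdc (by linear_combination e) h1.symm h2.symm⟩

end CfsgLib.CharTheory
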