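/-
Coherence systems.
-/
import Mathlib
import Cfsg.Agent.Lib.CharTheory.TI
import Cfsg.Agent.Lib.CharTheory.Signed
import Cfsg.Agent.Lib.CharTheory.Clifford
import Cfsg.Prelude.Def_OddOrderChar

set_option autoImplicit false

namespace CfsgLib.CharTheory

open Cfsg
open scoped ComplexConjugate

universe u v

theorem classInner_genChar_int {G : Type u} [Group G] [Fintype G] {a b : G → ℂ} (ha : IsGeneralizedCharacter G a)
    (hb : IsGeneralizedCharacter G b) : ∃ z : ℤ, classInner a b = z := by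
  obtain ⟨x, y, hx, hy, rfl⟩ := ha
  obtain ⟨z, w, hz, hw, rfl⟩ := hb
  obtain ⟨n1, e1⟩ := classInner_char_nat hx hz
  obtain ⟨n2, e2⟩ := classInner_char_nat hx hw
  obtain ⟨n3, e3⟩ := classInner_char_nat hy hz
  obtain ⟨n4, e4⟩ := classInner_char_nat hy hw
  refine ⟨(n1 : ℤ) - n2 - (n3 - n4), ?_⟩
  rw [classInner_sub_left, classInner_sub_right, classInner_sub_right, e1, e2, e3, e4]
  push_cast; ring

variable {L : Type u} [Group L] [Fintype L] {G : Type v} [Group G] [Fintype G]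

theorem exists_coherenceSystem (S : Set (L → ℂ)) (hS : S.Nonempty) (hirr : ∀ χ ∈ S, IsIrrCharacter L χ)
    (hconj : ∀ χ ∈ S, conjFun χ ∈ S ∧ conjFun χ ≠ χ) (τ : (L → ℂ) → (G → ℂ))
    (hτ : IsLinearIsometryOn (zspanOn S {1}ᶜ) τ) (hτ1 : ∀ α ∈ zspanOn S {1}ᶜ, τ α 1 = 0) :
    ∃ R : (L → ℂ) → Finset (G → ℂ), IsCoherenceSystem S τ R := by
  classical
  have hmem : ∀ χ ∈ S, χ - conjFun χ ∈ zspanOn S {1}ᶜ := fun χ hχ => by
    refine ⟨Submodule.sub_mem _ (Submodule.subset_span hχ) (Submodule.subset_span (hconj χ hχ).1), fun x hx => ?_⟩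
    have hx' : x = 1 := by simpa using hx
    obtain ⟨d, -, hd⟩ := irr_degree_pos (hirr χ hχ)
    show χ x - conj (χ x) = 0
    rw [hx', hd, map_natCast, sub_self]
  have hnorm : ∀ χ ∈ S, classInner (τ (χ - conjFun χ)) (τ (χ - conjFun χ)) = 2 := fun χ hχ => by
    rw [hτ.2.2.1 _ (hmem χ hχ) _ (hmem χ hχ), classInner_sub_left, classInner_sub_right, classInner_sub_right]
    have h1 := hirr χ hχ
    have h2 := hirr _ (hconj χ hχ).1
    rw [classInner_irr_self h1, classInner_irr_self h2, classInner_irr_ne h1 h2 (Ne.symm (hconj χ hχ).2),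
      classInner_irr_ne h2 h1 (hconj χ hχ).2]
    norm_num
  choose! a b ha hb hab he using fun χ (hχ : χ ∈ S) => exists_eq_irr_sub_irr
    (hτ.2.2.2 _ (hmem χ hχ)) (hnorm χ hχ) (hτ1 _ (hmem χ hχ))
  have hne : ∀ χ ∈ S, a χ ≠ -b χ := fun χ hχ e => by
    have := congrFun e 1
    obtain ⟨d, hd, hd'⟩ := irr_degree_pos (ha χ hχ)
    obtain ⟨c, hc, hc'⟩ := irr_degree_pos (hb χ hχ)
    rw [Pi.neg_apply, hd', hc'] at this
    have h3 : ((d + c : ℕ) : ℂ) = 0 := by push_cast; linear_combination this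
    have h4 : d + c = 0 := by exact_mod_cast h3
    omega
  refine ⟨fun χ => {a χ, -b χ}, hS, fun χ hχ => isCharacter_of_irr (hirr χ hχ), fun χ hχ => (hconj χ hχ).1,
    fun χ hχ => (hconj χ hχ).2, hτ, hτ1, fun χ hχ φ hφ hne' => classInner_irr_ne (hirr χ hχ) (hirr φ hφ) hne', ?_, ?_, ?_, ?_⟩
  · intro χ hχ α hα β hβ
    simp only [Finset.mem_insert, Finset.mem_singleton] at hα hβ
    have h3 := classInner_irr_ne (ha χ hχ) (hb χ hχ) (hab χ hχ)
    have h4 := classInner_irr_ne (hb χ hχ) (ha χ hχ) (Ne.symm (hab χ hχ))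
    rcases hα with rfl | rfl <;> rcases hβ with rfl | rfl <;>
      simp [classInner_neg_left, classInner_neg_right, classInner_irr_self (ha χ hχ), classInner_irr_self (hb χ hχ),
        h3, h4, hne χ hχ, Ne.symm (hne χ hχ)]
  · intro χ hχ α hα
    simp only [Finset.mem_insert, Finset.mem_singleton] at hα
    rcases hα with rfl | rfl
    · exact isGenChar_of_char (isCharacter_of_irr (ha χ hχ))
    · exact isGenChar_neg (isGenChar_of_char (isCharacter_of_irr (hb χ hχ)))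
  · intro χ hχ
    rw [Finset.sum_pair (hne χ hχ), he χ hχ, sub_eq_add_neg]
  · intro χ hχ φ hφ h1 h2 α hα β hβ
    simp only [Finset.mem_insert, Finset.mem_singleton] at hα hβ
    have hi1 := hirr χ hχ
    have hi2 := hirr φ hφ
    have hc1 := hirr _ (hconj χ hχ).1
    have hc2 := hirr _ (hconj φ hφ).1
    have h3 : classInner (conjFun φ) χ = 0 := by
      refine classInner_irr_ne hc2 hi1 fun e => ?_
      have : φ = conjFun χ := by rw [← e]; funext x; simp [conjFun]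
      rw [this, classInner_irr_self hc1] at h2
      exact one_ne_zero h2
    have h4 : classInner (conjFun φ) (conjFun χ) = 0 := by
      refine classInner_irr_ne hc2 hc1 fun e => ?_
      have : φ = χ := by
        funext x
        have := congrArg conj (congrFun e x)
        simpa [conjFun] using this
      rw [this, classInner_irr_self hi1] at h1
      exact one_ne_zero h1
    have hmix : classInner (a φ - b φ) (((1 : ℝ) : ℂ) • a χ - ((1 : ℝ) : ℂ) • b χ) = 0 := by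
      rw [Complex.ofReal_one, one_smul, one_smul, ← he φ hφ, ← he χ hχ, hτ.2.2.1 _ (hmem φ hφ) _ (hmem χ hχ),
        classInner_sub_left, classInner_sub_right, classInner_sub_right, h1, h2, h3, h4]
      norm_num
    have deg : ∀ ψ ∈ S, a ψ 1 = b ψ 1 := fun ψ hψ => by
      have := hτ1 _ (hmem ψ hψ)
      rw [he ψ hψ, Pi.sub_apply, sub_eq_zero] at this
      exact this
    obtain ⟨k1, k2, k3, k4⟩ := four_signed (α := a φ) (β := b φ) (γ := a χ) (δ := b χ) (Or.inl (ha φ hφ)) (Or.inl (hb φ hφ))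
      (Or.inl (ha χ hχ)) (Or.inl (hb χ hχ)) one_ne_zero one_ne_zero (classInner_irr_ne (ha φ hφ) (hb φ hφ) (hab φ hφ))
      (classInner_irr_ne (ha χ hχ) (hb χ hχ) (hab χ hχ)) hmix (deg φ hφ) (by rw [deg χ hχ])
    rcases hα with rfl | rfl <;> rcases hβ with rfl | rfl <;>
      simp [classInner_neg_left, classInner_neg_right, k1, k2, k3, k4]

theorem projection_norm_bound (S : Set (L → ℂ)) (τ : (L → ℂ) → (G → ℂ)) (R : (L → ℂ) → Finset (G → ℂ))
    (hS : IsCoherenceSystem S τ R) {χ : L → ℂ} (hχ : χ ∈ S) {ψ : L → ℂ} (h1 : classInner χ ψ = 0)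
    (h2 : classInner (conjFun χ) ψ = 0) (τ₁ : (L → ℂ) → (G → ℂ))
    (hτ₁ : IsLinearIsometryOn (zspan {χ - ψ, χ - conjFun χ}) τ₁)
    (hagree : ∀ n : ℤ, τ₁ (n • (χ - conjFun χ)) = τ (n • (χ - conjFun χ))) :
    (classInner χ χ).re ≤ ∑ α ∈ R χ, ‖classInner (τ₁ (χ - ψ)) α‖ ^ 2 ∧
      ((classInner ψ ψ).re ≤ (classInner (τ₁ (χ - ψ)) (τ₁ (χ - ψ))).re - ∑ α ∈ R χ, ‖classInner (τ₁ (χ - ψ)) α‖ ^ 2 →
        (∑ α ∈ R χ, ‖classInner (τ₁ (χ - ψ)) α‖ ^ 2 = (classInner χ χ).re ∧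
          ∀ α ∈ R χ, classInner (τ₁ (χ - ψ)) α = 0 ∨ classInner (τ₁ (χ - ψ)) α = 1)) := by
  classical
  have hv : χ - ψ ∈ zspan {χ - ψ, χ - conjFun χ} := Submodule.subset_span (Set.mem_insert _ _)
  have hd : χ - conjFun χ ∈ zspan {χ - ψ, χ - conjFun χ} := Submodule.subset_span (Set.mem_insert_of_mem _ rfl)
  have hψχ : classInner ψ χ = 0 := by rw [← classInner_comm, h1, map_zero]
  have hψχ' : classInner ψ (conjFun χ) = 0 := by rw [← classInner_comm, h2, map_zero]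
  have hχχ' : classInner χ (conjFun χ) = 0 := hS.orthogonal χ hχ _ (hS.conj_mem χ hχ) (Ne.symm (hS.conj_ne χ hχ))
  choose z hz using fun α : R χ => classInner_genChar_int (hτ₁.2.2.2 _ hv) (hS.virtual χ hχ α α.2)
  have hD : τ₁ (χ - conjFun χ) = ∑ α ∈ R χ, α := by
    have := hagree 1
    rw [one_smul] at this
    rw [this, hS.sum_eq χ hχ]
  have hsum : classInner χ χ = ((∑ α : R χ, z α : ℤ) : ℂ) := by
    have h3 := hτ₁.2.2.1 _ hv _ hd
    rw [hD, classInner_sum_right, classInner_sub_left, classInner_sub_right, classInner_sub_right, hψχ, hψχ', hχχ'] at h3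
    rw [← Finset.sum_coe_sort (R χ)] at h3
    simp only [hz, sub_zero] at h3
    push_cast
    exact h3.symm
  have hsq : ∑ α ∈ R χ, ‖classInner (τ₁ (χ - ψ)) α‖ ^ 2 = ((∑ α : R χ, z α ^ 2 : ℤ) : ℝ) := by
    rw [← Finset.sum_coe_sort (R χ)]
    push_cast
    exact Finset.sum_congr rfl fun α _ => by rw [hz, Complex.norm_intCast, sq_abs]
  have hre : (classInner χ χ).re = ((∑ α : R χ, z α : ℤ) : ℝ) := by rw [hsum, Complex.intCast_re]
  have hle : ∀ α : R χ, z α ≤ z α ^ 2 := fun α => Int.le_self_sq _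
  refine ⟨?_, fun hbound => ?_⟩
  · rw [hre, hsq]; exact_mod_cast Finset.sum_le_sum fun α _ => hle α
  have htot : classInner (τ₁ (χ - ψ)) (τ₁ (χ - ψ)) = classInner χ χ + classInner ψ ψ := by
    rw [hτ₁.2.2.1 _ hv _ hv, classInner_sub_left, classInner_sub_right, classInner_sub_right, h1, hψχ]
    ring
  rw [htot, Complex.add_re, hre, hsq] at hbound
  have heq : ∑ α : R χ, z α ^ 2 = ∑ α : R χ, z α := by
    refine le_antisymm ?_ (Finset.sum_le_sum fun α _ => hle α)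
    have : ((∑ α : R χ, z α ^ 2 : ℤ) : ℝ) ≤ ((∑ α : R χ, z α : ℤ) : ℝ) := by linarith
    exact_mod_cast this
  refine ⟨by rw [hsq, hre, heq], fun α hα => ?_⟩
  have h01 := (Finset.sum_eq_sum_iff_of_le fun β _ => hle β).mp heq.symm ⟨α, hα⟩ (Finset.mem_univ _)
  rw [hz ⟨α, hα⟩]
  have : z ⟨α, hα⟩ = 0 ∨ z ⟨α, hα⟩ = 1 := by
    have h5 : z ⟨α, hα⟩ * (z ⟨α, hα⟩ - 1) = 0 := by rw [mul_sub, mul_one, ← sq, ← h01, sub_self]
    rcases mul_eq_zero.mp h5 with h | h
    · exact Or.inl h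
    · exact Or.inr (sub_eq_zero.mp h)
  rcases this with h | h <;> [left; right] <;> rw [h] <;> norm_num

end CfsgLib.CharTheory
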