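/-
Joining coherent sets of irreducible characters.
-/
import Cfsg.Agent.Lib.CharTheory.Coherence

set_option autoImplicit false

namespace CfsgLib.CharTheory

open Cfsg
open scoped ComplexConjugate

universe u v

variable {N : Type u} [Group N] [Fintype N] {G : Type v} [Group G] [Fintype G]

theorem li_zero {E : Set (N → ℂ)} {σ : (N → ℂ) → (G → ℂ)} (hσ : IsLinearIsometryOn E σ) {θ : N → ℂ} (h : θ ∈ E) :
    σ ((0 : ℤ) • θ) = 0 := by rw [hσ.2.1 θ h 0, zero_smul]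

theorem classInner_span_zero {S T : Set (N → ℂ)} (h : ∀ a ∈ S, ∀ b ∈ T, classInner a b = 0) {a b : N → ℂ}
    (ha : a ∈ zspan S) (hb : b ∈ zspan T) : classInner a b = 0 := by
  have h1 : ∀ x ∈ S, classInner x b = 0 := fun x hx => by
    induction hb using Submodule.span_induction with
    | mem y hy => exact h x hx y hy
    | zero => exact classInner_zero_right x
    | add y z _ _ hy hz => rw [classInner_add_right, hy, hz, add_zero]
    | smul k y _ hy => rw [← Int.cast_smul_eq_zsmul ℂ, classInner_smul_right, hy, mul_zero]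
  induction ha using Submodule.span_induction with
  | mem x hx => exact h1 x hx
  | zero => exact classInner_zero_left b
  | add y z _ _ hy hz => rw [classInner_add_left, hy, hz, add_zero]
  | smul k y _ hy => rw [← Int.cast_smul_eq_zsmul ℂ, classInner_smul_left, hy, mul_zero]

theorem map_orth_span {X Y : Set (N → ℂ)} {σ τ : (N → ℂ) → (G → ℂ)} (hσ : IsLinearIsometryOn (zspan X) σ)
    (hτ : IsLinearIsometryOn (zspan Y) τ) (h : ∀ a ∈ X, ∀ b ∈ Y, classInner (σ a) (τ b) = 0) {a b : N → ℂ}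
    (ha : a ∈ zspan X) (hb : b ∈ zspan Y) : classInner (σ a) (τ b) = 0 := by
  have h1 : ∀ x ∈ X, classInner (σ x) (τ b) = 0 := fun x hx => by
    induction hb using Submodule.span_induction with
    | mem y hy => exact h x hx y hy
    | zero =>
      have h0 := hτ.2.1 0 (Submodule.zero_mem _) 0
      rw [smul_zero, zero_smul] at h0
      rw [h0, classInner_zero_right]
    | add y z hy' hz' hy hz => rw [hτ.1 y hy' z hz', classInner_add_right, hy, hz, add_zero]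
    | smul k y hy' hy => rw [hτ.2.1 y hy' k, ← Int.cast_smul_eq_zsmul ℂ, classInner_smul_right, hy, mul_zero]
  induction ha using Submodule.span_induction with
  | mem x hx => exact h1 x hx
  | zero =>
    have h0 := hσ.2.1 0 (Submodule.zero_mem _) 0
    rw [smul_zero, zero_smul] at h0
    rw [h0, classInner_zero_left]
  | add y z hy' hz' hy hz => rw [hσ.1 y hy' z hz', classInner_add_left, hy, hz, add_zero]
  | smul k y hy' hy => rw [hσ.2.1 y hy' k, ← Int.cast_smul_eq_zsmul ℂ, classInner_smul_left, hy, mul_zero]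

/-- Two isometries with orthogonal images glue to one on the span of the union. -/
theorem exists_glued {X Y : Set (N → ℂ)} (hXY : ∀ a ∈ X, ∀ b ∈ Y, classInner a b = 0) {σ τ : (N → ℂ) → (G → ℂ)}
    (hσ : IsLinearIsometryOn (zspan X) σ) (hτ : IsLinearIsometryOn (zspan Y) τ)
    (h : ∀ a ∈ X, ∀ b ∈ Y, classInner (σ a) (τ b) = 0) :
    ∃ ρ : (N → ℂ) → (G → ℂ), IsLinearIsometryOn (zspan (X ∪ Y)) ρ ∧
      ∀ a ∈ zspan X, ∀ b ∈ zspan Y, ρ (a + b) = σ a + τ b := by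
  classical
  have hdec : ∀ θ ∈ zspan (X ∪ Y), ∃ a ∈ zspan X, ∃ b ∈ zspan Y, θ = a + b := fun θ hθ => by
    rw [zspan, SetLike.mem_coe, Submodule.span_union, Submodule.mem_sup] at hθ
    obtain ⟨a, ha, b, hb, rfl⟩ := hθ
    exact ⟨a, ha, b, hb, rfl⟩
  choose! p hp q hq hpq using hdec
  have huniq : ∀ a ∈ zspan X, ∀ b ∈ zspan Y, p (a + b) = a ∧ q (a + b) = b := fun a ha b hb => by
    have hm : a + b ∈ zspan (X ∪ Y) :=
      Submodule.add_mem _ (Submodule.span_mono Set.subset_union_left ha) (Submodule.span_mono Set.subset_union_right hb)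
    have e := hpq _ hm
    set x := p (a + b) - a with hx
    set y := b - q (a + b) with hy
    have hxy : x = y := by rw [hx, hy]; linear_combination -e
    have h0 : classInner x x = 0 := by
      nth_rw 2 [hxy]
      exact classInner_span_zero hXY (Submodule.sub_mem _ (hp _ hm) ha) (Submodule.sub_mem _ hb (hq _ hm))
    have hx0 : x = 0 := by
      simp only [classInner, Complex.mul_conj, mul_eq_zero, inv_eq_zero, Nat.cast_eq_zero] at h0
      rcases h0 with h | h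
      · exact absurd h Nat.card_pos.ne'
      · funext g
        rw [← Complex.ofReal_sum, Complex.ofReal_eq_zero, Finset.sum_eq_zero_iff_of_nonneg fun i _ => Complex.normSq_nonneg _] at h
        exact Complex.normSq_eq_zero.mp (h g (Finset.mem_univ g))
    exact ⟨sub_eq_zero.mp hx0, (sub_eq_zero.mp (hxy ▸ hx0 : y = 0)).symm⟩
  refine ⟨fun θ => σ (p θ) + τ (q θ), ⟨fun α hα β hβ => ?_, fun α hα k => ?_, fun α hα β hβ => ?_, fun α hα => ?_⟩,
    fun a ha b hb => by simp only [(huniq a ha b hb).1, (huniq a ha b hb).2]⟩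
  · have e : α + β = (p α + p β) + (q α + q β) := by
      conv_lhs => rw [hpq α hα, hpq β hβ]
      abel
    obtain ⟨e1, e2⟩ := huniq _ (Submodule.add_mem _ (hp α hα) (hp β hβ)) _ (Submodule.add_mem _ (hq α hα) (hq β hβ))
    show σ (p (α + β)) + τ (q (α + β)) = _
    rw [e, e1, e2, hσ.1 _ (hp α hα) _ (hp β hβ), hτ.1 _ (hq α hα) _ (hq β hβ)]
    funext g; simp only [Pi.add_apply]; ring
  · have e : k • α = k • p α + k • q α := by
      conv_lhs => rw [hpq α hα]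
      rw [smul_add]
    obtain ⟨e1, e2⟩ := huniq _ (Submodule.smul_mem _ k (hp α hα)) _ (Submodule.smul_mem _ k (hq α hα))
    show σ (p (k • α)) + τ (q (k • α)) = _
    rw [e, e1, e2, hσ.2.1 _ (hp α hα) k, hτ.2.1 _ (hq α hα) k, smul_add]
  · show classInner (σ (p α) + τ (q α)) (σ (p β) + τ (q β)) = classInner α β
    have h1 := map_orth_span hσ hτ h (hp α hα) (hq β hβ)
    have h2 := map_orth_span hσ hτ h (hp β hβ) (hq α hα)
    have h3 : classInner (τ (q α)) (σ (p β)) = 0 := by rw [← classInner_comm, h2, map_zero]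
    have h4 := classInner_span_zero hXY (hp α hα) (hq β hβ)
    have h5 : classInner (q α) (p β) = 0 := by rw [← classInner_comm, classInner_span_zero hXY (hp β hβ) (hq α hα), map_zero]
    conv_rhs => rw [hpq α hα, hpq β hβ]
    rw [classInner_add_left, classInner_add_right, classInner_add_right, classInner_add_left, classInner_add_right, classInner_add_right,
      h1, h3, h4, h5, hσ.2.2.1 _ (hp α hα) _ (hp β hβ), hτ.2.2.1 _ (hq α hα) _ (hq β hβ)]
  · exact isGenChar_add (hσ.2.2.2 _ (hp α hα)) (hτ.2.2.2 _ (hq α hα))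

theorem signed_image {X : Set (N → ℂ)} (hX : ∀ a ∈ X, IsIrrCharacter N a) {σ : (N → ℂ) → (G → ℂ)}
    (hσ : IsLinearIsometryOn (zspan X) σ) {a : N → ℂ} (ha : a ∈ X) : IsSignedIrr (σ a) :=
  irr_or_neg_of_norm_one (hσ.2.2.2 a (Submodule.subset_span ha))
    (by rw [hσ.2.2.1 a (Submodule.subset_span ha) a (Submodule.subset_span ha), classInner_irr_self (hX a ha)])

/-- A degree-zero combination of two characters. -/
theorem deg_comb_mem {X : Set (N → ℂ)} {a b : N → ℂ} (ha : a ∈ X) (hb : b ∈ X) {d e : ℕ} (hd : a 1 = d) (he : b 1 = e) :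
    (e : ℤ) • a - (d : ℤ) • b ∈ zspanOn X {1}ᶜ := by
  refine ⟨Submodule.sub_mem _ (Submodule.smul_mem _ _ (Submodule.subset_span ha)) (Submodule.smul_mem _ _ (Submodule.subset_span hb)), fun x hx => ?_⟩
  have : x = 1 := by simpa using hx
  rw [this, Pi.sub_apply, Pi.smul_apply, Pi.smul_apply, hd, he, zsmul_eq_mul, zsmul_eq_mul]
  push_cast; ring

theorem li_comb {X : Set (N → ℂ)} {σ : (N → ℂ) → (G → ℂ)} (hσ : IsLinearIsometryOn (zspan X) σ) {a b : N → ℂ}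
    (ha : a ∈ zspan X) (hb : b ∈ zspan X) (m k : ℤ) :
    σ (m • a - k • b) = (m : ℂ) • σ a - (k : ℂ) • σ b := by
  rw [sub_eq_add_neg, ← neg_smul, hσ.1 _ (Submodule.smul_mem _ m ha) _ (Submodule.smul_mem _ _ hb), hσ.2.1 a ha m, hσ.2.1 b hb (-k),
    neg_smul, ← sub_eq_add_neg, Int.cast_smul_eq_zsmul, Int.cast_smul_eq_zsmul]

theorem union_orthogonal {S X Y : Set (N → ℂ)} (hirr : ∀ ξ ∈ S, IsIrrCharacter N ξ) (hXS : X ⊆ S) (hYS : Y ⊆ S)
    (hXY : Disjoint X Y) (hX2 : ∃ a ∈ X, ∃ b ∈ X, a ≠ b) (hY2 : ∃ a ∈ Y, ∃ b ∈ Y, a ≠ b)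
    {α : (N → ℂ) → (G → ℂ)} (hα : IsLinearIsometryOn (zspanOn S {1}ᶜ) α) (hα1 : ∀ θ ∈ zspanOn S {1}ᶜ, α θ 1 = 0)
    {σ τ : (N → ℂ) → (G → ℂ)} (hσ : IsLinearIsometryOn (zspan X) σ) (hσα : ∀ θ ∈ zspanOn X {1}ᶜ, σ θ = α θ)
    (hτ : IsLinearIsometryOn (zspan Y) τ) (hτα : ∀ θ ∈ zspanOn Y {1}ᶜ, τ θ = α θ) :
    ∀ χ ∈ X, ∀ η ∈ Y, classInner (σ χ) (τ η) = 0 := by
  intro χ hχ η hη
  obtain ⟨χ', hχ', hne⟩ : ∃ χ' ∈ X, χ' ≠ χ := by
    obtain ⟨a, ha, b, hb, hab⟩ := hX2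
    by_cases e : a = χ
    · exact ⟨b, hb, fun e' => hab (e.trans e'.symm)⟩
    · exact ⟨a, ha, e⟩
  obtain ⟨η', hη', hne'⟩ : ∃ η' ∈ Y, η' ≠ η := by
    obtain ⟨a, ha, b, hb, hab⟩ := hY2
    by_cases e : a = η
    · exact ⟨b, hb, fun e' => hab (e.trans e'.symm)⟩
    · exact ⟨a, ha, e⟩
  have iX : ∀ a ∈ X, IsIrrCharacter N a := fun a ha => hirr a (hXS ha)
  have iY : ∀ a ∈ Y, IsIrrCharacter N a := fun a ha => hirr a (hYS ha)
  obtain ⟨d, hd0, hd⟩ := irr_degree_pos (iX χ hχ)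
  obtain ⟨d', hd0', hd'⟩ := irr_degree_pos (iX χ' hχ')
  obtain ⟨e, he0, he⟩ := irr_degree_pos (iY η hη)
  obtain ⟨e', he0', he'⟩ := irr_degree_pos (iY η' hη')
  have hu := deg_comb_mem hχ hχ' hd hd'
  have hw := deg_comb_mem hη hη' he he'
  have hu' : (d' : ℤ) • χ - (d : ℤ) • χ' ∈ zspanOn S {1}ᶜ := ⟨Submodule.span_mono hXS hu.1, hu.2⟩
  have hw' : (e' : ℤ) • η - (e : ℤ) • η' ∈ zspanOn S {1}ᶜ := ⟨Submodule.span_mono hYS hw.1, hw.2⟩
  have h0 : classInner ((d' : ℤ) • χ - (d : ℤ) • χ') ((e' : ℤ) • η - (e : ℤ) • η') = 0 :=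
    classInner_span_zero (fun a ha b hb => classInner_irr_ne (iX a ha) (iY b hb) fun e => hXY.ne_of_mem ha hb e) hu.1 hw.1
  have hmix := (hα.2.2.1 _ hu' _ hw').trans h0
  rw [← hσα _ hu, ← hτα _ hw, li_comb hσ (Submodule.subset_span hχ) (Submodule.subset_span hχ'),
    li_comb hτ (Submodule.subset_span hη) (Submodule.subset_span hη')] at hmix
  have hdσ := hα1 _ hu'
  rw [← hσα _ hu, li_comb hσ (Submodule.subset_span hχ) (Submodule.subset_span hχ')] at hdσ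
  have hdτ := hα1 _ hw'
  rw [← hτα _ hw, li_comb hτ (Submodule.subset_span hη) (Submodule.subset_span hη')] at hdτ
  simp only [classInner_sub_left, classInner_sub_right, classInner_smul_left, classInner_smul_right, Pi.sub_apply,
    Pi.smul_apply, smul_eq_mul, map_intCast] at hmix hdσ hdτ
  push_cast at hmix hdσ hdτ
  have sA := signed_image iX hσ hχ
  have sA' := signed_image iX hσ hχ'
  have sB := signed_image iY hτ hη
  have sB' := signed_image iY hτ hη'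
  rcases signed_cases sA sB with h | ⟨δ, hδ, hδe⟩
  · exact h
  exfalso
  have hδ2 : δ * δ = 1 := by rcases hδ with rfl | rfl <;> norm_num
  have hδ0 : δ ≠ 0 := fun h => by simp [h] at hδ2
  have hBB' : classInner (τ η) (τ η') = 0 := by
    rw [hτ.2.2.1 _ (Submodule.subset_span hη) _ (Submodule.subset_span hη'), classInner_irr_ne (iY η hη) (iY η' hη') (Ne.symm hne')]
  have hAA' : classInner (σ χ') (σ χ) = 0 := by
    rw [hσ.2.2.1 _ (Submodule.subset_span hχ') _ (Submodule.subset_span hχ), classInner_irr_ne (iX χ' hχ') (iX χ hχ) hne]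
  rw [hδe, classInner_smul_right] at hAA'
  have hA'B : classInner (σ χ') (τ η) = 0 := (mul_eq_zero.mp hAA').resolve_left ((map_ne_zero _).mpr hδ0)
  rw [hδe, classInner_smul_left, classInner_smul_left, classInner_self_signed sB, hBB', hA'B] at hmix
  have hdC : (d : ℂ) ≠ 0 := Nat.cast_ne_zero.mpr hd0.ne'
  have hdC' : (d' : ℂ) ≠ 0 := Nat.cast_ne_zero.mpr hd0'.ne'
  have heC : (e : ℂ) ≠ 0 := Nat.cast_ne_zero.mpr he0.ne'
  have heC' : (e' : ℂ) ≠ 0 := Nat.cast_ne_zero.mpr he0'.ne'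
  rcases signed_cases sA' sB' with h | ⟨δ', hδ', hδe'⟩
  · rw [h] at hmix
    simp only [mul_zero, mul_one, sub_zero, zero_sub, neg_zero] at hmix
    have : (d' : ℂ) * e' * δ = 0 := by linear_combination hmix
    simp [hdC', heC', hδ0] at this
  · rw [hδe', classInner_smul_left, classInner_self_signed sB'] at hmix
    rw [hδe, hδe'] at hdσ
    simp only [Pi.smul_apply, smul_eq_mul] at hdσ
    have hne0 : τ η' 1 ≠ 0 := by
      rcases sB' with h | h
      · exact irr_ne_zero h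
      · intro z; exact irr_ne_zero h (by rw [Pi.neg_apply, z, neg_zero])
    have key : ((d' : ℂ) * δ * ((e : ℂ) ^ 2 + (e' : ℂ) ^ 2)) * τ η' 1 = 0 := by
      linear_combination ((e : ℂ) * e') * hdσ + (-(d' : ℂ) * δ * e) * hdτ + ((e' : ℂ) * τ η' 1) * hmix
    have h2 : (d' : ℂ) * δ * ((e : ℂ) ^ 2 + (e' : ℂ) ^ 2) = 0 := (mul_eq_zero.mp key).resolve_right hne0
    have h3 : ((e ^ 2 + e' ^ 2 : ℕ) : ℂ) = 0 := by
      push_cast
      exact (mul_eq_zero.mp h2).resolve_left (mul_ne_zero hdC' hδ0)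
    have h4 : e ^ 2 + e' ^ 2 = 0 := by exact_mod_cast h3
    have : e ^ 2 = 0 := by omega
    exact absurd (pow_eq_zero_iff (two_ne_zero) |>.mp this) he0.ne'

theorem union_coherent {S X Y : Set (N → ℂ)} (hirr : ∀ ξ ∈ S, IsIrrCharacter N ξ) (hXS : X ⊆ S) (hYS : Y ⊆ S)
    (hXY : Disjoint X Y) (hX2 : ∃ a ∈ X, ∃ b ∈ X, a ≠ b)
    {α : (N → ℂ) → (G → ℂ)} (hα : IsLinearIsometryOn (zspanOn S {1}ᶜ) α)
    {σ τ : (N → ℂ) → (G → ℂ)} (hσ : IsLinearIsometryOn (zspan X) σ) (hσα : ∀ θ ∈ zspanOn X {1}ᶜ, σ θ = α θ)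
    (hτ : IsLinearIsometryOn (zspan Y) τ) (hτα : ∀ θ ∈ zspanOn Y {1}ᶜ, τ θ = α θ)
    (horth : ∀ χ ∈ X, ∀ η ∈ Y, classInner (σ χ) (τ η) = 0)
    (hex : ∃ χ₀ ∈ X, ∃ η₀ ∈ Y, α (χ₀ 1 • η₀ - η₀ 1 • χ₀) = χ₀ 1 • τ η₀ - η₀ 1 • σ χ₀) :
    IsCoherent (X ∪ Y) {1}ᶜ α := by
  classical
  have iX : ∀ a ∈ X, IsIrrCharacter N a := fun a ha => hirr a (hXS ha)
  have iY : ∀ a ∈ Y, IsIrrCharacter N a := fun a ha => hirr a (hYS ha)
  obtain ⟨ρ, hρ, hρe⟩ := exists_glued (fun a ha b hb => classInner_irr_ne (iX a ha) (iY b hb) fun e => hXY.ne_of_mem ha hb e) hσ hτ horth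
  refine ⟨?_, ρ, hρ, fun θ hθ => ?_⟩
  · obtain ⟨a, ha, b, hb, hab⟩ := hX2
    obtain ⟨d, hd0, hd⟩ := irr_degree_pos (iX a ha)
    obtain ⟨e, he0, he⟩ := irr_degree_pos (iX b hb)
    have hm := deg_comb_mem ha hb hd he
    refine ⟨_, ⟨Submodule.span_mono Set.subset_union_left hm.1, hm.2⟩, fun h => ?_⟩
    have h1 := congrArg (fun f => classInner f a) h
    simp only [← Int.cast_smul_eq_zsmul ℂ, classInner_sub_left, classInner_smul_left, classInner_irr_self (iX a ha),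
      classInner_irr_ne (iX b hb) (iX a ha) (Ne.symm hab), classInner_zero_left] at h1
    simp [he0.ne'] at h1
  obtain ⟨χ₀, hχ₀, η₀, hη₀, hex⟩ := hex
  obtain ⟨d, hd0, hd⟩ := irr_degree_pos (iX χ₀ hχ₀)
  obtain ⟨e, he0, he⟩ := irr_degree_pos (iY η₀ hη₀)
  have hθ' : θ ∈ zspan (X ∪ Y) := hθ.1
  rw [zspan, SetLike.mem_coe, Submodule.span_union, Submodule.mem_sup] at hθ'
  obtain ⟨a, ha, b, hb, rfl⟩ := hθ'
  rw [hρe a ha b hb]
  obtain ⟨m, hm⟩ : ∃ m : ℤ, a 1 = (m : ℂ) := by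
    have hint : ∀ x ∈ zspan X, ∃ m : ℤ, x 1 = (m : ℂ) := fun x hx => by
      induction hx using Submodule.span_induction with
      | mem y hy =>
        obtain ⟨k, -, hk⟩ := irr_degree_pos (iX y hy)
        exact ⟨k, by rw [hk]; norm_num⟩
      | zero => exact ⟨0, by simp⟩
      | add y z _ _ hy hz =>
        obtain ⟨k, hk⟩ := hy
        obtain ⟨l, hl⟩ := hz
        exact ⟨k + l, by rw [Pi.add_apply, hk, hl]; push_cast; ring⟩
      | smul c y _ hy =>
        obtain ⟨k, hk⟩ := hy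
        exact ⟨c * k, by rw [Pi.smul_apply, hk, zsmul_eq_mul]; push_cast; ring⟩
    exact hint a ha
  have hb1 : b 1 = -(m : ℂ) := by
    have := hθ.2 1 (by simp)
    rw [Pi.add_apply, hm] at this
    linear_combination this
  have hA : (d : ℤ) • a - m • χ₀ ∈ zspanOn X {1}ᶜ :=
    ⟨Submodule.sub_mem _ (Submodule.smul_mem _ _ ha) (Submodule.smul_mem _ _ (Submodule.subset_span hχ₀)), fun x hx => by
      have : x = 1 := by simpa using hx
      rw [this, Pi.sub_apply, Pi.smul_apply, Pi.smul_apply, hm, hd, zsmul_eq_mul, zsmul_eq_mul]; push_cast; ring⟩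
  have hB : (e : ℤ) • b - (-m) • η₀ ∈ zspanOn Y {1}ᶜ :=
    ⟨Submodule.sub_mem _ (Submodule.smul_mem _ _ hb) (Submodule.smul_mem _ _ (Submodule.subset_span hη₀)), fun x hx => by
      have : x = 1 := by simpa using hx
      rw [this, Pi.sub_apply, Pi.smul_apply, Pi.smul_apply, hb1, he, zsmul_eq_mul, zsmul_eq_mul]; push_cast; ring⟩
  have sX : zspanOn X {1}ᶜ ⊆ zspanOn S {1}ᶜ := fun x hx => ⟨Submodule.span_mono hXS hx.1, hx.2⟩
  have sY : zspanOn Y {1}ᶜ ⊆ zspanOn S {1}ᶜ := fun x hx => ⟨Submodule.span_mono hYS hx.1, hx.2⟩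
  have hC : (d : ℤ) • η₀ - (e : ℤ) • χ₀ ∈ zspanOn S {1}ᶜ := deg_comb_mem (hYS hη₀) (hXS hχ₀) he hd
  have hθS : a + b ∈ zspanOn S {1}ᶜ := ⟨Submodule.span_mono (Set.union_subset hXS hYS) hθ.1, hθ.2⟩
  have hadd : ∀ x ∈ zspanOn S {1}ᶜ, ∀ y ∈ zspanOn S {1}ᶜ, x + y ∈ zspanOn S {1}ᶜ := fun x hx y hy =>
    ⟨Submodule.add_mem _ hx.1 hy.1, fun z hz => by rw [Pi.add_apply, hx.2 z hz, hy.2 z hz, add_zero]⟩
  have hsm : ∀ (k : ℤ), ∀ x ∈ zspanOn S {1}ᶜ, k • x ∈ zspanOn S {1}ᶜ := fun k x hx =>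
    ⟨Submodule.smul_mem _ k hx.1, fun z hz => by rw [Pi.smul_apply, hx.2 z hz, smul_zero]⟩
  have e1 : ((d : ℤ) * e) • (a + b) = (e : ℤ) • ((d : ℤ) • a - m • χ₀) + ((d : ℤ) • ((e : ℤ) • b - (-m) • η₀) + (-m) • ((d : ℤ) • η₀ - (e : ℤ) • χ₀)) := by
    funext g; simp only [← Int.cast_smul_eq_zsmul ℂ, Pi.smul_apply, Pi.add_apply, Pi.sub_apply, smul_eq_mul]; push_cast; ring
  have e2 := congrArg α e1
  rw [hα.2.1 _ hθS, hα.1 _ (hsm _ _ (sX hA)) _ (hadd _ (hsm _ _ (sY hB)) _ (hsm _ _ hC)),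
    hα.1 _ (hsm _ _ (sY hB)) _ (hsm _ _ hC), hα.2.1 _ (sX hA), hα.2.1 _ (sY hB), hα.2.1 _ hC, ← hσα _ hA, ← hτα _ hB,
    li_comb hσ ha (Submodule.subset_span hχ₀), li_comb hτ hb (Submodule.subset_span hη₀)] at e2
  have hC' : α ((d : ℤ) • η₀ - (e : ℤ) • χ₀) = (d : ℂ) • τ η₀ - (e : ℂ) • σ χ₀ := by
    rw [hd, he] at hex
    rw [← hex, ← Int.cast_smul_eq_zsmul ℂ, ← Int.cast_smul_eq_zsmul ℂ (e : ℤ)]
    norm_num
  rw [hC'] at e2
  funext g
  have e3 := congrFun e2 g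
  simp only [← Int.cast_smul_eq_zsmul ℂ, Pi.smul_apply, Pi.add_apply, Pi.sub_apply, smul_eq_mul] at e3
  push_cast at e3
  have hde : (d : ℂ) * e ≠ 0 := mul_ne_zero (Nat.cast_ne_zero.mpr hd0.ne') (Nat.cast_ne_zero.mpr he0.ne')
  refine mul_left_cancel₀ hde ?_
  rw [Pi.add_apply]
  linear_combination -e3

end CfsgLib.CharTheory
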