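/-
Coherence of a system of characters of constant degree.
-/
import Cfsg.Agent.Lib.CharTheory.Coherence

set_option autoImplicit false

namespace CfsgLib.CharTheory

open Cfsg
open scoped ComplexConjugate

universe u v

variable {L : Type u} [Group L] [Fintype L] {G : Type v} [Group G] [Fintype G]
variable {S : Set (L → ℂ)} {τ : (L → ℂ) → (G → ℂ)} {R : (L → ℂ) → Finset (G → ℂ)}

open Classical in
theorem cs_sum_norm (hS : IsCoherenceSystem S τ R) {χ : L → ℂ} (hχ : χ ∈ S) {X Y : Finset (G → ℂ)}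
    (hX : X ⊆ R χ) (hY : Y ⊆ R χ) :
    classInner (∑ α ∈ X, α) (∑ α ∈ Y, α) = ((X ∩ Y).card : ℂ) := by
  classical
  rw [classInner_sum_left]
  have : ∀ α ∈ X, classInner α (∑ β ∈ Y, β) = if α ∈ Y then 1 else 0 := fun α hα => by
    rw [classInner_sum_right]
    rw [Finset.sum_congr rfl fun β hβ => hS.orthonormal χ hχ α (hX hα) β (hY hβ), Finset.sum_ite_eq]
  rw [Finset.sum_congr rfl this, Finset.sum_boole]
  rw [Finset.filter_mem_eq_inter]

theorem cs_card (hS : IsCoherenceSystem S τ R) {χ : L → ℂ} (hχ : χ ∈ S) {n : ℕ} (hn : classInner χ χ = n)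
    (hmem : χ - conjFun χ ∈ zspanOn S {1}ᶜ) : (R χ).card = 2 * n := by
  classical
  have h := hS.isometry.2.2.1 _ hmem _ hmem
  rw [hS.sum_eq χ hχ, cs_sum_norm hS hχ subset_rfl subset_rfl, Finset.inter_self, classInner_sub_left, classInner_sub_right,
    classInner_sub_right, hS.orthogonal χ hχ _ (hS.conj_mem χ hχ) (Ne.symm (hS.conj_ne χ hχ)),
    hS.orthogonal _ (hS.conj_mem χ hχ) χ hχ (hS.conj_ne χ hχ)] at h
  have hc : classInner (conjFun χ) (conjFun χ) = n := by
    have : classInner (conjFun χ) (conjFun χ) = conj (classInner χ χ) := by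
      simp [classInner, conjFun, map_sum, map_mul]
    rw [this, hn, map_natCast]
  rw [hn, hc] at h
  have h' : ((R χ).card : ℂ) = ((2 * n : ℕ) : ℂ) := by push_cast; linear_combination h
  exact_mod_cast h'

theorem cs_pair_decomp (hS : IsCoherenceSystem S τ R) {χ φ : L → ℂ} (hχ : χ ∈ S) (hφ : φ ∈ S) {n m : ℕ}
    (hn : classInner χ χ = n) (hm : classInner φ φ = m) (h1 : φ ≠ χ) (h2 : φ ≠ conjFun χ)
    (hmem : χ - φ ∈ zspanOn S {1}ᶜ) (hχm : χ - conjFun χ ∈ zspanOn S {1}ᶜ) (hφm : φ - conjFun φ ∈ zspanOn S {1}ᶜ) :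
    ∃ X Y : Finset (G → ℂ), X ⊆ R χ ∧ X.card = n ∧ Y ⊆ R φ ∧ τ (χ - φ) = (∑ α ∈ X, α) - ∑ α ∈ Y, α := by
  classical
  set v := τ (χ - φ) with hv
  have hconj2 : ∀ ψ : L → ℂ, conjFun (conjFun ψ) = ψ := fun ψ => by funext x; simp [conjFun]
  have hφχ : classInner φ χ = 0 := hS.orthogonal φ hφ χ hχ h1
  have hχφ : classInner χ φ = 0 := hS.orthogonal χ hχ φ hφ (Ne.symm h1)
  have hφχ' : classInner φ (conjFun χ) = 0 := hS.orthogonal φ hφ _ (hS.conj_mem χ hχ) h2
  have hχφ' : classInner χ (conjFun φ) = 0 := hS.orthogonal χ hχ _ (hS.conj_mem φ hφ) fun e => h2 (by rw [e, hconj2])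
  have hgen := hS.isometry.2.2.2 _ hmem
  choose c hc using fun α : R χ => classInner_genChar_int hgen (hS.virtual χ hχ α α.2)
  choose d hd using fun α : R φ => classInner_genChar_int hgen (hS.virtual φ hφ α α.2)
  have hsc : ∑ α : R χ, c α = n := by
    have h := hS.isometry.2.2.1 _ hmem _ hχm
    rw [hS.sum_eq χ hχ, classInner_sum_right, classInner_sub_left, classInner_sub_right, classInner_sub_right,
      hn, hφχ, hφχ', hS.orthogonal χ hχ _ (hS.conj_mem χ hχ) (Ne.symm (hS.conj_ne χ hχ)), ← Finset.sum_coe_sort (R χ)] at h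
    simp only [hc, sub_zero] at h
    exact_mod_cast h
  have hsd : ∑ α : R φ, d α = -(m : ℤ) := by
    have h := hS.isometry.2.2.1 _ hmem _ hφm
    rw [hS.sum_eq φ hφ, classInner_sum_right, classInner_sub_left, classInner_sub_right, classInner_sub_right,
      hm, hχφ, hχφ', hS.orthogonal φ hφ _ (hS.conj_mem φ hφ) (Ne.symm (hS.conj_ne φ hφ)), ← Finset.sum_coe_sort (R φ)] at h
    simp only [hd, sub_zero, zero_sub] at h
    exact_mod_cast h
  have hvv : classInner v v = (n : ℂ) + m := by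
    rw [hS.isometry.2.2.1 _ hmem _ hmem, classInner_sub_left, classInner_sub_right, classInner_sub_right, hn, hm, hχφ, hφχ]
    ring
  have hdisj : ∀ α ∈ R φ, ∀ β ∈ R χ, classInner α β = 0 := hS.disjoint χ hχ φ hφ hφχ hφχ'
  set p : G → ℂ := ∑ α : R χ, (c α : ℂ) • (α : G → ℂ) with hp
  set q : G → ℂ := ∑ α : R φ, (d α : ℂ) • (α : G → ℂ) with hq
  have hvp : classInner v p = ((∑ α : R χ, c α ^ 2 : ℤ) : ℂ) := by
    rw [hp, classInner_sum_right]; push_cast
    exact Finset.sum_congr rfl fun α _ => by rw [classInner_smul_right, hc, map_intCast, sq]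
  have hvq : classInner v q = ((∑ α : R φ, d α ^ 2 : ℤ) : ℂ) := by
    rw [hq, classInner_sum_right]; push_cast
    exact Finset.sum_congr rfl fun α _ => by rw [classInner_smul_right, hd, map_intCast, sq]
  have hpp : classInner p p = ((∑ α : R χ, c α ^ 2 : ℤ) : ℂ) := by
    rw [hp, classInner_sum_left]; push_cast
    refine Finset.sum_congr rfl fun α _ => ?_
    rw [classInner_smul_left, classInner_sum_right, Finset.sum_eq_single α
      (fun β _ hne => by rw [classInner_smul_right, hS.orthonormal χ hχ α α.2 β β.2, if_neg (fun e => hne (Subtype.ext e.symm)), mul_zero])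
      (fun h => absurd (Finset.mem_univ _) h), classInner_smul_right, hS.orthonormal χ hχ α α.2 α α.2, if_pos rfl, mul_one, map_intCast, sq]
  have hqq : classInner q q = ((∑ α : R φ, d α ^ 2 : ℤ) : ℂ) := by
    rw [hq, classInner_sum_left]; push_cast
    refine Finset.sum_congr rfl fun α _ => ?_
    rw [classInner_smul_left, classInner_sum_right, Finset.sum_eq_single α
      (fun β _ hne => by rw [classInner_smul_right, hS.orthonormal φ hφ α α.2 β β.2, if_neg (fun e => hne (Subtype.ext e.symm)), mul_zero])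
      (fun h => absurd (Finset.mem_univ _) h), classInner_smul_right, hS.orthonormal φ hφ α α.2 α α.2, if_pos rfl, mul_one, map_intCast, sq]
  have hqp : classInner q p = 0 := by
    rw [hq, classInner_sum_left]
    refine Finset.sum_eq_zero fun α _ => ?_
    rw [classInner_smul_left, hp, classInner_sum_right, Finset.sum_eq_zero fun β _ => ?_, mul_zero]
    rw [classInner_smul_right, hdisj α α.2 β β.2, mul_zero]
  have hpv : classInner p v = classInner p p := by rw [← classInner_comm, hvp, map_intCast, hpp]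
  have hqv : classInner q v = classInner q q := by rw [← classInner_comm, hvq, map_intCast, hqq]
  have hpq : classInner p q = 0 := by rw [← classInner_comm, hqp, map_zero]
  have hrest : classInner (v - p - q) (v - p - q) = ((n : ℤ) + m - (∑ α : R χ, c α ^ 2) - ∑ α : R φ, d α ^ 2 : ℤ) := by
    simp only [classInner_sub_left, classInner_sub_right, hvv, hpv, hqv, hvp, hvq, hpp, hqq, hqp, hpq]
    push_cast; ring
  have h0 : 0 ≤ (classInner (v - p - q) (v - p - q)).re := by
    simp only [classInner, Complex.mul_conj]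
    rw [← Complex.ofReal_sum, ← Complex.ofReal_natCast, ← Complex.ofReal_inv, ← Complex.ofReal_mul, Complex.ofReal_re]
    exact mul_nonneg (by positivity) (Finset.sum_nonneg fun i _ => Complex.normSq_nonneg _)
  rw [hrest, Complex.intCast_re] at h0
  have h0' : 0 ≤ (n : ℤ) + m - (∑ α : R χ, c α ^ 2) - ∑ α : R φ, d α ^ 2 := by exact_mod_cast h0
  have hc2 : ∑ α : R χ, c α ≤ ∑ α : R χ, c α ^ 2 := Finset.sum_le_sum fun α _ => Int.le_self_sq _
  have hd2 : ∑ α : R φ, -d α ≤ ∑ α : R φ, d α ^ 2 := Finset.sum_le_sum fun α _ => by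
    have := Int.le_self_sq (-d α); rwa [neg_sq] at this
  rw [Finset.sum_neg_distrib, hsd] at hd2
  rw [hsc] at hc2
  have ec := (Finset.sum_eq_sum_iff_of_le (s := (Finset.univ : Finset (R χ))) fun α _ => Int.le_self_sq (c α)).mp (by rw [hsc]; omega)
  have ed := (Finset.sum_eq_sum_iff_of_le (s := (Finset.univ : Finset (R φ))) (f := fun α => -d α) (g := fun α => d α ^ 2) fun α _ => by
    have := Int.le_self_sq (-d α); rwa [neg_sq] at this).mp (by rw [Finset.sum_neg_distrib, hsd]; omega)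
  have hz : v - p - q = 0 := by
    have he : ((n : ℤ) + m - (∑ α : R χ, c α ^ 2) - ∑ α : R φ, d α ^ 2) = 0 := by omega
    rw [he, Int.cast_zero] at hrest
    simp only [classInner, Complex.mul_conj, mul_eq_zero, inv_eq_zero, Nat.cast_eq_zero] at hrest
    rcases hrest with h | h
    · exact absurd h Nat.card_pos.ne'
    · funext g
      rw [← Complex.ofReal_sum, Complex.ofReal_eq_zero, Finset.sum_eq_zero_iff_of_nonneg fun i _ => Complex.normSq_nonneg _] at h
      exact Complex.normSq_eq_zero.mp (h g (Finset.mem_univ g))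
  refine ⟨(Finset.univ.filter fun α : R χ => c α = 1).map (Function.Embedding.subtype _),
    (Finset.univ.filter fun α : R φ => d α = -1).map (Function.Embedding.subtype _),
    fun α hα => by obtain ⟨β, -, rfl⟩ := Finset.mem_map.mp hα; exact β.2, ?_,
    fun α hα => by obtain ⟨β, -, rfl⟩ := Finset.mem_map.mp hα; exact β.2, ?_⟩
  · rw [Finset.card_map]
    have : (((Finset.univ.filter fun α : R χ => c α = 1).card : ℕ) : ℤ) = ∑ α : R χ, c α := by
      rw [← Finset.sum_boole]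
      refine Finset.sum_congr rfl fun α ha => ?_
      have h01 : c α = c α ^ 2 := ec α ha
      have h5 : c α * (c α - 1) = 0 := by rw [mul_sub, mul_one, ← sq, ← h01, sub_self]
      rcases mul_eq_zero.mp h5 with h | h
      · simp [h]
      · simp [sub_eq_zero.mp h]
    rw [hsc] at this
    exact_mod_cast this
  · rw [Finset.sum_map, Finset.sum_map, Finset.sum_filter, Finset.sum_filter]
    have e : v = p + q := by linear_combination hz
    rw [e, hp, hq, sub_eq_add_neg, ← Finset.sum_neg_distrib]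
    congr 1 <;> refine Finset.sum_congr rfl fun α ha => ?_
    · have h01 : c α = c α ^ 2 := ec α ha
      have h5 : c α * (c α - 1) = 0 := by rw [mul_sub, mul_one, ← sq, ← h01, sub_self]
      rcases mul_eq_zero.mp h5 with h | h
      · simp [h]
      · simp [sub_eq_zero.mp h]
    · have h01 : -d α = d α ^ 2 := ed α ha
      have h5 : d α * (d α + 1) = 0 := by rw [mul_add, mul_one, ← sq, ← h01, neg_add_cancel]
      rcases mul_eq_zero.mp h5 with h | h
      · simp [h]
      · simp [eq_neg_of_add_eq_zero_left h]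

theorem coherent_of_constant_degree (hS : IsCoherenceSystem S τ R) (hdeg : ∀ φ ∈ S, ∀ ψ ∈ S, φ 1 = ψ 1) :
    IsCoherent S {1}ᶜ τ := by
  classical
  obtain ⟨χ, hχ⟩ := hS.nonempty
  obtain ⟨d, hd⟩ := char_one_eq_natCast (hS.isCharacter χ hχ)
  have hd0 : d ≠ 0 := fun e => hS.conj_ne χ hχ (by
    rw [eq_zero_of_degree_zero (hS.isCharacter χ hχ) (by rw [hd, e, Nat.cast_zero])]; funext x; simp [conjFun])
  have hconjd : ∀ φ ∈ S, conjFun φ 1 = χ 1 := fun φ hφ => hdeg _ (hS.conj_mem φ hφ) χ hχ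
  choose! n hn using fun φ (hφ : φ ∈ S) => classInner_char_nat (hS.isCharacter φ hφ) (hS.isCharacter φ hφ)
  have hdiff : ∀ φ ∈ S, ∀ ψ ∈ S, φ - ψ ∈ zspanOn S {1}ᶜ := fun φ hφ ψ hψ =>
    ⟨Submodule.sub_mem _ (Submodule.subset_span hφ) (Submodule.subset_span hψ), fun x hx => by
      have : x = 1 := by simpa using hx
      rw [this, Pi.sub_apply, hdeg φ hφ ψ hψ, sub_self]⟩
  have hexX : ∀ φ ∈ S, φ ≠ χ → φ ≠ conjFun χ → ∃ X Y : Finset (G → ℂ), X ⊆ R χ ∧ X.card = n χ ∧ Y ⊆ R φ ∧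
      τ (χ - φ) = (∑ α ∈ X, α) - ∑ α ∈ Y, α := fun φ hφ h1 h2 =>
    cs_pair_decomp hS hχ hφ (hn χ hχ) (hn φ hφ) h1 h2 (hdiff χ hχ φ hφ) (hdiff χ hχ _ (hS.conj_mem χ hχ)) (hdiff φ hφ _ (hS.conj_mem φ hφ))
  choose! X Y hX hXc hY he using hexX
  have hconj2 : ∀ ψ : L → ℂ, conjFun (conjFun ψ) = ψ := fun ψ => by funext x; simp [conjFun]
  have horth : ∀ φ ∈ S, φ ≠ χ → φ ≠ conjFun χ → ∀ A : Finset (G → ℂ), A ⊆ R φ → ∀ B : Finset (G → ℂ), B ⊆ R χ →
      classInner (∑ α ∈ A, α) (∑ β ∈ B, β) = 0 ∧ classInner (∑ β ∈ B, β) (∑ α ∈ A, α) = 0 := by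
    intro φ hφ h1 h2 A hA B hB
    have : classInner (∑ α ∈ A, α) (∑ β ∈ B, β) = 0 := by
      rw [classInner_sum_left]
      refine Finset.sum_eq_zero fun α hα => ?_
      rw [classInner_sum_right]
      exact Finset.sum_eq_zero fun β hβ => hS.disjoint χ hχ φ hφ (hS.orthogonal φ hφ χ hχ h1)
        (hS.orthogonal φ hφ _ (hS.conj_mem χ hχ) h2) α (hA hα) β (hB hβ)
    exact ⟨this, by rw [← classInner_comm, this, map_zero]⟩
  -- the subset does not depend on the second character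
  have hsame : ∀ φ ∈ S, φ ≠ χ → φ ≠ conjFun χ → ∀ ψ ∈ S, ψ ≠ χ → ψ ≠ conjFun χ → X φ = X ψ := by
    intro φ hφ h1 h2 ψ hψ h3 h4
    have hgen : ∀ ψ ∈ S, ψ ≠ χ → ψ ≠ conjFun χ → ψ ≠ φ → ψ ≠ conjFun φ → X φ = X ψ := by
      intro ψ hψ h3 h4 h5 h6
      have h := hS.isometry.2.2.1 _ (hdiff χ hχ φ hφ) _ (hdiff χ hχ ψ hψ)
      have hYY : classInner (∑ α ∈ Y φ, α) (∑ α ∈ Y ψ, α) = 0 := by
        rw [classInner_sum_left]
        refine Finset.sum_eq_zero fun α hα => ?_
        rw [classInner_sum_right]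
        exact Finset.sum_eq_zero fun β hβ => hS.disjoint ψ hψ φ hφ (hS.orthogonal φ hφ ψ hψ (Ne.symm h5))
          (hS.orthogonal φ hφ _ (hS.conj_mem ψ hψ) fun e => h6 (by rw [e, hconj2])) α (hY φ hφ h1 h2 hα) β (hY ψ hψ h3 h4 hβ)
      rw [he φ hφ h1 h2, he ψ hψ h3 h4, classInner_sub_left, classInner_sub_right, classInner_sub_right,
        (horth φ hφ h1 h2 _ (hY φ hφ h1 h2) _ (hX ψ hψ h3 h4)).1, (horth ψ hψ h3 h4 _ (hY ψ hψ h3 h4) _ (hX φ hφ h1 h2)).2,
        hYY, cs_sum_norm hS hχ (hX φ hφ h1 h2) (hX ψ hψ h3 h4), classInner_sub_left, classInner_sub_right, classInner_sub_right,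
        hn χ hχ, hS.orthogonal χ hχ ψ hψ (Ne.symm h3), hS.orthogonal φ hφ χ hχ h1, hS.orthogonal φ hφ ψ hψ (Ne.symm h5)] at h
      simp only [sub_zero] at h
      have hcard : (X φ ∩ X ψ).card = n χ := by exact_mod_cast h
      have e1 : X φ ∩ X ψ = X φ := Finset.eq_of_subset_of_card_le Finset.inter_subset_left (by rw [hcard, hXc φ hφ h1 h2])
      have e2 : X φ ∩ X ψ = X ψ := Finset.eq_of_subset_of_card_le Finset.inter_subset_right (by rw [hcard, hXc ψ hψ h3 h4])
      rw [← e1, e2]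
    by_cases h5 : ψ = φ
    · rw [h5]
    by_cases h6 : ψ = conjFun φ
    · subst h6
      have e1 := he φ hφ h1 h2
      have e2 := he _ hψ h3 h4
      have hadd := hS.isometry.1 _ (hdiff χ hχ φ hφ) _ (hdiff φ hφ _ (hS.conj_mem φ hφ))
      rw [sub_add_sub_cancel, e1, e2, hS.sum_eq φ hφ] at hadd
      have hA : classInner (∑ α ∈ X φ, α) (τ (χ - conjFun φ)) = classInner (∑ α ∈ X φ, α) (∑ α ∈ X φ, α) := by
        rw [e2, hadd, classInner_add_right, classInner_sub_right, (horth φ hφ h1 h2 _ (hY φ hφ h1 h2) _ (hX φ hφ h1 h2)).2,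
          (horth φ hφ h1 h2 _ subset_rfl _ (hX φ hφ h1 h2)).2]
        ring
      rw [e2, classInner_sub_right, (horth _ hψ h3 h4 _ (hY _ hψ h3 h4) _ (hX φ hφ h1 h2)).2, sub_zero,
        cs_sum_norm hS hχ (hX φ hφ h1 h2) (hX _ hψ h3 h4), cs_sum_norm hS hχ (hX φ hφ h1 h2) (hX φ hφ h1 h2), Finset.inter_self] at hA
      have hcard : (X φ ∩ X (conjFun φ)).card = (X φ).card := by exact_mod_cast hA
      have e3 : X φ ∩ X (conjFun φ) = X φ := Finset.eq_of_subset_of_card_le Finset.inter_subset_left hcard.ge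
      exact Finset.eq_of_subset_of_card_le (Finset.inter_eq_left.mp e3) (by rw [hXc φ hφ h1 h2, hXc _ hψ h3 h4])
    exact hgen ψ hψ h3 h4 h5 h6
  obtain ⟨X₀, hX₀, hX₀c, hX₀s⟩ : ∃ X₀ : Finset (G → ℂ), X₀ ⊆ R χ ∧ X₀.card = n χ ∧ ∀ φ ∈ S, φ ≠ χ → φ ≠ conjFun χ → X φ = X₀ := by
    by_cases hex : ∃ φ ∈ S, φ ≠ χ ∧ φ ≠ conjFun χ
    · obtain ⟨φ, hφ, h1, h2⟩ := hex
      exact ⟨X φ, hX φ hφ h1 h2, hXc φ hφ h1 h2, fun ψ hψ h3 h4 => hsame ψ hψ h3 h4 φ hφ h1 h2⟩
    · push Not at hex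
      obtain ⟨X₀, h1, h2⟩ := Finset.exists_subset_card_eq (s := R χ) (n := n χ) (by
        rw [cs_card hS hχ (hn χ hχ) (hdiff χ hχ _ (hS.conj_mem χ hχ))]; omega)
      exact ⟨X₀, h1, h2, fun φ hφ h3 h4 => absurd (hex φ hφ h3) h4⟩
  set T : G → ℂ := ∑ α ∈ X₀, α with hT
  have hTT : classInner T T = n χ := by rw [hT, cs_sum_norm hS hχ hX₀ hX₀, Finset.inter_self, hX₀c]
  have hTgen : IsGeneralizedCharacter G T := isGenChar_sum _ _ fun α hα => hS.virtual χ hχ α (hX₀ hα)
  have hTφ : ∀ φ ∈ S, classInner T (τ (χ - φ)) = classInner χ (χ - φ) := by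
    intro φ hφ
    by_cases h1 : φ = χ
    · rw [h1, sub_self]
      have h0 : τ (0 : L → ℂ) = 0 := by
        have := hS.isometry.2.1 _ (hdiff χ hχ χ hχ) 0
        rw [sub_self, zero_smul, zero_smul] at this
        exact this
      rw [h0, classInner_zero_right, classInner_zero_right]
    by_cases h2 : φ = conjFun χ
    · rw [h2, hS.sum_eq χ hχ, hT, cs_sum_norm hS hχ hX₀ subset_rfl, Finset.inter_eq_left.mpr hX₀, hX₀c, classInner_sub_right,
        hn χ hχ, hS.orthogonal χ hχ _ (hS.conj_mem χ hχ) (Ne.symm (hS.conj_ne χ hχ)), sub_zero]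
    rw [he φ hφ h1 h2, hX₀s φ hφ h1 h2, classInner_sub_right, classInner_sub_right, ← hT, hTT, hn χ hχ,
      (horth φ hφ h1 h2 _ (hY φ hφ h1 h2) _ hX₀).2, hS.orthogonal χ hχ φ hφ (Ne.symm h1)]
  -- integral degree ratio on the span
  have key : ∀ α ∈ zspan S, ∃ s : ℤ, α 1 = (s : ℂ) * χ 1 ∧ s • χ - α ∈ zspanOn S {1}ᶜ ∧
      classInner T (τ (s • χ - α)) = classInner χ (s • χ - α) := by
    intro α hα
    induction hα using Submodule.span_induction with
    | mem φ hφ =>
      refine ⟨1, by rw [Int.cast_one, one_mul, hdeg φ hφ χ hχ], ?_, ?_⟩ <;> rw [one_smul]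
      · exact hdiff χ hχ φ hφ
      · exact hTφ φ hφ
    | zero =>
      refine ⟨0, by simp, ?_, ?_⟩ <;> rw [zero_smul, sub_zero]
      · exact ⟨Submodule.zero_mem _, fun x _ => rfl⟩
      · have := hTφ χ hχ; rwa [sub_self] at this
    | add a b _ _ iha ihb =>
      obtain ⟨s, h1, h2, h3⟩ := iha
      obtain ⟨t, h4, h5, h6⟩ := ihb
      have e : (s + t) • χ - (a + b) = (s • χ - a) + (t • χ - b) := by rw [add_smul]; abel
      refine ⟨s + t, by rw [Pi.add_apply, h1, h4]; push_cast; ring, ?_, ?_⟩ <;> rw [e]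
      · exact ⟨Submodule.add_mem _ h2.1 h5.1, fun x hx => by rw [Pi.add_apply, h2.2 x hx, h5.2 x hx, add_zero]⟩
      · rw [hS.isometry.1 _ h2 _ h5, classInner_add_right, classInner_add_right, h3, h6]
    | smul k a _ iha =>
      obtain ⟨s, h1, h2, h3⟩ := iha
      have e : (k * s) • χ - k • a = k • (s • χ - a) := by rw [smul_sub, mul_smul]
      refine ⟨k * s, by rw [Pi.smul_apply, h1, zsmul_eq_mul]; push_cast; ring, ?_, ?_⟩ <;> rw [e]
      · exact ⟨Submodule.smul_mem _ k h2.1, fun x hx => by rw [Pi.smul_apply, h2.2 x hx, smul_zero]⟩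
      · rw [hS.isometry.2.1 _ h2 k, ← Int.cast_smul_eq_zsmul ℂ, ← Int.cast_smul_eq_zsmul ℂ k (s • χ - a), classInner_smul_right,
          classInner_smul_right, h3]
  choose! s hs1 hs2 hs3 using key
  have hχ0 : χ 1 ≠ 0 := by rw [hd]; exact_mod_cast hd0
  have suniq : ∀ α ∈ zspan S, ∀ k : ℤ, α 1 = (k : ℂ) * χ 1 → s α = k := fun α hα k hk => by
    have := (hs1 α hα).symm.trans hk
    exact_mod_cast mul_right_cancel₀ hχ0 this
  refine ⟨⟨χ - conjFun χ, hdiff χ hχ _ (hS.conj_mem χ hχ), sub_ne_zero.mpr (Ne.symm (hS.conj_ne χ hχ))⟩,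
    fun α => s α • T - τ (s α • χ - α), ⟨fun α hα β hβ => ?_, fun α hα k => ?_, fun α hα β hβ => ?_, fun α hα => ?_⟩,
    fun α hα => ?_⟩
  · have e : s (α + β) = s α + s β := suniq _ (Submodule.add_mem _ hα hβ) _ (by rw [Pi.add_apply, hs1 α hα, hs1 β hβ]; push_cast; ring)
    show s (α + β) • T - τ (s (α + β) • χ - (α + β)) = _
    rw [e, show (s α + s β) • χ - (α + β) = (s α • χ - α) + (s β • χ - β) by rw [add_smul]; abel,
      hS.isometry.1 _ (hs2 α hα) _ (hs2 β hβ), add_smul]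
    funext g
    simp only [Pi.sub_apply, Pi.add_apply]
    ring
  · have e : s (k • α) = k * s α := suniq _ (Submodule.smul_mem _ k hα) _ (by rw [Pi.smul_apply, hs1 α hα, zsmul_eq_mul]; push_cast; ring)
    show s (k • α) • T - τ (s (k • α) • χ - k • α) = _
    rw [e, show (k * s α) • χ - k • α = k • (s α • χ - α) by rw [smul_sub, mul_smul], hS.isometry.2.1 _ (hs2 α hα) k, mul_smul, smul_sub]
  · show classInner (s α • T - τ (s α • χ - α)) (s β • T - τ (s β • χ - β)) = classInner α β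
    have h1 : classInner (τ (s α • χ - α)) T = classInner (s α • χ - α) χ := by
      rw [← classInner_comm, hs3 α hα, classInner_comm]
    have h2 := hS.isometry.2.2.1 _ (hs2 α hα) _ (hs2 β hβ)
    simp only [← Int.cast_smul_eq_zsmul ℂ] at h1 h2 ⊢
    simp only [classInner_sub_left, classInner_sub_right, classInner_smul_left, classInner_smul_right, map_intCast, hTT, hn χ hχ] at h1 h2 ⊢
    have h3 := hs3 β hβ
    simp only [← Int.cast_smul_eq_zsmul ℂ] at h3
    simp only [classInner_sub_right, classInner_smul_right, map_intCast, hn χ hχ] at h3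
    linear_combination -(s α : ℂ) * h3 - (s β : ℂ) * h1 + h2
  · exact isGenChar_sub (isGenChar_intSmul (s α) hTgen |> fun h => by simpa [← Int.cast_smul_eq_zsmul ℂ] using h) (hS.isometry.2.2.2 _ (hs2 α hα))
  · have e : s α = 0 := suniq α hα.1 0 (by rw [hα.2 1 (by simp), Int.cast_zero, zero_mul])
    show s α • T - τ (s α • χ - α) = τ α
    have hneg := hS.isometry.2.1 _ hα (-1)
    rw [e, zero_smul, zero_smul, zero_sub, zero_sub, show -α = (-1 : ℤ) • α by rw [neg_smul, one_smul], hneg, neg_smul, one_smul, neg_neg]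

end CfsgLib.CharTheory
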