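/-
Adjoining a pair of conjugate characters to a coherent set.
-/
import Cfsg.Agent.Lib.CharTheory.CoherenceUnion
import Cfsg.Agent.Lib.CharTheory.CoherenceConst

set_option autoImplicit false

namespace CfsgLib.CharTheory

open Cfsg
open scoped ComplexConjugate

universe u v

theorem classInner_self_nonneg_real {G : Type u} [Group G] [Fintype G] (f : G → ℂ) :
    ∃ r : ℝ, 0 ≤ r ∧ classInner f f = (r : ℂ) ∧ (r = 0 → f = 0) := by
  refine ⟨(Nat.card G : ℝ)⁻¹ * ∑ g : G, Complex.normSq (f g), mul_nonneg (by positivity)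
    (Finset.sum_nonneg fun i _ => Complex.normSq_nonneg _), ?_, fun h => ?_⟩
  · simp only [classInner, Complex.mul_conj]; push_cast; rfl
  · rcases mul_eq_zero.mp h with h | h
    · exact absurd (inv_eq_zero.mp h) (Nat.cast_ne_zero.mpr Nat.card_pos.ne')
    · funext g
      exact Complex.normSq_eq_zero.mp ((Finset.sum_eq_zero_iff_of_nonneg fun i _ => Complex.normSq_nonneg _).mp h g (Finset.mem_univ g))

theorem char_eq_zero_of_deg_zero {G : Type u} [Group G] {χ : G → ℂ} (h : IsCharacter G χ) (h1 : χ 1 = 0) : χ = 0 := by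
  obtain ⟨n, ρ, rfl⟩ := h
  have hn : n = 0 := by
    have := ρ.char_one
    rw [h1, Module.finrank_fintype_fun_eq_card, Fintype.card_fin] at this
    exact_mod_cast this.symm
  subst hn
  funext g
  show LinearMap.trace ℂ _ (ρ g) = 0
  rw [Subsingleton.elim (ρ g) 0, map_zero]

variable {L : Type u} [Group L] [Fintype L] {G : Type v} [Group G] [Fintype G]
variable {S : Set (L → ℂ)} {τ : (L → ℂ) → (G → ℂ)} {R : (L → ℂ) → Finset (G → ℂ)}

theorem cs_conj_conj (ψ : L → ℂ) : conjFun (conjFun ψ) = ψ := by funext x; simp [conjFun]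

theorem cs_sub_conj_mem (hS : IsCoherenceSystem S τ R) {χ : L → ℂ} (hχ : χ ∈ S) :
    χ - conjFun χ ∈ zspanOn S {1}ᶜ := by
  refine ⟨Submodule.sub_mem _ (Submodule.subset_span hχ) (Submodule.subset_span (hS.conj_mem χ hχ)), fun x hx => ?_⟩
  have hx' : x = 1 := by simpa using hx
  obtain ⟨d, hd⟩ := char_one_eq_natCast (hS.isCharacter χ hχ)
  show χ x - conj (χ x) = 0
  rw [hx', hd, map_natCast, sub_self]

theorem classInner_conjFun_nat {χ : L → ℂ} {n : ℕ} (hn : classInner χ χ = n) :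
    classInner (conjFun χ) (conjFun χ) = n := by
  have : classInner (conjFun χ) (conjFun χ) = conj (classInner χ χ) := by
    simp [classInner, conjFun, map_sum, map_mul]
  rw [this, hn, map_natCast]

theorem cs_norm_pos (hS : IsCoherenceSystem S τ R) {χ : L → ℂ} (hχ : χ ∈ S) {n : ℕ} (hn : classInner χ χ = n) : 0 < n := by
  refine Nat.pos_of_ne_zero fun h => hS.conj_ne χ hχ ?_
  obtain ⟨r, -, hr, hr0⟩ := classInner_self_nonneg_real χ
  rw [hn, h, Nat.cast_zero, eq_comm, Complex.ofReal_eq_zero] at hr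
  rw [hr0 hr]
  funext x; simp [conjFun]

open Classical in
/-- In a coherent subset the image of a member is carried by its own constituents. -/
theorem cs_image_orth (hS : IsCoherenceSystem S τ R) {S₁ : Set (L → ℂ)} (hS₁ : S₁ ⊆ S)
    {τ₁ : (L → ℂ) → (G → ℂ)} (hτ₁ : IsLinearIsometryOn (zspan S₁) τ₁) (hagree : ∀ α ∈ zspanOn S₁ {1}ᶜ, τ₁ α = τ α)
    {φ χ : L → ℂ} (hφ : φ ∈ S₁) (hφc : conjFun φ ∈ S₁) (hχ : χ ∈ S) (h1 : φ ≠ χ) (h2 : φ ≠ conjFun χ) :
    ∀ α ∈ R χ, classInner (τ₁ φ) α = 0 := by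
  classical
  have hφS := hS₁ hφ
  have hφ1 : φ ∈ zspan S₁ := Submodule.subset_span hφ
  have hφc1 : conjFun φ ∈ zspan S₁ := Submodule.subset_span hφc
  have hmem : φ - conjFun φ ∈ zspanOn S₁ {1}ᶜ :=
    ⟨Submodule.sub_mem _ hφ1 hφc1, (cs_sub_conj_mem hS hφS).2⟩
  have hD : τ₁ (φ - conjFun φ) = ∑ α ∈ R φ, α := by rw [hagree _ hmem, hS.sum_eq φ hφS]
  have hgen := hτ₁.2.2.2 _ hφ1
  choose c hc using fun α : R φ => classInner_genChar_int hgen (hS.virtual φ hφS α α.2)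
  obtain ⟨r, hr0, hr, hrz⟩ := classInner_self_nonneg_real (τ₁ φ - ∑ α : R φ, (c α : ℂ) • (α : G → ℂ))
  have hinner : ∀ α : R φ, classInner (∑ β : R φ, (c β : ℂ) • (β : G → ℂ)) α = c α := fun α => by
    rw [classInner_sum_left, Finset.sum_eq_single α
      (fun β _ hne => by rw [classInner_smul_left, hS.orthonormal φ hφS β β.2 α α.2, if_neg (fun e => hne (Subtype.ext e)), mul_zero])
      (fun h => absurd (Finset.mem_univ α) h), classInner_smul_left, hS.orthonormal φ hφS α α.2 α α.2, if_pos rfl, mul_one]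
  have hn : ((∑ α : R φ, c α : ℤ) : ℂ) = classInner φ φ := by
    have h := hτ₁.2.2.1 _ hφ1 _ hmem.1
    rw [hD, classInner_sum_right, classInner_sub_right, hS.orthogonal φ hφS _ (hS₁ hφc) (Ne.symm (hS.conj_ne φ hφS)),
      ← Finset.sum_coe_sort (R φ)] at h
    simp only [hc, sub_zero] at h
    push_cast; exact h
  have hr' : (r : ℂ) = ((∑ α : R φ, c α : ℤ) : ℂ) - ((∑ α : R φ, c α ^ 2 : ℤ) : ℂ) := by
    have e1 : classInner (τ₁ φ) (∑ α : R φ, (c α : ℂ) • (α : G → ℂ)) = ((∑ α : R φ, c α ^ 2 : ℤ) : ℂ) := by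
      rw [classInner_sum_right]; push_cast
      exact Finset.sum_congr rfl fun α _ => by rw [classInner_smul_right, hc, map_intCast, sq]
    have e2 : classInner (∑ α : R φ, (c α : ℂ) • (α : G → ℂ)) (∑ α : R φ, (c α : ℂ) • (α : G → ℂ)) = ((∑ α : R φ, c α ^ 2 : ℤ) : ℂ) := by
      rw [classInner_sum_right]; push_cast
      exact Finset.sum_congr rfl fun α _ => by rw [classInner_smul_right, hinner, map_intCast, sq]
    have e3 : classInner (∑ α : R φ, (c α : ℂ) • (α : G → ℂ)) (τ₁ φ) = ((∑ α : R φ, c α ^ 2 : ℤ) : ℂ) := by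
      rw [← classInner_comm, e1, map_intCast]
    rw [← hr, classInner_sub_left, classInner_sub_right, classInner_sub_right, e1, e2, e3, hτ₁.2.2.1 _ hφ1 _ hφ1, ← hn]
    ring
  have hr'' : r = ((∑ α : R φ, c α : ℤ) : ℝ) - ((∑ α : R φ, c α ^ 2 : ℤ) : ℝ) := by exact_mod_cast hr'
  have hle : (∑ α : R φ, c α : ℤ) ≤ ∑ α : R φ, c α ^ 2 := Finset.sum_le_sum fun α _ => Int.le_self_sq _
  have hle' : ((∑ α : R φ, c α : ℤ) : ℝ) ≤ ((∑ α : R φ, c α ^ 2 : ℤ) : ℝ) := by exact_mod_cast hle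
  have heq : τ₁ φ = ∑ α : R φ, (c α : ℂ) • (α : G → ℂ) := sub_eq_zero.mp (hrz (by linarith))
  intro β hβ
  rw [heq, classInner_sum_left]
  refine Finset.sum_eq_zero fun α _ => ?_
  rw [classInner_smul_left, hS.disjoint χ hχ φ hφS (hS.orthogonal φ hφS χ hχ h1)
    (hS.orthogonal φ hφS _ (hS.conj_mem χ hχ) h2) α α.2 β hβ, mul_zero]

open Classical in
theorem extend_coherent (hS : IsCoherenceSystem S τ R) (d n : (L → ℂ) → ℕ) (hd : ∀ φ ∈ S, φ 1 = (d φ : ℂ))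
    (hn : ∀ φ ∈ S, classInner φ φ = (n φ : ℂ)) (S₁ : Finset (L → ℂ)) (hS₁ : ↑S₁ ⊆ S)
    (hS₁c : ∀ φ ∈ S₁, conjFun φ ∈ S₁) (hcoh : IsCoherent (↑S₁ : Set (L → ℂ)) {1}ᶜ τ)
    {χ : L → ℂ} (hχ : χ ∈ S) (hχ₁ : χ ∉ S₁) (hχ₂ : conjFun χ ∉ S₁) {χ₁ : L → ℂ} (hχ₁S : χ₁ ∈ S₁)
    (hdvd : d χ₁ ∣ d χ) (hineq : (2 * d χ * d χ₁ : ℝ) < ∑ φ ∈ S₁, ((d φ : ℝ) ^ 2 / (n φ : ℝ))) :
    IsCoherent (↑S₁ ∪ {χ, conjFun χ} : Set (L → ℂ)) {1}ᶜ τ := by
  classical
  obtain ⟨⟨α₀, hα₀, hα₀ne⟩, τ₁, hτ₁, hagree⟩ := hcoh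
  refine ⟨⟨α₀, ⟨Submodule.span_mono Set.subset_union_left hα₀.1, hα₀.2⟩, hα₀ne⟩, ?_⟩
  obtain ⟨a, ha⟩ := hdvd
  have hχc := hS.conj_mem χ hχ
  have h1S := hS₁ hχ₁S
  have hne : ∀ φ ∈ S₁, φ ≠ χ := fun φ hφ e => hχ₁ (e ▸ hφ)
  have hne' : ∀ φ ∈ S₁, φ ≠ conjFun χ := fun φ hφ e => hχ₂ (e ▸ hφ)
  have hd1 : 0 < d χ₁ := Nat.pos_of_ne_zero fun h => hS.conj_ne χ₁ h1S (by
    rw [char_eq_zero_of_deg_zero (hS.isCharacter χ₁ h1S) (by rw [hd χ₁ h1S, h, Nat.cast_zero])]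
    funext x; simp [conjFun])
  have hin : ∀ φ ∈ S₁, φ ∈ zspan (↑S₁ : Set (L → ℂ)) := fun φ hφ => Submodule.subset_span hφ
  have hn0 : ∀ φ ∈ S, (n φ : ℂ) ≠ 0 := fun φ hφ => Nat.cast_ne_zero.mpr (cs_norm_pos hS hφ (hn φ hφ)).ne'
  have t1 : ∀ φ ∈ S₁, ∀ η ∈ S₁, classInner (τ₁ φ) (τ₁ η) = if φ = η then (n φ : ℂ) else 0 := fun φ hφ η hη => by
    rw [hτ₁.2.2.1 _ (hin φ hφ) _ (hin η hη)]
    split
    · next h => rw [← h, hn φ (hS₁ hφ)]
    · next h => exact hS.orthogonal φ (hS₁ hφ) η (hS₁ hη) h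
  have horth : ∀ φ ∈ S₁, ∀ α ∈ R χ, classInner (τ₁ φ) α = 0 := fun φ hφ =>
    cs_image_orth hS hS₁ hτ₁ hagree hφ (hS₁c φ hφ) hχ (hne φ hφ) (hne' φ hφ)
  -- the image of `χ - a χ₁`
  have hd' : χ 1 = ((d χ₁ * a : ℕ) : ℂ) := by rw [← ha, hd χ hχ]
  have hβ : χ - (a : ℤ) • χ₁ ∈ zspanOn S {1}ᶜ := ⟨Submodule.sub_mem _ (Submodule.subset_span hχ)
    (Submodule.smul_mem _ _ (Submodule.subset_span h1S)), fun x hx => by
      have : x = 1 := by simpa using hx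
      rw [this, Pi.sub_apply, Pi.smul_apply, hd', hd χ₁ h1S, zsmul_eq_mul]; push_cast; ring⟩
  set v := τ (χ - (a : ℤ) • χ₁) with hv
  have hgv : IsGeneralizedCharacter G v := hS.isometry.2.2.2 _ hβ
  choose c hc using fun α : R χ => classInner_genChar_int hgv (hS.virtual χ hχ α α.2)
  choose! e he using fun φ (hφ : φ ∈ S₁) => classInner_genChar_int hgv (hτ₁.2.2.2 φ (hin φ hφ))
  have o1 : classInner χ χ₁ = 0 := hS.orthogonal χ hχ χ₁ h1S (Ne.symm (hne _ hχ₁S))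
  have o2 : classInner χ₁ χ = 0 := hS.orthogonal χ₁ h1S χ hχ (hne _ hχ₁S)
  have o3 : classInner χ₁ (conjFun χ) = 0 := hS.orthogonal χ₁ h1S _ hχc (hne' _ hχ₁S)
  have o4 : classInner χ (conjFun χ) = 0 := hS.orthogonal χ hχ _ hχc (Ne.symm (hS.conj_ne χ hχ))
  have hvv : classInner v v = (n χ : ℂ) + (a : ℂ) ^ 2 * n χ₁ := by
    rw [hS.isometry.2.2.1 _ hβ _ hβ]
    simp only [← Int.cast_smul_eq_zsmul ℂ, classInner_sub_right, classInner_sub_left, classInner_smul_left,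
      classInner_smul_right, map_intCast, hn χ hχ, hn χ₁ h1S, o1, o2]
    push_cast; ring
  have hsum : (∑ α : R χ, c α : ℤ) = (n χ : ℤ) := by
    have h := hS.isometry.2.2.1 _ hβ _ (cs_sub_conj_mem hS hχ)
    rw [← hv, hS.sum_eq χ hχ, classInner_sum_right, ← Finset.sum_coe_sort (R χ)] at h
    simp only [← Int.cast_smul_eq_zsmul ℂ, classInner_sub_right, classInner_sub_left, classInner_smul_left,
      hc, hn χ hχ, o2, o3, o4, mul_zero, sub_zero] at h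
    have h' : ((∑ α : R χ, c α : ℤ) : ℂ) = ((n χ : ℤ) : ℂ) := by push_cast; exact h
    exact_mod_cast h'
  have hrel : ∀ φ ∈ S₁, φ ≠ χ₁ → (d χ₁ : ℤ) * e φ = (d φ : ℤ) * (e χ₁ + a * n χ₁) := by
    intro φ hφ hne1
    have hm := deg_comb_mem (X := (↑S₁ : Set (L → ℂ))) hφ hχ₁S (hd φ (hS₁ hφ)) (hd χ₁ h1S)
    have hm' : (d χ₁ : ℤ) • φ - (d φ : ℤ) • χ₁ ∈ zspanOn S {1}ᶜ := ⟨Submodule.span_mono hS₁ hm.1, hm.2⟩
    have h := hS.isometry.2.2.1 _ hβ _ hm'
    rw [← hagree _ hm, li_comb hτ₁ (hin φ hφ) (hin χ₁ hχ₁S), ← hv] at h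
    simp only [← Int.cast_smul_eq_zsmul ℂ, classInner_sub_right, classInner_sub_left, classInner_smul_left,
      classInner_smul_right, map_intCast, he φ hφ, he χ₁ hχ₁S, hn χ₁ h1S, o1,
      hS.orthogonal χ hχ φ (hS₁ hφ) (Ne.symm (hne φ hφ)), hS.orthogonal χ₁ h1S φ (hS₁ hφ) (Ne.symm hne1)] at h
    have h' : (((d χ₁ : ℤ) * e φ : ℤ) : ℂ) = (((d φ : ℤ) * (e χ₁ + a * n χ₁) : ℤ) : ℂ) := by
      push_cast at h ⊢; linear_combination h
    exact_mod_cast h'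
  -- compare norms
  set X : G → ℂ := ∑ α : R χ, (c α : ℂ) • (α : G → ℂ) with hX
  set Y : G → ℂ := ∑ φ ∈ S₁, ((e φ : ℂ) / n φ) • τ₁ φ with hY
  have hXR : ∀ α : R χ, classInner X α = c α := fun α => by
    rw [hX, classInner_sum_left, Finset.sum_eq_single α
      (fun β _ hne => by rw [classInner_smul_left, hS.orthonormal χ hχ β β.2 α α.2, if_neg (fun e => hne (Subtype.ext e)), mul_zero])
      (fun h => absurd (Finset.mem_univ α) h), classInner_smul_left, hS.orthonormal χ hχ α α.2 α α.2, if_pos rfl, mul_one]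
  have hYφ : ∀ φ ∈ S₁, classInner Y (τ₁ φ) = e φ := fun φ hφ => by
    rw [hY, classInner_sum_left, Finset.sum_eq_single φ
      (fun η hη hne => by rw [classInner_smul_left, t1 η hη φ hφ, if_neg hne, mul_zero])
      (fun h => absurd hφ h), classInner_smul_left, t1 φ hφ φ hφ, if_pos rfl, div_mul_cancel₀ _ (hn0 φ (hS₁ hφ))]
  have hXτ : ∀ φ ∈ S₁, classInner X (τ₁ φ) = 0 := fun φ hφ => by
    rw [hX, classInner_sum_left]
    refine Finset.sum_eq_zero fun α _ => ?_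
    rw [classInner_smul_left, ← classInner_comm, horth φ hφ α α.2, map_zero, mul_zero]
  have hXX : classInner X X = ((∑ α : R χ, c α ^ 2 : ℤ) : ℂ) := by
    conv_lhs => arg 2; rw [hX]
    rw [classInner_sum_right]; push_cast
    exact Finset.sum_congr rfl fun α _ => by rw [classInner_smul_right, hXR, map_intCast, sq]
  have hvX : classInner v X = ((∑ α : R χ, c α ^ 2 : ℤ) : ℂ) := by
    rw [hX, classInner_sum_right]; push_cast
    exact Finset.sum_congr rfl fun α _ => by rw [classInner_smul_right, hc, map_intCast, sq]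
  have hconje : ∀ φ : L → ℂ, conj ((e φ : ℂ) / n φ) = (e φ : ℂ) / n φ := fun φ => by
    rw [map_div₀, map_intCast, map_natCast]
  have hXY : classInner X Y = 0 := by
    rw [hY, classInner_sum_right]
    exact Finset.sum_eq_zero fun φ hφ => by rw [classInner_smul_right, hXτ φ hφ, mul_zero]
  set Q : ℝ := ∑ φ ∈ S₁, (e φ : ℝ) ^ 2 / n φ with hQ
  have hYY : classInner Y Y = (Q : ℂ) := by
    conv_lhs => arg 2; rw [hY]
    rw [classInner_sum_right, hQ]; push_cast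
    exact Finset.sum_congr rfl fun φ hφ => by rw [classInner_smul_right, hYφ φ hφ, hconje]; ring
  have hvY : classInner v Y = (Q : ℂ) := by
    rw [hY, classInner_sum_right, hQ]; push_cast
    exact Finset.sum_congr rfl fun φ hφ => by rw [classInner_smul_right, he φ hφ, hconje]; ring
  obtain ⟨r, hr0, hr, hrz⟩ := classInner_self_nonneg_real (v - X - Y)
  have hreal : r = (n χ : ℝ) + (a : ℝ) ^ 2 * n χ₁ - ((∑ α : R χ, c α ^ 2 : ℤ) : ℝ) - Q := by
    have h : (r : ℂ) = (n χ : ℂ) + (a : ℂ) ^ 2 * n χ₁ - ((∑ α : R χ, c α ^ 2 : ℤ) : ℂ) - (Q : ℂ) := by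
      rw [← hr]
      simp only [classInner_sub_left, classInner_sub_right, hvv, hvX, hvY, hXX, hXY, hYY,
        show classInner X v = ((∑ α : R χ, c α ^ 2 : ℤ) : ℂ) by rw [← classInner_comm, hvX, map_intCast],
        show classInner Y v = (Q : ℂ) by rw [← classInner_comm, hvY, Complex.conj_ofReal],
        show classInner Y X = 0 by rw [← classInner_comm, hXY, map_zero]]
      ring
    exact_mod_cast h
  set x : ℤ := e χ₁ + a * n χ₁ with hx
  set T : ℝ := ∑ φ ∈ S₁, (d φ : ℝ) ^ 2 / n φ with hT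
  have hQT : (d χ₁ : ℝ) ^ 2 * Q = (x : ℝ) ^ 2 * T - 2 * a * x * (d χ₁ : ℝ) ^ 2 + (d χ₁ : ℝ) ^ 2 * (a ^ 2 * n χ₁) := by
    rw [hQ, hT, ← Finset.add_sum_erase _ _ hχ₁S, ← Finset.add_sum_erase _ (fun φ => (d φ : ℝ) ^ 2 / (n φ : ℝ)) hχ₁S,
      mul_add, mul_add, Finset.mul_sum, Finset.mul_sum,
      Finset.sum_congr rfl fun φ hφ => show (d χ₁ : ℝ) ^ 2 * ((e φ : ℝ) ^ 2 / n φ) = (x : ℝ) ^ 2 * ((d φ : ℝ) ^ 2 / n φ) by
        have h : (d χ₁ : ℝ) * e φ = (d φ : ℝ) * x := by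
          exact_mod_cast hrel φ (Finset.mem_of_mem_erase hφ) (Finset.ne_of_mem_erase hφ)
        calc (d χ₁ : ℝ) ^ 2 * ((e φ : ℝ) ^ 2 / n φ) = ((d χ₁ : ℝ) * e φ) ^ 2 / n φ := by ring
          _ = _ := by rw [h]; ring]
    have hn1 : (n χ₁ : ℝ) ≠ 0 := Nat.cast_ne_zero.mpr (cs_norm_pos hS h1S (hn χ₁ h1S)).ne'
    rw [hx]; push_cast; field_simp; ring
  have hcsq : (n χ : ℝ) ≤ ((∑ α : R χ, c α ^ 2 : ℤ) : ℝ) := by
    have h : (n χ : ℤ) ≤ ∑ α : R χ, c α ^ 2 := hsum ▸ Finset.sum_le_sum fun α _ => Int.le_self_sq _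
    exact_mod_cast h
  have hTbig : 2 * (a : ℝ) * (d χ₁ : ℝ) ^ 2 < T := by
    rw [hT]; refine lt_of_le_of_lt (le_of_eq ?_) hineq
    rw [ha]; push_cast; ring
  have hkey : (x : ℝ) ^ 2 * T - 2 * a * x * (d χ₁ : ℝ) ^ 2 ≤ 0 := by
    have : (d χ₁ : ℝ) ^ 2 * Q ≤ (d χ₁ : ℝ) ^ 2 * (a ^ 2 * n χ₁) :=
      mul_le_mul_of_nonneg_left (by linarith) (by positivity)
    linarith
  have hTpos : 0 < T := lt_of_le_of_lt (by positivity) hTbig
  have hx0 : x = 0 := by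
    by_contra hxne
    rcases lt_or_gt_of_ne hxne with h | h
    · have h' : (x : ℝ) ≤ -1 := by exact_mod_cast (by omega : x ≤ -1)
      have e1 : 0 < (x : ℝ) ^ 2 * T := mul_pos (by nlinarith) hTpos
      have e2 : (0 : ℝ) ≤ 2 * a * (-(x : ℝ)) * (d χ₁ : ℝ) ^ 2 :=
        mul_nonneg (mul_nonneg (by positivity) (by linarith)) (by positivity)
      linarith
    · have h' : (1 : ℝ) ≤ (x : ℝ) := by exact_mod_cast h
      have e1 : (x : ℝ) * (2 * a * (d χ₁ : ℝ) ^ 2) < (x : ℝ) * T := mul_lt_mul_of_pos_left hTbig (by linarith)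
      have e2 : (x : ℝ) * T ≤ (x : ℝ) ^ 2 * T := mul_le_mul_of_nonneg_right (by nlinarith) hTpos.le
      linarith
  have hQ1 : Q = (a : ℝ) ^ 2 * n χ₁ := by
    rw [hx0, Int.cast_zero] at hQT
    exact mul_left_cancel₀ (pow_ne_zero 2 (Nat.cast_ne_zero.mpr hd1.ne')) (by linear_combination hQT)
  have hvXY : v = X + Y := by
    have h := hrz (le_antisymm (by linarith) hr0)
    rw [sub_sub, sub_eq_zero] at h
    exact h
  have hcsum : (∑ α : R χ, c α ^ 2 : ℤ) = n χ := by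
    have h : ((∑ α : R χ, c α ^ 2 : ℤ) : ℝ) = (n χ : ℝ) := le_antisymm (by linarith) hcsq
    exact_mod_cast h
  have hY' : Y = (-(a : ℂ)) • τ₁ χ₁ := by
    rw [hY, Finset.sum_eq_single χ₁ ?_ (fun h => absurd hχ₁S h)]
    · have : e χ₁ = -((a : ℤ) * n χ₁) := by omega
      rw [this]; push_cast
      rw [neg_div, mul_div_assoc, div_self (hn0 χ₁ h1S), mul_one]
    · intro φ hφ hne1
      have h := hrel φ hφ hne1
      rw [hx0, mul_zero, mul_eq_zero] at h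
      rw [h.resolve_left (by exact_mod_cast hd1.ne'), Int.cast_zero, zero_div, zero_smul]
  -- the extension
  set D : G → ℂ := ∑ α ∈ R χ, α with hD
  have hDD : classInner D D = 2 * (n χ : ℂ) := by
    rw [hD, cs_sum_norm hS hχ subset_rfl subset_rfl, Finset.inter_self, cs_card hS hχ (hn χ hχ) (cs_sub_conj_mem hS hχ)]
    push_cast; rfl
  have hXD : classInner X D = (n χ : ℂ) := by
    rw [hD, classInner_sum_right, ← Finset.sum_coe_sort (R χ)]
    simp only [hXR]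
    exact_mod_cast hsum
  have hDX : classInner D X = (n χ : ℂ) := by rw [← classInner_comm, hXD, map_natCast]
  have hXX' : classInner X X = (n χ : ℂ) := by rw [hXX, hcsum]; norm_num
  have hgX : IsGeneralizedCharacter G X := isGenChar_sum _ _ fun α _ => by
    have := isGenChar_intSmul (c α) (hS.virtual χ hχ α α.2)
    simpa [Int.cast_smul_eq_zsmul] using this
  have hgD : IsGeneralizedCharacter G D := isGenChar_sum _ _ fun α hα => hS.virtual χ hχ α hα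
  have hχc' := classInner_conjFun_nat (hn χ hχ)
  have o5 : classInner (conjFun χ) χ = 0 := hS.orthogonal _ hχc χ hχ (hS.conj_ne χ hχ)
  have hspan : ∀ θ ∈ zspan ({χ, conjFun χ} : Set (L → ℂ)), ∃ k l : ℤ, θ = (k : ℂ) • χ + (l : ℂ) • conjFun χ := fun θ hθ => by
    obtain ⟨k, l, hkl⟩ := Submodule.mem_span_pair.mp hθ
    exact ⟨k, l, by rw [Int.cast_smul_eq_zsmul, Int.cast_smul_eq_zsmul]; exact hkl.symm⟩
  set σ : (L → ℂ) → (G → ℂ) := fun θ => (classInner θ χ / n χ) • X + (classInner θ (conjFun χ) / n χ) • (X - D) with hσ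
  have hσv : ∀ k l : ℂ, σ (k • χ + l • conjFun χ) = k • X + l • (X - D) := fun k l => by
    simp only [hσ, classInner_add_left, classInner_smul_left, hn χ hχ, hχc', o4, o5, mul_zero, add_zero, zero_add,
      mul_div_assoc, div_self (hn0 χ hχ), mul_one]
  have hσiso : IsLinearIsometryOn (zspan ({χ, conjFun χ} : Set (L → ℂ))) σ := by
    refine ⟨fun θ _ η _ => ?_, fun θ _ k => ?_, fun θ hθ η hη => ?_, fun θ hθ => ?_⟩
    · simp only [hσ, classInner_add_left, add_div, add_smul]; abel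
    · simp only [hσ, ← Int.cast_smul_eq_zsmul ℂ, classInner_smul_left, smul_add, smul_smul, mul_div_assoc]
    · obtain ⟨k, l, rfl⟩ := hspan θ hθ
      obtain ⟨k', l', rfl⟩ := hspan η hη
      rw [hσv, hσv]
      simp only [classInner_add_left, classInner_add_right, classInner_sub_left, classInner_sub_right, classInner_smul_left,
        classInner_smul_right, hXX', hXD, hDX, hDD, hn χ hχ, hχc', o4, o5, map_intCast]
      ring
    · obtain ⟨k, l, rfl⟩ := hspan θ hθ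
      rw [hσv]
      have h1 := isGenChar_intSmul k hgX
      have h2 := isGenChar_intSmul l (isGenChar_sub hgX hgD)
      have := isGenChar_add h1 h2
      simpa [Int.cast_smul_eq_zsmul] using this
  have hpX : χ ∈ ({χ, conjFun χ} : Set (L → ℂ)) := Set.mem_insert _ _
  have hσχ : σ χ = X := by
    have := hσv 1 0
    simpa using this
  have hσχc : σ (conjFun χ) = X - D := by
    have := hσv 0 1
    simpa using this
  have hτX : ∀ φ ∈ S₁, classInner (τ₁ φ) X = 0 := fun φ hφ => by rw [← classInner_comm, hXτ φ hφ, map_zero]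
  have hτD : ∀ φ ∈ S₁, classInner (τ₁ φ) D = 0 := fun φ hφ => by
    rw [hD, classInner_sum_right]; exact Finset.sum_eq_zero fun α hα => horth φ hφ α hα
  obtain ⟨ρ, hρ, hρe⟩ := exists_glued (X := (↑S₁ : Set (L → ℂ))) (Y := ({χ, conjFun χ} : Set (L → ℂ)))
    (fun φ hφ b hb => by
      rcases hb with rfl | rfl
      · exact hS.orthogonal φ (hS₁ hφ) _ hχ (hne φ hφ)
      · exact hS.orthogonal φ (hS₁ hφ) _ hχc (hne' φ hφ))
    hτ₁ hσiso (fun φ hφ b hb => by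
      rcases hb with rfl | rfl
      · rw [hσχ, hτX φ hφ]
      · rw [hσχc, classInner_sub_right, hτX φ hφ, hτD φ hφ, sub_zero])
  refine ⟨ρ, hρ, fun θ hθ => ?_⟩
  obtain ⟨hθs, hθ1⟩ := hθ
  rw [zspan, SetLike.mem_coe, Submodule.span_union, Submodule.mem_sup] at hθs
  obtain ⟨s, hs, p, hp, rfl⟩ := hθs
  obtain ⟨k, l, rfl⟩ := hspan p hp
  rw [hρe s hs _ hp, hσv]
  have hs' : s + ((k + l) * (a : ℤ)) • χ₁ ∈ zspanOn (↑S₁ : Set (L → ℂ)) {1}ᶜ :=
    ⟨Submodule.add_mem _ hs (Submodule.smul_mem _ _ (hin χ₁ hχ₁S)), fun x hx => by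
      have hx' : x = 1 := by simpa using hx
      have h := hθ1 x hx
      rw [hx'] at h ⊢
      simp only [Pi.add_apply, Pi.smul_apply, smul_eq_mul, zsmul_eq_mul, conjFun, hd', hd χ₁ h1S, map_natCast] at h ⊢
      simp only [Pi.mul_apply, Pi.add_apply, Pi.natCast_apply, Pi.intCast_apply, hd χ₁ h1S] at h ⊢; push_cast at h ⊢; linear_combination h⟩
  have hsS : s + ((k + l) * (a : ℤ)) • χ₁ ∈ zspanOn S {1}ᶜ := ⟨Submodule.span_mono hS₁ hs'.1, hs'.2⟩
  have hDm := cs_sub_conj_mem hS hχ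
  have hlin : ∀ α ∈ zspanOn S {1}ᶜ, ∀ k : ℤ, k • α ∈ zspanOn S {1}ᶜ := fun α hα k =>
    ⟨Submodule.smul_mem _ k hα.1, fun x hx => by rw [Pi.smul_apply, hα.2 x hx, smul_zero]⟩
  have hadd : ∀ α ∈ zspanOn S {1}ᶜ, ∀ β ∈ zspanOn S {1}ᶜ, α + β ∈ zspanOn S {1}ᶜ := fun α hα β hβ =>
    ⟨Submodule.add_mem _ hα.1 hβ.1, fun x hx => by rw [Pi.add_apply, hα.2 x hx, hβ.2 x hx, add_zero]⟩
  have hdec : s + ((k : ℂ) • χ + (l : ℂ) • conjFun χ) = (k + l) • (χ - (a : ℤ) • χ₁) + (-l) • (χ - conjFun χ)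
      + (s + ((k + l) * (a : ℤ)) • χ₁) := by
    simp only [← Int.cast_smul_eq_zsmul ℂ]; push_cast; module
  rw [hdec, hS.isometry.1 _ (hadd _ (hlin _ hβ _) _ (hlin _ hDm _)) _ hsS, hS.isometry.1 _ (hlin _ hβ _) _ (hlin _ hDm _),
    hS.isometry.2.1 _ hβ, hS.isometry.2.1 _ hDm, hS.sum_eq χ hχ, ← hD, ← hv, ← hagree _ hs',
    hτ₁.1 _ hs _ (Submodule.smul_mem _ _ (hin χ₁ hχ₁S)), hτ₁.2.1 _ (hin χ₁ hχ₁S), hvXY, hY']
  simp only [← Int.cast_smul_eq_zsmul ℂ]; push_cast; module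

end CfsgLib.CharTheory
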