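/-
Coset lemmas for coprime action and degree bounds, for the character theory of the odd order theorem.
-/
import Cfsg.Agent.Lib.CharTheory.Clifford
import Cfsg.Agent.Lib.CharTheory.Degree
import Cfsg.Agent.Lib.CharTheory.Linear
import Cfsg.Agent.Lib.CharTheory.Fixed
import Cfsg.Agent.Lib.CharTheory.Integral

set_option autoImplicit false

namespace CfsgLib.CharTheory

open Cfsg
open scoped ComplexConjugate

universe u

variable {G : Type u} [Group G]

/-- An element of the coset `H g`, for `g` normalising `H` of order prime to `|H|`, is conjugate by `H` into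
`C_H(g) g`. -/
theorem conj_coset_coprime [Finite G] (H : Subgroup G) {g : G} (hg : g ∈ Subgroup.normalizer (H : Set G))
    (hcop : Nat.Coprime (orderOf g) (Nat.card H)) {h : G} (hh : h ∈ H) :
    ∃ x ∈ H, ∃ c ∈ H, c * g = g * c ∧ x * (h * g) * x⁻¹ = c * g := by
  classical
  have := Fintype.ofFinite G
  let C : Subgroup G := H ⊓ Subgroup.centralizer {g}
  have hgC : ∀ c ∈ C, c * g = g * c := fun c hc => (Subgroup.mem_centralizer_iff.mp hc.2 g rfl).symm
  let Φ : H × C → H := fun p => ⟨(p.1 : G)⁻¹ * p.2 * (g * p.1 * g⁻¹),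
    H.mul_mem (H.mul_mem (H.inv_mem p.1.2) p.2.2.1) ((Subgroup.mem_normalizer_iff.mp hg p.1).mp p.1.2)⟩
  obtain ⟨k, hk1, hk2⟩ := Nat.chineseRemainder hcop 1 0
  have hpow : ∀ c ∈ C, (c * g) ^ k = g := fun c hc => by
    rw [(show Commute c g from hgC c hc).mul_pow]
    have hc1 : c ^ k = 1 := by
      have h1 : orderOf c ∣ k := ((H.orderOf_dvd_natCard hc.1)).trans (Nat.modEq_zero_iff_dvd.mp hk2)
      exact orderOf_dvd_iff_pow_eq_one.mp h1
    rw [hc1, one_mul]
    conv_rhs => rw [← pow_one g]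
    exact pow_eq_pow_iff_modEq.mpr hk1
  have hfib : ∀ y : H, Nat.card {p : H × C // Φ p = y} ≤ Nat.card C := by
    intro y
    by_cases hy : ∃ p, Φ p = y
    · obtain ⟨p₀, hp₀⟩ := hy
      have key : ∀ p : {p : H × C // Φ p = y}, ((p.1.1 : G) * (p₀.1 : G)⁻¹) ∈ C := fun p => by
        have e : (p.1.1 : G)⁻¹ * p.1.2 * (g * p.1.1 * g⁻¹) = (p₀.1 : G)⁻¹ * p₀.2 * (g * p₀.1 * g⁻¹) :=
          congrArg Subtype.val (p.2.trans hp₀.symm)
        set z := (p.1.1 : G) * (p₀.1 : G)⁻¹ with hz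
        have e2 : (p.1.2 : G) * g = z * ((p₀.2 : G) * g) * z⁻¹ := by
          calc (p.1.2 : G) * g = (p.1.1 : G) * ((p.1.1 : G)⁻¹ * p.1.2 * (g * p.1.1 * g⁻¹)) * g * (p.1.1 : G)⁻¹ := by group
            _ = (p.1.1 : G) * ((p₀.1 : G)⁻¹ * p₀.2 * (g * p₀.1 * g⁻¹)) * g * (p.1.1 : G)⁻¹ := by rw [e]
            _ = z * ((p₀.2 : G) * g) * z⁻¹ := by rw [hz]; group
        have e3 := congrArg (· ^ k) e2
        simp only [conj_pow, hpow _ p.1.2.2, hpow _ p₀.2.2] at e3
        exact ⟨H.mul_mem p.1.1.2 (H.inv_mem p₀.1.2), Subgroup.mem_centralizer_iff.mpr fun w hw => by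
          rw [Set.mem_singleton_iff.mp hw]
          nth_rw 1 [e3]
          group⟩
      refine Nat.card_le_card_of_injective (fun p => (⟨_, key p⟩ : C)) fun p q e => ?_
      have e1 : (p.1.1 : G) = q.1.1 := mul_right_cancel (congrArg Subtype.val e)
      have e2 : (p.1.1 : G)⁻¹ * p.1.2 * (g * p.1.1 * g⁻¹) = (q.1.1 : G)⁻¹ * q.1.2 * (g * q.1.1 * g⁻¹) :=
        congrArg Subtype.val (p.2.trans q.2.symm)
      rw [e1, mul_left_inj, mul_right_inj] at e2
      exact Subtype.ext (Prod.ext (Subtype.ext e1) (Subtype.ext e2))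
    · push Not at hy
      haveI : IsEmpty {p : H × C // Φ p = y} := ⟨fun p => hy p.1 p.2⟩
      simp
  have hsurj : Function.Surjective Φ := by
    intro y₀
    by_contra hno
    push Not at hno
    have h1 : Nat.card (H × C) = ∑ y : H, Nat.card {p : H × C // Φ p = y} := by
      rw [← Nat.card_sigma]; exact Nat.card_congr (Equiv.sigmaFiberEquiv Φ).symm
    have h2 : ∑ y : H, Nat.card {p : H × C // Φ p = y} < ∑ _y : H, Nat.card C := by
      refine Finset.sum_lt_sum (fun y _ => hfib y) ⟨y₀, Finset.mem_univ _, ?_⟩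
      haveI : IsEmpty {p : H × C // Φ p = y₀} := ⟨fun p => hno p.1 p.2⟩
      rw [Nat.card_of_isEmpty]; exact Nat.card_pos
    rw [← h1, Finset.sum_const, Finset.card_univ, smul_eq_mul, Nat.card_prod, ← Nat.card_eq_fintype_card] at h2
    exact lt_irrefl _ h2
  obtain ⟨⟨x, c⟩, hxc⟩ := hsurj ⟨h, hh⟩
  refine ⟨x, x.2, c, c.2.1, hgC c c.2, ?_⟩
  have e : (x : G)⁻¹ * c * (g * x * g⁻¹) = h := congrArg Subtype.val hxc
  rw [← e]; group

/-- A class of a normal subgroup fixed by an element of coprime order meets the centralizer. -/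
theorem exists_fixed_in_class [Finite G] (K : Subgroup G) [hK : K.Normal] {x : G}
    (hx : Nat.Coprime (orderOf x) (Nat.card K)) (a : K)
    (ha : IsConj a ⟨x * a * x⁻¹, hK.conj_mem a a.2 x⟩) :
    ∃ b : K, IsConj a b ∧ x * (b : G) = b * x := by
  obtain ⟨k, hk⟩ := isConj_iff.mp ha
  have hk' : (k : G) * a * (k : G)⁻¹ = x * a * x⁻¹ := congrArg Subtype.val hk
  obtain ⟨u, hu, c, hc, hcx, he⟩ := conj_coset_coprime K
    (g := x) (by rw [Subgroup.normalizer_eq_top]; trivial) hx (K.inv_mem k.2)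
  refine ⟨⟨u, hu⟩ * a * ⟨u, hu⟩⁻¹, isConj_iff.mpr ⟨⟨u, hu⟩, rfl⟩, ?_⟩
  set b : G := u * a * u⁻¹ with hb
  show x * b = b * x
  have h1 : (c * x) * b = b * (c * x) := by
    rw [← he, hb]
    have : (k : G)⁻¹ * x * a = a * ((k : G)⁻¹ * x) := by
      calc (k : G)⁻¹ * x * a = (k : G)⁻¹ * (x * a * x⁻¹) * x := by group
        _ = (k : G)⁻¹ * ((k : G) * a * (k : G)⁻¹) * x := by rw [hk']
        _ = a * ((k : G)⁻¹ * x) := by group
    calc u * ((k : G)⁻¹ * x) * u⁻¹ * (u * a * u⁻¹) = u * ((k : G)⁻¹ * x * a) * u⁻¹ := by group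
      _ = u * (a * ((k : G)⁻¹ * x)) * u⁻¹ := by rw [this]
      _ = u * a * u⁻¹ * (u * ((k : G)⁻¹ * x) * u⁻¹) := by group
  obtain ⟨m, hm1, hm2⟩ := Nat.chineseRemainder hx 1 0
  have h2 : (c * x) ^ m = x := by
    rw [(show Commute c x from hcx).mul_pow, orderOf_dvd_iff_pow_eq_one.mp
      ((K.orderOf_dvd_natCard hc).trans (Nat.modEq_zero_iff_dvd.mp hm2)), one_mul]
    conv_rhs => rw [← pow_one x]
    exact pow_eq_pow_iff_modEq.mpr hm1
  rw [← h2]
  exact ((show Commute (c * x) b from h1).pow_left m).eq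

/-- The degree bound from a subgroup acting by scalars. -/
theorem degree_sq_mul_card_le [Fintype G] {V : Type*} [AddCommGroup V] [Module ℂ V] [FiniteDimensional ℂ V]
    (ρ : Representation ℂ G V) [ρ.IsIrreducible] (D : Subgroup G)
    (hD : ∀ d ∈ D, ∀ g : G, ρ d * ρ g = ρ g * ρ d) :
    (Module.finrank ℂ V) ^ 2 * Nat.card D ≤ Nat.card G := by
  classical
  have hirr := isIrrCharacter_character ρ
  have h1 := classInner_irr_self hirr
  simp only [classInner] at h1
  have hG : (Nat.card G : ℂ) ≠ 0 := Nat.cast_ne_zero.mpr Nat.card_pos.ne'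
  rw [inv_mul_eq_one₀ hG] at h1
  have h2 : (Nat.card G : ℝ) = ∑ g : G, Complex.normSq (ρ.character g) := by
    have := congrArg Complex.re h1
    simpa [Complex.mul_conj] using this
  have h3 : ∀ d ∈ D, Complex.normSq (ρ.character d) = (Module.finrank ℂ V : ℝ) ^ 2 := by
    intro d hd
    let T : Representation.IntertwiningMap ρ ρ := ⟨ρ d, fun k => hD d hd k⟩
    obtain ⟨ω, hω⟩ := (Representation.IsIrreducible.algebraMap_intertwiningMap_bijective_of_isAlgClosed).2 T
    have hs : ρ d = ω • (1 : Module.End ℂ V) := LinearMap.ext fun v => by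
      have := congrArg (fun S : Representation.IntertwiningMap ρ ρ => S v) hω
      simpa [T] using this.symm
    haveI : Nontrivial V := by
      by_contra hnt
      rw [not_nontrivial_iff_subsingleton] at hnt
      exact irr_ne_zero hirr (by rw [ρ.char_one, Module.finrank_zero_of_subsingleton, Nat.cast_zero])
    have hω1 : ω ^ orderOf d = 1 := by
      have h4 := congrArg (· ^ orderOf d) hs
      simp only [← map_pow, pow_orderOf_eq_one, map_one, smul_pow, one_pow] at h4
      obtain ⟨v, hv⟩ := exists_ne (0 : V)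
      have h5 := LinearMap.congr_fun h4 v
      simp at h5
      exact smul_left_injective ℂ hv (by simpa using h5.symm)
    have hn : ‖ω‖ = 1 := Complex.norm_eq_one_of_pow_eq_one hω1 (orderOf_pos d).ne'
    rw [Representation.character, hs, map_smul, LinearMap.trace_one, smul_eq_mul, Complex.normSq_mul,
      Complex.normSq_eq_norm_sq, hn, Complex.normSq_natCast]
    ring
  have h6 : ((Module.finrank ℂ V : ℝ) ^ 2) * Nat.card D ≤ ∑ g : G, Complex.normSq (ρ.character g) := by
    refine le_trans (le_of_eq ?_) (Finset.sum_le_sum_of_subset_of_nonneg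
      (Finset.subset_univ (Finset.univ.filter (· ∈ D))) fun i _ _ => Complex.normSq_nonneg _)
    rw [Finset.sum_congr rfl fun d hd => h3 d (Finset.mem_filter.mp hd).2, Finset.sum_const, nsmul_eq_mul,
      ← Fintype.card_subtype, ← Nat.card_eq_fintype_card, mul_comm]
  rw [← h2] at h6
  exact_mod_cast h6

end CfsgLib.CharTheory
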