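/-
A degree bound from a central section.
-/
import Cfsg.Agent.Lib.CharTheory.OddBasics
import Cfsg.Agent.Lib.CharTheory.Linear

set_option autoImplicit false

namespace CfsgLib.CharTheory

open Cfsg

universe u

theorem finrank_sup_le_sum {ι : Type*} (s : Finset ι) {V : Type*} [AddCommGroup V] [Module ℂ V] [FiniteDimensional ℂ V]
    (f : ι → Submodule ℂ V) : Module.finrank ℂ ↥(s.sup f) ≤ ∑ i ∈ s, Module.finrank ℂ (f i) := by
  classical
  induction s using Finset.induction_on with
  | empty => simp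
  | insert a t ha ih =>
    rw [Finset.sup_insert, Finset.sum_insert ha]
    exact (Submodule.finrank_add_le_finrank_add_finrank _ _).trans (Nat.add_le_add_left ih _)

theorem irr_degree_sq_le_of_section {K : Type u} [Group K] [Fintype K] {θ : K → ℂ} (hθ : IsIrrCharacter K θ) {d : ℕ}
    (hd : θ 1 = d) (C D : Subgroup K) (hDC : D ≤ C)
    (hcomm : ∀ x ∈ D, ∀ y ∈ C, θ (x * y * x⁻¹ * y⁻¹) = θ 1) : d ^ 2 ≤ C.index ^ 2 * D.relIndex C := by
  classical
  obtain ⟨n, ρ, hρ, rfl⟩ := hθ
  have hdn : d = Module.finrank ℂ (Fin n → ℂ) := by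
    rw [ρ.char_one] at hd; exact_mod_cast hd.symm
  have hn : Nontrivial (Fin n → ℂ) := by
    by_contra h
    rw [not_nontrivial_iff_subsingleton] at h
    exact bot_ne_top (α := Subrepresentation ρ) (Subrepresentation.toSubmodule_injective (Subsingleton.elim _ _))
  have hex : ∃ m : ℕ, ∃ W : Submodule ℂ (Fin n → ℂ), W ≠ ⊥ ∧ (∀ c ∈ C, ∀ v ∈ W, ρ c v ∈ W) ∧ Module.finrank ℂ W = m :=
    ⟨_, ⊤, top_ne_bot, fun c _ v _ => Submodule.mem_top, rfl⟩
  obtain ⟨W, hW0, hWC, hWm⟩ := Nat.find_spec hex
  let σ : Representation ℂ C W :=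
    { toFun := fun c => (ρ (c : K)).restrict (hWC c c.2)
      map_one' := by ext; simp
      map_mul' := fun a b => by ext; simp }
  have hWn : Nontrivial W := Submodule.nontrivial_iff_ne_bot.mpr hW0
  have hntS : Nontrivial (Subrepresentation σ) := ⟨⊥, ⊤, fun h => (bot_ne_top (α := Submodule ℂ W)) (congrArg Subrepresentation.toSubmodule h)⟩
  have hirr : σ.IsIrreducible :=
    { eq_bot_or_eq_top := fun p => by
        by_cases hp : p.toSubmodule = ⊥
        · exact Or.inl (Subrepresentation.toSubmodule_injective hp)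
        right
        refine Subrepresentation.toSubmodule_injective (show p.toSubmodule = ⊤ from ?_)
        by_contra hne
        have hlt := Submodule.finrank_lt hne
        refine Nat.find_min hex (m := Module.finrank ℂ p.toSubmodule) (hWm ▸ hlt)
          ⟨p.toSubmodule.map W.subtype, ?_, ?_, ?_⟩
        · rw [Ne, ← Submodule.map_bot W.subtype]
          exact (Submodule.map_injective_of_injective (Submodule.subtype_injective W)).ne hp
        · rintro c hc _ ⟨w, hw, rfl⟩
          exact ⟨σ ⟨c, hc⟩ w, p.apply_mem_toSubmodule ⟨c, hc⟩ hw, rfl⟩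
        · exact (Submodule.equivMapOfInjective _ (Submodule.subtype_injective W) _).finrank_eq.symm }
  have hscal := degree_sq_mul_card_le σ (D.subgroupOf C) (fun x hx c => by
    have h := rep_apply_eq_one_of_char_eq ρ (hcomm x hx c c.2)
    have h2 : ρ ((x : K) * c) = ρ ((c : K) * x) := by
      rw [show (x : K) * c = ((x : K) * c * (x : K)⁻¹ * (c : K)⁻¹) * (c * x) by group, map_mul, h, one_mul]
    refine LinearMap.ext fun w => Subtype.ext ?_
    show (ρ (x : K) * ρ (c : K)) (w : Fin n → ℂ) = (ρ (c : K) * ρ (x : K)) (w : Fin n → ℂ)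
    rw [← map_mul, ← map_mul, h2])
  have hle : Module.finrank ℂ W ^ 2 ≤ D.relIndex C := by
    rw [show D.relIndex C = (D.subgroupOf C).index from rfl]
    rw [← Subgroup.card_mul_index (D.subgroupOf C), mul_comm] at hscal
    exact Nat.le_of_mul_le_mul_left hscal Nat.card_pos
  -- translates of `W` span
  have : Fintype (K ⧸ C) := Fintype.ofFinite _
  set S : Submodule ℂ (Fin n → ℂ) := ⨆ q : K ⧸ C, W.map (ρ q.out) with hS
  have hinv : ∀ k : K, ∀ v ∈ S, ρ k v ∈ S := by
    intro k v hv
    suffices S ≤ S.comap (ρ k) from this hv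
    refine iSup_le fun q => Submodule.map_le_iff_le_comap.mpr fun w hw => ?_
    show ρ k (ρ q.out w) ∈ S
    obtain ⟨c, hc, hkc⟩ : ∃ c ∈ C, k * q.out = ((k * q.out : K) : K ⧸ C).out * c :=
      ⟨((k * q.out : K) : K ⧸ C).out⁻¹ * (k * q.out), by
        rw [← QuotientGroup.eq, QuotientGroup.out_eq'], by group⟩
    rw [← Module.End.mul_apply, ← map_mul, hkc, map_mul, Module.End.mul_apply]
    exact le_iSup (fun q : K ⧸ C => W.map (ρ q.out)) _ (Submodule.mem_map_of_mem (hWC c hc w hw))
  have hStop : S = ⊤ := by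
    rcases hρ.eq_bot_or_eq_top ⟨S, fun k v hv => hinv k v hv⟩ with h | h
    · exfalso
      have h' : S = ⊥ := congrArg Subrepresentation.toSubmodule h
      obtain ⟨w, hw, hw0⟩ := Submodule.exists_mem_ne_zero_of_ne_bot hW0
      have h2 : ρ ((1 : K) : K ⧸ C).out w ∈ S :=
        le_iSup (fun q : K ⧸ C => W.map (ρ q.out)) _ (Submodule.mem_map_of_mem hw)
      rw [h', Submodule.mem_bot] at h2
      have h3 := congrArg (ρ (((1 : K) : K ⧸ C).out⁻¹)) h2
      rw [← Module.End.mul_apply, ← map_mul, inv_mul_cancel, map_one, map_zero] at h3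
      exact hw0 h3
    · exact congrArg Subrepresentation.toSubmodule h
  have hdim : d ≤ C.index * Module.finrank ℂ W := by
    rw [hdn, ← finrank_top ℂ (Fin n → ℂ), ← hStop, hS, Subgroup.index, Nat.card_eq_fintype_card, ← Finset.card_univ, ← smul_eq_mul,
      ← Finset.sum_const, ← Finset.sup_univ_eq_iSup]
    exact (finrank_sup_le_sum _ _).trans (Finset.sum_le_sum fun q _ => Submodule.finrank_map_le _ _)
  calc d ^ 2 ≤ (C.index * Module.finrank ℂ W) ^ 2 := Nat.pow_le_pow_left hdim 2
    _ ≤ C.index ^ 2 * D.relIndex C := by rw [mul_pow]; exact Nat.mul_le_mul_left _ hle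

end CfsgLib.CharTheory
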