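/-
Coherence descends along central sections.
-/
import Cfsg.Agent.Lib.CharTheory.CoherenceExt
import Cfsg.Agent.Lib.CharTheory.DegreeSection
import Cfsg.Agent.Lib.CharTheory.Induced
import Cfsg.Agent.Lib.CharTheory.Clifford

set_option autoImplicit false

namespace CfsgLib.CharTheory

open Cfsg
open scoped ComplexConjugate

universe u v

variable {L : Type u} [Group L] [Fintype L]

theorem indFun_conjFun (K : Subgroup L) (θ : K → ℂ) : indFun K (conjFun θ) = conjFun (indFun K θ) := by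
  classical
  have h : ∀ g, extendByZero K (conjFun θ) g = conj (extendByZero K θ g) := fun g => by
    by_cases hg : g ∈ K
    · rw [extendByZero_of_mem _ _ hg, extendByZero_of_mem _ _ hg]; rfl
    · rw [extendByZero_of_not_mem _ _ hg, extendByZero_of_not_mem _ _ hg, map_zero]
  funext g
  simp only [indFun, conjFun, map_mul, map_sum, map_inv₀, map_natCast]
  congr 1
  exact Finset.sum_congr rfl fun x _ => h _

theorem inducedIrrAbove_conj (K A : Subgroup L) {φ : L → ℂ} (h : φ ∈ inducedIrrAbove K A) :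
    conjFun φ ∈ inducedIrrAbove K A := by
  obtain ⟨θ, h1, h2, h3, rfl⟩ := h
  refine ⟨conjFun θ, isIrrCharacter_conjChar h1, fun e => h2 ?_, fun a ha => ?_, (indFun_conjFun K θ).symm⟩
  · funext x
    have := congrArg conj (congrFun e x)
    simpa [conjFun] using this
  · show conj (θ a) = conj (θ 1); rw [h3 a ha]

theorem inducedIrrAbove_subset (K A : Subgroup L) : inducedIrrAbove K A ⊆ inducedIrrAbove K ⊥ := by
  rintro φ ⟨θ, h1, h2, h3, rfl⟩
  exact ⟨θ, h1, h2, fun a ha => by rw [show a = 1 from Subtype.ext (Subgroup.mem_bot.mp ha)], rfl⟩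

theorem inducedIrrAbove_finite (K A : Subgroup L) : (inducedIrrAbove K A).Finite :=
  (Set.finite_range fun θ : IrrCharacter K => indFun K (θ : K → ℂ)).subset fun φ ⟨θ, h1, _, _, e⟩ => ⟨⟨θ, h1⟩, e.symm⟩

theorem exists_linear_above (K A : Subgroup L) [hA : A.Normal] (hsolv : Group.IsSolvable K) (hAK : A < K) :
    ∃ θ : K → ℂ, IsIrrCharacter K θ ∧ θ ≠ (fun _ => 1) ∧ (∀ a : K, (a : L) ∈ A → θ a = θ 1) ∧ θ 1 = 1 := by
  set A' := A.subgroupOf K
  have hntA : Nontrivial (K ⧸ A') := by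
    refine QuotientGroup.nontrivial_iff.mpr fun h => ?_
    rw [Subgroup.subgroupOf_eq_top] at h
    exact not_lt_of_ge h hAK
  have hs : Group.IsSolvable (K ⧸ A') := Group.isSolvable_of_surjective (QuotientGroup.mk'_surjective A')
  have : Nontrivial (Abelianization (K ⧸ A')) :=
    QuotientGroup.nontrivial_iff.mpr (IsSolvable.commutator_lt_top_of_nontrivial (K ⧸ A')).ne
  have := Fintype.ofFinite (Abelianization (K ⧸ A'))
  obtain ⟨a, ha⟩ := exists_ne (1 : Abelianization (K ⧸ A'))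
  have : NeZero (Monoid.exponent (Abelianization (K ⧸ A')) : ℂ) := ⟨Nat.cast_ne_zero.mpr Monoid.exponent_ne_zero_of_finite⟩
  obtain ⟨μ, hμ⟩ := CommGroup.exists_apply_ne_one_of_hasEnoughRootsOfUnity (Abelianization (K ⧸ A')) ℂ ha
  let f : K →* ℂˣ := μ.comp (Abelianization.of.comp (QuotientGroup.mk' A'))
  refine ⟨fun k => (f k : ℂ), isIrrCharacter_linear f, fun e => ?_, fun b hb => ?_, by simp⟩
  · obtain ⟨q, rfl⟩ := QuotientGroup.mk_surjective a
    obtain ⟨k, rfl⟩ := QuotientGroup.mk_surjective q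
    exact hμ (Units.ext (congrFun e k))
  · simp only [f, MonoidHom.comp_apply, map_one]
    rw [show QuotientGroup.mk' A' b = 1 from (QuotientGroup.eq_one_iff b).mpr hb, map_one, map_one]

theorem norm_ratio_sum (K : Subgroup L) [hK : K.Normal] (A : Subgroup L) [hA : A.Normal]
    (d n : (L → ℂ) → ℕ) (hd : ∀ φ ∈ inducedIrrAbove K A, φ 1 = (d φ : ℂ))
    (hn : ∀ φ ∈ inducedIrrAbove K A, classInner φ φ = (n φ : ℂ)) :
    ∑ φ ∈ (inducedIrrAbove_finite K A).toFinset, ((d φ : ℝ) ^ 2 / (n φ : ℝ)) =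
      (K.index : ℝ) * ((A.relIndex K : ℝ) - 1) := by
  classical
  have : Fintype K := Fintype.ofFinite K
  let Θ : Finset (IrrCharacter K) := Finset.univ.filter fun θ =>
    (θ : K → ℂ) ≠ (fun _ => 1) ∧ ∀ a : K, (a : L) ∈ A → (θ : K → ℂ) a = (θ : K → ℂ) 1
  have hT : (inducedIrrAbove_finite K A).toFinset = Θ.image fun θ : IrrCharacter K => indFun K (θ : K → ℂ) := by
    ext φ
    simp only [Set.Finite.mem_toFinset, Θ, Finset.mem_image, Finset.mem_filter, Finset.mem_univ, true_and]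
    constructor
    · rintro ⟨θ, h1, h2, h3, rfl⟩; exact ⟨⟨θ, h1⟩, ⟨h2, h3⟩, rfl⟩
    · rintro ⟨θ, ⟨h2, h3⟩, rfl⟩; exact ⟨θ, θ.2, h2, h3, rfl⟩
  choose δ hδ0 hδ using fun θ : IrrCharacter K => irr_degree_pos θ.2
  rw [hT, Finset.sum_image' (fun θ : IrrCharacter K => (K.index : ℝ) * (δ θ : ℝ) ^ 2) ?_, ← Finset.mul_sum]
  · congr 1
    have htriv : (⟨fun _ => 1, isIrrCharacter_one⟩ : IrrCharacter K) ∈ Finset.univ.filter
        fun θ : IrrCharacter K => ∀ a : K, (a : L) ∈ A → (θ : K → ℂ) a = (θ : K → ℂ) 1 := by simp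
    have hΘ : Θ = (Finset.univ.filter fun θ : IrrCharacter K => ∀ a : K, (a : L) ∈ A → (θ : K → ℂ) a = (θ : K → ℂ) 1).erase
        ⟨fun _ => 1, isIrrCharacter_one⟩ := by
      ext θ; simp [Θ, Subtype.ext_iff, and_comm]
    rw [hΘ, Finset.sum_erase_eq_sub htriv]
    have h1 : (δ ⟨fun _ => 1, isIrrCharacter_one⟩ : ℝ) = 1 := by
      have h : (δ ⟨fun _ => 1, isIrrCharacter_one⟩ : ℂ) = 1 := (hδ _).symm
      rw [Nat.cast_eq_one] at h
      rw [h, Nat.cast_one]
    rw [h1, one_pow]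
    congr 1
    have hnat : ((∑ θ ∈ Finset.univ.filter fun θ : IrrCharacter K => ∀ a : K, (a : L) ∈ A → (θ : K → ℂ) a = (θ : K → ℂ) 1,
        δ θ ^ 2 : ℕ) : ℂ) = ((A.relIndex K : ℕ) : ℂ) := by
      have : Fintype (K ⧸ A.subgroupOf K) := Fintype.ofFinite _
      rw [show A.relIndex K = (A.subgroupOf K).index from rfl, Subgroup.index, ← sum_irr_degree_sq (G := K ⧸ A.subgroupOf K)]
      push_cast
      simp only [← hδ]
      rw [Finset.sum_subtype (Finset.univ.filter fun θ : IrrCharacter K => ∀ a : K, (a : L) ∈ A → (θ : K → ℂ) a = (θ : K → ℂ) 1)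
        (p := fun θ : IrrCharacter K => ∀ a ∈ A.subgroupOf K, (θ : K → ℂ) a = (θ : K → ℂ) 1)
        (fun θ => by simp [Subgroup.mem_subgroupOf])]
      exact (Fintype.sum_equiv (quotientIrrEquiv (A.subgroupOf K)) _ _ fun ψ => rfl).symm
    exact_mod_cast hnat
  · intro θ hθ
    simp only [Θ, Finset.mem_filter, Finset.mem_univ, true_and] at hθ
    have hmem : indFun K (θ : K → ℂ) ∈ inducedIrrAbove K A := ⟨θ, θ.2, hθ.1, hθ.2, rfl⟩
    have hn' := classInner_indFun_self K θ.2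
    rw [hn _ hmem] at hn'
    have hd' : (d (indFun K (θ : K → ℂ)) : ℂ) = ((K.index * δ θ : ℕ) : ℂ) := by
      rw [← hd _ hmem, indFun_apply_one, hδ θ]; push_cast; rfl
    have hd'' := Nat.cast_inj.mp hd'
    have hn'' : Nat.card K * n (indFun K (θ : K → ℂ)) = Nat.card (inertia K (θ : K → ℂ)) := by exact_mod_cast hn'
    have hconj : ∀ (g : L) (j : K → ℂ), conjNormFun K g j = (θ : K → ℂ) → j 1 = (θ : K → ℂ) 1 := fun g j e => by
      rw [← e, conjNormFun_apply_one]
    have hfib : (Θ.filter fun j : IrrCharacter K => indFun K (j : K → ℂ) = indFun K (θ : K → ℂ)).map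
        ⟨fun j : IrrCharacter K => (j : K → ℂ), Subtype.val_injective⟩ = conjOrbit K (θ : K → ℂ) := by
      ext j
      simp only [Finset.mem_map, Finset.mem_filter, Θ, Finset.mem_univ, true_and, Function.Embedding.coeFn_mk, mem_conjOrbit]
      constructor
      · rintro ⟨j, ⟨_, hj⟩, rfl⟩
        by_contra hne
        have h0 := indFun_orthogonal_of_not_conj K j.2 θ.2 hne
        rw [hj, hn _ hmem, Nat.cast_eq_zero] at h0
        rw [h0, mul_zero] at hn''
        exact Nat.card_pos.ne' hn''.symm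
      · rintro ⟨g, rfl⟩
        refine ⟨⟨_, isIrr_conjNormFun K g θ.2⟩, ⟨⟨fun e => hθ.1 ?_, fun a ha => ?_⟩, indFun_conjNormFun K g _⟩, rfl⟩
        · have := congrArg (conjNormFun K g⁻¹) e
          rw [← conjNormFun_mul, mul_inv_cancel, conjNormFun_one] at this
          rw [this]; funext x; rfl
        · show conjNormFun K g (θ : K → ℂ) a = conjNormFun K g (θ : K → ℂ) 1
          rw [conjNormFun_apply_one]
          exact hθ.2 _ (hA.conj_mem _ ha g)
    have hsum : ∀ j ∈ Θ.filter (fun j : IrrCharacter K => indFun K (j : K → ℂ) = indFun K (θ : K → ℂ)),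
        (K.index : ℝ) * (δ j : ℝ) ^ 2 = (K.index : ℝ) * (δ θ : ℝ) ^ 2 := fun j hj => by
      have hj' := Finset.mem_map_of_mem ⟨fun j : IrrCharacter K => (j : K → ℂ), Subtype.val_injective⟩ hj
      rw [hfib, mem_conjOrbit] at hj'
      obtain ⟨g, hg⟩ := hj'
      have : (δ j : ℂ) = δ θ := by
        rw [← hδ, ← hδ, ← show conjNormFun K g (θ : K → ℂ) = (j : K → ℂ) from hg, conjNormFun_apply_one]
      rw [Nat.cast_inj.mp this]
    rw [Finset.sum_congr rfl hsum, Finset.sum_const, nsmul_eq_mul, ← Finset.card_map, hfib]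
    have hcard := card_conjOrbit_mul_inertia K (θ : K → ℂ)
    rw [← hn'', ← Subgroup.card_mul_index K] at hcard
    have hcard' : (conjOrbit K (θ : K → ℂ)).card * n (indFun K (θ : K → ℂ)) = K.index :=
      Nat.eq_of_mul_eq_mul_left (Nat.card_pos (α := K)) (by rw [← hcard]; ring)
    have hnpos : n (indFun K (θ : K → ℂ)) ≠ 0 := fun h => by rw [h, mul_zero] at hn''; exact Nat.card_pos.ne' hn''.symm
    rw [hd'', div_eq_iff (Nat.cast_ne_zero.mpr hnpos)]
    push_cast
    rw [← hcard']; push_cast; ring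

variable {G : Type v} [Group G] [Fintype G]

theorem coherence_descends (K : Subgroup L) [K.Normal] (hsolv : Group.IsSolvable K) {τ : (L → ℂ) → (G → ℂ)}
    {R : (L → ℂ) → Finset (G → ℂ)} (hS : IsCoherenceSystem (inducedIrrAbove K ⊥) τ R)
    (A B C D : Subgroup L) [A.Normal] [B.Normal] (hAK : A < K) (hBK : B < K)
    (hDC : D ≤ C) (hCK : C ≤ K) (hcent : ∀ x ∈ D, ∀ y ∈ C, x * y * x⁻¹ * y⁻¹ ∈ B)
    (hA : IsCoherent (inducedIrrAbove K A) {1}ᶜ τ)
    (hlt : 4 * C.index ^ 2 * D.relIndex C < (A.relIndex K - 1) ^ 2) :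
    IsCoherent (inducedIrrAbove K B) {1}ᶜ τ := by
  classical
  have : Fintype K := Fintype.ofFinite K
  set S := inducedIrrAbove K ⊥ with hSdef
  choose! d hd using fun φ (hφ : φ ∈ S) => char_one_eq_natCast (hS.isCharacter φ hφ)
  choose! n hn using fun φ (hφ : φ ∈ S) => classInner_char_nat (hS.isCharacter φ hφ) (hS.isCharacter φ hφ)
  have hAS := inducedIrrAbove_subset K A
  have hBS := inducedIrrAbove_subset K B
  obtain ⟨θ₁, hθ₁, hθ₁ne, hθ₁A, hθ₁1⟩ := exists_linear_above K A hsolv hAK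
  have hχ₁ : indFun K θ₁ ∈ inducedIrrAbove K A := ⟨θ₁, hθ₁, hθ₁ne, hθ₁A, rfl⟩
  have hd1 : d (indFun K θ₁) = K.index := by
    have h := hd _ (hAS hχ₁)
    rw [indFun_apply_one, hθ₁1, mul_one] at h
    exact_mod_cast h.symm
  have hsumA := norm_ratio_sum K A d n (fun φ h => hd φ (hAS h)) (fun φ h => hn φ (hAS h))
  have hrel : 2 ≤ A.relIndex K := by
    have h0 : A.relIndex K ≠ 1 := fun h => not_lt_of_ge (Subgroup.relIndex_eq_one.mp h) hAK
    have h1 : A.relIndex K ≠ 0 := Subgroup.index_ne_zero_of_finite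
    omega
  have main : ∀ T : Finset (L → ℂ), ↑T ⊆ inducedIrrAbove K B → ∃ S₁ : Finset (L → ℂ),
      ↑S₁ ⊆ S ∧ (∀ φ ∈ S₁, conjFun φ ∈ S₁) ∧ inducedIrrAbove K A ⊆ ↑S₁ ∧ T ⊆ S₁ ∧ IsCoherent (↑S₁ : Set (L → ℂ)) {1}ᶜ τ := by
    intro T
    induction T using Finset.induction_on with
    | empty =>
      intro _
      refine ⟨(inducedIrrAbove_finite K A).toFinset, by simpa using hAS, fun φ hφ => ?_, by simp, Finset.empty_subset _,
        by rwa [Set.Finite.coe_toFinset]⟩
      rw [Set.Finite.mem_toFinset] at hφ ⊢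
      exact inducedIrrAbove_conj K A hφ
    | insert χ t hχt ih =>
      intro hsub
      obtain ⟨S₁, h1, h2, h3, h4, h5⟩ := ih fun x hx => hsub (by simp [show x ∈ t from hx])
      by_cases hin : χ ∈ S₁
      · exact ⟨S₁, h1, h2, h3, Finset.insert_subset hin h4, h5⟩
      have hχB : χ ∈ inducedIrrAbove K B := hsub (by simp)
      have hnot : conjFun χ ∉ S₁ := fun h => hin (by simpa [cs_conj_conj] using h2 _ h)
      obtain ⟨θ, hθ, hθne, hθB, hθe⟩ := hχB
      obtain ⟨t1, ht0, ht1⟩ := irr_degree_pos hθ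
      have hdχ : d χ = K.index * t1 := by
        have h := hd _ (hBS ⟨θ, hθ, hθne, hθB, hθe⟩)
        rw [hθe, indFun_apply_one, ht1] at h
        rw [hθe]; exact_mod_cast h.symm
      have hbound : t1 ^ 2 ≤ (C.relIndex K) ^ 2 * D.relIndex C := by
        have h := irr_degree_sq_le_of_section hθ ht1 (C.subgroupOf K) (D.subgroupOf K)
          (fun x hx => hDC hx) (fun x hx y hy => hθB _ (hcent _ hx _ hy))
        rwa [Subgroup.relIndex_subgroupOf hCK] at h
      have hineq : (2 * d χ * d (indFun K θ₁) : ℝ) < ∑ φ ∈ S₁, ((d φ : ℝ) ^ 2 / (n φ : ℝ)) := by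
        refine lt_of_lt_of_le ?_ (Finset.sum_le_sum_of_subset_of_nonneg (s := (inducedIrrAbove_finite K A).toFinset)
          (fun x hx => h3 ((Set.Finite.mem_toFinset _).mp hx)) fun i _ _ => by positivity)
        rw [hsumA, hdχ, hd1]
        have hC : C.index = C.relIndex K * K.index := (Subgroup.relIndex_mul_index hCK).symm
        have h6 : (2 * K.index * t1) ^ 2 < (A.relIndex K - 1) ^ 2 := by
          calc (2 * K.index * t1) ^ 2 = 4 * K.index ^ 2 * t1 ^ 2 := by ring
            _ ≤ 4 * K.index ^ 2 * (C.relIndex K ^ 2 * D.relIndex C) := Nat.mul_le_mul_left _ hbound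
            _ = 4 * C.index ^ 2 * D.relIndex C := by rw [hC]; ring
            _ < _ := hlt
        have h7 : 2 * K.index * t1 < A.relIndex K - 1 := lt_of_pow_lt_pow_left₀ 2 (Nat.zero_le _) h6
        have h8 : ((2 * K.index * t1 : ℕ) : ℝ) < ((A.relIndex K - 1 : ℕ) : ℝ) := by exact_mod_cast h7
        rw [Nat.cast_sub (le_trans (by norm_num) hrel)] at h8
        push_cast at h8 ⊢
        have hI : (0 : ℝ) < (K.index : ℝ) := Nat.cast_pos.mpr (Nat.pos_of_ne_zero Subgroup.index_ne_zero_of_finite)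
        calc (2 * ((K.index : ℝ) * t1) * K.index : ℝ) = K.index * (2 * K.index * t1) := by ring
          _ < _ := mul_lt_mul_of_pos_left h8 hI
      have hχS : χ ∈ S := hBS ⟨θ, hθ, hθne, hθB, hθe⟩
      have hnew := extend_coherent hS d n hd hn S₁ h1 h2 h5 hχS hin hnot (h3 hχ₁) ⟨t1, by rw [hdχ, hd1]⟩ hineq
      refine ⟨insert χ (insert (conjFun χ) S₁), ?_, ?_, ?_, ?_, ?_⟩
      · intro x hx
        simp only [Finset.coe_insert, Set.mem_insert_iff] at hx
        rcases hx with rfl | rfl | hx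
        · exact hχS
        · exact hS.conj_mem _ hχS
        · exact h1 hx
      · intro φ hφ
        simp only [Finset.mem_insert] at hφ ⊢
        rcases hφ with rfl | rfl | hφ
        · exact Or.inr (Or.inl rfl)
        · exact Or.inl (cs_conj_conj χ)
        · exact Or.inr (Or.inr (h2 _ hφ))
      · exact fun x hx => by simp [show x ∈ S₁ from h3 hx]
      · intro x hx
        rcases Finset.mem_insert.mp hx with rfl | hx
        · simp
        · simp [h4 hx]
      · convert hnew using 1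
        ext x; simp only [Finset.coe_insert, Set.mem_insert_iff, Set.mem_union, Set.mem_singleton_iff, Finset.mem_coe]; tauto
  obtain ⟨S₁, h1, -, -, h4, -, τ₁, hτ₁, hagree⟩ := main (inducedIrrAbove_finite K B).toFinset (by simp)
  have hsub : inducedIrrAbove K B ⊆ ↑S₁ := fun x hx => h4 ((Set.Finite.mem_toFinset _).mpr hx)
  obtain ⟨θ₂, hθ₂, hθ₂ne, hθ₂B, -⟩ := exists_linear_above K B hsolv hBK
  have hχ₂ : indFun K θ₂ ∈ inducedIrrAbove K B := ⟨θ₂, hθ₂, hθ₂ne, hθ₂B, rfl⟩
  refine ⟨⟨_, ⟨Submodule.sub_mem _ (Submodule.subset_span hχ₂) (Submodule.subset_span (inducedIrrAbove_conj K B hχ₂)),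
    (cs_sub_conj_mem hS (hBS hχ₂)).2⟩, sub_ne_zero.mpr (Ne.symm (hS.conj_ne _ (hBS hχ₂)))⟩, τ₁, ?_, fun α hα =>
    hagree α ⟨Submodule.span_mono hsub hα.1, hα.2⟩⟩
  exact ⟨fun a ha b hb => hτ₁.1 a (Submodule.span_mono hsub ha) b (Submodule.span_mono hsub hb),
    fun a ha k => hτ₁.2.1 a (Submodule.span_mono hsub ha) k,
    fun a ha b hb => hτ₁.2.2.1 a (Submodule.span_mono hsub ha) b (Submodule.span_mono hsub hb),
    fun a ha => hτ₁.2.2.2 a (Submodule.span_mono hsub ha)⟩

end CfsgLib.CharTheory
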