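/-
Sections with a fixed-point-free top, and coherence of the characters above the derived subgroup.
-/
import Cfsg.Agent.Lib.CharTheory.CoherenceDescend
import Cfsg.Agent.Lib.CharTheory.CoherenceConst
import Cfsg.Agent.Lib.CharTheory.AbelianInertia

set_option autoImplicit false

namespace CfsgLib.CharTheory

open Cfsg
open scoped commutatorElement

universe u v

theorem index_dvd_card_sub_one {Q : Type u} [Group Q] [Finite Q] (Kb : Subgroup Q)
    (hcent : ∀ k ∈ Kb, k ≠ 1 → ∀ x : Q, x * k = k * x ↔ x ∈ Kb) (N : Subgroup Q) (hN : N ≤ Kb) [hNn : N.Normal] :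
    Kb.index ∣ Nat.card N - 1 := by
  classical
  have : Fintype Q := Fintype.ofFinite Q
  let S := {q : Q // q ∈ N ∧ q ≠ 1}
  letI act : MulAction Q S :=
    { smul := fun x s => ⟨x * s.1 * x⁻¹, hNn.conj_mem _ s.2.1 x, fun h => s.2.2 (by simpa using h)⟩
      one_smul := fun s => Subtype.ext (by show (1 : Q) * s.1 * 1⁻¹ = s.1; simp)
      mul_smul := fun x y s => Subtype.ext (by show x * y * s.1 * (x * y)⁻¹ = x * (y * s.1 * y⁻¹) * x⁻¹; group) }
  have hst : ∀ s : S, MulAction.stabilizer Q s = Kb := fun s => by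
    ext x
    rw [MulAction.mem_stabilizer_iff, ← hcent s.1 (hN s.2.1) s.2.2 x, ← mul_inv_eq_iff_eq_mul]
    exact Subtype.ext_iff
  have : Fintype (Quotient (MulAction.orbitRel Q S)) := Fintype.ofFinite _
  have h1 : Nat.card N - 1 = Nat.card S := by
    have e : Nat.card S = Nat.card {n : N // n ≠ 1} :=
      Nat.card_congr ⟨fun s => ⟨⟨s.1, s.2.1⟩, fun h => s.2.2 (congrArg Subtype.val h)⟩,
        fun n => ⟨n.1.1, n.1.2, fun h => n.2 (Subtype.ext h)⟩, fun s => rfl, fun n => rfl⟩
    have : Fintype N := Fintype.ofFinite N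
    rw [e, Nat.card_eq_fintype_card, Nat.card_eq_fintype_card, Fintype.card_subtype_compl, Fintype.card_subtype_eq]
  rw [h1, Nat.card_congr (MulAction.selfEquivSigmaOrbits Q S), Nat.card_sigma]
  refine Finset.dvd_sum fun o _ => dvd_of_eq ?_
  rw [← hst (Quotient.out o), MulAction.index_stabilizer]
  exact (Nat.card_coe_set_eq _).symm

theorem relIndex_eq_card_map {L : Type u} [Group L] [Finite L] (H N : Subgroup L) [H.Normal] (hHN : H ≤ N) :
    H.relIndex N = Nat.card (N.map (QuotientGroup.mk' H)) := by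
  rw [show N.map (QuotientGroup.mk' H) = ((QuotientGroup.mk' H).comp N.subtype).range by
      rw [MonoidHom.range_comp, Subgroup.range_subtype], ← Subgroup.index_ker, ← MonoidHom.comap_ker, QuotientGroup.ker_mk']
  rfl

theorem relIndex_dvd_sub_one {L : Type u} [Group L] [Finite L] (K H N : Subgroup L) [H.Normal] [N.Normal] [K.Normal]
    (hab : ⁅K, K⁆ ≤ H) (hHN : H ≤ N) (hNK : N ≤ K)
    (hfrob : ∀ k ∈ K, k ∉ H → ∀ x : L, x * k * x⁻¹ * k⁻¹ ∈ H → x ∈ K) : K.index ∣ H.relIndex N - 1 := by
  rw [relIndex_eq_card_map H N hHN]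
  have hs := QuotientGroup.mk'_surjective H
  have hidx : (K.map (QuotientGroup.mk' H)).index = K.index := by
    exact Subgroup.index_map_eq K hs (by rw [QuotientGroup.ker_mk']; exact hHN.trans hNK)
  have : (N.map (QuotientGroup.mk' H)).Normal := (inferInstance : N.Normal).map _ hs
  rw [← hidx]
  refine index_dvd_card_sub_one (K.map (QuotientGroup.mk' H)) ?_ _ (Subgroup.map_mono hNK)
  rintro _ ⟨k, hk, rfl⟩ hk1 x
  obtain ⟨x, rfl⟩ := hs x
  have hkH : k ∉ H := fun h => hk1 ((QuotientGroup.eq_one_iff k).mpr h)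
  constructor
  · intro h
    refine Subgroup.mem_map_of_mem _ (hfrob k hk hkH x ?_)
    rw [← QuotientGroup.eq_one_iff]
    show QuotientGroup.mk' H (x * k * x⁻¹ * k⁻¹) = 1
    rw [map_mul, map_mul, map_mul, map_inv, map_inv, h]
    group
  · rintro ⟨y, hy, hyx⟩
    rw [← hyx]
    have : QuotientGroup.mk' H ⁅y, k⁆ = 1 := (QuotientGroup.eq_one_iff _).mpr (hab (Subgroup.commutator_mem_commutator hy hk))
    rw [map_commutatorElement] at this
    exact commutatorElement_eq_one_iff_commute.mp this

theorem isPGroup_of_commutator_index {Q : Type u} [Group Q] [Finite Q] [hQ : Group.IsNilpotent Q] {p : ℕ} [Fact p.Prime]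
    {m : ℕ} (h : (commutator Q).index = p ^ m) : IsPGroup p Q := by
  obtain ⟨P⟩ : Nonempty (Sylow p Q) := inferInstance
  have hPn : (P : Subgroup Q).Normal := inferInstance
  have hP : (P : Subgroup Q) = ⊤ := by
    by_contra hne
    have : Nontrivial (Q ⧸ (P : Subgroup Q)) := QuotientGroup.nontrivial_iff.mpr hne
    have : Group.IsSolvable (Q ⧸ (P : Subgroup Q)) := Group.isSolvable_of_surjective (QuotientGroup.mk'_surjective (P : Subgroup Q))
    have hlt := IsSolvable.commutator_lt_top_of_nontrivial (Q ⧸ (P : Subgroup Q))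
    refine hlt.ne ?_
    have e : commutator (Q ⧸ (P : Subgroup Q)) = (commutator Q).map (QuotientGroup.mk' (P : Subgroup Q)) := by
      rw [commutator_def, commutator_def, Subgroup.map_commutator,
        Subgroup.map_top_of_surjective _ (QuotientGroup.mk'_surjective _)]
    have hd1 : (commutator (Q ⧸ (P : Subgroup Q))).index ∣ p ^ m := by
      rw [e, ← h]; exact Subgroup.index_map_dvd _ (QuotientGroup.mk'_surjective _)
    have hd2 : (commutator (Q ⧸ (P : Subgroup Q))).index ∣ (P : Subgroup Q).index :=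
      (commutator (Q ⧸ (P : Subgroup Q))).index_dvd_card
    obtain ⟨j, -, hj⟩ := (Nat.dvd_prime_pow Fact.out).mp hd1
    rcases j with _ | j
    · exact Subgroup.index_eq_one.mp (by simpa using hj)
    · exact absurd ((Dvd.intro_left _ (pow_succ p j).symm).trans (hj ▸ hd2)) P.not_dvd_index
  exact IsPGroup.of_equiv (hP ▸ P.isPGroup' : IsPGroup p (⊤ : Subgroup Q)) Subgroup.topEquiv

theorem commutator_eq_bot_of_cyclic_abelianization {Q : Type u} [Group Q] [Finite Q] [Group.IsNilpotent Q] {p : ℕ} [Fact p.Prime]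
    (h : (commutator Q).index = p) : commutator Q = ⊥ := by
  obtain ⟨g, hg⟩ : ∃ g : Q, g ∉ commutator Q := by
    by_contra hne
    push Not at hne
    rw [show commutator Q = ⊤ from (Subgroup.eq_top_iff' _).mpr hne, Subgroup.index_top] at h
    exact (Fact.out : p.Prime).ne_one h.symm
  have hz : Subgroup.zpowers g = ⊤ := by
    by_contra hne
    obtain ⟨M, hM, hgM⟩ := (eq_top_or_exists_le_coatom (Subgroup.zpowers g)).resolve_left hne
    have : M.Normal := Subgroup.NormalizerCondition.normal_of_coatom M Group.normalizerCondition_of_isNilpotent hM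
    have : Nontrivial (Q ⧸ M) := QuotientGroup.nontrivial_iff.mpr hM.1
    have hlt := IsSolvable.commutator_lt_top_of_nontrivial (Q ⧸ M)
    have hle : commutator Q ≤ M := by
      intro x hx
      by_contra hxM
      have hx' : QuotientGroup.mk' M x ∈ commutator (Q ⧸ M) := by
        rw [commutator_def, ← Subgroup.map_top_of_surjective _ (QuotientGroup.mk'_surjective M), ← Subgroup.map_commutator,
          ← commutator_def]
        exact Subgroup.mem_map_of_mem _ hx
      have hsub : (commutator (Q ⧸ M)).comap (QuotientGroup.mk' M) = M ∨ (commutator (Q ⧸ M)).comap (QuotientGroup.mk' M) = ⊤ :=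
        (eq_or_lt_of_le (fun y hy => by
          show QuotientGroup.mk' M y ∈ commutator (Q ⧸ M)
          rw [show QuotientGroup.mk' M y = 1 from (QuotientGroup.eq_one_iff y).mpr hy]; exact Subgroup.one_mem _ :
          M ≤ (commutator (Q ⧸ M)).comap (QuotientGroup.mk' M))).imp (fun e => e.symm) (fun e => hM.2 _ e)
      rcases hsub with e | e
      · exact hxM (e ▸ hx')
      · exact hlt.ne (Subgroup.comap_injective (QuotientGroup.mk'_surjective M) (by rw [e, Subgroup.comap_top]))
    have hprime : M.index ∣ p := h ▸ Subgroup.index_dvd_of_le hle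
    rcases (Nat.dvd_prime Fact.out).mp hprime with e | e
    · exact hM.1 (Subgroup.index_eq_one.mp e)
    · have : M = commutator Q := (eq_or_lt_of_le hle).elim Eq.symm fun hl => by
        have h1 := Subgroup.relIndex_mul_index hle
        rw [e, h] at h1
        have h2 : (commutator Q).relIndex M = 1 := by
          have := (Fact.out : p.Prime).pos
          exact Nat.eq_of_mul_eq_mul_right this (h1.trans (one_mul p).symm)
        exact absurd (Subgroup.relIndex_eq_one.mp h2) (not_le_of_gt hl)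
      exact hg (this ▸ hgM (Subgroup.mem_zpowers g))
  refine (commutator_def Q).trans (Subgroup.commutator_eq_bot_iff_le_centralizer.mpr fun x _ y _ => ?_)
  obtain ⟨i, rfl⟩ := Subgroup.mem_zpowers_iff.mp (show x ∈ Subgroup.zpowers g by rw [hz]; trivial)
  obtain ⟨j, rfl⟩ := Subgroup.mem_zpowers_iff.mp (show y ∈ Subgroup.zpowers g by rw [hz]; trivial)
  exact zpow_mul_comm g j i

variable {L : Type u} [Group L] [Fintype L] {G : Type v} [Group G] [Fintype G]

theorem coherenceSystem_subset {S S' : Set (L → ℂ)} {τ : (L → ℂ) → (G → ℂ)} {R : (L → ℂ) → Finset (G → ℂ)}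
    (hS : IsCoherenceSystem S τ R) (hsub : S' ⊆ S) (hne : S'.Nonempty) (hc : ∀ χ ∈ S', conjFun χ ∈ S') :
    IsCoherenceSystem S' τ R := by
  have hspan : zspanOn S' {1}ᶜ ⊆ zspanOn S {1}ᶜ := fun α hα => ⟨Submodule.span_mono hsub hα.1, hα.2⟩
  exact ⟨hne, fun χ h => hS.isCharacter χ (hsub h), hc, fun χ h => hS.conj_ne χ (hsub h),
    ⟨fun a ha b hb => hS.isometry.1 a (hspan ha) b (hspan hb), fun a ha k => hS.isometry.2.1 a (hspan ha) k,
      fun a ha b hb => hS.isometry.2.2.1 a (hspan ha) b (hspan hb), fun a ha => hS.isometry.2.2.2 a (hspan ha)⟩,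
    fun a ha => hS.map_one a (hspan ha), fun a ha b hb => hS.orthogonal a (hsub ha) b (hsub hb),
    fun a ha => hS.orthonormal a (hsub ha), fun a ha => hS.virtual a (hsub ha), fun a ha => hS.sum_eq a (hsub ha),
    fun a ha b hb => hS.disjoint a (hsub ha) b (hsub hb)⟩

theorem coherent_above_derived (K : Subgroup L) [K.Normal] (hsolv : Group.IsSolvable K) {τ : (L → ℂ) → (G → ℂ)}
    {R : (L → ℂ) → Finset (G → ℂ)} (hS : IsCoherenceSystem (inducedIrrAbove K ⊥) τ R) (H : Subgroup L) [H.Normal]
    (hab : ⁅K, K⁆ ≤ H) (hHK : H < K) : IsCoherent (inducedIrrAbove K H) {1}ᶜ τ := by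
  obtain ⟨θ, h1, h2, h3, -⟩ := exists_linear_above K H hsolv hHK
  have hS' := coherenceSystem_subset hS (inducedIrrAbove_subset K H) ⟨_, θ, h1, h2, h3, rfl⟩
    (fun χ => inducedIrrAbove_conj K H)
  refine coherent_of_constant_degree hS' ?_
  have hdeg : ∀ φ ∈ inducedIrrAbove K H, φ 1 = (K.index : ℂ) := by
    rintro φ ⟨η, g1, -, g3, rfl⟩
    have := Fintype.ofFinite K
    rw [indFun_apply_one, irr_degree_one_of_kernel_commutator (H.subgroupOf K)
      (fun x y => hab (by
        show ((x * y * x⁻¹ * y⁻¹ : K) : L) ∈ ⁅K, K⁆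
        exact Subgroup.commutator_mem_commutator x.2 y.2)) g1 (fun n hn => g3 n hn), mul_one]
  exact fun φ hφ ψ hψ => (hdeg φ hφ).trans (hdeg ψ hψ).symm

end CfsgLib.CharTheory
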