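/-
Growing a coherent set by increasing degree, and the characters nontrivial on a central subgroup.
-/
import Cfsg.Agent.Lib.CharTheory.FrobSection
import Cfsg.Agent.Lib.CharTheory.Integral

set_option autoImplicit false

namespace CfsgLib.CharTheory

open Cfsg
open scoped ComplexConjugate

universe u v

variable {L : Type u} [Group L] [Fintype L] {G : Type v} [Group G] [Fintype G]

open Classical in
theorem coherent_chain {S : Set (L → ℂ)} {τ : (L → ℂ) → (G → ℂ)} {R : (L → ℂ) → Finset (G → ℂ)}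
    (hS : IsCoherenceSystem S τ R) (d n : (L → ℂ) → ℕ) (hd : ∀ φ ∈ S, φ 1 = (d φ : ℂ))
    (hn : ∀ φ ∈ S, classInner φ φ = (n φ : ℂ)) (X : Finset (L → ℂ)) (hX : ↑X ⊆ S) (hXc : ∀ φ ∈ X, conjFun φ ∈ X)
    (B : Finset (L → ℂ)) (hB : B ⊆ X) (hBc : ∀ φ ∈ B, conjFun φ ∈ B)
    (hcoh : IsCoherent (↑B : Set (L → ℂ)) {1}ᶜ τ) {χ₁ : L → ℂ} (hχ₁ : χ₁ ∈ B)
    (hdvd : ∀ χ ∈ X, χ ∉ B → d χ₁ ∣ d χ)
    (hstep : ∀ χ ∈ X, χ ∉ B → (2 * d χ * d χ₁ : ℝ) < ∑ φ ∈ X with d φ < d χ, ((d φ : ℝ) ^ 2 / (n φ : ℝ))) :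
    IsCoherent (↑X : Set (L → ℂ)) {1}ᶜ τ := by
  suffices main : ∀ T : Finset (L → ℂ), T ⊆ X → (∀ x ∈ T, ∀ y ∈ X, d y < d x → y ∈ T) → ∃ S₁ : Finset (L → ℂ),
      S₁ ⊆ X ∧ (∀ φ ∈ S₁, conjFun φ ∈ S₁) ∧ B ⊆ S₁ ∧ T ⊆ S₁ ∧ IsCoherent (↑S₁ : Set (L → ℂ)) {1}ᶜ τ by
    obtain ⟨S₁, h1, -, -, h4, h5⟩ := main X subset_rfl (fun _ _ y hy _ => hy)
    rwa [Finset.Subset.antisymm h1 h4] at h5
  intro T
  induction T using Finset.induction_on_max_value d with
  | empty => exact fun _ _ => ⟨B, hB, hBc, subset_rfl, Finset.empty_subset _, hcoh⟩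
  | insert a s has hmax ih =>
    intro hsub hlow
    obtain ⟨S₁, h1, h2, h3, h4, h5⟩ := ih ((Finset.subset_insert _ _).trans hsub) (fun x hx y hy hyx => by
      rcases Finset.mem_insert.mp (hlow x (Finset.mem_insert_of_mem hx) y hy hyx) with rfl | h
      · exact absurd (hmax x hx) (not_le_of_gt hyx)
      · exact h)
    by_cases hin : a ∈ S₁
    · exact ⟨S₁, h1, h2, h3, Finset.insert_subset hin h4, h5⟩
    have haX : a ∈ X := hsub (Finset.mem_insert_self _ _)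
    have haB : a ∉ B := fun h => hin (h3 h)
    have hnot : conjFun a ∉ S₁ := fun h => hin (by simpa [cs_conj_conj] using h2 _ h)
    have hineq : (2 * d a * d χ₁ : ℝ) < ∑ φ ∈ S₁, ((d φ : ℝ) ^ 2 / (n φ : ℝ)) := by
      refine lt_of_lt_of_le (hstep a haX haB) (Finset.sum_le_sum_of_subset_of_nonneg (fun y hy => ?_) fun i _ _ => by positivity)
      rw [Finset.mem_filter] at hy
      rcases Finset.mem_insert.mp (hlow a (Finset.mem_insert_self _ _) y hy.1 hy.2) with rfl | h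
      · exact absurd hy.2 (lt_irrefl _)
      · exact h4 h
    have hnew := extend_coherent hS d n hd hn S₁ (fun x hx => hX (h1 hx)) h2 h5 (hX haX) hin hnot (h3 hχ₁) (hdvd a haX haB) hineq
    refine ⟨insert a (insert (conjFun a) S₁), ?_, ?_, ?_, ?_, ?_⟩
    · exact Finset.insert_subset haX (Finset.insert_subset (hXc a haX) h1)
    · intro φ hφ
      simp only [Finset.mem_insert] at hφ ⊢
      rcases hφ with rfl | rfl | hφ
      · exact Or.inr (Or.inl rfl)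
      · exact Or.inl (cs_conj_conj a)
      · exact Or.inr (Or.inr (h2 _ hφ))
    · exact fun x hx => by simp [h3 hx]
    · intro x hx
      rcases Finset.mem_insert.mp hx with rfl | hx
      · simp
      · simp [h4 hx]
    · convert hnew using 1
      ext x; simp only [Finset.coe_insert, Set.mem_insert_iff, Set.mem_union, Set.mem_singleton_iff, Finset.mem_coe]; tauto

theorem coherent_mono {S T : Set (L → ℂ)} {τ : (L → ℂ) → (G → ℂ)} (hsub : T ⊆ S)
    (hne : ∃ α ∈ zspanOn T {1}ᶜ, α ≠ 0) (h : IsCoherent S {1}ᶜ τ) : IsCoherent T {1}ᶜ τ := by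
  obtain ⟨-, τ₁, hτ₁, hagree⟩ := h
  have hs : zspan T ⊆ zspan S := fun a ha => Submodule.span_mono hsub ha
  exact ⟨hne, τ₁, ⟨fun a ha b hb => hτ₁.1 a (hs ha) b (hs hb), fun a ha k => hτ₁.2.1 a (hs ha) k,
    fun a ha b hb => hτ₁.2.2.1 a (hs ha) b (hs hb), fun a ha => hτ₁.2.2.2 a (hs ha)⟩,
    fun α hα => hagree α ⟨hs hα.1, hα.2⟩⟩

theorem indFun_kernel_iff (K : Subgroup L) [hK : K.Normal] (Z : Subgroup L) [hZ : Z.Normal] (hZK : Z ≤ K) {θ : K → ℂ}
    (hθ : IsCharacter K θ) :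
    (∀ z ∈ Z, indFun K θ z = indFun K θ 1) ↔ ∀ a : K, (a : L) ∈ Z → θ a = θ 1 := by
  classical
  have : Fintype K := Fintype.ofFinite K
  obtain ⟨t, ht⟩ := char_one_eq_natCast hθ
  have hKc : (Nat.card K : ℂ) ≠ 0 := Nat.cast_ne_zero.mpr Nat.card_pos.ne'
  constructor
  · intro h a ha
    have h' := h a ha
    rw [indFun_normal_apply K θ a, indFun_apply_one, inv_mul_eq_iff_eq_mul₀ hKc, ← mul_assoc,
      show (Nat.card K : ℂ) * (K.index : ℂ) = (Nat.card L : ℂ) by rw [← Nat.cast_mul, Subgroup.card_mul_index]] at h'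
    have hre := congrArg Complex.re h'
    rw [Complex.re_sum, ht, ← Nat.cast_mul, Complex.natCast_re] at hre
    have hle : ∀ x : L, (θ ⟨x * a * x⁻¹, hK.conj_mem a a.2 x⟩).re ≤ (t : ℝ) := fun x =>
      (Complex.re_le_norm _).trans ((norm_char_le hθ _).trans (by rw [ht, Complex.norm_natCast]))
    have heq : ∀ x : L, (θ ⟨x * a * x⁻¹, hK.conj_mem a a.2 x⟩).re = (t : ℝ) := by
      have hs : ∑ x : L, (θ ⟨x * a * x⁻¹, hK.conj_mem a a.2 x⟩).re = ∑ _x : L, (t : ℝ) := by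
        rw [hre, Finset.sum_const, Finset.card_univ, ← Nat.card_eq_fintype_card, nsmul_eq_mul]; push_cast; rfl
      exact fun x => (Finset.sum_eq_sum_iff_of_le fun i _ => hle i).mp hs x (Finset.mem_univ x)
    have h1 : (θ a).re = (t : ℝ) := by
      have e : (⟨(1 : L) * a * (1 : L)⁻¹, hK.conj_mem a a.2 1⟩ : K) = a := Subtype.ext (by simp)
      have := heq 1
      rwa [e] at this
    rw [ht]
    refine Complex.ext (by rw [h1, Complex.natCast_re]) ?_
    rw [Complex.natCast_im]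
    have hn2 : ‖θ a‖ ≤ (t : ℝ) := (norm_char_le hθ a).trans (by rw [ht, Complex.norm_natCast])
    have hsq : ‖θ a‖ ^ 2 ≤ (t : ℝ) ^ 2 := pow_le_pow_left₀ (norm_nonneg _) hn2 2
    rw [← Complex.normSq_eq_norm_sq, Complex.normSq_apply, h1] at hsq
    nlinarith
  · intro h z hz
    rw [show z = ((⟨z, hZK hz⟩ : K) : L) from rfl, indFun_normal_apply K θ, indFun_apply_one,
      Finset.sum_congr rfl fun x _ => h ⟨x * z * x⁻¹, hK.conj_mem z (hZK hz) x⟩ (hZ.conj_mem z hz x),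
      Finset.sum_const, Finset.card_univ, ← Nat.card_eq_fintype_card, nsmul_eq_mul, ← Subgroup.card_mul_index K]
    push_cast; field_simp

theorem nontrivial_central_eq (K Z : Subgroup L) [K.Normal] [hZn : Z.Normal] (hZK : Z ≤ K)
    (hirr : ∀ χ ∈ inducedIrrAbove K ⊥ \ inducedIrrAbove K Z, IsIrrCharacter L χ) :
    inducedIrrAbove K ⊥ \ inducedIrrAbove K Z = {χ | IsIrrCharacter L χ ∧ ∃ z ∈ Z, χ z ≠ χ 1} := by
  classical
  have : Fintype K := Fintype.ofFinite K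
  refine Set.Subset.antisymm (fun χ hχ => ⟨hirr χ hχ, ?_⟩) ?_
  · obtain ⟨θ, h1, h2, -, rfl⟩ := hχ.1
    by_contra hno
    push Not at hno
    exact hχ.2 ⟨θ, h1, h2, (indFun_kernel_iff K Z hZK (isCharacter_of_irr h1)).mp hno, rfl⟩
  · rintro χ ⟨hχ, z, hz, hne⟩
    obtain ⟨θ, hθ, hc⟩ := exists_constituent (isCharacter_restrict (isCharacter_of_irr hχ) K)
      (fun e => irr_ne_zero hχ (congrFun e 1))
    have hθZ : ¬ ∀ a : K, (a : L) ∈ Z → θ a = θ 1 := fun h => by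
      have hcl := clifford K hχ hθ hc
      have e1 := congrFun hcl ⟨z, hZK hz⟩
      have e2 := congrFun hcl 1
      simp only [Pi.smul_apply, Finset.sum_apply] at e1 e2
      refine hne ?_
      rw [show χ z = χ ((⟨z, hZK hz⟩ : K) : L) from rfl, e1, show χ 1 = χ ((1 : K) : L) from rfl, e2]
      congr 1
      refine Finset.sum_congr rfl fun ψ hψ => ?_
      obtain ⟨g, rfl⟩ := (mem_conjOrbit K).mp hψ
      rw [conjNormFun_apply_one]
      exact h _ (hZn.conj_mem z hz g)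
    have hθ1 : θ ≠ fun _ => 1 := fun e => hθZ fun a _ => by rw [e]
    have hmem : indFun K θ ∈ inducedIrrAbove K ⊥ :=
      ⟨θ, hθ, hθ1, fun a ha => by rw [show a = 1 from Subtype.ext (Subgroup.mem_bot.mp ha)], rfl⟩
    have hnot : indFun K θ ∉ inducedIrrAbove K Z := by
      rintro ⟨η, hη, hη1, hηZ, e⟩
      exact hθZ ((indFun_kernel_iff K Z hZK (isCharacter_of_irr hθ)).mp
        (e ▸ (indFun_kernel_iff K Z hZK (isCharacter_of_irr hη)).mpr hηZ))
    have hI := hirr _ ⟨hmem, hnot⟩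
    have hEq : χ = indFun K θ := by
      by_contra hne'
      refine hc ?_
      rw [← frobenius_reciprocity' K θ (isClassFunction_irr hχ)]
      exact classInner_irr_ne hχ hI hne'
    rw [hEq]; exact ⟨hmem, hnot⟩

theorem sum_sq_nontrivial_on (Z : Subgroup L) [Z.Normal] (δ : IrrCharacter L → ℕ)
    (hδ : ∀ θ : IrrCharacter L, (θ : L → ℂ) 1 = (δ θ : ℂ))
    [DecidablePred fun θ : IrrCharacter L => ∃ z ∈ Z, (θ : L → ℂ) z ≠ (θ : L → ℂ) 1] :
    (∑ θ ∈ (Finset.univ : Finset (IrrCharacter L)).filter (fun θ : IrrCharacter L => ∃ z ∈ Z, (θ : L → ℂ) z ≠ (θ : L → ℂ) 1), δ θ ^ 2) + Z.index = Nat.card L := by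
  classical
  have : Fintype (L ⧸ Z) := Fintype.ofFinite _
  have h : ((∑ θ ∈ (Finset.univ : Finset (IrrCharacter L)).filter (fun θ : IrrCharacter L => ¬ ∃ z ∈ Z, (θ : L → ℂ) z ≠ (θ : L → ℂ) 1), δ θ ^ 2 : ℕ) : ℂ) = (Z.index : ℂ) := by
    rw [Subgroup.index, ← sum_irr_degree_sq (G := L ⧸ Z)]
    push_cast
    simp only [← hδ]
    rw [Finset.sum_subtype _ (p := fun θ : IrrCharacter L => ∀ n ∈ Z, (θ : L → ℂ) n = (θ : L → ℂ) 1) (fun θ => by simp)]
    exact (Fintype.sum_equiv (quotientIrrEquiv Z) _ _ fun ψ => rfl).symm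
  rw [← Nat.cast_inj.mp h, Finset.sum_filter_add_sum_filter_not]
  have h2 : ((∑ θ : IrrCharacter L, δ θ ^ 2 : ℕ) : ℂ) = (Nat.card L : ℂ) := by
    rw [← sum_irr_degree_sq]; push_cast; simp only [← hδ]
  exact_mod_cast h2

theorem nontrivial_central_nonempty (K Z : Subgroup L) [K.Normal] [Z.Normal] (hZ1 : Z ≠ ⊥) (hZK : Z ≤ K) :
    (inducedIrrAbove K ⊥ \ inducedIrrAbove K Z).Nonempty := by
  classical
  have : Fintype K := Fintype.ofFinite K
  have hlt : Z.relIndex K < Nat.card K := by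
    rw [← Subgroup.card_mul_index (Z.subgroupOf K)]
    refine lt_mul_of_one_lt_left (Nat.pos_of_ne_zero Subgroup.index_ne_zero_of_finite) ?_
    rw [Nat.card_congr (Subgroup.subgroupOfEquivOfLe hZK).toEquiv]
    exact (Subgroup.one_lt_card_iff_ne_bot _).mpr hZ1
  choose δ hδ0 hδ using fun θ : IrrCharacter K => irr_degree_pos θ.2
  have hs := sum_sq_nontrivial_on (L := K) (Z.subgroupOf K) δ hδ
  have hne : ((Finset.univ : Finset (IrrCharacter K)).filter fun θ : IrrCharacter K =>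
      ∃ z ∈ Z.subgroupOf K, (θ : K → ℂ) z ≠ (θ : K → ℂ) 1).Nonempty := by
    by_contra hno
    rw [Finset.not_nonempty_iff_eq_empty] at hno
    rw [hno, Finset.sum_empty, zero_add] at hs
    exact hlt.ne hs
  obtain ⟨θ, hθ⟩ := hne
  obtain ⟨z, hz, hzne⟩ := (Finset.mem_filter.mp hθ).2
  refine ⟨indFun K (θ : K → ℂ), ⟨⟨θ, θ.2, fun e => hzne (by rw [e]), fun b hb => by
    rw [show b = 1 from Subtype.ext (Subgroup.mem_bot.mp hb)], rfl⟩, ?_⟩⟩
  rintro ⟨η, hη, -, hηZ, e⟩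
  exact hzne ((indFun_kernel_iff K Z hZK (isCharacter_of_irr θ.2)).mp
    (e ▸ (indFun_kernel_iff K Z hZK (isCharacter_of_irr hη)).mpr hηZ) z hz)

theorem coherent_nontrivial_central (K : Subgroup L) [K.Normal] {τ : (L → ℂ) → (G → ℂ)}
    {R : (L → ℂ) → Finset (G → ℂ)} (hS : IsCoherenceSystem (inducedIrrAbove K ⊥) τ R) {p a : ℕ} [Fact p.Prime] (hp : 2 < p)
    (hK : Nat.card K = p ^ a) (hcop : K.index.Coprime p) (he : 1 ≤ K.index) (Z : Subgroup L) [Z.Normal] (hZ1 : Z ≠ ⊥)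
    (hZK : Z ≤ K) (hZc : ∀ z ∈ Z, ∀ k ∈ K, z * k = k * z)
    (hirr : ∀ χ ∈ inducedIrrAbove K ⊥ \ inducedIrrAbove K Z, IsIrrCharacter L χ) :
    IsCoherent (inducedIrrAbove K ⊥ \ inducedIrrAbove K Z) {1}ᶜ τ := by
  classical
  have : Fintype K := Fintype.ofFinite K
  have hfin : (inducedIrrAbove K ⊥ \ inducedIrrAbove K Z).Finite := (inducedIrrAbove_finite K ⊥).sdiff
  set X := hfin.toFinset with hXdef
  have hXS : ∀ φ ∈ X, φ ∈ inducedIrrAbove K ⊥ := fun φ h => ((Set.Finite.mem_toFinset _).mp h).1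
  have hXi : ∀ φ ∈ X, IsIrrCharacter L φ := fun φ h => hirr φ ((Set.Finite.mem_toFinset _).mp h)
  choose! d hd using fun φ (hφ : φ ∈ inducedIrrAbove K ⊥) => char_one_eq_natCast (hS.isCharacter φ hφ)
  choose! n hn using fun φ (hφ : φ ∈ inducedIrrAbove K ⊥) => classInner_char_nat (hS.isCharacter φ hφ) (hS.isCharacter φ hφ)
  have hn1 : ∀ φ ∈ X, n φ = 1 := fun φ hφ => by
    have := hn φ (hXS φ hφ)
    rw [classInner_irr_self (hXi φ hφ), eq_comm, Nat.cast_eq_one] at this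
    exact this
  have hdeg : ∀ φ ∈ X, ∃ m, d φ = K.index * p ^ m ∧ 2 * m ≤ a ∧ (p ^ m) ^ 2 ∣ Z.relIndex K := fun φ hφ => by
    obtain ⟨θ, hθ, -, -, e⟩ := hXS φ hφ
    obtain ⟨t, ht0, ht⟩ := irr_degree_pos hθ
    have htd : t ∣ Nat.card K := by
      obtain ⟨r, ρ, hρ, rfl⟩ := id hθ
      have h := degree_dvd_index_center ρ
      rw [ρ.char_one, Nat.cast_inj] at ht
      rw [← ht]
      exact h.trans (Subgroup.index_dvd_card _)
    rw [hK] at htd
    obtain ⟨m, -, rfl⟩ := (Nat.dvd_prime_pow Fact.out).mp htd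
    have hb := irr_degree_sq_le_of_section hθ ht ⊤ (Z.subgroupOf K) le_top (fun x hx y _ => by
      have : x * y * x⁻¹ * y⁻¹ = 1 := Subtype.ext (by
        show (x : L) * y * (x : L)⁻¹ * (y : L)⁻¹ = 1
        rw [hZc x hx y y.2]; group)
      rw [this])
    rw [Subgroup.index_top, one_pow, one_mul, Subgroup.relIndex_top_right] at hb
    have hbd : Z.relIndex K ∣ p ^ a := hK ▸ Subgroup.index_dvd_card _
    obtain ⟨b, hba, hb'⟩ := (Nat.dvd_prime_pow Fact.out).mp hbd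
    rw [show (Z.subgroupOf K).index = Z.relIndex K from rfl, hb', ← pow_mul] at hb
    have hmb := (Nat.pow_le_pow_iff_right (Fact.out : p.Prime).one_lt).mp hb
    refine ⟨m, ?_, by omega, by rw [hb', ← pow_mul]; exact pow_dvd_pow p hmb⟩
    have h := hd φ (hXS φ hφ)
    rw [e, indFun_apply_one, ht] at h
    rw [e]; exact_mod_cast h.symm
  choose! ex hex hexa hexd using hdeg
  have hXne : X.Nonempty := (nontrivial_central_nonempty K Z hZ1 hZK).imp fun x hx => (Set.Finite.mem_toFinset hfin).mpr hx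
  obtain ⟨χ₁, hχ₁, hmin⟩ := X.exists_min_image d hXne
  set B := X.filter fun φ => d φ = d χ₁ with hB
  have hconjd : ∀ φ ∈ inducedIrrAbove K ⊥, d (conjFun φ) = d φ := fun φ hφ => by
    have h : ((d (conjFun φ) : ℕ) : ℂ) = (d φ : ℂ) := by
      rw [← hd _ (inducedIrrAbove_conj K ⊥ hφ)]
      show conj (φ 1) = _
      rw [hd φ hφ, map_natCast]
    exact_mod_cast h
  have hXc : ∀ φ ∈ X, conjFun φ ∈ X := fun φ hφ => by
    rw [hXdef, Set.Finite.mem_toFinset] at hφ ⊢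
    exact ⟨inducedIrrAbove_conj K ⊥ hφ.1, fun h => hφ.2 (by simpa [cs_conj_conj] using inducedIrrAbove_conj K Z h)⟩
  have hBc : ∀ φ ∈ B, conjFun φ ∈ B := fun φ hφ => by
    rw [hB, Finset.mem_filter] at hφ ⊢
    exact ⟨hXc φ hφ.1, (hconjd φ (hXS φ hφ.1)).trans hφ.2⟩
  have hBS : (↑B : Set (L → ℂ)) ⊆ inducedIrrAbove K ⊥ := fun φ hφ => hXS φ (Finset.mem_filter.mp hφ).1
  have hcohB : IsCoherent (↑B : Set (L → ℂ)) {1}ᶜ τ :=
    coherent_of_constant_degree (coherenceSystem_subset hS hBS ⟨χ₁, Finset.mem_filter.mpr ⟨hχ₁, rfl⟩⟩ hBc)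
      (fun φ hφ ψ hψ => by rw [hd φ (hBS hφ), hd ψ (hBS hψ), (Finset.mem_filter.mp hφ).2, (Finset.mem_filter.mp hψ).2])
  have hXeq := nontrivial_central_eq K Z hZK hirr
  choose δ hδ0 hδ using fun θ : IrrCharacter L => irr_degree_pos θ.2
  have htot : (∑ φ ∈ X, d φ ^ 2) + Z.index = Nat.card L := by
    rw [← sum_sq_nontrivial_on Z δ hδ]
    congr 1
    refine (Finset.sum_bij (fun (θ : IrrCharacter L) _ => θ.1) (fun θ hθ => ?_) (fun (θ : IrrCharacter L) _ η _ e => Subtype.ext e) (fun φ hφ => ?_) (fun θ hθ => ?_)).symm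
    · rw [hXdef, Set.Finite.mem_toFinset, hXeq]; exact ⟨θ.2, (Finset.mem_filter.mp hθ).2⟩
    · have h := (Set.Finite.mem_toFinset _).mp hφ
      rw [hXeq] at h
      exact ⟨⟨φ, h.1⟩, Finset.mem_filter.mpr ⟨Finset.mem_univ _, h.2⟩, rfl⟩
    · have hmem : (θ : L → ℂ) ∈ inducedIrrAbove K ⊥ := by
        have : (θ : L → ℂ) ∈ inducedIrrAbove K ⊥ \ inducedIrrAbove K Z := by
          rw [hXeq]; exact ⟨θ.2, (Finset.mem_filter.mp hθ).2⟩
        exact this.1
      have h := hd _ hmem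
      rw [hδ] at h
      rw [Nat.cast_inj.mp h]
  rw [← hfin.coe_toFinset]
  refine coherent_chain hS d n hd hn X hXS hXc B (Finset.filter_subset _ _) hBc hcohB
    (Finset.mem_filter.mpr ⟨hχ₁, rfl⟩) (fun χ hχ hχB => ?_) (fun χ hχ hχB => ?_)
  · rw [hex χ hχ, hex χ₁ hχ₁]
    refine Nat.mul_dvd_mul_left _ (pow_dvd_pow p ?_)
    have h := hmin χ hχ
    rw [hex χ hχ, hex χ₁ hχ₁] at h
    exact (Nat.pow_le_pow_iff_right (Fact.out : p.Prime).one_lt).mp (Nat.le_of_mul_le_mul_left h he)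
  · have hlt : d χ₁ < d χ := lt_of_le_of_ne (hmin χ hχ) fun h => hχB (Finset.mem_filter.mpr ⟨hχ, h.symm⟩)
    set m := ex χ
    set m₁ := ex χ₁
    have hdiv : K.index ^ 2 * (p ^ m) ^ 2 ∣ ∑ φ ∈ X with d φ < d χ, d φ ^ 2 := by
      have h1 : K.index ^ 2 ∣ ∑ φ ∈ X with d φ < d χ, d φ ^ 2 := Finset.dvd_sum fun φ hφ => by
        rw [hex φ (Finset.mem_filter.mp hφ).1, mul_pow]; exact dvd_mul_right _ _
      have h2 : (p ^ m) ^ 2 ∣ ∑ φ ∈ X with d φ < d χ, d φ ^ 2 := by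
        have hb : (p ^ m) ^ 2 ∣ ∑ φ ∈ X with ¬ d φ < d χ, d φ ^ 2 := Finset.dvd_sum fun φ hφ => by
          obtain ⟨hφX, hφd⟩ := Finset.mem_filter.mp hφ
          rw [hex φ hφX, hex χ hχ, not_lt] at hφd
          have hmm := (Nat.pow_le_pow_iff_right (Fact.out : p.Prime).one_lt).mp (Nat.le_of_mul_le_mul_left hφd he)
          rw [hex φ hφX, mul_pow, ← pow_mul p, ← pow_mul p]
          exact (pow_dvd_pow p (Nat.mul_le_mul_right 2 hmm)).mul_left _
        have hZ : (p ^ m) ^ 2 ∣ Z.index := by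
          rw [← Subgroup.relIndex_mul_index hZK]; exact (hexd χ hχ).mul_right _
        have hL : (p ^ m) ^ 2 ∣ Nat.card L := by
          rw [← Subgroup.card_mul_index K, hK, ← pow_mul]
          exact (pow_dvd_pow p (by have := hexa χ hχ; omega)).mul_right _
        have hall : (p ^ m) ^ 2 ∣ ∑ φ ∈ X, d φ ^ 2 := by
          rw [← htot] at hL; exact (Nat.dvd_add_left hZ).mp hL
        rw [← Finset.sum_filter_add_sum_filter_not X (fun φ => d φ < d χ)] at hall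
        exact (Nat.dvd_add_left hb).mp hall
      exact Nat.Coprime.mul_dvd_of_dvd_of_dvd ((hcop.pow_right m).pow 2 2) h1 h2
    have hpos : 0 < ∑ φ ∈ X with d φ < d χ, d φ ^ 2 :=
      lt_of_lt_of_le (pow_pos (by rw [hex χ₁ hχ₁]; exact Nat.mul_pos he (pow_pos (Fact.out : p.Prime).pos _)) 2)
        (Finset.single_le_sum (fun φ _ => Nat.zero_le (d φ ^ 2)) (Finset.mem_filter.mpr ⟨hχ₁, hlt⟩))
    have hge := Nat.le_of_dvd hpos hdiv
    have hsumR : (∑ φ ∈ X with d φ < d χ, ((d φ : ℝ) ^ 2 / (n φ : ℝ))) = ((∑ φ ∈ X with d φ < d χ, d φ ^ 2 : ℕ) : ℝ) := by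
      push_cast
      exact Finset.sum_congr rfl fun φ hφ => by rw [hn1 φ (Finset.mem_filter.mp hφ).1]; norm_num
    rw [hsumR, show (2 : ℝ) * d χ * d χ₁ = ((2 * d χ * d χ₁ : ℕ) : ℝ) by push_cast; ring]
    refine Nat.cast_lt.mpr (lt_of_lt_of_le ?_ hge)
    rw [hex χ hχ, hex χ₁ hχ₁] at hlt ⊢
    have hmm : m₁ < m := (Nat.pow_lt_pow_iff_right (Fact.out : p.Prime).one_lt).mp (Nat.lt_of_mul_lt_mul_left hlt)
    have h3 : 2 * p ^ m₁ < p ^ m := by
      calc 2 * p ^ m₁ < p * p ^ m₁ := Nat.mul_lt_mul_of_pos_right hp (pow_pos (Fact.out : p.Prime).pos _)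
        _ = p ^ (m₁ + 1) := by ring
        _ ≤ p ^ m := Nat.pow_le_pow_right (Fact.out : p.Prime).pos hmm
    calc 2 * (K.index * p ^ m) * (K.index * p ^ m₁) = K.index ^ 2 * p ^ m * (2 * p ^ m₁) := by ring
      _ < K.index ^ 2 * p ^ m * p ^ m := Nat.mul_lt_mul_of_pos_left h3 (Nat.mul_pos (pow_pos he 2) (pow_pos (Fact.out : p.Prime).pos _))
      _ = _ := by ring

end CfsgLib.CharTheory
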