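/-
The coherence system of a trivial intersection kernel.
-/
import Cfsg.Agent.Lib.CharTheory.CoherenceChain
import Cfsg.Agent.Lib.CharTheory.TI
import Cfsg.Agent.S0161

set_option autoImplicit false

namespace CfsgLib.CharTheory

open Cfsg
open scoped ComplexConjugate

universe u

variable {G : Type u} [Group G] [Fintype G] (L : Subgroup G) [Fintype L] (K : Subgroup L) [K.Normal]

theorem induced_irr_of_centralizer (hC : ∀ k ∈ K, k ≠ 1 → Subgroup.centralizer ({k} : Set L) ≤ K)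
    {χ : L → ℂ} (hχ : χ ∈ inducedIrrAbove K ⊥) : IsIrrCharacter L χ := by
  have : Fintype K := Fintype.ofFinite K
  obtain ⟨θ, h1, h2, -, rfl⟩ := hχ
  exact isIrrCharacter_indFun_of_inertia_eq K h1 (inertia_eq_of_centralizer_le K hC h1 h2)

theorem induced_conj_ne (hodd : Odd (Nat.card L)) (hKL : K < ⊤)
    (hC : ∀ k ∈ K, k ≠ 1 → Subgroup.centralizer ({k} : Set L) ≤ K) {χ : L → ℂ} (hχ : χ ∈ inducedIrrAbove K ⊥) :
    conjFun χ ≠ χ := by
  intro h
  have hirr := induced_irr_of_centralizer L K hC hχ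
  have h1 := Cfsg.Agent.S0161.result hodd ⟨χ, hirr⟩ (fun g => Complex.conj_eq_iff_im.mp (congrFun h g))
  obtain ⟨x, -, hx⟩ := SetLike.exists_of_lt hKL
  obtain ⟨θ, -, -, -, rfl⟩ := hχ
  have := congrFun h1 x
  simp only [indFun_normal_apply_not_mem K θ hx] at this
  exact zero_ne_one this

theorem span_induced_props {f : L → ℂ} (hf : f ∈ zspan (inducedIrrAbove K ⊥)) :
    IsGeneralizedCharacter L f ∧ ∀ x : L, x ∉ K → f x = 0 := by
  induction hf using Submodule.span_induction with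
  | mem y hy =>
    obtain ⟨θ, h1, -, -, rfl⟩ := hy
    exact ⟨isGenChar_of_char (isCharacter_indFun K (isCharacter_of_irr h1)), fun x hx => indFun_normal_apply_not_mem K θ hx⟩
  | zero => exact ⟨isGenChar_zero, fun x _ => rfl⟩
  | add a b _ _ ha hb => exact ⟨isGenChar_add ha.1 hb.1, fun x hx => by rw [Pi.add_apply, ha.2 x hx, hb.2 x hx, add_zero]⟩
  | smul k a _ ha =>
    refine ⟨?_, fun x hx => by rw [Pi.smul_apply, ha.2 x hx, smul_zero]⟩
    have := isGenChar_intSmul k ha.1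
    simpa [Int.cast_smul_eq_zsmul] using this

theorem induced_isometry {T : Set G} (hT : T = Subtype.val '' (K : Set L)) (hTI : ∀ g : G, g ∉ L → ∀ t ∈ T, g * t * g⁻¹ ∈ T → t = 1) :
    IsLinearIsometryOn (zspanOn (inducedIrrAbove K ⊥) {1}ᶜ) (fun α : L → ℂ => indFun L α) ∧
      ∀ α ∈ zspanOn (inducedIrrAbove K ⊥) {1}ᶜ, indFun L α 1 = 0 := by
  have hprop : ∀ α ∈ zspanOn (inducedIrrAbove K ⊥) {1}ᶜ,
      IsGeneralizedCharacter L α ∧ (∀ x : L, (x : G) ∉ T → α x = 0) ∧ α 1 = 0 := fun α hα => by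
    obtain ⟨h1, h2⟩ := span_induced_props L K hα.1
    exact ⟨h1, fun x hx => h2 x fun hxK => hx (hT ▸ ⟨x, hxK, rfl⟩), hα.2 1 (by simp)⟩
  refine ⟨⟨fun α _ β _ => indFun_add L α β, fun α _ k => ?_, fun α hα β hβ => ?_, fun α hα => isGenChar_indFun L (hprop α hα).1⟩,
    fun α hα => by rw [indFun_apply_one, (hprop α hα).2.2, mul_zero]⟩
  · show indFun L (k • α) = k • indFun L α
    rw [← Int.cast_smul_eq_zsmul ℂ, ← Int.cast_smul_eq_zsmul ℂ, indFun_smul]
  · exact classInner_indFun_of_TI L T hTI (isGenChar_iff_coeff_int.mp (hprop β hβ).1).1 (hprop α hα).2.1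
      (hprop β hβ).2.1 (hprop β hβ).2.2

theorem exists_system_ti_kernel (hodd : Odd (Nat.card L)) (hK1 : K ≠ ⊥) (hKL : K < ⊤)
    (hC : ∀ k ∈ K, k ≠ 1 → Subgroup.centralizer ({k} : Set L) ≤ K) {T : Set G} (hT : T = Subtype.val '' (K : Set L))
    (hTI : ∀ g : G, g ∉ L → ∀ t ∈ T, g * t * g⁻¹ ∈ T → t = 1) :
    ∃ R, IsCoherenceSystem (inducedIrrAbove K ⊥) (fun α : L → ℂ => indFun L α) R := by
  obtain ⟨h1, h2⟩ := induced_isometry L K hT hTI
  exact exists_coherenceSystem _ ((nontrivial_central_nonempty K K hK1 le_rfl).mono Set.diff_subset)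
    (fun χ hχ => induced_irr_of_centralizer L K hC hχ)
    (fun χ hχ => ⟨inducedIrrAbove_conj K ⊥ hχ, induced_conj_ne L K hodd hKL hC hχ⟩) _ h1 h2

end CfsgLib.CharTheory
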