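/-
Sibley's coherence theorem for a trivial intersection kernel of prime power order.
-/
import Cfsg.Agent.Lib.CharTheory.TIKernel
import Cfsg.Agent.Lib.CharTheory.CoherenceUnion
import Cfsg.Agent.Lib.Elementary
import Cfsg.Agent.S1523

set_option autoImplicit false

namespace CfsgLib.CharTheory

open Cfsg
open scoped ComplexConjugate commutatorElement

universe u v

section General

variable {L : Type u} [Group L] [Fintype L] {G : Type v} [Group G] [Fintype G]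

open Classical in
theorem coherent_extend_all {S : Set (L → ℂ)} {τ : (L → ℂ) → (G → ℂ)} {R : (L → ℂ) → Finset (G → ℂ)}
    (hS : IsCoherenceSystem S τ R) (d n : (L → ℂ) → ℕ) (hd : ∀ φ ∈ S, φ 1 = (d φ : ℂ))
    (hn : ∀ φ ∈ S, classInner φ φ = (n φ : ℂ)) (T : Finset (L → ℂ)) (hT : ↑T = S)
    (B : Finset (L → ℂ)) (hB : ↑B ⊆ S) (hBc : ∀ φ ∈ B, conjFun φ ∈ B)
    (hcoh : IsCoherent (↑B : Set (L → ℂ)) {1}ᶜ τ) {χ₁ : L → ℂ} (hχ₁ : χ₁ ∈ B)
    (hdvd : ∀ χ ∈ S, χ ∉ B → d χ₁ ∣ d χ)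
    (hstep : ∀ χ ∈ S, χ ∉ B → (2 * d χ * d χ₁ : ℝ) < ∑ φ ∈ B, ((d φ : ℝ) ^ 2 / (n φ : ℝ))) :
    IsCoherent S {1}ᶜ τ := by
  suffices main : ∀ U : Finset (L → ℂ), ↑U ⊆ S → ∃ S₁ : Finset (L → ℂ), ↑S₁ ⊆ S ∧ (∀ φ ∈ S₁, conjFun φ ∈ S₁) ∧
      B ⊆ S₁ ∧ U ⊆ S₁ ∧ IsCoherent (↑S₁ : Set (L → ℂ)) {1}ᶜ τ by
    obtain ⟨S₁, h1, -, -, h4, h5⟩ := main T hT.le
    rwa [Set.Subset.antisymm h1 (hT ▸ Finset.coe_subset.mpr h4)] at h5
  intro U
  induction U using Finset.induction_on with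
  | empty => exact fun _ => ⟨B, hB, hBc, subset_rfl, Finset.empty_subset _, hcoh⟩
  | insert a s has ih =>
    intro hsub
    obtain ⟨S₁, h1, h2, h3, h4, h5⟩ := ih (fun x hx => hsub (by simp [show x ∈ s from hx]))
    by_cases hin : a ∈ S₁
    · exact ⟨S₁, h1, h2, h3, Finset.insert_subset hin h4, h5⟩
    have haS : a ∈ S := hsub (by simp)
    have haB : a ∉ B := fun h => hin (h3 h)
    have hnot : conjFun a ∉ S₁ := fun h => hin (by simpa [cs_conj_conj] using h2 _ h)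
    have hnew := extend_coherent hS d n hd hn S₁ h1 h2 h5 haS hin hnot (h3 hχ₁) (hdvd a haS haB)
      ((hstep a haS haB).trans_le (Finset.sum_le_sum_of_subset_of_nonneg h3 fun i _ _ => by positivity))
    refine ⟨insert a (insert (conjFun a) S₁), ?_, ?_, ?_, ?_, ?_⟩
    · intro x hx
      simp only [Finset.coe_insert, Set.mem_insert_iff] at hx
      rcases hx with rfl | rfl | hx
      · exact haS
      · exact hS.conj_mem _ haS
      · exact h1 hx
    · intro φ hφ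
      simp only [Finset.mem_insert] at hφ ⊢
      rcases hφ with rfl | rfl | hφ
      · exact Or.inr (Or.inl rfl)
      · exact Or.inl (cs_conj_conj a)
      · exact Or.inr (Or.inr (h2 _ hφ))
    · exact fun x hx => by simp [h3 hx]
    · intro x hx
      rcases Finset.mem_insert.mp hx with rfl | hx
      · simp
      · simp [h4 hx]
    · convert hnew using 1
      ext x; simp only [Finset.coe_insert, Set.mem_insert_iff, Set.mem_union, Set.mem_singleton_iff, Finset.mem_coe]; tauto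

/-- A coherent extension on a pair of conjugate characters may be reflected. -/
theorem swap_extension {χ : L → ℂ} (hχ : IsIrrCharacter L χ) (hne : conjFun χ ≠ χ) {τ τ₁ : (L → ℂ) → (G → ℂ)}
    (hτ₁ : IsLinearIsometryOn (zspan {χ, conjFun χ}) τ₁)
    (hagree : ∀ α ∈ zspanOn ({χ, conjFun χ} : Set (L → ℂ)) {1}ᶜ, τ₁ α = τ α) :
    ∃ τ₂ : (L → ℂ) → (G → ℂ), IsLinearIsometryOn (zspan {χ, conjFun χ}) τ₂ ∧
      (∀ α ∈ zspanOn ({χ, conjFun χ} : Set (L → ℂ)) {1}ᶜ, τ₂ α = τ α) ∧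
      τ₂ χ = -τ₁ (conjFun χ) ∧ τ₂ (conjFun χ) = -τ₁ χ := by
  set P : Set (L → ℂ) := {χ, conjFun χ} with hP
  have hm1 : χ ∈ zspan P := Submodule.subset_span (Set.mem_insert _ _)
  have hm2 : conjFun χ ∈ zspan P := Submodule.subset_span (Set.mem_insert_of_mem _ rfl)
  have hspan : ∀ α ∈ zspan P, ∃ k l : ℤ, α = k • χ + l • conjFun χ := fun α hα => by
    obtain ⟨k, l, hkl⟩ := Submodule.mem_span_pair.mp hα; exact ⟨k, l, hkl.symm⟩
  have hc : ∀ k l : ℤ, conjFun (k • χ + l • conjFun χ) = k • conjFun χ + l • χ := fun k l => by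
    funext x; simp [conjFun, zsmul_eq_mul]
  have hcc : ∀ α ∈ zspan P, conjFun α ∈ zspan P := fun α hα => by
    obtain ⟨k, l, rfl⟩ := hspan α hα
    rw [hc]; exact Submodule.add_mem _ (Submodule.smul_mem _ _ hm2) (Submodule.smul_mem _ _ hm1)
  refine ⟨fun θ => -τ₁ (conjFun θ), ⟨fun a ha b hb => ?_, fun a ha k => ?_, fun a ha b hb => ?_, fun a ha => ?_⟩, fun α hα => ?_, rfl, ?_⟩
  · show -τ₁ (conjFun (a + b)) = _
    rw [show conjFun (a + b) = conjFun a + conjFun b by funext x; simp [conjFun], hτ₁.1 _ (hcc a ha) _ (hcc b hb), neg_add]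
  · show -τ₁ (conjFun (k • a)) = _
    rw [show conjFun (k • a) = k • conjFun a by funext x; simp [conjFun, zsmul_eq_mul], hτ₁.2.1 _ (hcc a ha), smul_neg]
  · show classInner (-τ₁ (conjFun a)) (-τ₁ (conjFun b)) = _
    rw [classInner_neg_left, classInner_neg_right, neg_neg, hτ₁.2.2.1 _ (hcc a ha) _ (hcc b hb)]
    obtain ⟨k, l, rfl⟩ := hspan a ha
    obtain ⟨k', l', rfl⟩ := hspan b hb
    have hχc : IsIrrCharacter L (conjFun χ) := isIrrCharacter_conjChar hχ
    rw [hc, hc]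
    simp only [← Int.cast_smul_eq_zsmul ℂ, classInner_add_left, classInner_add_right, classInner_smul_left, classInner_smul_right,
      map_intCast, classInner_irr_self hχ, classInner_irr_self hχc, classInner_irr_ne hχ hχc (Ne.symm hne), classInner_irr_ne hχc hχ hne]
    all_goals ring
  · exact isGenChar_neg (hτ₁.2.2.2 _ (hcc a ha))
  · obtain ⟨hs, h1⟩ := hα
    obtain ⟨k, l, rfl⟩ := hspan α hs
    obtain ⟨d, hd0, hd⟩ := irr_degree_pos hχ
    have hkl : k + l = 0 := by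
      have h := h1 1 (by simp)
      simp only [Pi.add_apply, Pi.smul_apply, Pi.mul_apply, Pi.intCast_apply, conjFun, zsmul_eq_mul, hd, map_natCast] at h
      have h' : (((k + l) * d : ℤ) : ℂ) = ((0 : ℤ) : ℂ) := by push_cast; linear_combination h
      exact (mul_eq_zero.mp (Int.cast_inj.mp h')).resolve_right (by exact_mod_cast hd0.ne')
    have hl : l = -k := by omega
    subst hl
    show -τ₁ (conjFun _) = _
    rw [hc, ← hagree _ ⟨hs, h1⟩, hτ₁.1 _ (Submodule.smul_mem _ _ hm2) _ (Submodule.smul_mem _ _ hm1), hτ₁.2.1 _ hm2, hτ₁.2.1 _ hm1,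
      hτ₁.1 _ (Submodule.smul_mem _ _ hm1) _ (Submodule.smul_mem _ _ hm2), hτ₁.2.1 _ hm2, hτ₁.2.1 _ hm1]
    simp only [neg_smul]; try abel
  · show -τ₁ (conjFun (conjFun χ)) = _; rw [cs_conj_conj]

end General

theorem index_dvd_card_sub_one' {Q : Type u} [Group Q] [Finite Q] (Kb : Subgroup Q) (N : Subgroup Q) [hNn : N.Normal]
    (hcent : ∀ k ∈ N, k ≠ 1 → ∀ x : Q, x * k = k * x ↔ x ∈ Kb) : Kb.index ∣ Nat.card N - 1 := by
  classical
  have : Fintype Q := Fintype.ofFinite Q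
  let S := {q : Q // q ∈ N ∧ q ≠ 1}
  letI act : MulAction Q S :=
    { smul := fun x s => ⟨x * s.1 * x⁻¹, hNn.conj_mem _ s.2.1 x, fun h => s.2.2 (by simpa using h)⟩
      one_smul := fun s => Subtype.ext (by show (1 : Q) * s.1 * 1⁻¹ = s.1; simp)
      mul_smul := fun x y s => Subtype.ext (by show x * y * s.1 * (x * y)⁻¹ = x * (y * s.1 * y⁻¹) * x⁻¹; group) }
  have hst : ∀ s : S, MulAction.stabilizer Q s = Kb := fun s => by
    ext x
    rw [MulAction.mem_stabilizer_iff, ← hcent s.1 s.2.1 s.2.2 x, ← mul_inv_eq_iff_eq_mul]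
    exact Subtype.ext_iff
  have : Fintype (Quotient (MulAction.orbitRel Q S)) := Fintype.ofFinite _
  have h1 : Nat.card N - 1 = Nat.card S := by
    have e : Nat.card S = Nat.card {n : N // n ≠ 1} :=
      Nat.card_congr ⟨fun s => ⟨⟨s.1, s.2.1⟩, fun h => s.2.2 (congrArg Subtype.val h)⟩,
        fun n => ⟨n.1.1, n.1.2, fun h => n.2 (Subtype.ext h)⟩, fun s => rfl, fun n => rfl⟩
    have : Fintype N := Fintype.ofFinite N
    rw [e, Nat.card_eq_fintype_card, Nat.card_eq_fintype_card, Fintype.card_subtype_compl, Fintype.card_subtype_eq]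
  rw [h1, Nat.card_congr (MulAction.selfEquivSigmaOrbits Q S), Nat.card_sigma]
  refine Finset.dvd_sum fun o _ => dvd_of_eq ?_
  rw [← hst (Quotient.out o), MulAction.index_stabilizer]
  exact (Nat.card_coe_set_eq _).symm

theorem sum_degree_nontrivial_apply {L : Type u} [Group L] [Fintype L] (Z : Subgroup L) [Z.Normal] {z : L} (hz : z ∈ Z) (hz1 : z ≠ 1)
    [DecidablePred fun θ : IrrCharacter L => ∃ z ∈ Z, (θ : L → ℂ) z ≠ (θ : L → ℂ) 1] :
    ∑ θ ∈ (Finset.univ : Finset (IrrCharacter L)).filter (fun θ : IrrCharacter L => ∃ z ∈ Z, (θ : L → ℂ) z ≠ (θ : L → ℂ) 1),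
      (θ : L → ℂ) z * (θ : L → ℂ) 1 = -(Z.index : ℂ) := by
  classical
  have : Fintype (L ⧸ Z) := Fintype.ofFinite _
  have h : ∑ θ ∈ (Finset.univ : Finset (IrrCharacter L)).filter (fun θ : IrrCharacter L => ¬ ∃ z ∈ Z, (θ : L → ℂ) z ≠ (θ : L → ℂ) 1),
      (θ : L → ℂ) z * (θ : L → ℂ) 1 = (Z.index : ℂ) := by
    rw [Subgroup.index, ← sum_irr_degree_sq (G := L ⧸ Z), Finset.sum_congr rfl fun (θ : IrrCharacter L) hθ => show (θ : L → ℂ) z * (θ : L → ℂ) 1 = (θ : L → ℂ) 1 ^ 2 by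
      have := (Finset.mem_filter.mp hθ).2
      push Not at this
      rw [this z hz, sq]]
    rw [Finset.sum_subtype _ (p := fun θ : IrrCharacter L => ∀ n ∈ Z, (θ : L → ℂ) n = (θ : L → ℂ) 1) (fun θ => by simp)]
    exact (Fintype.sum_equiv (quotientIrrEquiv Z) _ _ fun ψ => rfl).symm
  have h2 := sum_irr_apply_mul_degree (G := L) z
  rw [if_neg hz1, ← Finset.sum_filter_add_sum_filter_not Finset.univ (fun θ : IrrCharacter L => ∃ z ∈ Z, (θ : L → ℂ) z ≠ (θ : L → ℂ) 1), h] at h2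
  linear_combination h2

theorem sibley_p_group {G : Type u} [Group G] [Fintype G] {p : ℕ} [hpf : Fact p.Prime] (hp : 2 < p) (P : Sylow p G)
    (L : Subgroup G) [Fintype L] (hLN : Subgroup.normalizer ((P : Subgroup G) : Set G) = L)
    (hodd : Odd (Nat.card L)) (hKL : (P : Subgroup G).subgroupOf L < ⊤)
    (hna : ¬ IsMulCommutative (P : Subgroup G)) (hTI : IsTISubset ((P : Subgroup G) : Set G))
    (hC : ∀ k ∈ (P : Subgroup G).subgroupOf L, k ≠ 1 → Subgroup.centralizer ({k} : Set L) ≤ (P : Subgroup G).subgroupOf L) :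
    IsCoherent (inducedIrrAbove ((P : Subgroup G).subgroupOf L) ⊥) {1}ᶜ (fun α : L → ℂ => indFun L α) := by
  classical
  set K := (P : Subgroup G).subgroupOf L with hKdef
  have hPL : (P : Subgroup G) ≤ L := hLN ▸ Subgroup.le_normalizer
  have hKn : K.Normal := by
    subst hLN
    exact Subgroup.normal_in_normalizer
  have : Fintype K := Fintype.ofFinite K
  let eK := Subgroup.subgroupOfEquivOfLe hPL
  obtain ⟨a, ha⟩ := IsPGroup.iff_card.mp P.isPGroup'
  have hKcard : Nat.card K = p ^ a := (Nat.card_congr eK.toEquiv).trans ha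
  have hKpg : IsPGroup p K := IsPGroup.iff_card.mpr ⟨a, hKcard⟩
  have hKnil : Group.IsNilpotent K := hKpg.isNilpotent
  have hsolv : Group.IsSolvable K := inferInstance
  have hnab : ∃ x ∈ K, ∃ y ∈ K, x * y ≠ y * x := by
    by_contra hno
    push Not at hno
    exact hna ⟨⟨fun x y => Subtype.ext (congrArg (fun q : L => (q : G)) (hno ⟨x, hPL x.2⟩ x.2 ⟨y, hPL y.2⟩ y.2))⟩⟩
  have hK1 : K ≠ ⊥ := fun h => by
    obtain ⟨x, hx, y, -, hne⟩ := hnab
    rw [h, Subgroup.mem_bot] at hx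
    exact hne (by rw [hx]; simp)
  have hT : ((P : Subgroup G) : Set G) = Subtype.val '' (K : Set L) := by
    ext x; exact ⟨fun h => ⟨⟨x, hPL h⟩, h, rfl⟩, fun ⟨y, hy, e⟩ => e ▸ hy⟩
  obtain ⟨R, hR⟩ := exists_system_ti_kernel L K hodd hK1 hKL hC hT (fun g hg => hTI g (hLN ▸ hg))
  set S := inducedIrrAbove K ⊥ with hS
  have hSirr : ∀ χ ∈ S, IsIrrCharacter L χ := fun χ hχ => induced_irr_of_centralizer L K hC hχ
  -- the central subgroup
  let Z0 : Subgroup K := commutator K ⊓ Subgroup.center K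
  set Z : Subgroup L := Z0.map K.subtype with hZdef
  have hZK : Z ≤ K := Subgroup.map_subtype_le _
  have hderK : ⁅K, K⁆ ≤ K := Subgroup.commutator_le_left K K
  have hZder : Z ≤ ⁅K, K⁆ := by
    refine (Subgroup.map_mono inf_le_left).trans ?_
    rw [commutator_def, Subgroup.map_commutator, ← MonoidHom.range_eq_map, Subgroup.range_subtype]
  have hZc : ∀ z ∈ Z, ∀ k ∈ K, z * k = k * z := by
    rintro _ ⟨z, hz, rfl⟩ k hk
    exact congrArg Subtype.val (Subgroup.mem_center_iff.mp hz.2 ⟨k, hk⟩).symm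
  have hZn : Z.Normal := ⟨by
    rintro _ ⟨z, hz, rfl⟩ x
    refine ⟨MulAut.conjNormal x z, ?_, by simp [MulAut.conjNormal_apply]⟩
    have hch : Z0.Characteristic := inferInstance
    have := hch.fixed (MulAut.conjNormal x : MulAut K)
    rw [← this] at hz
    exact hz⟩
  have hZ1 : Z ≠ ⊥ := by
    rw [hZdef, Ne, ← Subgroup.map_bot K.subtype]
    refine (Subgroup.map_injective K.subtype_injective).ne ?_
    refine CfsgLib.inf_center_ne_bot_of_nilpotent (N := commutator K) ?_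
    intro h
    obtain ⟨x, hx, y, hy, hne⟩ := hnab
    have h' : ⁅(⟨x, hx⟩ : K), ⟨y, hy⟩⁆ ∈ commutator K := by
      rw [commutator_def]; exact Subgroup.commutator_mem_commutator (Subgroup.mem_top _) (Subgroup.mem_top _)
    rw [h, Subgroup.mem_bot, commutatorElement_eq_one_iff_commute] at h'
    exact hne (congrArg Subtype.val h'.eq)
  have hH1K : ⁅K, K⁆ < K := by
    refine lt_of_le_of_ne hderK fun h => ?_
    have : Nontrivial K := (Subgroup.nontrivial_iff_ne_bot K).mpr hK1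
    refine (IsSolvable.commutator_lt_top_of_nontrivial K).ne (Subgroup.map_injective K.subtype_injective ?_)
    rw [commutator_def, Subgroup.map_commutator, ← MonoidHom.range_eq_map, Subgroup.range_subtype, h]
  -- arithmetic of `e`
  have he0 : 1 ≤ K.index := Nat.one_le_iff_ne_zero.mpr Subgroup.index_ne_zero_of_finite
  have hcopidx : K.index.Coprime p := by
    refine Nat.Coprime.symm (hpf.out.coprime_iff_not_dvd.mpr fun h => ?_)
    have h2 : K.index ∣ (P : Subgroup G).index := Subgroup.relIndex_dvd_index_of_le hPL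
    exact P.not_dvd_index (h.trans h2)
  have hcZ1 : 2 * K.index + 1 ≤ Nat.card Z := by
    have h1 : K.index ∣ Nat.card Z - 1 := index_dvd_card_sub_one' K Z fun k hk hk1 x =>
      ⟨fun h => hC k (hZK hk) hk1 (Subgroup.mem_centralizer_singleton_iff.mpr h), fun hx => (hZc k hk x hx).symm⟩
    have h2 : 2 ≤ Nat.card Z := (Subgroup.one_lt_card_iff_ne_bot _).mpr hZ1
    obtain ⟨t, ht⟩ := h1
    have o1 := Nat.odd_iff.mp (hodd.of_dvd_nat Z.card_subgroup_dvd_card)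
    have o2 := Nat.odd_iff.mp (hodd.of_dvd_nat K.index_dvd_card)
    have ht0 : t ≠ 0 := fun e => by rw [e, mul_zero] at ht; omega
    have ht1 : t ≠ 1 := fun e => by rw [e, mul_one] at ht; omega
    have : K.index * 2 ≤ K.index * t := Nat.mul_le_mul_left _ (by omega)
    omega
  -- the two coherent sets
  set X := inducedIrrAbove K ⊥ \ inducedIrrAbove K Z with hXdef
  set Y := inducedIrrAbove K ⁅K, K⁆ with hYdef
  have hirrX : ∀ χ ∈ inducedIrrAbove K ⊥ \ inducedIrrAbove K Z, IsIrrCharacter L χ := fun χ hχ => hSirr χ hχ.1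
  have hXeq := nontrivial_central_eq K Z hZK hirrX
  obtain ⟨-, σ, hσ, hσα⟩ := coherent_nontrivial_central K hR hp hKcard hcopidx he0 Z hZ1 hZK hZc hirrX
  obtain ⟨-, τ₁, hτ₁, hτα⟩ := coherent_above_derived K hsolv hR ⁅K, K⁆ le_rfl hH1K
  have hXS : X ⊆ S := Set.diff_subset
  have hYS : Y ⊆ S := inducedIrrAbove_subset K _
  have hYZ : Y ⊆ inducedIrrAbove K Z := fun φ ⟨θ, h1, h2, h3, h4⟩ => ⟨θ, h1, h2, fun b hb => h3 b (hZder hb), h4⟩
  have hdisj : Disjoint X Y := Set.disjoint_left.mpr fun φ hX hY => hX.2 (hYZ hY)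
  have hXc : ∀ φ ∈ X, conjFun φ ∈ X := fun φ hφ => ⟨inducedIrrAbove_conj K ⊥ hφ.1,
    fun h => hφ.2 (by simpa [cs_conj_conj] using inducedIrrAbove_conj K Z h)⟩
  have hXne : X.Nonempty := nontrivial_central_nonempty K Z hZ1 hZK
  choose! d hd using fun φ (hφ : φ ∈ S) => char_one_eq_natCast (hR.isCharacter φ hφ)
  have hdeg : ∀ φ ∈ S, ∃ t : ℕ, d φ = K.index * t ∧ 0 < t ∧ t ∣ Nat.card K ∧ (φ ∈ inducedIrrAbove K Z → t ^ 2 ≤ Z.relIndex K) ∧ (φ ∉ Y → t ≠ 1) := by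
    intro φ hφ
    obtain ⟨θ, hθ, hθ1, -, e⟩ := id hφ
    obtain ⟨t, ht0, ht⟩ := irr_degree_pos hθ
    refine ⟨t, ?_, ht0, ?_, fun _ => ?_, fun hY ht1 => hY ?_⟩
    · have h := hd φ hφ
      rw [e, indFun_apply_one, ht] at h
      rw [e]; exact_mod_cast h.symm
    · obtain ⟨r, ρ, hρ, rfl⟩ := id hθ
      have h := degree_dvd_index_center ρ
      rw [ρ.char_one, Nat.cast_inj] at ht
      rw [← ht]
      exact h.trans (Subgroup.index_dvd_card _)
    · have hb := irr_degree_sq_le_of_section hθ ht ⊤ (Z.subgroupOf K) le_top (fun x hx y _ => by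
        have : x * y * x⁻¹ * y⁻¹ = 1 := Subtype.ext (by
          show (x : L) * y * (x : L)⁻¹ * (y : L)⁻¹ = 1
          rw [hZc x hx y y.2]; group)
        rw [this])
      rwa [Subgroup.index_top, one_pow, one_mul, Subgroup.relIndex_top_right] at hb
    · obtain ⟨f, hf⟩ := exists_hom_of_degree_one (isCharacter_of_irr hθ) (by rw [ht, ht1, Nat.cast_one])
      refine ⟨θ, hθ, hθ1, fun b hb => ?_, e⟩
      have hker : ⁅K, K⁆ ≤ f.ker.map K.subtype := by
        refine Subgroup.commutator_le.mpr fun x hx y hy => ⟨⁅(⟨x, hx⟩ : K), ⟨y, hy⟩⁆, ?_, rfl⟩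
        rw [SetLike.mem_coe, MonoidHom.mem_ker, map_commutatorElement, commutatorElement_eq_one_iff_commute]
        exact Commute.all _ _
      obtain ⟨c, hc, hcb⟩ := hker hb
      have hbc : b = c := Subtype.ext hcb.symm
      subst hbc
      rw [hf]
      show ((f b : ℂˣ) : ℂ) = ((f 1 : ℂˣ) : ℂ)
      rw [MonoidHom.mem_ker.mp hc, map_one]
  choose! tt htt ht0 htdvd htsq hlin using hdeg
  have htp : ∀ φ ∈ S, ∃ m, tt φ = p ^ m := fun φ hφ => by
    obtain ⟨m, -, hm⟩ := (Nat.dvd_prime_pow hpf.out).mp (hKcard ▸ htdvd φ hφ)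
    exact ⟨m, hm⟩
  set Xf := ((inducedIrrAbove_finite K ⊥).sdiff : X.Finite).toFinset with hXfdef
  set Yf := (inducedIrrAbove_finite K ⁅K, K⁆).toFinset with hYfdef
  have hXf : ∀ {φ}, φ ∈ Xf ↔ φ ∈ X := fun {φ} => Set.Finite.mem_toFinset _
  have hYf : ∀ {φ}, φ ∈ Yf ↔ φ ∈ Y := fun {φ} => Set.Finite.mem_toFinset _
  obtain ⟨χ, hχ, hχmin⟩ := Xf.exists_min_image tt (hXne.imp fun φ h => hXf.mpr h)
  rw [hXf] at hχ
  have hrat : ∀ ξ ∈ X, ∃ w : ℕ, tt ξ = tt χ * w ∧ 0 < w := fun ξ hξ => by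
    obtain ⟨m, hm⟩ := htp ξ (hXS hξ)
    obtain ⟨m₀, hm₀⟩ := htp χ (hXS hχ)
    have hle := hχmin ξ (hXf.mpr hξ)
    rw [hm, hm₀] at hle ⊢
    refine ⟨p ^ (m - m₀), ?_, pow_pos hpf.out.pos _⟩
    rw [← pow_add, Nat.add_sub_cancel' ((Nat.pow_le_pow_iff_right hpf.out.one_lt).mp hle)]
  choose! w hw hw0 using hrat
  have hwχ : w χ = 1 := Nat.eq_of_mul_eq_mul_left (ht0 χ (hXS hχ)) (((hw χ hχ).symm).trans (mul_one _).symm)
  set a₀ := tt χ with ha₀
  have ha₀pos : 0 < a₀ := ht0 χ (hXS hχ)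
  obtain ⟨θy, hθy, hθy1, hθyk, hθyd⟩ := exists_linear_above K ⁅K, K⁆ hsolv hH1K
  set ψ := indFun K θy with hψdef
  have hψ : ψ ∈ Y := ⟨θy, hθy, hθy1, hθyk, rfl⟩
  have hY1 : ∀ ξ ∈ Y, ξ 1 = (K.index : ℂ) := by
    rintro φ ⟨η, g1, -, g3, rfl⟩
    rw [indFun_apply_one, irr_degree_one_of_kernel_commutator ((⁅K, K⁆ : Subgroup L).subgroupOf K)
      (fun x y => by
        show ((x * y * x⁻¹ * y⁻¹ : K) : L) ∈ ⁅K, K⁆
        exact Subgroup.commutator_mem_commutator x.2 y.2) g1 (fun n hn => g3 n hn), mul_one]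
  have hX1 : ∀ ξ ∈ X, ξ 1 = (K.index : ℂ) * a₀ * w ξ := fun ξ hξ => by
    rw [hd ξ (hXS hξ), htt ξ (hXS hξ), hw ξ hξ]; push_cast; ring
  have horth : ∀ ξ ∈ X, ∀ η ∈ Y, classInner (σ ξ) (τ₁ η) = 0 :=
    union_orthogonal hSirr hXS hYS hdisj ⟨χ, hχ, _, hXc χ hχ, (hR.conj_ne χ (hXS hχ)).symm⟩
      ⟨ψ, hψ, _, inducedIrrAbove_conj K _ hψ, (hR.conj_ne ψ (hYS hψ)).symm⟩ hR.isometry hR.map_one hσ hσα hτ₁ hτα
  -- the image of `χ - aψ`
  have hβ : χ - (a₀ : ℤ) • ψ ∈ zspanOn S {1}ᶜ := ⟨Submodule.sub_mem _ (Submodule.subset_span (hXS hχ))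
    (Submodule.smul_mem _ _ (Submodule.subset_span (hYS hψ))), fun x hx => by
      have hx' : x = 1 := by simpa using hx
      rw [hx', Pi.sub_apply, Pi.smul_apply, hX1 χ hχ, hY1 ψ hψ, hwχ, zsmul_eq_mul]; push_cast; ring⟩
  have hXin : ∀ ξ ∈ X, ξ ∈ zspan X := fun ξ h => Submodule.subset_span h
  have hYin : ∀ ξ ∈ Y, ξ ∈ zspan Y := fun ξ h => Submodule.subset_span h
  set vv := indFun L (χ - (a₀ : ℤ) • ψ) with hvv0
  have hgv : IsGeneralizedCharacter G vv := hR.isometry.2.2.2 _ hβ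
  choose! bX hbX using fun ξ (hξ : ξ ∈ X) => classInner_genChar_int hgv (hσ.2.2.2 ξ (hXin ξ hξ))
  choose! cY hcY using fun ξ (hξ : ξ ∈ Y) => classInner_genChar_int hgv (hτ₁.2.2.2 ξ (hYin ξ hξ))
  have hne : ∀ ξ ∈ X, ∀ η ∈ Y, classInner ξ η = 0 := fun ξ hξ η hη =>
    classInner_irr_ne (hSirr ξ (hXS hξ)) (hSirr η (hYS hη)) (hdisj.ne_of_mem hξ hη)
  have hne' : ∀ ξ ∈ X, ∀ η ∈ Y, classInner η ξ = 0 := fun ξ hξ η hη => by rw [← classInner_comm, hne ξ hξ η hη, map_zero]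
  have hcrel : ∀ ξ ∈ Y, ξ ≠ ψ → cY ξ = cY ψ + a₀ := by
    intro ξ hξ hξψ
    have hmY : ξ - ψ ∈ zspanOn Y {1}ᶜ := ⟨Submodule.sub_mem _ (hYin ξ hξ) (hYin ψ hψ), fun x hx => by
      rw [show x = 1 by simpa using hx, Pi.sub_apply, hY1 ξ hξ, hY1 ψ hψ, sub_self]⟩
    have h : classInner vv (indFun L (ξ - ψ)) = classInner (χ - (a₀ : ℤ) • ψ) (ξ - ψ) :=
      hR.isometry.2.2.1 _ hβ _ ⟨Submodule.span_mono hYS hmY.1, hmY.2⟩
    have e : τ₁ (ξ - ψ) = τ₁ ξ - τ₁ ψ := by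
      rw [← one_smul ℤ ξ, ← one_smul ℤ ψ, li_comb hτ₁ (hYin ξ hξ) (hYin ψ hψ), one_smul, one_smul]; simp
    rw [show indFun L (ξ - ψ) = τ₁ ξ - τ₁ ψ from (hτα _ hmY).symm.trans e] at h
    simp only [← Int.cast_smul_eq_zsmul ℂ, classInner_sub_right, classInner_sub_left, classInner_smul_left, map_intCast, hcY ξ hξ, hcY ψ hψ,
      hne χ hχ ξ hξ, hne χ hχ ψ hψ, classInner_irr_self (hSirr ψ (hYS hψ)),
      classInner_irr_ne (hSirr ψ (hYS hψ)) (hSirr ξ (hYS hξ)) (Ne.symm hξψ)] at h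
    have h' : ((cY ξ : ℤ) : ℂ) = ((cY ψ + a₀ : ℤ) : ℂ) := by push_cast at h ⊢; linear_combination h
    exact_mod_cast h'
  have hbrel : ∀ ξ ∈ X, ξ ≠ χ → bX ξ = (w ξ : ℤ) * (bX χ - 1) := by
    intro ξ hξ hξχ
    have hmX : ξ - (w ξ : ℤ) • χ ∈ zspanOn X {1}ᶜ := ⟨Submodule.sub_mem _ (hXin ξ hξ) (Submodule.smul_mem _ _ (hXin χ hχ)), fun x hx => by
      rw [show x = 1 by simpa using hx, Pi.sub_apply, Pi.smul_apply, hX1 ξ hξ, hX1 χ hχ, hwχ, zsmul_eq_mul]; push_cast; ring⟩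
    have h : classInner vv (indFun L (ξ - (w ξ : ℤ) • χ)) = classInner (χ - (a₀ : ℤ) • ψ) (ξ - (w ξ : ℤ) • χ) :=
      hR.isometry.2.2.1 _ hβ _ ⟨Submodule.span_mono hXS hmX.1, hmX.2⟩
    have e : σ (ξ - (w ξ : ℤ) • χ) = σ ξ - ((w ξ : ℤ) : ℂ) • σ χ := by
      rw [← one_smul ℤ ξ, li_comb hσ (hXin ξ hξ) (hXin χ hχ), one_smul, Int.cast_one, one_smul]
    rw [show indFun L (ξ - (w ξ : ℤ) • χ) = σ ξ - ((w ξ : ℤ) : ℂ) • σ χ from (hσα _ hmX).symm.trans e] at h
    simp only [← Int.cast_smul_eq_zsmul ℂ, classInner_sub_right, classInner_sub_left, classInner_smul_left, classInner_smul_right,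
      map_intCast, hbX ξ hξ, hbX χ hχ, hne' ξ hξ ψ hψ, hne' χ hχ ψ hψ, classInner_irr_self (hSirr χ (hXS hχ)),
      classInner_irr_ne (hSirr χ (hXS hχ)) (hSirr ξ (hXS hξ)) (Ne.symm hξχ)] at h
    have h' : ((bX ξ : ℤ) : ℂ) = (((w ξ : ℤ) * (bX χ - 1) : ℤ) : ℂ) := by push_cast at h ⊢; linear_combination h
    exact_mod_cast h'
  -- the congruence
  have hZG : ∀ z ∈ Z, ((z : L) : G) ∈ (P : Subgroup G) := fun z hz => hZK hz
  have hcong : ∀ ξ ∈ Y, (a₀ : ℤ) ∣ cY ξ := by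
    intro ξ hξ
    have hgη := hτ₁.2.2.2 ξ (hYin ξ hξ)
    have hsig := signed_image (fun b hb => hSirr b (hYS hb)) hτ₁ hξ
    set η := τ₁ ξ
    let ηL : L → ℂ := fun x => η x
    have hηcl : IsClassFunction G η := (isGenChar_iff_coeff_int.mp hgη).1
    have hgηL : IsGeneralizedCharacter L ηL := by
      obtain ⟨c1, c2, h1, h2, e⟩ := hgη
      exact ⟨_, _, isCharacter_restrict h1 L, isCharacter_restrict h2 L, by funext x; show η x = _; rw [e]; rfl⟩
    obtain ⟨n0, hn0⟩ := classInner_genChar_int hgηL (isGenChar_of_char (isCharacter_of_irr (hSirr χ (hXS hχ))))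
    have hn0' : classInner χ ηL = n0 := by rw [← classInner_comm, hn0, map_intCast]
    obtain ⟨q0, hq0⟩ := classInner_genChar_int (isGenChar_of_char (isCharacter_of_irr (hSirr ψ (hYS hψ)))) hgηL
    have hsplit : (cY ξ : ℤ) = n0 - a₀ * q0 := by
      have h : classInner vv η = ((cY ξ : ℤ) : ℂ) := hcY ξ hξ
      rw [hvv0, frobenius_reciprocity L _ hηcl] at h
      simp only [← Int.cast_smul_eq_zsmul ℂ, classInner_sub_left, classInner_smul_left] at h
      rw [show classInner χ (fun x : L => η x) = n0 from hn0', show classInner ψ (fun x : L => η x) = q0 from hq0] at h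
      have h' : ((cY ξ : ℤ) : ℂ) = ((n0 - a₀ * q0 : ℤ) : ℂ) := by push_cast at h ⊢; linear_combination -h
      exact_mod_cast h'
    have hcoef : ∀ φ ∈ X, classInner ηL φ = (w φ : ℂ) * n0 := by
      intro φ hφ
      have hmX : φ - (w φ : ℤ) • χ ∈ zspanOn X {1}ᶜ := ⟨Submodule.sub_mem _ (hXin φ hφ) (Submodule.smul_mem _ _ (hXin χ hχ)), fun x hx => by
        rw [show x = 1 by simpa using hx, Pi.sub_apply, Pi.smul_apply, hX1 φ hφ, hX1 χ hχ, hwχ, zsmul_eq_mul]; push_cast; ring⟩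
      have h0 : classInner (indFun L (φ - (w φ : ℤ) • χ)) η = 0 := by
        rw [show indFun L (φ - (w φ : ℤ) • χ) = σ (φ - (w φ : ℤ) • χ) from (hσα _ hmX).symm,
          ← one_smul ℤ φ, li_comb hσ (hXin φ hφ) (hXin χ hχ), one_smul, classInner_sub_left, classInner_smul_left,
          classInner_smul_left, horth φ hφ ξ hξ, horth χ hχ ξ hξ, mul_zero, mul_zero, sub_zero]
      rw [frobenius_reciprocity L _ hηcl] at h0
      simp only [← Int.cast_smul_eq_zsmul ℂ, classInner_sub_left, classInner_smul_left] at h0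
      rw [show classInner χ (fun x : L => η x) = n0 from hn0'] at h0
      have h1 : classInner φ ηL = (w φ : ℂ) * n0 := by push_cast at h0; linear_combination h0
      rw [← classInner_comm, h1, map_mul, map_natCast, map_intCast]
    let pX := fun θ : IrrCharacter L => ∃ z ∈ Z, (θ : L → ℂ) z ≠ (θ : L → ℂ) 1
    have hmemX : ∀ θ : IrrCharacter L, pX θ → (θ : L → ℂ) ∈ X := fun θ h => by rw [hXdef, hXeq]; exact ⟨θ.2, h⟩
    have hexp := eq_sum_irr (isGenChar_iff_coeff_int.mp hgηL).1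
    have hcoef2 : ∀ θ : IrrCharacter L, pX θ → classInner ηL θ * (a₀ : ℂ) * K.index = (θ : L → ℂ) 1 * n0 := fun θ h => by
      rw [hcoef _ (hmemX θ h), hX1 _ (hmemX θ h)]; ring
    have hval : ∀ z ∈ Z, z ≠ 1 → ηL z * (a₀ : ℂ) * K.index = -(n0 : ℂ) * Z.index +
        (∑ θ ∈ (Finset.univ : Finset (IrrCharacter L)).filter (fun θ : IrrCharacter L => ¬ pX θ), classInner ηL θ * (θ : L → ℂ) 1) * a₀ * K.index := by
      intro z hz hz1
      conv_lhs => rw [hexp]
      rw [Finset.sum_apply, ← Finset.sum_filter_add_sum_filter_not Finset.univ pX, add_mul, add_mul]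
      congr 1
      · rw [Finset.sum_mul, Finset.sum_mul]
        have : -(n0 : ℂ) * Z.index = n0 * ∑ θ ∈ (Finset.univ : Finset (IrrCharacter L)).filter pX, (θ : L → ℂ) z * (θ : L → ℂ) 1 := by
          rw [sum_degree_nontrivial_apply Z hz hz1]; ring
        rw [this, Finset.mul_sum]
        refine Finset.sum_congr rfl fun θ hθ => ?_
        rw [Pi.smul_apply, smul_eq_mul]
        linear_combination (θ : L → ℂ) z * hcoef2 θ (Finset.mem_filter.mp hθ).2
      · congr 2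
        refine Finset.sum_congr rfl fun θ hθ => ?_
        rw [Pi.smul_apply, smul_eq_mul]
        congr 1
        by_contra hne
        exact (Finset.mem_filter.mp hθ).2 ⟨z, hz, hne⟩
    have hval1 : ηL 1 * (a₀ : ℂ) * K.index = (n0 : ℂ) * ((Nat.card L : ℂ) - Z.index) +
        (∑ θ ∈ (Finset.univ : Finset (IrrCharacter L)).filter (fun θ : IrrCharacter L => ¬ pX θ), classInner ηL θ * (θ : L → ℂ) 1) * a₀ * K.index := by
      conv_lhs => rw [hexp]
      rw [Finset.sum_apply, ← Finset.sum_filter_add_sum_filter_not Finset.univ pX, add_mul, add_mul]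
      congr 1
      rw [Finset.sum_mul, Finset.sum_mul]
      choose δ hδ0 hδ using fun θ : IrrCharacter L => irr_degree_pos θ.2
      have hsq : ((Nat.card L : ℂ) - Z.index) = ∑ θ ∈ (Finset.univ : Finset (IrrCharacter L)).filter pX, (θ : L → ℂ) 1 * (θ : L → ℂ) 1 := by
        rw [← sum_sq_nontrivial_on Z δ hδ]; push_cast; rw [add_sub_cancel_right]
        exact Finset.sum_congr rfl fun θ _ => by rw [hδ θ, sq]
      rw [hsq, Finset.mul_sum]
      refine Finset.sum_congr rfl fun θ hθ => ?_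
      rw [Pi.smul_apply, smul_eq_mul]
      linear_combination (θ : L → ℂ) 1 * hcoef2 θ (Finset.mem_filter.mp hθ).2
    have hak : (a₀ : ℂ) * K.index ≠ 0 := mul_ne_zero (Nat.cast_ne_zero.mpr ha₀pos.ne') (Nat.cast_ne_zero.mpr (by omega))
    have hconst : ∀ z ∈ Z, ∀ z' ∈ Z, z ≠ 1 → z' ≠ 1 → ηL z = ηL z' := fun z hz z' hz' h h' =>
      mul_right_cancel₀ hak (by rw [← mul_assoc, ← mul_assoc, hval z hz h, hval z' hz' h'])
    obtain ⟨z, hz, hz1⟩ := SetLike.exists_of_lt (bot_lt_iff_ne_bot.mpr hZ1)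
    have hz1' : z ≠ 1 := fun e => hz1 (Subgroup.mem_bot.mpr e)
    obtain ⟨ε, hε, hεirr⟩ : ∃ ε : ℂ, (ε = 1 ∨ ε = -1) ∧ IsIrrCharacter G (ε • η) := by
      rcases hsig with h | h
      · exact ⟨1, Or.inl rfl, by rwa [one_smul]⟩
      · exact ⟨-1, Or.inr rfl, by rwa [neg_one_smul]⟩
    let Zg : Subgroup G := Z.map L.subtype
    have hmemZg : ∀ g ∈ Zg, ∃ z ∈ Z, (z : G) = g := fun g ⟨z, hz, e⟩ => ⟨z, hz, e⟩
    obtain ⟨nn, dd, e1, e2, hdiv⟩ := Cfsg.Agent.S1523.result p P hTI (by rw [hLN]; exact hodd) Zg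
      (fun h => hZ1 ((Subgroup.map_eq_bot_iff_of_injective _ L.subtype_injective).mp h))
      (fun g hg => by obtain ⟨z, hz, rfl⟩ := hmemZg g hg; exact hZG z hz)
      (fun x hx g hg => by
        rw [hLN] at hx
        obtain ⟨z, hz, rfl⟩ := hmemZg g hg
        exact ⟨⟨x, hx⟩ * z * ⟨x, hx⟩⁻¹, hZn.conj_mem z hz _, rfl⟩)
      (fun g hg y hy => by
        obtain ⟨z, hz, rfl⟩ := hmemZg g hg
        exact congrArg Subtype.val (hZc z hz ⟨y, hPL hy⟩ hy))
      (fun g hg g' hg' hg1 hg1' => by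
        obtain ⟨z, hz, rfl⟩ := hmemZg g hg
        obtain ⟨z', hz', rfl⟩ := hmemZg g' hg'
        have key : ∀ y ∈ Z, y ≠ 1 → L ⊓ Subgroup.centralizer ({(y : G)} : Set G) = (P : Subgroup G) := fun y hy hy1 => by
          refine le_antisymm (fun x hx => ?_) (fun x hx => ⟨hPL hx, Subgroup.mem_centralizer_singleton_iff.mpr
            (congrArg Subtype.val (hZc y hy ⟨x, hPL hx⟩ hx)).symm⟩)
          exact hC y (hZK hy) hy1 (x := (⟨x, hx.1⟩ : L)) (Subgroup.mem_centralizer_singleton_iff.mpr (Subtype.ext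
            (Subgroup.mem_centralizer_singleton_iff.mp hx.2)))
        rw [hLN, key z hz (fun e => hg1 (by rw [e]; rfl)), key z' hz' (fun e => hg1' (by rw [e]; rfl))])
      (ε • η) hεirr (fun g hg g' hg' hg1 hg1' => by
        obtain ⟨z, hz, rfl⟩ := hmemZg g hg
        obtain ⟨z', hz', rfl⟩ := hmemZg g' hg'
        show ε * ηL z = ε * ηL z'
        rw [hconst z hz z' hz' (fun e => hg1 (by rw [e]; rfl)) (fun e => hg1' (by rw [e]; rfl))])
      (z : G) ⟨z, hz, rfl⟩ (fun e => hz1' (Subtype.ext e))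
    obtain ⟨t, ht⟩ := hdiv
    rw [Pi.smul_apply, smul_eq_mul, show η (z : G) = ηL z from rfl] at e1
    rw [Pi.smul_apply, smul_eq_mul, show η 1 = ηL 1 from rfl] at e2
    have hLcard : (Nat.card L : ℂ) = (K.index : ℂ) * Nat.card K := by
      rw [← K.card_mul_index]; push_cast; ring
    have hdiff : ((((dd : ℤ) - nn) * a₀ : ℤ) : ℂ) = ε * ((n0 * (Nat.card K : ℤ) : ℤ) : ℂ) := by
      push_cast
      rw [← e1, ← e2]
      have h := hval z hz hz1'
      refine mul_right_cancel₀ (show (K.index : ℂ) ≠ 0 from Nat.cast_ne_zero.mpr (by omega)) ?_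
      linear_combination ε * hval1 - ε * h + ε * (n0 : ℂ) * hLcard
    have hn0dvd : (a₀ : ℤ) ∣ n0 := by
      rw [ht] at hdiff
      have hKp : Nat.card K = Nat.card (P : Subgroup G) := Nat.card_congr eK.toEquiv
      have hPc : (Nat.card (P : Subgroup G) : ℂ) ≠ 0 := Nat.cast_ne_zero.mpr Nat.card_pos.ne'
      rcases hε with rfl | rfl
      · refine ⟨t, ?_⟩
        have : ((n0 : ℤ) : ℂ) = (((a₀ : ℤ) * t : ℤ) : ℂ) := mul_right_cancel₀ hPc (by rw [hKp] at hdiff; push_cast at hdiff ⊢; linear_combination -hdiff)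
        exact_mod_cast this
      · refine ⟨-t, ?_⟩
        have : ((n0 : ℤ) : ℂ) = (((a₀ : ℤ) * (-t) : ℤ) : ℂ) := mul_right_cancel₀ hPc (by rw [hKp] at hdiff; push_cast at hdiff ⊢; linear_combination hdiff)
        exact_mod_cast this
    rw [hsplit]; exact dvd_sub hn0dvd (dvd_mul_right _ _)
  -- the norm inequality
  set x : ℤ := cY ψ + a₀ with hx
  set y : ℤ := bX χ - 1 with hy
  have hax : (a₀ : ℤ) ∣ x := dvd_add (hcong ψ hψ) dvd_rfl
  have tX : ∀ ξ ∈ X, ∀ η ∈ X, classInner (σ ξ) (σ η) = if ξ = η then 1 else 0 := fun ξ hξ η hη => by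
    rw [hσ.2.2.1 _ (hXin ξ hξ) _ (hXin η hη)]; exact classInner_irr (hSirr ξ (hXS hξ)) (hSirr η (hXS hη))
  have tY : ∀ ξ ∈ Y, ∀ η ∈ Y, classInner (τ₁ ξ) (τ₁ η) = if ξ = η then 1 else 0 := fun ξ hξ η hη => by
    rw [hτ₁.2.2.1 _ (hYin ξ hξ) _ (hYin η hη)]; exact classInner_irr (hSirr ξ (hYS hξ)) (hSirr η (hYS hη))
  set A : G → ℂ := ∑ ξ ∈ Xf, (bX ξ : ℂ) • σ ξ with hA
  set B : G → ℂ := ∑ ξ ∈ Yf, (cY ξ : ℂ) • τ₁ ξ with hB
  have hAs : ∀ ξ ∈ X, classInner A (σ ξ) = bX ξ := fun ξ hξ => by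
    rw [hA, classInner_sum_left, Finset.sum_eq_single ξ
      (fun η hη hne => by rw [classInner_smul_left, tX η (hXf.mp hη) ξ hξ, if_neg hne, mul_zero])
      (fun h => absurd (hXf.mpr hξ) h), classInner_smul_left, tX ξ hξ ξ hξ, if_pos rfl, mul_one]
  have hBs : ∀ ξ ∈ Y, classInner B (τ₁ ξ) = cY ξ := fun ξ hξ => by
    rw [hB, classInner_sum_left, Finset.sum_eq_single ξ
      (fun η hη hne => by rw [classInner_smul_left, tY η (hYf.mp hη) ξ hξ, if_neg hne, mul_zero])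
      (fun h => absurd (hYf.mpr hξ) h), classInner_smul_left, tY ξ hξ ξ hξ, if_pos rfl, mul_one]
  have hAB : classInner A B = 0 := by
    rw [hA, classInner_sum_left]
    refine Finset.sum_eq_zero fun ξ hξ => ?_
    rw [classInner_smul_left, hB, classInner_sum_right, Finset.sum_eq_zero fun η hη => by
      rw [classInner_smul_right, horth ξ (hXf.mp hξ) η (hYf.mp hη), mul_zero], mul_zero]
  set Q1 : ℤ := ∑ ξ ∈ Xf, bX ξ ^ 2 with hQ1
  set Q2 : ℤ := ∑ ξ ∈ Yf, cY ξ ^ 2 with hQ2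
  have hAA : classInner A A = (Q1 : ℂ) := by
    conv_lhs => arg 2; rw [hA]
    rw [classInner_sum_right, hQ1]; push_cast
    exact Finset.sum_congr rfl fun ξ hξ => by rw [classInner_smul_right, hAs ξ (hXf.mp hξ), map_intCast, sq]
  have hvA : classInner vv A = (Q1 : ℂ) := by
    rw [hA, classInner_sum_right, hQ1]; push_cast
    exact Finset.sum_congr rfl fun ξ hξ => by rw [classInner_smul_right, hbX ξ (hXf.mp hξ), map_intCast, sq]
  have hBB : classInner B B = (Q2 : ℂ) := by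
    conv_lhs => arg 2; rw [hB]
    rw [classInner_sum_right, hQ2]; push_cast
    exact Finset.sum_congr rfl fun ξ hξ => by rw [classInner_smul_right, hBs ξ (hYf.mp hξ), map_intCast, sq]
  have hvB : classInner vv B = (Q2 : ℂ) := by
    rw [hB, classInner_sum_right, hQ2]; push_cast
    exact Finset.sum_congr rfl fun ξ hξ => by rw [classInner_smul_right, hcY ξ (hYf.mp hξ), map_intCast, sq]
  have hvvn : classInner vv vv = (1 : ℂ) + (a₀ : ℂ) ^ 2 := by
    rw [hvv0, hR.isometry.2.2.1 _ hβ _ hβ]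
    simp only [← Int.cast_smul_eq_zsmul ℂ, classInner_sub_right, classInner_sub_left, classInner_smul_left, classInner_smul_right,
      map_intCast, classInner_irr_self (hSirr χ (hXS hχ)), classInner_irr_self (hSirr ψ (hYS hψ)), hne χ hχ ψ hψ, hne' χ hχ ψ hψ]
    push_cast; ring
  obtain ⟨r, hr0, hr, hrz⟩ := classInner_self_nonneg_real (vv - A - B)
  have hreal : r = 1 + (a₀ : ℝ) ^ 2 - (Q1 : ℝ) - (Q2 : ℝ) := by
    have h : (r : ℂ) = 1 + (a₀ : ℂ) ^ 2 - (Q1 : ℂ) - (Q2 : ℂ) := by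
      rw [← hr]
      simp only [classInner_sub_left, classInner_sub_right, hvvn, hvA, hvB, hAA, hAB, hBB,
        show classInner A vv = (Q1 : ℂ) by rw [← classInner_comm, hvA, map_intCast],
        show classInner B vv = (Q2 : ℂ) by rw [← classInner_comm, hvB, map_intCast],
        show classInner B A = 0 by rw [← classInner_comm, hAB, map_zero]]
      ring
    exact_mod_cast h
  have hle : Q1 + Q2 ≤ 1 + (a₀ : ℤ) ^ 2 := by
    have : ((Q1 + Q2 : ℤ) : ℝ) ≤ ((1 + (a₀ : ℤ) ^ 2 : ℤ) : ℝ) := by push_cast; linarith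
    exact_mod_cast this
  set s : ℤ := (Yf.card : ℤ) with hs
  set W : ℤ := ∑ ξ ∈ Xf, (w ξ : ℤ) ^ 2 with hW
  have hQ2v : Q2 = s * x ^ 2 - 2 * a₀ * x + (a₀ : ℤ) ^ 2 := by
    rw [hQ2, ← Finset.add_sum_erase _ _ (hYf.mpr hψ), Finset.sum_congr rfl fun ξ hξ => show cY ξ ^ 2 = x ^ 2 by
      rw [hcrel ξ (hYf.mp (Finset.mem_of_mem_erase hξ)) (Finset.ne_of_mem_erase hξ)],
      Finset.sum_const, Finset.card_erase_of_mem (hYf.mpr hψ), nsmul_eq_mul,
      Nat.cast_sub (Finset.card_pos.mpr ⟨ψ, hYf.mpr hψ⟩), show cY ψ = x - a₀ by omega, hs]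
    push_cast; ring
  have hQ1v : Q1 = W * y ^ 2 + 2 * y + 1 := by
    rw [hQ1, hW, ← Finset.add_sum_erase _ _ (hXf.mpr hχ), ← Finset.add_sum_erase _ (fun ξ => (w ξ : ℤ) ^ 2) (hXf.mpr hχ),
      Finset.sum_congr rfl fun ξ hξ => show bX ξ ^ 2 = (w ξ : ℤ) ^ 2 * y ^ 2 by
        rw [hbrel ξ (hXf.mp (Finset.mem_of_mem_erase hξ)) (Finset.ne_of_mem_erase hξ), mul_pow],
      ← Finset.sum_mul, hwχ, show bX χ = y + 1 by omega]
    push_cast; ring
  have hs2 : 2 ≤ s := by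
    have : 1 < Yf.card := Finset.one_lt_card.mpr ⟨ψ, hYf.mpr hψ, _, hYf.mpr (inducedIrrAbove_conj K _ hψ), (hR.conj_ne ψ (hYS hψ)).symm⟩
    omega
  have hwge : ∀ ξ ∈ Xf, (1 : ℤ) ≤ (w ξ : ℤ) ^ 2 := fun ξ hξ => one_le_pow₀ (by exact_mod_cast hw0 ξ (hXf.mp hξ))
  have hWcard : (Xf.card : ℤ) ≤ W := by simpa [hW] using Finset.sum_le_sum hwge
  have hX2 : 2 ≤ Xf.card := Finset.one_lt_card.mpr ⟨χ, hXf.mpr hχ, _, hXf.mpr (hXc χ hχ), (hR.conj_ne χ (hXS hχ)).symm⟩
  obtain ⟨t, hxt⟩ := hax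
  have hYpos : 0 ≤ W * y ^ 2 + 2 * y := by
    rcases le_or_gt 0 y with h | h
    · nlinarith [sq_nonneg y]
    · have h1 : 2 * y ^ 2 ≤ W * y ^ 2 := mul_le_mul_of_nonneg_right (by omega) (sq_nonneg y)
      nlinarith
  have hXpos : 0 ≤ s * x ^ 2 - 2 * a₀ * x := by
    rw [hxt]
    have : 0 ≤ t * (s * t - 2) := by
      rcases lt_trichotomy t 0 with h | h | h
      · exact mul_nonneg_of_nonpos_of_nonpos h.le (by nlinarith)
      · simp [h]
      · exact mul_nonneg h.le (by nlinarith)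
    nlinarith [mul_nonneg (sq_nonneg (a₀ : ℤ)) this]
  have hx0 : s * x ^ 2 - 2 * a₀ * x = 0 := by omega
  have hy0 : W * y ^ 2 + 2 * y = 0 := by omega
  have hvAB : vv = A + B := by
    have : (Q1 : ℝ) + Q2 = 1 + (a₀ : ℝ) ^ 2 := by
      have : ((Q1 + Q2 : ℤ) : ℝ) = ((1 + (a₀ : ℤ) ^ 2 : ℤ) : ℝ) := by rw [show Q1 + Q2 = 1 + (a₀ : ℤ) ^ 2 by omega]
      push_cast at this; exact this
    have h := hrz (by linarith)
    rw [sub_sub, sub_eq_zero] at h; exact h
  -- normalise the extensions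
  obtain ⟨σ', hσ', hσ'α, hAeq, hsub1⟩ : ∃ σ', IsLinearIsometryOn (zspan X) σ' ∧ (∀ θ ∈ zspanOn X {1}ᶜ, σ' θ = indFun L θ) ∧
      A = σ' χ ∧ ∀ ξ ∈ X, ∃ η ∈ X, σ' ξ = σ η ∨ σ' ξ = -σ η := by
    have hy' : y = 0 ∨ (y = -1 ∧ W = 2) := by
      rcases eq_or_ne y 0 with h | h
      · exact Or.inl h
      · right
        have h2 : W * y + 2 = 0 := (mul_eq_zero.mp (by linear_combination hy0 : y * (W * y + 2) = 0)).resolve_left h
        have hyn : y ≤ -1 := by by_contra hc; nlinarith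
        have h3 : y = -1 := by nlinarith
        exact ⟨h3, by rw [h3] at h2; omega⟩
    rcases hy' with h | ⟨h, hW2⟩
    · refine ⟨σ, hσ, hσα, ?_, fun ξ hξ => ⟨ξ, hξ, Or.inl rfl⟩⟩
      rw [hA, Finset.sum_eq_single χ (fun ξ hξ hne => by rw [hbrel ξ (hXf.mp hξ) hne, h, mul_zero, Int.cast_zero, zero_smul])
        (fun hc => absurd (hXf.mpr hχ) hc), show bX χ = 1 by omega, Int.cast_one, one_smul]
    · have hcard2 : Xf.card = 2 := by omega
      have hXpair : Xf = {χ, conjFun χ} := (Finset.eq_of_subset_of_card_le (by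
        intro q hq; rcases Finset.mem_insert.mp hq with rfl | hq
        · exact hXf.mpr hχ
        · rw [Finset.mem_singleton.mp hq]; exact hXf.mpr (hXc χ hχ))
        (by rw [Finset.card_pair (hR.conj_ne χ (hXS hχ)).symm, hcard2])).symm
      have hXset : X = {χ, conjFun χ} := by
        ext q; rw [← hXf, hXpair]; simp
      have hσ2 : IsLinearIsometryOn (zspan ({χ, conjFun χ} : Set (L → ℂ))) σ := hXset ▸ hσ
      obtain ⟨σ', h1, h2, h3, h4⟩ := swap_extension (hSirr χ (hXS hχ)) (hR.conj_ne χ (hXS hχ)) hσ2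
        (τ := fun α => indFun L α) (by rw [← hXset]; exact hσα)
      refine ⟨σ', hXset ▸ h1, hXset ▸ h2, ?_, fun ξ hξ => ?_⟩
      · rw [h3, hA, hXpair, Finset.sum_pair (hR.conj_ne χ (hXS hχ)).symm, hbrel _ (hXc χ hχ) (hR.conj_ne χ (hXS hχ)),
          h, show bX χ = 0 by omega, Int.cast_zero, zero_smul, zero_add]
        have hw1 : (w (conjFun χ) : ℤ) = 1 := by
          have e : (w (conjFun χ) : ℤ) ^ 2 = 1 := by
            rw [hW, hXpair, Finset.sum_pair (hR.conj_ne χ (hXS hχ)).symm, hwχ] at hW2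
            push_cast at hW2; linarith
          rcases sq_eq_one_iff.mp e with e | e
          · exact e
          · omega
        rw [hw1]; push_cast; simp
      · rw [hXset] at hξ
        rcases hξ with rfl | rfl
        · exact ⟨_, hXc _ hχ, Or.inr h3⟩
        · exact ⟨χ, hχ, Or.inr h4⟩
  obtain ⟨τ', hτ', hτ'α, hBeq, hsub2⟩ : ∃ τ', IsLinearIsometryOn (zspan Y) τ' ∧ (∀ θ ∈ zspanOn Y {1}ᶜ, τ' θ = indFun L θ) ∧
      B = (-(a₀ : ℂ)) • τ' ψ ∧ ∀ ξ ∈ Y, ∃ η ∈ Y, τ' ξ = τ₁ η ∨ τ' ξ = -τ₁ η := by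
    have ht' : t = 0 ∨ (t = 1 ∧ s = 2) := by
      rw [hxt] at hx0
      rcases eq_or_ne t 0 with h | h
      · exact Or.inl h
      · right
        have ha2 : (a₀ : ℤ) ^ 2 * t ≠ 0 := mul_ne_zero (pow_ne_zero 2 (by exact_mod_cast ha₀pos.ne')) h
        have h2 : s * t - 2 = 0 := (mul_eq_zero.mp (by linear_combination hx0 : ((a₀ : ℤ) ^ 2 * t) * (s * t - 2) = 0)).resolve_left ha2
        have h3 : 0 < t := by by_contra hc; nlinarith
        have h4 : t = 1 := by nlinarith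
        exact ⟨h4, by rw [h4] at h2; omega⟩
    rcases ht' with h | ⟨h, hs2'⟩
    · rw [h, mul_zero] at hxt
      refine ⟨τ₁, hτ₁, hτα, ?_, fun ξ hξ => ⟨ξ, hξ, Or.inl rfl⟩⟩
      rw [hB, Finset.sum_eq_single ψ (fun ξ hξ hne => by rw [hcrel ξ (hYf.mp hξ) hne, hxt, Int.cast_zero, zero_smul])
        (fun hc => absurd (hYf.mpr hψ) hc), show cY ψ = -(a₀ : ℤ) by omega]
      push_cast; rfl
    · rw [h, mul_one] at hxt
      have hcard2 : Yf.card = 2 := by omega
      have hψc := inducedIrrAbove_conj K _ hψ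
      have hψne := hR.conj_ne ψ (hYS hψ)
      have hYpair : Yf = {ψ, conjFun ψ} := (Finset.eq_of_subset_of_card_le (by
        intro q hq; rcases Finset.mem_insert.mp hq with rfl | hq
        · exact hYf.mpr hψ
        · rw [Finset.mem_singleton.mp hq]; exact hYf.mpr hψc)
        (by rw [Finset.card_pair hψne.symm, hcard2])).symm
      have hYset : Y = {ψ, conjFun ψ} := by
        ext q; rw [← hYf, hYpair]; simp
      have hτ2 : IsLinearIsometryOn (zspan ({ψ, conjFun ψ} : Set (L → ℂ))) τ₁ := hYset ▸ hτ₁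
      obtain ⟨τ', h1, h2, h3, h4⟩ := swap_extension (hSirr ψ (hYS hψ)) hψne hτ2 (τ := fun α => indFun L α)
        (by rw [← hYset]; exact hτα)
      refine ⟨τ', hYset ▸ h1, hYset ▸ h2, ?_, fun ξ hξ => ?_⟩
      · rw [h3, hB, hYpair, Finset.sum_pair hψne.symm, hcrel _ hψc hψne, hxt, show cY ψ = 0 by omega,
          Int.cast_zero, zero_smul, zero_add, smul_neg, neg_smul, neg_neg]
        push_cast; rfl
      · rw [hYset] at hξ
        rcases hξ with rfl | rfl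
        · exact ⟨_, hψc, Or.inr h3⟩
        · exact ⟨ψ, hψ, Or.inr h4⟩
  have horth' : ∀ ξ ∈ X, ∀ η ∈ Y, classInner (σ' ξ) (τ' η) = 0 := fun ξ hξ η hη => by
    obtain ⟨ξ', hξ', e⟩ := hsub1 ξ hξ
    obtain ⟨η', hη', f⟩ := hsub2 η hη
    rcases e with e | e <;> rcases f with f | f <;> simp [e, f, classInner_neg_left, classInner_neg_right, horth ξ' hξ' η' hη']
  have hXY := union_coherent hSirr hXS hYS hdisj ⟨χ, hχ, _, hXc χ hχ, (hR.conj_ne χ (hXS hχ)).symm⟩ hR.isometry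
    hσ' hσ'α hτ' hτ'α horth' ⟨χ, hχ, ψ, hψ, by
      rw [hX1 χ hχ, hY1 ψ hψ, hwχ]
      have e : ((K.index : ℂ) * a₀ * (1 : ℕ)) • ψ - (K.index : ℂ) • χ = (-(K.index : ℤ)) • (χ - (a₀ : ℤ) • ψ) := by
        simp only [← Int.cast_smul_eq_zsmul ℂ]; push_cast; module
      show (fun α : L → ℂ => indFun L α) _ = _
      rw [e, hR.isometry.2.1 _ hβ]
      show (-(K.index : ℤ)) • vv = _
      rw [hvAB, hAeq, hBeq]
      simp only [← Int.cast_smul_eq_zsmul ℂ]; push_cast; module⟩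
  -- adjoin the remaining characters
  have hBXY : (↑(Xf ∪ Yf) : Set (L → ℂ)) = X ∪ Y := by ext q; simp [hXf, hYf]
  choose! n hn using fun φ (hφ : φ ∈ S) => classInner_char_nat (hR.isCharacter φ hφ) (hR.isCharacter φ hφ)
  refine coherent_extend_all hR d n hd hn (inducedIrrAbove_finite K ⊥).toFinset (Set.Finite.coe_toFinset _) (Xf ∪ Yf)
    (by rw [hBXY]; exact Set.union_subset hXS hYS) (fun φ hφ => ?_) (hBXY ▸ hXY) (χ₁ := ψ)
    (Finset.mem_union_right _ (hYf.mpr hψ)) (fun φ hφ _ => ?_) (fun φ hφ hnot => ?_)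
  · rcases Finset.mem_union.mp hφ with h | h
    · exact Finset.mem_union_left _ (hXf.mpr (hXc φ (hXf.mp h)))
    · exact Finset.mem_union_right _ (hYf.mpr (inducedIrrAbove_conj K _ (hYf.mp h)))
  · have hdψ : d ψ = K.index := by have := hd ψ (hYS hψ); rw [hY1 ψ hψ] at this; exact_mod_cast this.symm
    rw [hdψ, htt φ hφ]; exact dvd_mul_right _ _
  · have hdψ : d ψ = K.index := by have := hd ψ (hYS hψ); rw [hY1 ψ hψ] at this; exact_mod_cast this.symm
    have hn1 : ∀ ξ ∈ X, n ξ = 1 := fun ξ hξ => by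
      have := hn ξ (hXS hξ)
      rw [classInner_irr_self (hSirr ξ (hXS hξ)), eq_comm, Nat.cast_eq_one] at this
      exact this
    have hφY : φ ∉ Y := fun h => hnot (Finset.mem_union_right _ (hYf.mpr h))
    have hφZ : φ ∈ inducedIrrAbove K Z := by
      by_contra h; exact hnot (Finset.mem_union_left _ (hXf.mpr ⟨hφ, h⟩))
    have htsq' := htsq φ hφ hφZ
    have ht2 : 2 ≤ tt φ := by have := hlin φ hφ hφY; have := ht0 φ hφ; omega
    choose δ hδ0 hδ using fun θ : IrrCharacter L => irr_degree_pos θ.2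
    have hsumX : (∑ ξ ∈ Xf, d ξ ^ 2) + Z.index = Nat.card L := by
      rw [← sum_sq_nontrivial_on Z δ hδ]
      congr 1
      refine (Finset.sum_bij (fun (θ : IrrCharacter L) _ => θ.1) (fun θ hθ => ?_) (fun θ _ η _ e => Subtype.ext e) (fun q hq => ?_) (fun θ hθ => ?_)).symm
      · rw [hXf, hXdef, hXeq]; exact ⟨θ.2, (Finset.mem_filter.mp hθ).2⟩
      · have h := hXf.mp hq
        rw [hXdef, hXeq] at h
        exact ⟨⟨q, h.1⟩, Finset.mem_filter.mpr ⟨Finset.mem_univ _, h.2⟩, rfl⟩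
      · have hmem : θ.1 ∈ X := by rw [hXdef, hXeq]; exact ⟨θ.2, (Finset.mem_filter.mp hθ).2⟩
        have h := hd _ (hXS hmem)
        rw [hδ] at h
        rw [Nat.cast_inj.mp h]
    have hkey : 2 * d φ * d ψ < ∑ ξ ∈ Xf, d ξ ^ 2 := by
      have hZi : Z.index = Z.relIndex K * K.index := (Subgroup.relIndex_mul_index hZK).symm
      have hL : Nat.card L = Nat.card Z * (Z.relIndex K * K.index) := by rw [← hZi, Subgroup.card_mul_index]
      rw [htt φ hφ, hdψ]
      have h1 : 2 * (K.index * tt φ) * K.index < K.index * (2 * K.index) * tt φ ^ 2 := by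
        have : K.index * (2 * K.index) * tt φ < K.index * (2 * K.index) * tt φ ^ 2 :=
          Nat.mul_lt_mul_of_pos_left (by nlinarith) (by positivity)
        linarith
      have h2 : K.index * (2 * K.index) * tt φ ^ 2 ≤ K.index * (2 * K.index) * Z.relIndex K := Nat.mul_le_mul_left _ htsq'
      rw [hL, hZi] at hsumX
      have h3 : (2 * K.index + 1) * (Z.relIndex K * K.index) ≤ Nat.card Z * (Z.relIndex K * K.index) := Nat.mul_le_mul_right _ hcZ1
      nlinarith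
    refine lt_of_lt_of_le ?_ (Finset.sum_le_sum_of_subset_of_nonneg Finset.subset_union_left fun i _ _ => by positivity)
    rw [Finset.sum_congr rfl fun ξ hξ => show (d ξ : ℝ) ^ 2 / (n ξ : ℝ) = ((d ξ ^ 2 : ℕ) : ℝ) by
      rw [hn1 ξ (hXf.mp hξ)]; push_cast; ring, ← Nat.cast_sum]
    exact_mod_cast hkey

end CfsgLib.CharTheory
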