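/-
Sibley's coherence theorem for a trivial intersection kernel.
-/
import Cfsg.Agent.Lib.CharTheory.Sibley
import Cfsg.Agent.S1521

set_option autoImplicit false

namespace CfsgLib.CharTheory

open Cfsg
open scoped commutatorElement

universe u

theorem mem_of_conj_mem_normal {L : Type u} [Group L] [Finite L] (K N : Subgroup L) [K.Normal] [N.Normal] (hNK : N ≤ K)
    (hC : ∀ k ∈ K, k ≠ 1 → Subgroup.centralizer ({k} : Set L) ≤ K) {k x : L} (hk : k ∈ K) (hkN : k ∉ N)
    (h : x * k * x⁻¹ * k⁻¹ ∈ N) : x ∈ K := by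
  by_contra hx
  have hfix : ∀ u ∈ K, x * u * x⁻¹ = u → u = 1 := fun u hu e => by
    by_contra hu1
    exact hx (hC u hu hu1 (Subgroup.mem_centralizer_singleton_iff.mpr (mul_inv_eq_iff_eq_mul.mp e)))
  let f : N → N := fun n => ⟨(n : L)⁻¹ * (x * n * x⁻¹), N.mul_mem (N.inv_mem n.2) ((inferInstance : N.Normal).conj_mem _ n.2 x)⟩
  have hf : Function.Injective f := fun a b e => by
    have e' : (a : L)⁻¹ * (x * a * x⁻¹) = (b : L)⁻¹ * (x * b * x⁻¹) := congrArg Subtype.val e
    have h1 : x * ((b : L) * (a : L)⁻¹) * x⁻¹ = (b : L) * (a : L)⁻¹ := by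
      calc x * ((b : L) * (a : L)⁻¹) * x⁻¹ = (b : L) * ((b : L)⁻¹ * (x * b * x⁻¹)) * (x * (a : L) * x⁻¹)⁻¹ := by group
        _ = _ := by rw [← e']; group
    exact Subtype.ext (eq_of_mul_inv_eq_one (hfix _ (hNK (N.mul_mem b.2 (N.inv_mem a.2))) h1) ▸ rfl)
  have hmem : k⁻¹ * (x * k * x⁻¹) ∈ N := by
    have := (inferInstance : N.Normal).conj_mem _ h k⁻¹
    simpa [mul_assoc] using this
  obtain ⟨n, hn⟩ := (Finite.injective_iff_surjective.mp hf) ⟨_, hmem⟩
  have e' : (n : L)⁻¹ * (x * n * x⁻¹) = k⁻¹ * (x * k * x⁻¹) := congrArg Subtype.val hn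
  have h1 : x * ((n : L) * k⁻¹) * x⁻¹ = (n : L) * k⁻¹ := by
    calc x * ((n : L) * k⁻¹) * x⁻¹ = (n : L) * ((n : L)⁻¹ * (x * n * x⁻¹)) * (x * k * x⁻¹)⁻¹ := by group
      _ = _ := by rw [e']; group
  have := eq_of_mul_inv_eq_one (hfix _ (K.mul_mem (hNK n.2) (K.inv_mem hk)) h1)
  exact hkN (this ▸ n.2)

theorem sibley_ti_kernel {G : Type u} [Group G] [Fintype G] (H L : Subgroup G) [Fintype L] (hHL : H ≤ L)
    (hN : Subgroup.normalizer (H : Set G) = L) (hodd : Odd (Nat.card L)) (hH1 : H ≠ ⊥) (hKL : H.subgroupOf L < ⊤)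
    (hnil : Group.IsNilpotent H) (hTI : IsTISubset (H : Set G))
    (hC : ∀ k ∈ H.subgroupOf L, k ≠ 1 → Subgroup.centralizer ({k} : Set L) ≤ H.subgroupOf L) :
    IsCoherent (inducedIrrAbove (H.subgroupOf L) ⊥) {1}ᶜ (fun α : L → ℂ => indFun L α) := by
  classical
  set K := H.subgroupOf L with hKdef
  have hKn : K.Normal := by
    subst hN
    exact Subgroup.normal_in_normalizer
  let eK := Subgroup.subgroupOfEquivOfLe hHL
  have hKnil : Group.IsNilpotent K := Group.nilpotent_of_mulEquiv eK.symm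
  have hsolv : Group.IsSolvable K := inferInstance
  have hK1 : K ≠ ⊥ := fun h => hH1 (by rw [hKdef, Subgroup.subgroupOf_eq_bot, disjoint_iff, inf_eq_left.mpr hHL] at h; exact h)
  have hKnt : Nontrivial K := (Subgroup.nontrivial_iff_ne_bot K).mpr hK1
  have hT : (H : Set G) = Subtype.val '' (K : Set L) := by
    ext x; exact ⟨fun h => ⟨⟨x, hHL h⟩, h, rfl⟩, fun ⟨y, hy, e⟩ => e ▸ hy⟩
  obtain ⟨R, hR⟩ := exists_system_ti_kernel L K hodd hK1 hKL hC hT (fun g hg => hTI g (hN.symm ▸ hg))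
  by_cases hab : IsMulCommutative H
  · refine coherent_above_derived K hsolv hR ⊥ (Subgroup.commutator_le.mpr fun x hx y hy => ?_) (bot_lt_iff_ne_bot.mpr hK1)
    rw [Subgroup.mem_bot, commutatorElement_eq_one_iff_commute]
    exact Subtype.ext (congrArg (fun q : H => (q : G)) (hab.is_comm.comm (⟨x.1, hx⟩ : H) ⟨y.1, hy⟩))
  by_cases hpg : ∃ p m : ℕ, p.Prime ∧ Nat.card K = p ^ m
  · obtain ⟨p, m, hp, hpm⟩ := hpg
    have := Fact.mk hp
    have hHcard : Nat.card H = p ^ m := (Nat.card_congr eK.toEquiv).symm.trans hpm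
    have hm0 : m ≠ 0 := fun e => hH1 (Subgroup.card_eq_one.mp (by rw [hHcard, e, pow_zero]))
    have hp2 : p % 2 = 1 := Nat.odd_iff.mp (hodd.of_dvd_nat ((dvd_pow_self p hm0).trans (hHcard ▸ Subgroup.card_dvd_of_le hHL)))
    -- the index is prime to `p`
    let Z0 : Subgroup K := Subgroup.center K
    set Z : Subgroup L := Z0.map K.subtype with hZdef
    have hZK : Z ≤ K := Subgroup.map_subtype_le _
    have hZc : ∀ z ∈ Z, ∀ k ∈ K, z * k = k * z := by
      rintro _ ⟨z, hz, rfl⟩ k hk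
      exact congrArg Subtype.val (Subgroup.mem_center_iff.mp hz ⟨k, hk⟩).symm
    have hZn : Z.Normal := ⟨by
      rintro _ ⟨z, hz, rfl⟩ x
      refine ⟨MulAut.conjNormal x z, ?_, by simp [MulAut.conjNormal_apply]⟩
      have hch : Z0.Characteristic := inferInstance
      have := hch.fixed (MulAut.conjNormal x : MulAut K)
      rw [← this] at hz
      exact hz⟩
    have hpg : IsPGroup p K := IsPGroup.iff_card.mpr ⟨m, hpm⟩
    have hdvd : K.index ∣ Nat.card Z - 1 := index_dvd_card_sub_one' K Z fun k hk hk1 x =>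
      ⟨fun h => hC k (hZK hk) hk1 (Subgroup.mem_centralizer_singleton_iff.mpr h), fun hx => (hZc k hk x hx).symm⟩
    have hcop : ¬ p ∣ K.index := fun h => by
      have hZ1 : Z ≠ ⊥ := by
        rw [hZdef, Ne, ← Subgroup.map_bot K.subtype]
        refine (Subgroup.map_injective K.subtype_injective).ne ?_
        have := hpg.center_nontrivial
        exact (Subgroup.nontrivial_iff_ne_bot _).mp this
      have hZd : Nat.card Z ∣ p ^ m := hpm ▸ Subgroup.card_dvd_of_le hZK
      obtain ⟨j, -, hj⟩ := (Nat.dvd_prime_pow hp).mp hZd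
      have hj0 : j ≠ 0 := fun e => hZ1 (Subgroup.card_eq_one.mp (by rw [hj, e, pow_zero]))
      have h2 : p ∣ Nat.card Z - 1 := h.trans hdvd
      have h3 : p ∣ Nat.card Z := hj ▸ dvd_pow_self p hj0
      have h4 : p ∣ 1 := by
        have h5 := Nat.dvd_sub h3 h2
        rwa [Nat.sub_sub_self Nat.card_pos] at h5
      exact hp.ne_one (Nat.dvd_one.mp h4)
    have hndvd : ¬ p ∣ H.index := fun h => by
      have h1 : p ^ (m + 1) ∣ Nat.card G := by
        rw [← H.card_mul_index, hHcard, pow_succ]; exact Nat.mul_dvd_mul_left _ h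
      have h2 := (Sylow.card_normalizer_modEq_card (p := p) hHcard).dvd_iff dvd_rfl |>.mpr h1
      rw [hN, ← Subgroup.card_mul_index K, hpm, pow_succ] at h2
      exact hcop (Nat.dvd_of_mul_dvd_mul_left (pow_pos hp.pos m) h2)
    let P : Sylow p G := (IsPGroup.iff_card.mpr ⟨m, hHcard⟩ : IsPGroup p H).toSylow hndvd
    exact sibley_p_group (by have := hp.two_le; omega) P L hN hodd hKL hab hTI hC
  · have hn : Group.IsNilpotent (↥K ⧸ (⊥ : Subgroup L).subgroupOf K) :=
      Group.nilpotent_of_surjective (QuotientGroup.mk' _) (QuotientGroup.mk'_surjective _)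
    have hH1K : ⁅K, K⁆ < K := by
      refine lt_of_le_of_ne (Subgroup.commutator_le_left K K) fun h => ?_
      refine (IsSolvable.commutator_lt_top_of_nontrivial K).ne (Subgroup.map_injective K.subtype_injective ?_)
      rw [commutator_def, Subgroup.map_commutator, ← MonoidHom.range_eq_map, Subgroup.range_subtype, h]
    refine Cfsg.Agent.S1521.result K hsolv _ R hR hodd ⊥ bot_le hn ⁅K, K⁆ (sup_bot_eq _).symm hH1K hKL
      (fun k hk hkN x hx => mem_of_conj_mem_normal K ⁅K, K⁆ (Subgroup.commutator_le_left K K) hC hk hkN hx)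
      (Or.inr (Or.inr (Or.inl ?_)))
    rintro ⟨p, m, hp, hpm⟩
    exact hpg ⟨p, m, hp, by rwa [Subgroup.relIndex_bot_left] at hpm⟩

end CfsgLib.CharTheory
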