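/-
Feit's coherence criterion.
-/
import Cfsg.Agent.Lib.CharTheory.CoherenceUnion

set_option autoImplicit false

namespace CfsgLib.CharTheory

open Cfsg
open scoped ComplexConjugate

universe u v

theorem irr_singleton_isometry {N : Type u} [Group N] [Fintype N] {G : Type v} [Group G] [Fintype G] {χ : N → ℂ}
    (hχ : IsIrrCharacter N χ) {w : G → ℂ} (hw : IsGeneralizedCharacter G w) (hw1 : classInner w w = 1) :
    ∃ σ : (N → ℂ) → (G → ℂ), IsLinearIsometryOn (zspan {χ}) σ ∧ σ χ = w := by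
  have hspan : ∀ a ∈ zspan {χ}, ∃ k : ℤ, a = (k : ℂ) • χ := fun a ha => by
    obtain ⟨k, hk⟩ := Submodule.mem_span_singleton.mp ha
    exact ⟨k, by rw [Int.cast_smul_eq_zsmul, hk]⟩
  refine ⟨fun θ => classInner θ χ • w, ⟨fun a _ b _ => ?_, fun a _ k => ?_, fun a ha b hb => ?_, fun a ha => ?_⟩, ?_⟩
  · show classInner (a + b) χ • w = _
    rw [classInner_add_left, add_smul]
  · show classInner (k • a) χ • w = k • classInner a χ • w
    rw [← Int.cast_smul_eq_zsmul ℂ, classInner_smul_left, mul_smul, Int.cast_smul_eq_zsmul]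
  · obtain ⟨k, rfl⟩ := hspan a ha
    obtain ⟨l, rfl⟩ := hspan b hb
    show classInner (classInner ((k : ℂ) • χ) χ • w) (classInner ((l : ℂ) • χ) χ • w) = _
    simp only [classInner_smul_left, classInner_smul_right, classInner_irr_self hχ, hw1, map_mul, map_one, map_intCast]
    ring
  · obtain ⟨k, rfl⟩ := hspan a ha
    show IsGeneralizedCharacter G (classInner ((k : ℂ) • χ) χ • w)
    rw [classInner_smul_left, classInner_irr_self hχ, mul_one]
    have := isGenChar_intSmul k hw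
    simpa [Int.cast_smul_eq_zsmul] using this
  · show classInner χ χ • w = w
    rw [classInner_irr_self hχ, one_smul]

variable {N : Type u} [Group N] [Fintype N] {G : Type v} [Group G] [Fintype G]

theorem feit_criterion {S₀ : Finset (N → ℂ)} {χ : N → ℂ} (hirr : ∀ ξ ∈ S₀, IsIrrCharacter N ξ) (hχ : IsIrrCharacter N χ)
    (hχS : χ ∉ S₀) {d : (N → ℂ) → ℕ} (hd : ∀ ξ ∈ insert χ (↑S₀ : Set (N → ℂ)), ξ 1 = (d ξ : ℂ)) {τ : (N → ℂ) → (G → ℂ)}
    (hτ : IsLinearIsometryOn (zspanOn (insert χ (↑S₀ : Set (N → ℂ))) {1}ᶜ) τ)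
    (hτ1 : ∀ α ∈ zspanOn (insert χ (↑S₀ : Set (N → ℂ))) {1}ᶜ, τ α 1 = 0)
    (hcoh : IsCoherent (↑S₀ : Set (N → ℂ)) {1}ᶜ τ) {ψ : N → ℂ} (hψ : ψ ∈ S₀) (hdvd : d ψ ∣ d χ)
    (hlt : 2 * d ψ * d χ < ∑ ξ ∈ S₀, d ξ ^ 2) : IsCoherent (insert χ (↑S₀ : Set (N → ℂ))) {1}ᶜ τ := by
  classical
  set S : Set (N → ℂ) := insert χ (↑S₀ : Set (N → ℂ)) with hS
  have hS0 : (↑S₀ : Set (N → ℂ)) ⊆ S := Set.subset_insert _ _
  have hSirr : ∀ ξ ∈ S, IsIrrCharacter N ξ := fun ξ hξ => by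
    rcases hξ with rfl | h
    · exact hχ
    · exact hirr ξ h
  have dpos : ∀ ξ ∈ S, 0 < d ξ := fun ξ hξ => by
    obtain ⟨k, hk, hk'⟩ := irr_degree_pos (hSirr ξ hξ)
    have : (k : ℂ) = d ξ := hk'.symm.trans (hd ξ hξ)
    rw [← Nat.cast_inj.mp this]; exact hk
  obtain ⟨-, τ₁, hτ₁, hagree⟩ := hcoh
  obtain ⟨a, ha⟩ := hdvd
  have hdψ := dpos ψ (hS0 hψ)
  have hdχ := dpos χ (Set.mem_insert _ _)
  have ha0 : 0 < a := Nat.pos_of_ne_zero fun h => by rw [h, mul_zero] at ha; omega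
  -- the image of `aψ - χ`
  have hβ : (a : ℤ) • ψ - χ ∈ zspanOn S {1}ᶜ := ⟨Submodule.sub_mem _ (Submodule.smul_mem _ _ (Submodule.subset_span (hS0 hψ))) (Submodule.subset_span (Set.mem_insert _ _)), fun x hx => by
    have : x = 1 := by simpa using hx
    rw [this, Pi.sub_apply, Pi.smul_apply, hd ψ (hS0 hψ), hd χ (Set.mem_insert _ _), ha, zsmul_eq_mul]; push_cast; ring⟩
  set v := τ ((a : ℤ) • ψ - χ) with hv
  have hψin : ψ ∈ zspan (↑S₀ : Set (N → ℂ)) := Submodule.subset_span hψ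
  have t1 : ∀ ξ ∈ S₀, ∀ η ∈ S₀, classInner (τ₁ ξ) (τ₁ η) = if ξ = η then 1 else 0 := fun ξ hξ η hη => by
    rw [hτ₁.2.2.1 _ (Submodule.subset_span hξ) _ (Submodule.subset_span hη)]
    exact classInner_irr (hirr ξ hξ) (hirr η hη)
  have hgv : IsGeneralizedCharacter G v := hτ.2.2.2 _ hβ
  choose! c hc using fun ξ (hξ : ξ ∈ S₀) => classInner_genChar_int hgv (hτ₁.2.2.2 ξ (Submodule.subset_span hξ))
  have hrel : ∀ ξ ∈ S₀, ξ ≠ ψ → (d ψ : ℤ) * c ξ = (d ξ : ℤ) * (c ψ - a) := by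
    intro ξ hξ hne
    have hm := deg_comb_mem (X := (↑S₀ : Set (N → ℂ))) hξ hψ (hd ξ (hS0 hξ)) (hd ψ (hS0 hψ))
    have hm' : (d ψ : ℤ) • ξ - (d ξ : ℤ) • ψ ∈ zspanOn S {1}ᶜ := ⟨Submodule.span_mono hS0 hm.1, hm.2⟩
    have h := hτ.2.2.1 _ hβ _ hm'
    rw [← hagree _ hm, li_comb hτ₁ (Submodule.subset_span hξ) hψin, ← hv] at h
    simp only [← Int.cast_smul_eq_zsmul ℂ, classInner_sub_right, classInner_sub_left, classInner_smul_left,
      classInner_smul_right, map_intCast, hc ξ hξ, hc ψ hψ, classInner_irr_self (hirr ψ hψ),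
      classInner_irr_ne (hirr ψ hψ) (hirr ξ hξ) (Ne.symm hne),
      classInner_irr_ne hχ (hirr ξ hξ) (fun e => hχS (e ▸ hξ)), classInner_irr_ne hχ (hirr ψ hψ) (fun e => hχS (e ▸ hψ))] at h
    have h' : (((d ψ : ℤ) * c ξ : ℤ) : ℂ) = (((d ξ : ℤ) * (c ψ - a) : ℤ) : ℂ) := by push_cast at h ⊢; linear_combination h
    exact_mod_cast h'
  set x : ℤ := (a : ℤ) - c ψ with hx
  have hvv : classInner v v = (a : ℂ) ^ 2 + 1 := by
    rw [hτ.2.2.1 _ hβ _ hβ]
    simp only [← Int.cast_smul_eq_zsmul ℂ, classInner_sub_right, classInner_sub_left, classInner_smul_left,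
      classInner_smul_right, map_intCast, classInner_irr_self (hirr ψ hψ), classInner_irr_self hχ,
      classInner_irr_ne (hirr ψ hψ) hχ (fun e => hχS (e ▸ hψ)), classInner_irr_ne hχ (hirr ψ hψ) (fun e => hχS (e ▸ hψ))]
    push_cast; ring
  set z := v - ∑ ξ ∈ S₀, (c ξ : ℂ) • τ₁ ξ with hz
  have hzorth : ∀ η ∈ S₀, classInner z (τ₁ η) = 0 := fun η hη => by
    rw [hz, classInner_sub_left, classInner_sum_left, hc η hη, Finset.sum_eq_single η
      (fun ξ hξ hne => by rw [classInner_smul_left, t1 ξ hξ η hη, if_neg hne, mul_zero]) (fun h => absurd hη h),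
      classInner_smul_left, t1 η hη η hη, if_pos rfl, mul_one, sub_self]
  have hzgen : IsGeneralizedCharacter G z := isGenChar_sub hgv (isGenChar_sum _ _ fun ξ hξ => by
    have := isGenChar_intSmul (c ξ) (hτ₁.2.2.2 ξ (Submodule.subset_span hξ))
    simpa [Int.cast_smul_eq_zsmul] using this)
  obtain ⟨k, hk⟩ := classInner_genChar_int hzgen hzgen
  have hk0 : 0 ≤ k := by
    have h0 : 0 ≤ (classInner z z).re := by
      simp only [classInner, Complex.mul_conj]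
      rw [← Complex.ofReal_sum, ← Complex.ofReal_natCast, ← Complex.ofReal_inv, ← Complex.ofReal_mul, Complex.ofReal_re]
      exact mul_nonneg (by positivity) (Finset.sum_nonneg fun i _ => Complex.normSq_nonneg _)
    rw [hk, Complex.intCast_re] at h0
    exact_mod_cast h0
  have hkeq : (a : ℤ) ^ 2 + 1 = k + ∑ ξ ∈ S₀, c ξ ^ 2 := by
    have hzs : classInner z z = classInner z v := by
      conv_lhs => arg 2; rw [hz]
      rw [classInner_sub_right, classInner_sum_right, Finset.sum_eq_zero fun ξ hξ => by rw [classInner_smul_right, hzorth ξ hξ, mul_zero], sub_zero]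
    have hzv : classInner z v = (a : ℂ) ^ 2 + 1 - ∑ ξ ∈ S₀, (c ξ : ℂ) ^ 2 := by
      rw [hz, classInner_sub_left, classInner_sum_left, hvv]
      congr 1
      refine Finset.sum_congr rfl fun ξ hξ => ?_
      rw [classInner_smul_left, ← classInner_comm, hc ξ hξ, map_intCast, sq]
    have : (((a : ℤ) ^ 2 + 1 : ℤ) : ℂ) = ((k + ∑ ξ ∈ S₀, c ξ ^ 2 : ℤ) : ℂ) := by
      push_cast; rw [← hk, hzs, hzv]; ring
    exact_mod_cast this
  have hsum : (d ψ : ℤ) ^ 2 * ∑ ξ ∈ S₀, c ξ ^ 2 = (d ψ : ℤ) ^ 2 * a ^ 2 - 2 * a * x * (d ψ) ^ 2 + x ^ 2 * ∑ ξ ∈ S₀, (d ξ : ℤ) ^ 2 := by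
    rw [← Finset.add_sum_erase _ _ hψ, ← Finset.add_sum_erase _ (fun ξ => (d ξ : ℤ) ^ 2) hψ, mul_add, mul_add, Finset.mul_sum, Finset.mul_sum,
      Finset.sum_congr rfl fun ξ hξ => show (d ψ : ℤ) ^ 2 * c ξ ^ 2 = x ^ 2 * (d ξ : ℤ) ^ 2 by
        rw [← mul_pow, hrel ξ (Finset.mem_of_mem_erase hξ) (Finset.ne_of_mem_erase hξ), hx]; ring]
    rw [hx]; ring
  set T : ℤ := ∑ ξ ∈ S₀, (d ξ : ℤ) ^ 2 with hT
  have hT2 : 2 * (a : ℤ) * (d ψ) ^ 2 + 1 ≤ T := by
    have h' : (((2 * d ψ * d χ : ℕ)) : ℤ) < ((∑ ξ ∈ S₀, d ξ ^ 2 : ℕ) : ℤ) := by exact_mod_cast hlt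
    push_cast at h'
    rw [ha] at h'
    push_cast at h'
    rw [← hT] at h'
    nlinarith
  -- the defect vanishes
  have hx0 : x = 0 := by
    by_contra hxne
    have hmain : x ^ 2 * T - 2 * a * x * (d ψ) ^ 2 + k * (d ψ) ^ 2 = (d ψ : ℤ) ^ 2 := by
      have := congrArg ((d ψ : ℤ) ^ 2 * ·) hkeq
      simp only [mul_add, hsum] at this
      linarith
    have hdp : (1 : ℤ) ≤ (d ψ : ℤ) ^ 2 := one_le_pow₀ (by exact_mod_cast hdψ)
    have hx1 : x = 1 := by
      by_contra h1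
      have haZ : (1 : ℤ) ≤ a := by exact_mod_cast ha0
      have hxx : 2 ≤ x ∨ x ≤ -1 := by omega
      generalize (d ψ : ℤ) ^ 2 = D at hmain hdp hT2
      have hkD : 0 ≤ k * D := mul_nonneg hk0 (by omega)
      rcases hxx with h | h
      · have h2 : 2 * x ≤ x ^ 2 := by nlinarith
        have h4 : 4 ≤ x ^ 2 := by nlinarith
        have haD : 1 ≤ a * D := one_le_mul_of_one_le_of_one_le haZ hdp
        have hTa : (a : ℤ) * D + 1 ≤ T - a * D := by nlinarith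
        have e1 : x * (2 * a * D) ≤ x ^ 2 * (a * D) := by nlinarith
        have e2 : 4 * (a * D + 1) ≤ x ^ 2 * (T - a * D) :=
          mul_le_mul h4 hTa (by omega) (by positivity)
        have e3 : D ≤ a * D := le_mul_of_one_le_left (by omega) haZ
        nlinarith
      · have haD : D ≤ a * D := le_mul_of_one_le_left (by omega) haZ
        have e1 : a * D ≤ -x * (a * D) := le_mul_of_one_le_left (by positivity) (by omega)
        have e2 : 0 ≤ x ^ 2 * T := mul_nonneg (sq_nonneg x) (by nlinarith)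
        nlinarith
    rw [hx1] at hmain
    have hcT : ∀ ξ ∈ S₀, ξ ≠ ψ → (d ψ : ℤ) * c ξ = -(d ξ : ℤ) := fun ξ hξ hne => by rw [hrel ξ hξ hne]; rw [show c ψ - (a : ℤ) = -1 by omega]; ring
    have hdiv : (d ψ : ℤ) ^ 2 ∣ T := by
      rw [hT]
      refine Finset.dvd_sum fun ξ hξ => ?_
      by_cases hne : ξ = ψ
      · rw [hne]
      · exact ⟨c ξ ^ 2, by rw [← neg_sq (d ξ : ℤ), ← hcT ξ hξ hne]; ring⟩
    obtain ⟨t, ht⟩ := hdiv
    rw [ht] at hmain hT2
    have hkt : t - 2 * a + k = 1 := by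
      have : (d ψ : ℤ) ^ 2 * (t - 2 * a + k) = (d ψ : ℤ) ^ 2 * 1 := by linarith
      exact mul_left_cancel₀ (by positivity) this
    have ht2 : 2 * (a : ℤ) < t := by nlinarith
    have hk00 : k = 0 := by omega
    have htv : t = 2 * a + 1 := by omega
    -- then `v` has a non-zero value at one
    have hz0 : z = 0 := by
      rw [hk00, Int.cast_zero] at hk
      simp only [classInner, Complex.mul_conj, mul_eq_zero, inv_eq_zero, Nat.cast_eq_zero] at hk
      rcases hk with h | h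
      · exact absurd h Nat.card_pos.ne'
      · funext g
        rw [← Complex.ofReal_sum, Complex.ofReal_eq_zero, Finset.sum_eq_zero_iff_of_nonneg fun i _ => Complex.normSq_nonneg _] at h
        exact Complex.normSq_eq_zero.mp (h g (Finset.mem_univ g))
    have hdeg : ∀ ξ ∈ S₀, (d ψ : ℂ) * τ₁ ξ 1 = (d ξ : ℂ) * τ₁ ψ 1 := fun ξ hξ => by
      have hm := deg_comb_mem (X := (↑S₀ : Set (N → ℂ))) hξ hψ (hd ξ (hS0 hξ)) (hd ψ (hS0 hψ))
      have h := hτ1 _ ⟨Submodule.span_mono hS0 hm.1, hm.2⟩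
      rw [← hagree _ hm, li_comb hτ₁ (Submodule.subset_span hξ) hψin, Pi.sub_apply, Pi.smul_apply, Pi.smul_apply, smul_eq_mul, smul_eq_mul] at h
      push_cast at h
      linear_combination h
    have h0 : v 1 = 0 := hτ1 _ hβ
    rw [show v = ∑ ξ ∈ S₀, (c ξ : ℂ) • τ₁ ξ from sub_eq_zero.mp hz0, Finset.sum_apply] at h0
    have h2 : (∑ ξ ∈ S₀, (d ξ : ℤ) * c ξ : ℤ) = -(a + 1) * (d ψ) := by
      have e : (d ψ : ℤ) * ∑ ξ ∈ S₀, (d ξ : ℤ) * c ξ = (d ψ : ℤ) * (-(a + 1) * (d ψ)) := by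
        rw [← Finset.add_sum_erase _ _ hψ, mul_add, Finset.mul_sum,
          Finset.sum_congr rfl fun ξ hξ => show (d ψ : ℤ) * ((d ξ : ℤ) * c ξ) = -((d ξ : ℤ) ^ 2) by
            rw [mul_left_comm, hcT ξ (Finset.mem_of_mem_erase hξ) (Finset.ne_of_mem_erase hξ)]; ring,
          Finset.sum_neg_distrib, Finset.sum_erase_eq_sub hψ, ← hT, ht, htv, show c ψ = (a : ℤ) - 1 by omega]
        ring
      exact mul_left_cancel₀ (by exact_mod_cast hdψ.ne') e
    have h3 : (d ψ : ℂ) * ∑ ξ ∈ S₀, ((c ξ : ℂ) • τ₁ ξ) 1 = ((-(a + 1) * (d ψ) : ℤ) : ℂ) * τ₁ ψ 1 := by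
      rw [← h2, Finset.mul_sum, Int.cast_sum, Finset.sum_mul]
      refine Finset.sum_congr rfl fun ξ hξ => ?_
      rw [Pi.smul_apply, smul_eq_mul]; push_cast
      linear_combination (c ξ : ℂ) * hdeg ξ hξ
    rw [h0, mul_zero] at h3
    have hne : τ₁ ψ 1 ≠ 0 := by
      rcases signed_image (X := (↑S₀ : Set (N → ℂ))) hirr hτ₁ hψ with h | h
      · exact irr_ne_zero h
      · intro e; exact irr_ne_zero h (by rw [Pi.neg_apply, e, neg_zero])
    have h4 : ((-(a + 1) * (d ψ) : ℤ) : ℂ) = 0 := (mul_eq_zero.mp h3.symm).resolve_right hne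
    have h5 : (-(a + 1) * (d ψ) : ℤ) = 0 := by exact_mod_cast h4
    rcases mul_eq_zero.mp h5 with h | h <;> omega
  have hk1 : k = 1 := by
    have := congrArg ((d ψ : ℤ) ^ 2 * ·) hkeq
    simp only [mul_add, hsum, hx0] at this
    have h' : (d ψ : ℤ) ^ 2 * k = (d ψ : ℤ) ^ 2 * 1 := by linarith
    exact mul_left_cancel₀ (by positivity) h'
  have hvz : v = (a : ℂ) • τ₁ ψ + z := by
    have : ∑ ξ ∈ S₀, (c ξ : ℂ) • τ₁ ξ = (a : ℂ) • τ₁ ψ := by
      rw [Finset.sum_eq_single ψ (fun ξ hξ hne => ?_) (fun h => absurd hψ h), show c ψ = (a : ℤ) by omega]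
      · norm_num
      · have h := hrel ξ hξ hne
        rw [show c ψ - (a : ℤ) = 0 by omega, mul_zero] at h
        rw [(mul_eq_zero.mp h).resolve_left (by exact_mod_cast hdψ.ne'), Int.cast_zero, zero_smul]
    rw [hz, this]; abel
  obtain ⟨σ, hσ, hσe⟩ := irr_singleton_isometry (G := G) hχ (isGenChar_neg hzgen)
    (by rw [classInner_neg_left, classInner_neg_right, neg_neg, hk, hk1, Int.cast_one])
  have hX2 : ∃ p ∈ (↑S₀ : Set (N → ℂ)), ∃ q ∈ (↑S₀ : Set (N → ℂ)), p ≠ q := by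
    by_contra hno
    push Not at hno
    have hsing : S₀ = {ψ} := Finset.eq_singleton_iff_unique_mem.mpr ⟨hψ, fun p hp => hno p hp ψ hψ⟩
    rw [hsing, Finset.sum_singleton, ha] at hlt
    nlinarith
  have hres := union_coherent (S := S) (X := (↑S₀ : Set (N → ℂ))) (Y := {χ}) hSirr hS0
    (Set.singleton_subset_iff.mpr (Set.mem_insert _ _)) (Set.disjoint_singleton_right.mpr hχS) hX2 hτ hτ₁ hagree hσ
    (fun θ hθ => ?_) (fun p hp q hq => ?_) ⟨ψ, hψ, χ, rfl, ?_⟩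
  · rwa [Set.union_singleton] at hres
  · obtain ⟨l, hl⟩ := Submodule.mem_span_singleton.mp hθ.1
    have h1 := hθ.2 1 (by simp)
    rw [← hl, Pi.smul_apply, hd χ (Set.mem_insert _ _), zsmul_eq_mul, mul_eq_zero] at h1
    have hl0 : l = 0 := by
      rcases h1 with h | h
      · exact_mod_cast h
      · exact absurd h (Nat.cast_ne_zero.mpr hdχ.ne')
    rw [← hl, hl0, li_zero hσ (Submodule.subset_span rfl), zero_smul]
    have h0 := hτ.2.1 _ hβ 0
    rw [zero_smul, zero_smul] at h0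
    exact h0.symm
  · rw [Set.mem_singleton_iff.mp hq, hσe, classInner_neg_right, ← classInner_comm, hzorth p hp, map_zero, neg_zero]
  · rw [hd ψ (hS0 hψ), hd χ (Set.mem_insert _ _), hσe]
    have e : (d ψ : ℂ) • χ - (d χ : ℂ) • ψ = (-(d ψ : ℤ)) • ((a : ℤ) • ψ - χ) := by
      funext g; simp only [← Int.cast_smul_eq_zsmul ℂ, Pi.smul_apply, Pi.sub_apply, smul_eq_mul, ha]; push_cast; ring
    rw [e, hτ.2.1 _ hβ, ← hv, hvz]
    funext g; simp only [← Int.cast_smul_eq_zsmul ℂ, Pi.smul_apply, Pi.add_apply, Pi.sub_apply, Pi.neg_apply, smul_eq_mul, ha]; push_cast; ring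

end CfsgLib.CharTheory
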