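/-
Coherence of characters of equal degree, without hypotheses on conjugation.
-/
import Cfsg.Agent.Lib.CharTheory.TIKernel
import Cfsg.Agent.Lib.CharTheory.Sibley
import Cfsg.Prelude.Def_Transfer

set_option autoImplicit false

namespace CfsgLib.CharTheory

open Cfsg
open scoped ComplexConjugate commutatorElement

universe u v

variable {L : Type u} [Group L] [Fintype L] {G : Type v} [Group G] [Fintype G]

theorem ortho_extension (S : Finset (L → ℂ)) (hirr : ∀ ξ ∈ S, IsIrrCharacter L ξ) (F : (L → ℂ) → (G → ℂ))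
    (hgen : ∀ ξ ∈ S, IsGeneralizedCharacter G (F ξ))
    (hF : ∀ ξ ∈ S, ∀ η ∈ S, classInner (F ξ) (F η) = classInner ξ η) :
    ∃ σ : (L → ℂ) → (G → ℂ), IsLinearIsometryOn (zspan (↑S : Set (L → ℂ))) σ ∧ (∀ ξ ∈ S, σ ξ = F ξ) := by
  classical
  set σ : (L → ℂ) → (G → ℂ) := fun θ => ∑ ξ ∈ S, classInner θ ξ • F ξ with hσ
  have hval : ∀ ξ ∈ S, σ ξ = F ξ := fun ξ hξ => by
    show ∑ η ∈ S, classInner ξ η • F η = F ξ
    rw [Finset.sum_eq_single ξ (fun η hη hne => by rw [classInner_irr_ne (hirr ξ hξ) (hirr η hη) (Ne.symm hne), zero_smul])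
      (fun h => absurd hξ h), classInner_irr_self (hirr ξ hξ), one_smul]
  have hadd : ∀ a b, σ (a + b) = σ a + σ b := fun a b => by
    simp only [hσ, classInner_add_left, add_smul, Finset.sum_add_distrib]
  have hsmul : ∀ (k : ℤ) a, σ (k • a) = k • σ a := fun k a => by
    simp only [hσ, ← Int.cast_smul_eq_zsmul ℂ, classInner_smul_left, mul_smul, Finset.smul_sum]
  have hzero : σ 0 = 0 := by simp [hσ, classInner_zero_left]
  have hip1 : ∀ ξ ∈ S, ∀ b ∈ zspan (↑S : Set (L → ℂ)), classInner (σ ξ) (σ b) = classInner ξ b := fun ξ hξ b hb => by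
    induction hb using Submodule.span_induction with
    | mem y hy => rw [hval ξ hξ, hval y hy, hF ξ hξ y hy]
    | zero => rw [hzero, classInner_zero_right, classInner_zero_right]
    | add y z _ _ hy hz => rw [hadd, classInner_add_right, classInner_add_right, hy, hz]
    | smul k y _ hy => rw [hsmul, ← Int.cast_smul_eq_zsmul ℂ, ← Int.cast_smul_eq_zsmul ℂ, classInner_smul_right, classInner_smul_right, hy]
  refine ⟨σ, ⟨fun a _ b _ => hadd a b, fun a _ k => hsmul k a, fun a ha b hb => ?_, fun a ha => ?_⟩, hval⟩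
  · induction ha using Submodule.span_induction with
    | mem x hx => exact hip1 x hx b hb
    | zero => rw [hzero, classInner_zero_left, classInner_zero_left]
    | add y z _ _ hy hz => rw [hadd, classInner_add_left, classInner_add_left, hy, hz]
    | smul k y _ hy => rw [hsmul, ← Int.cast_smul_eq_zsmul ℂ, ← Int.cast_smul_eq_zsmul ℂ, classInner_smul_left, classInner_smul_left, hy]
  · induction ha using Submodule.span_induction with
    | mem x hx => rw [hval x hx]; exact hgen x hx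
    | zero => rw [hzero]; exact isGenChar_zero
    | add y z _ _ hy hz => rw [hadd]; exact isGenChar_add hy hz
    | smul k y _ hy =>
      rw [hsmul]
      have := isGenChar_intSmul k hy
      simpa [Int.cast_smul_eq_zsmul] using this

theorem coherent_equal_degree (S : Set (L → ℂ)) (hfin : S.Finite) (hirr : ∀ ξ ∈ S, IsIrrCharacter L ξ)
    (hdeg : ∀ ξ ∈ S, ∀ η ∈ S, ξ 1 = η 1) (htwo : ∃ a ∈ S, ∃ b ∈ S, a ≠ b) {τ : (L → ℂ) → (G → ℂ)}
    (hτ : IsLinearIsometryOn (zspanOn S {1}ᶜ) τ) (hτ1 : ∀ α ∈ zspanOn S {1}ᶜ, τ α 1 = 0) :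
    IsCoherent S {1}ᶜ τ := by
  classical
  set T := hfin.toFinset
  have hT : ∀ {x}, x ∈ T ↔ x ∈ S := fun {x} => Set.Finite.mem_toFinset _
  obtain ⟨a, ha, b, hb, hab⟩ := htwo
  have hdiff : ∀ ξ ∈ S, ξ - a ∈ zspanOn S {1}ᶜ := fun ξ hξ =>
    ⟨Submodule.sub_mem _ (Submodule.subset_span hξ) (Submodule.subset_span ha), fun x hx => by
      rw [show x = 1 by simpa using hx, Pi.sub_apply, hdeg ξ hξ a ha, sub_self]⟩
  refine ⟨⟨b - a, hdiff b hb, sub_ne_zero.mpr (Ne.symm hab)⟩, ?_⟩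
  let f : Fin T.card → (L → ℂ) := fun i => (T.equivFin.symm i : L → ℂ)
  have hf : ∀ i, f i ∈ S := fun i => hT.mp (T.equivFin.symm i).2
  let i₀ := T.equivFin ⟨a, hT.mpr ha⟩
  have hi₀ : f i₀ = a := by simp [f, i₀]
  have hfinj : Function.Injective f := Subtype.val_injective.comp T.equivFin.symm.injective
  have hzero : τ (a - a) = 0 := by
    have h := hτ.2.1 _ (hdiff a ha) 0
    rw [zero_smul, zero_smul] at h
    rw [sub_self, h]
  obtain ⟨ε, hε, μ, hμ, hμinj, hμe⟩ := exists_coherent_family i₀ (fun i => τ (f i - a)) (by show τ (f i₀ - a) = 0; rw [hi₀, hzero])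
    (fun i => hτ.2.2.2 _ (hdiff _ (hf i))) (fun i => hτ1 _ (hdiff _ (hf i))) (fun i j hi hj => by
      show classInner (τ (f i - a)) (τ (f j - a)) = _
      rw [hτ.2.2.1 _ (hdiff _ (hf i)) _ (hdiff _ (hf j)), classInner_sub_left, classInner_sub_right, classInner_sub_right,
        classInner_irr (hirr _ (hf i)) (hirr _ (hf j)),
        classInner_irr_ne (hirr _ (hf i)) (hirr a ha) (fun e => hi (hfinj (e.trans hi₀.symm))),
        classInner_irr_ne (hirr a ha) (hirr _ (hf j)) (fun e => hj (hfinj (e.symm.trans hi₀.symm))),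
        classInner_irr_self (hirr a ha)]
      by_cases h : i = j
      · subst h; simp; norm_num
      · rw [if_neg h, if_neg (fun e => h (hfinj e))]; ring)
  let F : (L → ℂ) → (G → ℂ) := fun ξ => if h : ξ ∈ T then ε • μ (T.equivFin ⟨ξ, h⟩) else 0
  have hFval : ∀ i, F (f i) = ε • μ i := fun i => by
    show dite _ _ _ = _
    rw [dif_pos (show f i ∈ T from (T.equivFin.symm i).2)]
    congr 2
    simp [f]
  have hε2 : ε * conj ε = 1 := by rcases hε with rfl | rfl <;> simp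
  obtain ⟨σ, hσ, hσF⟩ := ortho_extension T (fun ξ h => hirr ξ (hT.mp h)) F (fun ξ hξ => by
    obtain ⟨i, rfl⟩ : ∃ i, f i = ξ := ⟨T.equivFin ⟨ξ, hξ⟩, by simp [f]⟩
    rw [hFval]
    rcases hε with rfl | rfl
    · rw [one_smul]; exact isGenChar_of_char (isCharacter_of_irr (hμ i))
    · rw [neg_one_smul]; exact isGenChar_neg (isGenChar_of_char (isCharacter_of_irr (hμ i))))
    (fun ξ hξ η hη => by
      obtain ⟨i, rfl⟩ : ∃ i, f i = ξ := ⟨T.equivFin ⟨ξ, hξ⟩, by simp [f]⟩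
      obtain ⟨j, rfl⟩ : ∃ j, f j = η := ⟨T.equivFin ⟨η, hη⟩, by simp [f]⟩
      rw [hFval, hFval, classInner_smul_left, classInner_smul_right, ← mul_assoc, hε2, one_mul,
        classInner_irr (hμ i) (hμ j), classInner_irr (hirr _ (hf i)) (hirr _ (hf j))]
      by_cases h : i = j
      · subst h; simp
      · rw [if_neg (fun e => h (hμinj e)), if_neg (fun e => h (hfinj e))])
  have hTS : (↑T : Set (L → ℂ)) = S := Set.Finite.coe_toFinset _
  rw [hTS] at hσ
  refine ⟨σ, hσ, fun θ hθ => ?_⟩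
  have hσd : ∀ ξ ∈ S, σ (ξ - a) = τ (ξ - a) := fun ξ hξ => by
    obtain ⟨i, rfl⟩ : ∃ i, f i = ξ := ⟨T.equivFin ⟨ξ, hT.mpr hξ⟩, by simp [f]⟩
    rw [← one_smul ℤ (f i), ← one_smul ℤ a, li_comb hσ (Submodule.subset_span hξ) (Submodule.subset_span ha),
      one_smul, one_smul, Int.cast_one, one_smul, one_smul, show τ (f i - a) = ε • (μ i - μ i₀) from hμe i,
      hσF _ (hT.mpr hξ), hσF _ (hT.mpr ha), hFval, ← hi₀, hFval, smul_sub]
  have key : ∀ θ ∈ zspan S, ∃ c : ℤ, θ - c • a ∈ zspanOn S {1}ᶜ ∧ σ (θ - c • a) = τ (θ - c • a) := by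
    intro θ hθ
    induction hθ using Submodule.span_induction with
    | mem x hx => exact ⟨1, by rw [one_smul]; exact ⟨hdiff x hx, hσd x hx⟩⟩
    | zero =>
      refine ⟨0, ?_⟩
      rw [zero_smul, sub_zero, ← sub_self a]
      exact ⟨hdiff a ha, hσd a ha⟩
    | add x y _ _ hx hy =>
      obtain ⟨c, hcm, hc⟩ := hx
      obtain ⟨c', hcm', hc'⟩ := hy
      refine ⟨c + c', ?_⟩
      rw [show x + y - (c + c') • a = (x - c • a) + (y - c' • a) by rw [add_smul]; abel]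
      refine ⟨⟨Submodule.add_mem _ hcm.1 hcm'.1, fun z hz => by rw [Pi.add_apply, hcm.2 z hz, hcm'.2 z hz, add_zero]⟩, ?_⟩
      rw [hσ.1 _ hcm.1 _ hcm'.1, hτ.1 _ hcm _ hcm', hc, hc']
    | smul k x _ hx =>
      obtain ⟨c, hcm, hc⟩ := hx
      refine ⟨k * c, ?_⟩
      rw [mul_smul, ← smul_sub]
      refine ⟨⟨Submodule.smul_mem _ k hcm.1, fun z hz => by rw [Pi.smul_apply, hcm.2 z hz, smul_zero]⟩, ?_⟩
      rw [hσ.2.1 _ hcm.1, hτ.2.1 _ hcm, hc]
  obtain ⟨c, hcm, hc⟩ := key θ hθ.1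
  have hc0 : c = 0 := by
    obtain ⟨d, hd0, hd⟩ := irr_degree_pos (hirr a ha)
    have h := hcm.2 1 (by simp)
    rw [Pi.sub_apply, hθ.2 1 (by simp), Pi.smul_apply, hd, zero_sub, neg_eq_zero, zsmul_eq_mul, mul_eq_zero,
      Int.cast_eq_zero, Nat.cast_eq_zero] at h
    exact h.resolve_right hd0.ne'
  rwa [hc0, zero_smul, sub_zero] at hc

theorem irr_nontrivial_on_eq (K : Subgroup L) [K.Normal]
    (hC : ∀ k ∈ K, k ≠ 1 → Subgroup.centralizer ({k} : Set L) ≤ K) :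
    inducedIrrAbove K ⊥ = {χ | IsIrrCharacter L χ ∧ ∃ z ∈ K, χ z ≠ χ 1} := by
  have : Fintype K := Fintype.ofFinite K
  have hirr : ∀ χ ∈ inducedIrrAbove K ⊥, IsIrrCharacter L χ := fun χ hχ => by
    obtain ⟨θ, h1, h2, -, rfl⟩ := hχ
    exact isIrrCharacter_indFun_of_inertia_eq K h1 (inertia_eq_of_centralizer_le K hC h1 h2)
  have hempty : inducedIrrAbove K K = ∅ := Set.eq_empty_iff_forall_notMem.mpr fun χ ⟨θ, h1, h2, h3, _⟩ => h2
    (irr_eq_one_of_kernel_top h1 fun k => h3 k k.2)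
  have h := nontrivial_central_eq K K le_rfl (fun χ hχ => hirr χ hχ.1)
  rw [hempty, Set.diff_empty] at h
  exact h

theorem abelian_kernel_dichotomy (K : Subgroup L) [K.Normal] (hK1 : K ≠ ⊥) (hKL : K < ⊤) (hab : ∀ x ∈ K, ∀ y ∈ K, x * y = y * x)
    (hC : ∀ k ∈ K, k ≠ 1 → Subgroup.centralizer ({k} : Set L) ≤ K) {τ : (L → ℂ) → (G → ℂ)}
    (hτ : IsLinearIsometryOn (zspanOn (inducedIrrAbove K ⊥) {1}ᶜ) τ)
    (hτ1 : ∀ α ∈ zspanOn (inducedIrrAbove K ⊥) {1}ᶜ, τ α 1 = 0) :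
    (Nat.card {χ : L → ℂ // χ ∈ inducedIrrAbove K ⊥} = 1 ∧ Nat.card K = K.index + 1 ∧
      ∃ p : ℕ, p.Prime ∧ p ∣ Nat.card K ∧ ∀ k ∈ K, k ^ p = 1) ∨ IsCoherent (inducedIrrAbove K ⊥) {1}ᶜ τ := by
  classical
  have : Fintype K := Fintype.ofFinite K
  set S := inducedIrrAbove K ⊥
  have hirr : ∀ χ ∈ S, IsIrrCharacter L χ := fun χ hχ => by
    obtain ⟨θ, h1, h2, -, rfl⟩ := hχ
    exact isIrrCharacter_indFun_of_inertia_eq K h1 (inertia_eq_of_centralizer_le K hC h1 h2)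
  have hdeg : ∀ φ ∈ S, φ 1 = (K.index : ℂ) := by
    rintro φ ⟨η, g1, -, -, rfl⟩
    rw [indFun_apply_one, degree_one_of_commutative (fun a b => Subtype.ext (hab a a.2 b b.2)) g1, mul_one]
  by_cases htwo : ∃ a ∈ S, ∃ b ∈ S, a ≠ b
  · exact Or.inr (coherent_equal_degree S (inducedIrrAbove_finite K ⊥) hirr (fun a ha b hb => (hdeg a ha).trans (hdeg b hb).symm) htwo hτ hτ1)
  push Not at htwo
  left
  obtain ⟨χ, hχ⟩ := (nontrivial_central_nonempty K K hK1 le_rfl).mono Set.diff_subset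
  have : Unique {χ : L → ℂ // χ ∈ S} := ⟨⟨⟨χ, hχ⟩⟩, fun x => Subtype.ext (htwo x.1 x.2 χ hχ)⟩
  refine ⟨Nat.card_unique, ?_⟩
  choose δ hδ0 hδ using fun θ : IrrCharacter L => irr_degree_pos θ.2
  have heq := irr_nontrivial_on_eq K hC
  have hχmem : (Finset.univ : Finset (IrrCharacter L)).filter (fun θ : IrrCharacter L => ∃ z ∈ K, (θ : L → ℂ) z ≠ (θ : L → ℂ) 1) =
      {⟨χ, hirr χ hχ⟩} := by
    ext θ
    simp only [Finset.mem_filter, Finset.mem_univ, true_and, Finset.mem_singleton]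
    refine ⟨fun h => Subtype.ext (htwo _ ?_ χ hχ), fun h => ?_⟩
    · show θ.1 ∈ inducedIrrAbove K ⊥
      rw [heq]; exact ⟨θ.2, h⟩
    · have h2 : χ ∈ {χ | IsIrrCharacter L χ ∧ ∃ z ∈ K, χ z ≠ χ 1} := heq ▸ hχ
      subst h; exact h2.2
  have hs := sum_sq_nontrivial_on K δ hδ
  rw [hχmem, Finset.sum_singleton] at hs
  have hδχ : δ ⟨χ, hirr χ hχ⟩ = K.index := by
    have := hδ ⟨χ, hirr χ hχ⟩
    rw [show ((⟨χ, hirr χ hχ⟩ : IrrCharacter L) : L → ℂ) = χ from rfl, hdeg χ hχ] at this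
    exact_mod_cast this.symm
  rw [hδχ, ← Subgroup.card_mul_index K] at hs
  have hcard : Nat.card K = K.index + 1 := by
    refine Nat.eq_of_mul_eq_mul_right (Nat.pos_of_ne_zero (Subgroup.index_ne_zero_of_finite (H := K))) ?_
    rw [← hs]; ring
  refine ⟨hcard, ?_⟩
  obtain ⟨p, hp, hpd⟩ := Nat.exists_prime_and_dvd (n := Nat.card K) (by rw [Ne, Subgroup.card_eq_one]; exact hK1)
  have := Fact.mk hp
  refine ⟨p, hp, hpd, ?_⟩
  let Ω : Subgroup L :=
    { carrier := {k | k ∈ K ∧ k ^ p = 1}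
      one_mem' := ⟨K.one_mem, one_pow p⟩
      mul_mem' := fun {a b} ha hb => ⟨K.mul_mem ha.1 hb.1, by
        rw [(show Commute a b from hab a ha.1 b hb.1).mul_pow, ha.2, hb.2, one_mul]⟩
      inv_mem' := fun {a} ha => ⟨K.inv_mem ha.1, by rw [inv_pow, ha.2, inv_one]⟩ }
  have hΩn : Ω.Normal := ⟨fun k hk x => ⟨(inferInstance : K.Normal).conj_mem k hk.1 x, by
    rw [conj_pow, hk.2, mul_one, mul_inv_cancel]⟩⟩
  obtain ⟨y, hy⟩ := exists_prime_orderOf_dvd_card' (G := K) p hpd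
  have hyΩ : (y : L) ∈ Ω := ⟨y.2, by rw [← Subgroup.coe_pow, ← hy, pow_orderOf_eq_one, Subgroup.coe_one]⟩
  have hΩ1 : 1 < Nat.card Ω := (Subgroup.one_lt_card_iff_ne_bot _).mpr fun h => by
    rw [h, Subgroup.mem_bot] at hyΩ
    rw [show y = 1 from Subtype.ext hyΩ, orderOf_one] at hy
    exact hp.ne_one hy.symm
  have hΩK : Ω ≤ K := fun k hk => hk.1
  have hd := index_dvd_card_sub_one' K Ω fun k hk hk1 x =>
    ⟨fun h => hC k hk.1 hk1 (Subgroup.mem_centralizer_singleton_iff.mpr h), fun hx => hab x hx k hk.1⟩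
  have hle := Nat.le_of_dvd (by omega) hd
  have hge := Nat.le_of_dvd Nat.card_pos (Subgroup.card_dvd_of_le hΩK)
  have heqK : Ω = K := Subgroup.eq_of_le_of_card_ge hΩK (by omega)
  intro k hk
  exact (show k ∈ Ω from heqK.symm ▸ hk).2

end CfsgLib.CharTheory
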