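/-
Degree bounds for the characters of a nilpotent group with a coprime splitting, used in
Feit's coherence theorem.
-/
import Mathlib
import Cfsg.Agent.Lib.CharTheory.Linear
import Cfsg.Agent.Lib.CharTheory.Integral

set_option autoImplicit false

namespace CfsgLib.CharTheory

open Cfsg
open scoped ComplexConjugate

universe u

variable {H : Type u} [Group H] [Fintype H]

theorem irr_apply_mul_kernel (N : Subgroup H) [N.Normal] {θ : H → ℂ} (hθ : IsIrrCharacter H θ)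
    (hN : ∀ n ∈ N, θ n = θ 1) (x : H) {y : H} (hy : y ∈ N) : θ (x * y) = θ x ∧ θ (y * x) = θ x := by
  obtain ⟨ψ, hψ, rfl⟩ := exists_quotient_irr N hθ hN
  have h : ((y : H) : H ⧸ N) = 1 := (QuotientGroup.eq_one_iff y).mpr hy
  exact ⟨by simp [h], by simp [h]⟩

theorem irr_degree_dvd_index (N : Subgroup H) [N.Normal] {θ : H → ℂ} (hθ : IsIrrCharacter H θ)
    (hN : ∀ n ∈ N, θ n = θ 1) {d : ℕ} (hd : θ 1 = (d : ℂ)) : d ∣ N.index := by
  obtain ⟨ψ, hψ, rfl⟩ := exists_quotient_irr N hθ hN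
  obtain ⟨n, ρ, hρ, rfl⟩ := hψ
  have h := finrank_dvd_card ρ
  rw [← Subgroup.index] at h
  have hdn : (Module.finrank ℂ (Fin n → ℂ) : ℂ) = d := by
    rw [← ρ.char_one, ← hd]; simp
  rwa [← Nat.cast_inj.mp hdn]

theorem sum_sq_trivial_on (N : Subgroup H) [N.Normal] (δ : IrrCharacter H → ℕ)
    (hδ : ∀ θ : IrrCharacter H, (θ : H → ℂ) 1 = (δ θ : ℂ))
    [DecidablePred fun θ : IrrCharacter H => ∀ n ∈ N, (θ : H → ℂ) n = (θ : H → ℂ) 1] :
    ∑ θ ∈ Finset.univ.filter (fun θ : IrrCharacter H => ∀ n ∈ N, (θ : H → ℂ) n = (θ : H → ℂ) 1), δ θ ^ 2 = N.index := by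
  classical
  have : Fintype (H ⧸ N) := Fintype.ofFinite _
  have h : ((∑ θ ∈ Finset.univ.filter (fun θ : IrrCharacter H => ∀ n ∈ N, (θ : H → ℂ) n = (θ : H → ℂ) 1),
      δ θ ^ 2 : ℕ) : ℂ) = (N.index : ℂ) := by
    rw [Subgroup.index, ← sum_irr_degree_sq (G := H ⧸ N)]
    push_cast
    simp only [← hδ]
    rw [Finset.sum_subtype (Finset.univ.filter fun θ : IrrCharacter H => ∀ n ∈ N, (θ : H → ℂ) n = (θ : H → ℂ) 1)
      (p := fun θ : IrrCharacter H => ∀ n ∈ N, (θ : H → ℂ) n = (θ : H → ℂ) 1) (fun θ => by simp)]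
    exact (Fintype.sum_equiv (quotientIrrEquiv N) _ _ fun ψ => rfl).symm
  exact_mod_cast h

section Compl

variable (P Q : Subgroup H) [P.Normal] [Q.Normal]

theorem sum_compl (hc : Subgroup.IsComplement' P Q) (F : H → ℂ) [Fintype P] [Fintype Q] :
    ∑ g : H, F g = ∑ x : P, ∑ y : Q, F ((x : H) * y) := by
  rw [← Fintype.sum_prod_type' (fun (x : P) (y : Q) => F ((x : H) * y))]
  exact (Fintype.sum_bijective (fun z : P × Q => (z.1 : H) * z.2) hc _ _ fun z => rfl).symm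

theorem irr_mul_compl (hc : Subgroup.IsComplement' P Q) {α β : H → ℂ} (hα : IsIrrCharacter H α)
    (hαQ : ∀ y ∈ Q, α y = α 1) (hβ : IsIrrCharacter H β) (hβP : ∀ x ∈ P, β x = β 1) :
    IsIrrCharacter H (α * β) := by
  classical
  have : Fintype P := Fintype.ofFinite P
  have : Fintype Q := Fintype.ofFinite Q
  refine irr_of_char_norm_one (isCharacter_mul (isCharacter_of_irr hα) (isCharacter_of_irr hβ)) ?_
  have hH : (Nat.card H : ℂ) = (Nat.card P : ℂ) * Nat.card Q := by rw [← Nat.cast_mul, hc.card_mul]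
  have hP0 : (Nat.card P : ℂ) ≠ 0 := Nat.cast_ne_zero.mpr Nat.card_pos.ne'
  have hQ0 : (Nat.card Q : ℂ) ≠ 0 := Nat.cast_ne_zero.mpr Nat.card_pos.ne'
  have hsum : ∀ f : H → ℂ, classInner f f = 1 → ∑ g : H, f g * conj (f g) = (Nat.card H : ℂ) := fun f hf => by
    rw [classInner] at hf
    field_simp at hf
    linear_combination hf
  have ha := hsum α (classInner_irr_self hα)
  have hb := hsum β (classInner_irr_self hβ)
  rw [sum_compl P Q hc] at ha hb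
  simp only [fun (x : P) (y : Q) => (irr_apply_mul_kernel Q hα hαQ x y.2).1, Finset.sum_const, Finset.card_univ,
    nsmul_eq_mul, ← Finset.mul_sum] at ha
  simp only [fun (x : P) (y : Q) => (irr_apply_mul_kernel P hβ hβP y x.2).2, Finset.sum_const, Finset.card_univ,
    nsmul_eq_mul] at hb
  rw [← Nat.card_eq_fintype_card, hH] at ha hb
  have ha' : ∑ x : P, α x * conj (α x) = (Nat.card P : ℂ) := mul_left_cancel₀ hQ0 (ha.trans (mul_comm _ _))
  have hb' : ∑ y : Q, β y * conj (β y) = (Nat.card Q : ℂ) := mul_left_cancel₀ hP0 hb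
  have hab : ∑ g : H, (α * β) g * conj ((α * β) g) = (Nat.card H : ℂ) := by
    rw [sum_compl P Q hc]
    simp only [Pi.mul_apply, fun (x : P) (y : Q) => (irr_apply_mul_kernel Q hα hαQ x y.2).1,
      fun (x : P) (y : Q) => (irr_apply_mul_kernel P hβ hβP y x.2).2, map_mul]
    calc ∑ x : P, ∑ y : Q, α x * β y * (conj (α x) * conj (β y))
        = ∑ x : P, (α x * conj (α x)) * ∑ y : Q, β y * conj (β y) :=
          Finset.sum_congr rfl fun x _ => by rw [Finset.mul_sum]; exact Finset.sum_congr rfl fun y _ => by ring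
      _ = _ := by rw [← Finset.sum_mul, ha', hb', hH]
  simp only [classInner, hab]
  rw [hH]; field_simp

theorem mul_compl_cancel (hc : Subgroup.IsComplement' P Q) {α α' β β' : H → ℂ} (hα : IsIrrCharacter H α)
    (hαQ : ∀ y ∈ Q, α y = α 1) (hα' : IsIrrCharacter H α') (hαQ' : ∀ y ∈ Q, α' y = α' 1)
    (hβ : IsIrrCharacter H β) (hβP : ∀ x ∈ P, β x = β 1) (hβP' : ∀ x ∈ P, β' x = β' 1) (h : α * β = α' * β') :
    α = α' := by
  have hb := irr_ne_zero hβ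
  have hev : ∀ g, α g * β 1 = α' g * β' 1 := fun g => by
    obtain ⟨⟨x, y⟩, rfl⟩ := hc.2 g
    show α ((x : H) * y) * _ = α' ((x : H) * y) * _
    rw [(irr_apply_mul_kernel Q hα hαQ x y.2).1, (irr_apply_mul_kernel Q hα' hαQ' x y.2).1, ← hβP x x.2, ← hβP' x x.2]
    exact congrFun h x
  by_contra hne
  have heq : α = (β' 1 / β 1) • α' := funext fun g => by
    rw [Pi.smul_apply, smul_eq_mul, div_mul_eq_mul_div, eq_div_iff hb, hev g, mul_comm]
  have h0 := classInner_irr_ne hα hα' hne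
  rw [heq, classInner_smul_left, classInner_irr_self hα', mul_one] at h0
  refine irr_ne_zero hα ?_
  rw [heq, h0, zero_smul]; rfl

end Compl

/-- Products of characters trivial on either factor of a splitting give all irreducible characters. -/
theorem exists_compl_mul (P Q : Subgroup H) [P.Normal] [Q.Normal] (hc : Subgroup.IsComplement' P Q)
    (δ : IrrCharacter H → ℕ) (hδ : ∀ θ : IrrCharacter H, (θ : H → ℂ) 1 = (δ θ : ℂ)) :
    ∃ f : IrrCharacter H × IrrCharacter H → IrrCharacter H,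
      (∀ a b : IrrCharacter H, (∀ y ∈ Q, (a : H → ℂ) y = (a : H → ℂ) 1) → (∀ x ∈ P, (b : H → ℂ) x = (b : H → ℂ) 1) →
        δ (f (a, b)) = δ a * δ b) ∧
      Set.InjOn f {z | (∀ y ∈ Q, (z.1 : H → ℂ) y = (z.1 : H → ℂ) 1) ∧ ∀ x ∈ P, (z.2 : H → ℂ) x = (z.2 : H → ℂ) 1} ∧
      ∀ θ, ∃ a b : IrrCharacter H, (∀ y ∈ Q, (a : H → ℂ) y = (a : H → ℂ) 1) ∧ (∀ x ∈ P, (b : H → ℂ) x = (b : H → ℂ) 1) ∧
        f (a, b) = θ := by
  classical
  let f : IrrCharacter H × IrrCharacter H → IrrCharacter H := fun z =>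
    if h : (∀ y ∈ Q, (z.1 : H → ℂ) y = (z.1 : H → ℂ) 1) ∧ ∀ x ∈ P, (z.2 : H → ℂ) x = (z.2 : H → ℂ) 1
    then ⟨(z.1 : H → ℂ) * (z.2 : H → ℂ), irr_mul_compl P Q hc z.1.2 h.1 z.2.2 h.2⟩ else z.1
  have hf : ∀ a b : IrrCharacter H, (∀ y ∈ Q, (a : H → ℂ) y = (a : H → ℂ) 1) →
      (∀ x ∈ P, (b : H → ℂ) x = (b : H → ℂ) 1) → ((f (a, b) : IrrCharacter H) : H → ℂ) = (a : H → ℂ) * (b : H → ℂ) :=
    fun a b h1 h2 => by simp only [f, dif_pos (And.intro h1 h2)]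
  have hdeg : ∀ a b : IrrCharacter H, (∀ y ∈ Q, (a : H → ℂ) y = (a : H → ℂ) 1) →
      (∀ x ∈ P, (b : H → ℂ) x = (b : H → ℂ) 1) → δ (f (a, b)) = δ a * δ b := fun a b h1 h2 => by
    have := hδ (f (a, b))
    rw [hf a b h1 h2, Pi.mul_apply, hδ, hδ] at this
    exact_mod_cast this.symm
  have hinj : Set.InjOn f {z | (∀ y ∈ Q, (z.1 : H → ℂ) y = (z.1 : H → ℂ) 1) ∧ ∀ x ∈ P, (z.2 : H → ℂ) x = (z.2 : H → ℂ) 1} := by
    rintro ⟨a, b⟩ ⟨h1, h2⟩ ⟨a', b'⟩ ⟨h1', h2'⟩ heq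
    have he : (a : H → ℂ) * (b : H → ℂ) = (a' : H → ℂ) * (b' : H → ℂ) := by
      rw [← hf a b h1 h2, ← hf a' b' h1' h2', heq]
    refine Prod.ext (Subtype.ext (mul_compl_cancel P Q hc a.2 h1 a'.2 h1' b.2 h2 h2' he)) (Subtype.ext ?_)
    exact mul_compl_cancel Q P hc.symm b.2 h2 b'.2 h2' a.2 h1 h1' (by rw [mul_comm, he, mul_comm])
  refine ⟨f, hdeg, hinj, fun θ => ?_⟩
  set A := Finset.univ.filter (fun θ : IrrCharacter H => ∀ y ∈ Q, (θ : H → ℂ) y = (θ : H → ℂ) 1)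
  set B := Finset.univ.filter (fun θ : IrrCharacter H => ∀ x ∈ P, (θ : H → ℂ) x = (θ : H → ℂ) 1)
  have himg : ∑ z ∈ (A ×ˢ B).image f, δ z ^ 2 = Nat.card H := by
    rw [Finset.sum_image fun z hz w hw e => hinj (by simpa [A, B] using hz) (by simpa [A, B] using hw) e,
      Finset.sum_product]
    calc ∑ a ∈ A, ∑ b ∈ B, δ (f (a, b)) ^ 2 = ∑ a ∈ A, δ a ^ 2 * ∑ b ∈ B, δ b ^ 2 :=
          Finset.sum_congr rfl fun a ha => by
            rw [Finset.mul_sum]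
            exact Finset.sum_congr rfl fun b hb => by
              rw [hdeg a b (Finset.mem_filter.mp ha).2 (Finset.mem_filter.mp hb).2, mul_pow]
      _ = _ := by
          rw [← Finset.sum_mul, sum_sq_trivial_on Q δ hδ, sum_sq_trivial_on P δ hδ, hc.symm.index_eq_card,
            hc.index_eq_card, hc.card_mul]
  by_contra hno
  have hmem : θ ∉ (A ×ˢ B).image f := fun h => by
    obtain ⟨⟨a, b⟩, hz, rfl⟩ := Finset.mem_image.mp h
    rw [Finset.mem_product] at hz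
    exact hno ⟨a, b, (Finset.mem_filter.mp hz.1).2, (Finset.mem_filter.mp hz.2).2, rfl⟩
  have htot : ∑ z : IrrCharacter H, δ z ^ 2 = Nat.card H := by
    have h : ((∑ z : IrrCharacter H, δ z ^ 2 : ℕ) : ℂ) = (Nat.card H : ℂ) := by
      rw [← sum_irr_degree_sq (G := H)]; push_cast; simp only [← hδ]
    exact_mod_cast h
  have hle := Finset.sum_le_sum_of_subset (f := fun z => δ z ^ 2) (Finset.subset_univ (insert θ ((A ×ˢ B).image f)))
  rw [Finset.sum_insert hmem, himg, htot] at hle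
  obtain ⟨d, hd0, hd⟩ := irr_degree_pos θ.2
  rw [hδ θ, Nat.cast_inj] at hd
  rw [← hd] at hd0
  have := pow_pos hd0 2
  omega

/-- The characters of small degree of a `p`-quotient have large total degree square. -/
theorem low_degree_sum (N : Subgroup H) [N.Normal] {p k : ℕ} (hp : p.Prime) (hk : N.index = p ^ k)
    (δ : IrrCharacter H → ℕ) (hδ : ∀ θ : IrrCharacter H, (θ : H → ℂ) 1 = (δ θ : ℂ))
    {θ : IrrCharacter H} (hθ : ∀ n ∈ N, (θ : H → ℂ) n = (θ : H → ℂ) 1) (h1 : 1 < δ θ)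
    [DecidablePred fun φ : IrrCharacter H => (∀ n ∈ N, (φ : H → ℂ) n = (φ : H → ℂ) 1) ∧ δ φ < δ θ] :
    δ θ ^ 2 ≤ ∑ φ ∈ Finset.univ.filter (fun φ : IrrCharacter H => (∀ n ∈ N, (φ : H → ℂ) n = (φ : H → ℂ) 1) ∧ δ φ < δ θ), δ φ ^ 2 := by
  classical
  set T := Finset.univ.filter (fun φ : IrrCharacter H => ∀ n ∈ N, (φ : H → ℂ) n = (φ : H → ℂ) 1)
  have hT : ∑ φ ∈ T, δ φ ^ 2 = p ^ k := (sum_sq_trivial_on N δ hδ).trans hk
  have hpow : ∀ φ ∈ T, ∃ i ≤ k, δ φ = p ^ i := fun φ hφ =>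
    (Nat.dvd_prime_pow hp).mp (hk ▸ irr_degree_dvd_index N φ.2 (Finset.mem_filter.mp hφ).2 (hδ φ))
  have hθT : θ ∈ T := Finset.mem_filter.mpr ⟨Finset.mem_univ _, hθ⟩
  obtain ⟨a, -, ha⟩ := hpow θ hθT
  have hle : δ θ ^ 2 ≤ p ^ k := hT ▸ Finset.single_le_sum (f := fun φ => δ φ ^ 2) (fun φ _ => Nat.zero_le _) hθT
  have hdvd : δ θ ^ 2 ∣ p ^ k := by
    rw [ha, ← pow_mul] at hle ⊢
    exact Nat.pow_dvd_pow _ ((Nat.pow_le_pow_iff_right hp.one_lt).mp hle)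
  have hsplit := Finset.sum_filter_add_sum_filter_not T (fun φ : IrrCharacter H => δ φ < δ θ) (fun φ => δ φ ^ 2)
  have hbig : δ θ ^ 2 ∣ ∑ φ ∈ T.filter (fun φ : IrrCharacter H => ¬ δ φ < δ θ), δ φ ^ 2 :=
    Finset.dvd_sum fun φ hφ => by
      obtain ⟨hφT, hφ'⟩ := Finset.mem_filter.mp hφ
      obtain ⟨i, -, hi⟩ := hpow φ hφT
      refine pow_dvd_pow_of_dvd ?_ 2
      rw [ha, hi] at hφ' ⊢
      exact Nat.pow_dvd_pow _ ((Nat.pow_le_pow_iff_right hp.one_lt).mp (not_lt.mp hφ'))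
  rw [hT] at hsplit
  have hsmall : δ θ ^ 2 ∣ ∑ φ ∈ T.filter (fun φ : IrrCharacter H => δ φ < δ θ), δ φ ^ 2 :=
    (Nat.dvd_add_left hbig).mp (hsplit ▸ hdvd)
  have htriv : (⟨fun _ => 1, isIrrCharacter_one⟩ : IrrCharacter H) ∈ T.filter (fun φ : IrrCharacter H => δ φ < δ θ) := by
    have h : (δ ⟨fun _ => 1, isIrrCharacter_one⟩ : ℂ) = 1 := (hδ _).symm
    rw [Nat.cast_eq_one] at h
    simp [T, h, h1]
  have hpos : 0 < ∑ φ ∈ T.filter (fun φ : IrrCharacter H => δ φ < δ θ), δ φ ^ 2 :=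
    lt_of_lt_of_le (pow_pos (show 0 < δ ⟨fun _ => 1, isIrrCharacter_one⟩ by
        have h : (δ ⟨fun _ => 1, isIrrCharacter_one⟩ : ℂ) = 1 := (hδ _).symm
        rw [Nat.cast_eq_one] at h
        omega) 2)
      (Finset.single_le_sum (f := fun φ => δ φ ^ 2) (fun φ _ => Nat.zero_le _) htriv)
  refine (Nat.le_of_dvd hpos hsmall).trans (le_of_eq ?_)
  exact Finset.sum_congr (by ext; simp [T]) fun _ _ => rfl

/-- The products of small degree characters from the two factors have small degree. -/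
theorem product_sum_le (P Q : Subgroup H) [P.Normal] [Q.Normal] (hc : Subgroup.IsComplement' P Q)
    (δ : IrrCharacter H → ℕ) (hδ : ∀ θ : IrrCharacter H, (θ : H → ℂ) 1 = (δ θ : ℂ))
    (A B C : Finset (IrrCharacter H)) (hA : ∀ a ∈ A, ∀ y ∈ Q, (a : H → ℂ) y = (a : H → ℂ) 1)
    (hB : ∀ b ∈ B, ∀ x ∈ P, (b : H → ℂ) x = (b : H → ℂ) 1)
    (hC : ∀ θ : IrrCharacter H, ∀ a ∈ A, ∀ b ∈ B, δ θ = δ a * δ b → θ ∈ C) :
    (∑ a ∈ A, δ a ^ 2) * (∑ b ∈ B, δ b ^ 2) ≤ ∑ θ ∈ C, δ θ ^ 2 := by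
  classical
  obtain ⟨f, hf, hinj, -⟩ := exists_compl_mul P Q hc δ hδ
  rw [Finset.sum_mul_sum, ← Finset.sum_product']
  calc ∑ z ∈ A ×ˢ B, δ z.1 ^ 2 * δ z.2 ^ 2 = ∑ z ∈ (A ×ˢ B).image f, δ z ^ 2 := by
        rw [Finset.sum_image fun z hz w hw e => hinj ⟨hA _ (Finset.mem_product.mp hz).1, hB _ (Finset.mem_product.mp hz).2⟩
          ⟨hA _ (Finset.mem_product.mp hw).1, hB _ (Finset.mem_product.mp hw).2⟩ e]
        exact Finset.sum_congr rfl fun z hz => by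
          rw [hf z.1 z.2 (hA _ (Finset.mem_product.mp hz).1) (hB _ (Finset.mem_product.mp hz).2), mul_pow]
    _ ≤ _ := Finset.sum_le_sum_of_subset fun θ hθ => by
        obtain ⟨z, hz, rfl⟩ := Finset.mem_image.mp hθ
        exact hC _ z.1 (Finset.mem_product.mp hz).1 z.2 (Finset.mem_product.mp hz).2
          (hf z.1 z.2 (hA _ (Finset.mem_product.mp hz).1) (hB _ (Finset.mem_product.mp hz).2))

end CfsgLib.CharTheory
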