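/-
The degree bounds of Feit for a nilpotent Frobenius kernel.
-/
import Mathlib
import Cfsg.Agent.Lib.CharTheory.FeitNilpotent
import Cfsg.Agent.Lib.CharTheory.AbelianInertia
import Cfsg.Agent.Lib.CharTheory.CoherenceDescend
import Cfsg.Agent.Lib.Frobenius.Splitting

set_option autoImplicit false

namespace CfsgLib.CharTheory

open Cfsg
open scoped ComplexConjugate commutatorElement

universe u

variable {L : Type u} [Group L] [Fintype L]

theorem delta_one_eq {H : Type u} [Group H] [Fintype H] (δ : IrrCharacter H → ℕ)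
    (hδ : ∀ θ : IrrCharacter H, (θ : H → ℂ) 1 = (δ θ : ℂ)) :
    δ (⟨fun _ => 1, isIrrCharacter_one⟩ : IrrCharacter H) = 1 :=
  Nat.cast_eq_one.mp ((hδ _).symm)

theorem exists_linear_trivial_on {H : Type u} [Group H] [Fintype H] [Group.IsNilpotent H] (N : Subgroup H)
    [N.Normal] (hN : N ≠ ⊤) :
    ∃ θ : H → ℂ, IsIrrCharacter H θ ∧ θ ≠ (fun _ => 1) ∧ (∀ n ∈ N, θ n = θ 1) ∧ θ 1 = 1 := by
  have hsolv : Group.IsSolvable (⊤ : Subgroup H) := inferInstance
  obtain ⟨θ, h1, h2, h3, h4⟩ := exists_linear_above (⊤ : Subgroup H) N hsolv (lt_top_iff_ne_top.mpr hN)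
  let e : H →* (⊤ : Subgroup H) := (Subgroup.topEquiv (G := H)).symm.toMonoidHom
  refine ⟨fun x => θ (e x), isIrrCharacter_comp_surjective h1 e (Subgroup.topEquiv (G := H)).symm.surjective, fun he => h2 ?_,
    fun n hn => ?_, ?_⟩
  · funext x
    have := congrFun he (x : H)
    exact this
  · show θ (e n) = θ (e 1)
    rw [map_one]; exact h3 (e n) hn
  · show θ (e 1) = 1
    rw [map_one]; exact h4

variable (K : Subgroup L) [K.Normal] [Fintype K]

theorem conjugates_trivial_on_bound (hC : ∀ k ∈ K, k ≠ 1 → Subgroup.centralizer ({k} : Set L) ≤ K)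
    (δ : IrrCharacter K → ℕ) (hδ : ∀ θ : IrrCharacter K, (θ : K → ℂ) 1 = (δ θ : ℂ))
    (A : Subgroup L) [A.Normal] {b : IrrCharacter K} (hb1 : (b : K → ℂ) ≠ fun _ => 1)
    (hbA : ∀ x ∈ A.subgroupOf K, (b : K → ℂ) x = (b : K → ℂ) 1)
    [DecidablePred fun θ : IrrCharacter K => (∀ x ∈ A.subgroupOf K, (θ : K → ℂ) x = (θ : K → ℂ) 1) ∧ δ θ ≤ δ b] :
    K.index * δ b ^ 2 + 1 ≤ ∑ θ ∈ Finset.univ.filter (fun θ : IrrCharacter K =>
      (∀ x ∈ A.subgroupOf K, (θ : K → ℂ) x = (θ : K → ℂ) 1) ∧ δ θ ≤ δ b), δ θ ^ 2 := by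
  classical
  let g : IrrCharacter K → (K → ℂ) := fun θ => (θ : K → ℂ)
  set O := Finset.univ.filter (fun θ : IrrCharacter K => g θ ∈ conjOrbit K (b : K → ℂ)) with hO
  have hcard : O.card = K.index := by
    have hmap : O.map ⟨g, Subtype.val_injective⟩ = conjOrbit K (b : K → ℂ) := by
      ext ψ
      simp only [hO, Finset.mem_map, Finset.mem_filter, Finset.mem_univ, true_and, Function.Embedding.coeFn_mk]
      refine ⟨fun ⟨θ, h, e⟩ => e ▸ h, fun h => ?_⟩
      obtain ⟨x, rfl⟩ := (mem_conjOrbit K).mp h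
      exact ⟨⟨_, isIrr_conjNormFun K x b.2⟩, h, rfl⟩
    rw [← Finset.card_map, hmap, card_conjOrbit, inertia_eq_of_centralizer_le K hC b.2 hb1]
  have hOd : ∀ θ ∈ O, δ θ = δ b ∧ (∀ x ∈ A.subgroupOf K, (θ : K → ℂ) x = (θ : K → ℂ) 1) ∧ (θ : K → ℂ) ≠ fun _ => 1 := fun θ hθ => by
    obtain ⟨x, hx⟩ := (mem_conjOrbit K).mp (Finset.mem_filter.mp hθ).2
    change conjNormFun K x (b : K → ℂ) = (θ : K → ℂ) at hx
    refine ⟨?_, fun a ha => ?_, fun e => hb1 ?_⟩
    · have := hδ θ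
      rw [← hx, conjNormFun_apply_one, hδ b] at this
      exact_mod_cast this.symm
    · rw [← hx, conjNormFun_apply_one]
      exact hbA ⟨x * a * x⁻¹, (inferInstance : K.Normal).conj_mem a a.2 x⟩ ((inferInstance : A.Normal).conj_mem _ ha x)
    · rw [e] at hx
      have := congrArg (conjNormFun K x⁻¹) hx
      rw [← conjNormFun_mul, mul_inv_cancel, conjNormFun_one] at this
      rw [this]; funext y; rfl
  obtain ⟨db, hdb0, hdb⟩ := irr_degree_pos b.2
  rw [hδ b, Nat.cast_inj] at hdb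
  set one : IrrCharacter K := ⟨fun _ => 1, isIrrCharacter_one⟩ with hone
  have hone' : one ∉ O := fun h => (hOd one h).2.2 rfl
  calc K.index * δ b ^ 2 + 1 = δ one ^ 2 + ∑ θ ∈ O, δ θ ^ 2 := by
        rw [Finset.sum_congr rfl fun θ hθ => by rw [(hOd θ hθ).1], Finset.sum_const, smul_eq_mul, hcard,
          delta_one_eq δ hδ]
        ring
    _ = ∑ θ ∈ insert one O, δ θ ^ 2 := (Finset.sum_insert (f := fun θ => δ θ ^ 2) hone').symm
    _ ≤ _ := Finset.sum_le_sum_of_subset fun θ hθ => by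
        refine Finset.mem_filter.mpr ⟨Finset.mem_univ _, ?_⟩
        rcases Finset.mem_insert.mp hθ with rfl | h
        · exact ⟨fun _ _ => rfl, by rw [delta_one_eq δ hδ]; omega⟩
        · exact ⟨(hOd θ h).2.1, (hOd θ h).1.le⟩

theorem linear_sum_ge_derived (δ : IrrCharacter K → ℕ) (hδ : ∀ θ : IrrCharacter K, (θ : K → ℂ) 1 = (δ θ : ℂ))
    [DecidablePred fun θ : IrrCharacter K => δ θ = 1] :
    (⁅K, K⁆.subgroupOf K).index ≤ ∑ θ ∈ Finset.univ.filter (fun θ : IrrCharacter K => δ θ = 1), δ θ ^ 2 := by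
  classical
  have hD : (⁅K, K⁆.subgroupOf K).Normal := inferInstance
  rw [← sum_sq_trivial_on (⁅K, K⁆.subgroupOf K) δ hδ]
  refine Finset.sum_le_sum_of_subset fun θ hθ => Finset.mem_filter.mpr ⟨Finset.mem_univ _, ?_⟩
  have h := irr_degree_one_of_kernel_commutator (⁅K, K⁆.subgroupOf K)
    (fun x y => Subgroup.commutator_mem_commutator x.2 y.2) θ.2 (Finset.mem_filter.mp hθ).2
  rw [hδ θ] at h
  exact_mod_cast h

/-- Feit's degree bounds for a non-`p`-group kernel, and for a `p`-group kernel with large abelianisation. -/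
theorem feit_bounds (hC : ∀ k ∈ K, k ≠ 1 → Subgroup.centralizer ({k} : Set L) ≤ K) (hK : K ≠ ⊥)
    [Group.IsNilpotent K] (δ : IrrCharacter K → ℕ) (hδ : ∀ θ : IrrCharacter K, (θ : K → ℂ) 1 = (δ θ : ℂ))
    (h : (¬ ∃ p m : ℕ, p.Prime ∧ Nat.card K = p ^ m) ∨ 4 * K.index ^ 2 + 1 < (⁅K, K⁆.subgroupOf K).index) :
    (K.index + 1 < ∑ φ ∈ Finset.univ.filter (fun φ : IrrCharacter K => δ φ = 1), δ φ ^ 2) ∧
    ∀ θ : IrrCharacter K, 1 < δ θ →
      2 * K.index * δ θ + 1 < ∑ φ ∈ Finset.univ.filter (fun φ : IrrCharacter K => δ φ < δ θ), δ φ ^ 2 := by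
  classical
  have hlin := linear_sum_ge_derived K δ hδ
  by_cases hpg : ∃ p m : ℕ, p.Prime ∧ Nat.card K = p ^ m
  · have hbig := h.resolve_left (not_not_intro hpg)
    have hle : K.index + 1 ≤ 4 * K.index ^ 2 + 1 := by
      have := Nat.le_self_pow two_ne_zero K.index
      omega
    refine ⟨by omega, fun θ hθ => ?_⟩
    by_cases hsm : δ θ ≤ 2 * K.index
    · have h2 : 2 * K.index * δ θ + 1 ≤ 4 * K.index ^ 2 + 1 := by
        have := Nat.mul_le_mul_left (2 * K.index) hsm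
        rw [show 4 * K.index ^ 2 = 2 * K.index * (2 * K.index) by ring]
        omega
      refine lt_of_le_of_lt h2 (lt_of_lt_of_le hbig (hlin.trans (Finset.sum_le_sum_of_subset fun φ hφ => ?_)))
      rw [Finset.mem_filter] at hφ ⊢
      exact ⟨hφ.1, by omega⟩
    · obtain ⟨p, m, hp, hm⟩ := hpg
      have h1 := low_degree_sum (⊥ : Subgroup K) hp (Subgroup.index_bot.trans hm) δ hδ (θ := θ)
        (fun n hn => by rw [Subgroup.mem_bot.mp hn]) hθ
      refine lt_of_lt_of_le ?_ (h1.trans (Finset.sum_le_sum_of_subset fun φ hφ => ?_))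
      · have := Nat.mul_le_mul_right (δ θ) (show 2 * K.index + 1 ≤ δ θ by omega)
        rw [add_mul, one_mul] at this
        rw [sq]; omega
      · rw [Finset.mem_filter] at hφ ⊢
        exact ⟨hφ.1, hφ.2.2⟩
  · -- a coprime splitting at a chosen prime
    have hsplit : ∀ p : ℕ, p.Prime → ∃ P Q : Subgroup K, P.Characteristic ∧ Q.Normal ∧ Subgroup.IsComplement' P Q ∧
        (∃ k, Q.index = p ^ k) ∧ ¬ p ∣ P.index := fun p hp => by
      have := Fact.mk hp
      obtain ⟨P, Q, hQn, hQP⟩ := CfsgLib.Frob.hasNormalPComplement_of_nilpotent (p := p) (inferInstance : Group.IsNilpotent K)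
      have hPn : (P : Subgroup K).Normal := by
        have := ((Group.isNilpotent_of_finite_tfae (G := K)).out 0 3).mp (inferInstance : Group.IsNilpotent K)
        exact this p ⟨hp⟩ P
      refine ⟨P, Q, P.characteristic_of_normal hPn, hQn, hQP.symm, ?_, P.not_dvd_index⟩
      obtain ⟨k, hk⟩ := IsPGroup.iff_card.mp P.isPGroup'
      exact ⟨k, by rw [hQP.symm.index_eq_card, hk]⟩
    obtain ⟨q, hq, hqd⟩ := Nat.exists_prime_and_dvd (n := Nat.card K) (by rw [Ne, Subgroup.card_eq_one]; exact hK)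
    refine ⟨?_, fun θ hθ => ?_⟩
    · obtain ⟨P, Q, hPc, hQn, hc, ⟨k, hk⟩, hPi⟩ := hsplit q hq
      have hPn : P.Normal := inferInstance
      have hPtop : P ≠ ⊤ := fun e => hpg ⟨q, k, hq, by rw [← hk, hc.index_eq_card, e, Subgroup.card_top]⟩
      have hQtop : Q ≠ ⊤ := fun e => by
        have hP : Nat.card P = 1 := by rw [← hc.index_eq_card, e, Subgroup.index_top]
        rw [Subgroup.card_eq_one.mp hP, Subgroup.index_bot] at hPi
        exact hPi hqd
      obtain ⟨β, hβ, hβ1, hβP, hβd⟩ := exists_linear_trivial_on P hPtop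
      obtain ⟨α, hα, hα1, hαQ, hαd⟩ := exists_linear_trivial_on Q hQtop
      have hPL : (P.map K.subtype).Normal := ConjAct.normal_of_characteristic_of_normal
      have hback : (P.map K.subtype).subgroupOf K = P := Subgroup.comap_map_eq_self_of_injective K.subtype_injective P
      have hb := conjugates_trivial_on_bound K hC δ hδ (P.map K.subtype) (b := ⟨β, hβ⟩) hβ1 (by rw [hback]; exact hβP)
      have hdb : δ ⟨β, hβ⟩ = 1 := Nat.cast_eq_one.mp ((hδ ⟨β, hβ⟩).symm.trans hβd)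
      have hda : δ ⟨α, hα⟩ = 1 := Nat.cast_eq_one.mp ((hδ ⟨α, hα⟩).symm.trans hαd)
      rw [hdb, one_pow, mul_one, hback] at hb
      have hnot : ¬ ∀ x ∈ P, α x = α 1 := fun hP => hα1 (irr_eq_one_of_kernel_top hα fun g => by
        obtain ⟨⟨x, y⟩, rfl⟩ := hc.2 g
        exact ((irr_apply_mul_kernel Q hα hαQ x y.2).1).trans (hP x x.2))
      have hsub : insert (⟨α, hα⟩ : IrrCharacter K) (Finset.univ.filter (fun φ : IrrCharacter K => (∀ x ∈ P, (φ : K → ℂ) x = (φ : K → ℂ) 1) ∧ δ φ ≤ 1)) ⊆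
          Finset.univ.filter (fun φ : IrrCharacter K => δ φ = 1) := fun φ hφ => by
        refine Finset.mem_filter.mpr ⟨Finset.mem_univ _, ?_⟩
        rcases Finset.mem_insert.mp hφ with rfl | h'
        · exact hda
        · obtain ⟨d, hd0, hd⟩ := irr_degree_pos φ.2
          rw [hδ φ, Nat.cast_inj] at hd
          have := (Finset.mem_filter.mp h').2.2
          omega
      refine lt_of_lt_of_le ?_ (Finset.sum_le_sum_of_subset hsub)
      rw [Finset.sum_insert (fun hmem => hnot (Finset.mem_filter.mp hmem).2.1), hda, one_pow]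
      omega
    · obtain ⟨p, hp, hpd⟩ := Nat.exists_prime_and_dvd (n := δ θ) (by omega)
      obtain ⟨P, Q, hPc, hQn, hc, ⟨k, hk⟩, hPi⟩ := hsplit p hp
      have hPn : P.Normal := inferInstance
      obtain ⟨f, hf, hinj, hsurj⟩ := exists_compl_mul P Q hc δ hδ
      obtain ⟨a, b, ha, hb, rfl⟩ := hsurj θ
      rw [hf a b ha hb] at hθ hpd ⊢
      have hpb : ¬ p ∣ δ b := fun h' => hPi (h'.trans (irr_degree_dvd_index P b.2 hb (hδ b)))
      have hpa : p ∣ δ a := (hp.dvd_mul.mp hpd).resolve_right hpb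
      obtain ⟨da, hda0, hda⟩ := irr_degree_pos a.2
      rw [hδ a, Nat.cast_inj] at hda
      have ha2 : 2 ≤ δ a := hp.two_le.trans (Nat.le_of_dvd (by omega) hpa)
      have hA := low_degree_sum Q hp hk δ hδ ha ha2
      have hPtop : P ≠ ⊤ := fun e => hpg ⟨p, k, hp, by rw [← hk, hc.index_eq_card, e, Subgroup.card_top]⟩
      obtain ⟨b₀, hb₀, hb₀P, hb₀d⟩ : ∃ b₀ : IrrCharacter K, (b₀ : K → ℂ) ≠ (fun _ => 1) ∧
          (∀ x ∈ P, (b₀ : K → ℂ) x = (b₀ : K → ℂ) 1) ∧ δ b₀ = δ b := by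
        by_cases hb1 : (b : K → ℂ) = fun _ => 1
        · obtain ⟨β, hβ, hβ1, hβP, hβd⟩ := exists_linear_trivial_on P hPtop
          refine ⟨⟨β, hβ⟩, hβ1, hβP, ?_⟩
          have h1 : δ b = 1 := Nat.cast_eq_one.mp (by rw [← hδ b, hb1])
          rw [h1]
          exact Nat.cast_eq_one.mp ((hδ ⟨β, hβ⟩).symm.trans hβd)
        · exact ⟨b, hb1, hb, rfl⟩
      have hPL : (P.map K.subtype).Normal := ConjAct.normal_of_characteristic_of_normal
      have hback : (P.map K.subtype).subgroupOf K = P := Subgroup.comap_map_eq_self_of_injective K.subtype_injective P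
      have hB := conjugates_trivial_on_bound K hC δ hδ (P.map K.subtype) hb₀ (by rw [hback]; exact hb₀P)
      rw [hback, hb₀d] at hB
      have hprod := product_sum_le P Q hc δ hδ
        (Finset.univ.filter fun φ : IrrCharacter K => (∀ y ∈ Q, (φ : K → ℂ) y = (φ : K → ℂ) 1) ∧ δ φ < δ a)
        (Finset.univ.filter fun φ : IrrCharacter K => (∀ x ∈ P, (φ : K → ℂ) x = (φ : K → ℂ) 1) ∧ δ φ ≤ δ b)
        (Finset.univ.filter fun φ : IrrCharacter K => δ φ < δ a * δ b)
        (fun x hx => (Finset.mem_filter.mp hx).2.1) (fun x hx => (Finset.mem_filter.mp hx).2.1)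
        (fun φ x hx y hy e => Finset.mem_filter.mpr ⟨Finset.mem_univ _, e ▸ ?_⟩)
      · refine lt_of_lt_of_le ?_ ((Nat.mul_le_mul hA hB).trans hprod)
        have h1 : 2 * (δ a * δ b) ≤ (δ a * δ b) * (δ a * δ b) := Nat.mul_le_mul_right _ hθ
        have h2 := Nat.mul_le_mul_left K.index h1
        have h3 : 4 ≤ δ a ^ 2 := by rw [sq]; exact Nat.mul_le_mul ha2 ha2
        rw [show δ a ^ 2 * (K.index * δ b ^ 2 + 1) = K.index * ((δ a * δ b) * (δ a * δ b)) + δ a ^ 2 by ring,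
          show 2 * K.index * (δ a * δ b) = K.index * (2 * (δ a * δ b)) by ring]
        omega
      · have hx' := (Finset.mem_filter.mp hx).2.2
        have hy' := (Finset.mem_filter.mp hy).2.2
        obtain ⟨db, hdb0, hdb⟩ := irr_degree_pos b.2
        rw [hδ b, Nat.cast_inj] at hdb
        exact Nat.mul_lt_mul_of_lt_of_le hx' hy' (by omega)

end CfsgLib.CharTheory
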