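/-
Feit's coherence theorem for Frobenius kernels.
-/
import Mathlib
import Cfsg.Agent.Lib.CharTheory.FeitBounds
import Cfsg.Agent.Lib.CharTheory.CoherenceFeit
import Cfsg.Agent.Lib.CharTheory.EqualDegree

set_option autoImplicit false

namespace CfsgLib.CharTheory

open Cfsg
open scoped ComplexConjugate commutatorElement

universe u v

variable {L : Type u} [Group L] [Fintype L] {G : Type v} [Group G] [Fintype G]

theorem zspanOn_mono {X : Type u} {S T : Set (X → ℂ)} (h : S ⊆ T) (A : Set X) : zspanOn S A ⊆ zspanOn T A :=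
  fun _ hα => ⟨Submodule.span_mono h hα.1, hα.2⟩

theorem isometryOn_mono {E F : Set (L → ℂ)} {τ : (L → ℂ) → (G → ℂ)} (h : E ⊆ F) (hF : IsLinearIsometryOn F τ) :
    IsLinearIsometryOn E τ :=
  ⟨fun a ha b hb => hF.1 a (h ha) b (h hb), fun a ha k => hF.2.1 a (h ha) k,
    fun a ha b hb => hF.2.2.1 a (h ha) b (h hb), fun a ha => hF.2.2.2 a (h ha)⟩

theorem coherent_of_degree_bounds (K : Subgroup L) [K.Normal] [Fintype K]
    (hC : ∀ k ∈ K, k ≠ 1 → Subgroup.centralizer ({k} : Set L) ≤ K)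
    {τ : (L → ℂ) → (G → ℂ)} (hτ : IsLinearIsometryOn (zspanOn (inducedIrrAbove K ⊥) {1}ᶜ) τ)
    (hτ1 : ∀ α ∈ zspanOn (inducedIrrAbove K ⊥) {1}ᶜ, τ α 1 = 0)
    (δ : IrrCharacter K → ℕ) (hδ : ∀ θ : IrrCharacter K, (θ : K → ℂ) 1 = (δ θ : ℂ))
    (hbase : K.index + 1 < ∑ φ ∈ Finset.univ.filter (fun φ : IrrCharacter K => δ φ = 1), δ φ ^ 2)
    (hstep : ∀ θ : IrrCharacter K, 1 < δ θ →
      2 * K.index * δ θ + 1 < ∑ φ ∈ Finset.univ.filter (fun φ : IrrCharacter K => δ φ < δ θ), δ φ ^ 2) :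
    IsCoherent (inducedIrrAbove K ⊥) {1}ᶜ τ := by
  classical
  set S := inducedIrrAbove K ⊥ with hSdef
  set Sf := (inducedIrrAbove_finite K ⊥).toFinset with hSfdef
  have hSf : ∀ {x}, x ∈ Sf ↔ x ∈ S := fun {x} => Set.Finite.mem_toFinset _
  have he : 0 < K.index := Nat.pos_of_ne_zero Subgroup.index_ne_zero_of_finite
  set e := K.index with hedef
  set one : IrrCharacter K := ⟨fun _ => 1, isIrrCharacter_one⟩ with hone
  let ind : IrrCharacter K → (L → ℂ) := fun θ => indFun K (θ : K → ℂ)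
  have hind : ∀ θ : IrrCharacter K, θ ≠ one → ind θ ∈ S ∧ IsIrrCharacter L (ind θ) := fun θ hθ => by
    have h1 : (θ : K → ℂ) ≠ fun _ => 1 := fun h => hθ (Subtype.ext h)
    exact ⟨⟨θ, θ.2, h1, fun a ha => by rw [show a = 1 from Subtype.ext (Subgroup.mem_bot.mp ha)], rfl⟩,
      isIrrCharacter_indFun_of_inertia_eq K θ.2 (inertia_eq_of_centralizer_le K hC θ.2 h1)⟩
  have hsurj : ∀ χ ∈ S, ∃ θ : IrrCharacter K, θ ≠ one ∧ ind θ = χ := fun χ hχ => by
    obtain ⟨θ, h1, h2, -, rfl⟩ := hχ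
    exact ⟨⟨θ, h1⟩, fun h => h2 (congrArg Subtype.val h), rfl⟩
  have hirr : ∀ χ ∈ S, IsIrrCharacter L χ := fun χ hχ => by
    obtain ⟨θ, h1, rfl⟩ := hsurj χ hχ; exact (hind θ h1).2
  choose! d hd0 hd using fun χ (h : χ ∈ S) => irr_degree_pos (hirr χ h)
  have hdind : ∀ θ : IrrCharacter K, θ ≠ one → d (ind θ) = e * δ θ := fun θ hθ => by
    have h := hd _ (hind θ hθ).1
    simp only [ind, indFun_apply_one, hδ θ] at h
    have h' : ((K.index * δ θ : ℕ) : ℂ) = (d (ind θ) : ℂ) := by push_cast; exact h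
    exact_mod_cast h'.symm
  have hone1 : δ one = 1 := delta_one_eq δ hδ
  -- sums over the induced characters
  have hsum : ∀ (R : ℕ → Prop) [DecidablePred R], R 1 →
      (∑ χ ∈ Sf.filter (fun χ => ∃ m, R m ∧ d χ = e * m), d χ ^ 2) + e =
        e * ∑ θ ∈ Finset.univ.filter (fun θ : IrrCharacter K => R (δ θ)), δ θ ^ 2 := fun R _ hR => by
    set Θ := (Finset.univ.filter (fun θ : IrrCharacter K => R (δ θ))).erase one with hΘ
    have himg : Sf.filter (fun χ => ∃ m, R m ∧ d χ = e * m) = Θ.image ind := by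
      ext χ
      simp only [hΘ, Finset.mem_filter, hSf, Finset.mem_image, Finset.mem_erase, Finset.mem_univ, true_and]
      constructor
      · rintro ⟨hχ, m, hm, hdm⟩
        obtain ⟨θ, h1, rfl⟩ := hsurj χ hχ
        rw [hdind θ h1] at hdm
        exact ⟨θ, ⟨h1, by rw [Nat.eq_of_mul_eq_mul_left he hdm]; exact hm⟩, rfl⟩
      · rintro ⟨θ, ⟨h1, h2⟩, rfl⟩
        exact ⟨(hind θ h1).1, δ θ, h2, hdind θ h1⟩
    rw [himg, Finset.sum_image' (fun θ : IrrCharacter K => e * δ θ ^ 2) ?_, ← Finset.mul_sum]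
    · have hmem : one ∈ Finset.univ.filter (fun θ : IrrCharacter K => R (δ θ)) :=
        Finset.mem_filter.mpr ⟨Finset.mem_univ _, hone1.symm ▸ hR⟩
      rw [hΘ, ← Finset.sum_erase_add _ (fun θ => δ θ ^ 2) hmem, hone1, one_pow, mul_add, mul_one]
    · intro θ hθ
      rw [hΘ, Finset.mem_erase, Finset.mem_filter] at hθ
      obtain ⟨hθ1, -, hθR⟩ := hθ
      have h1 : (θ : K → ℂ) ≠ fun _ => 1 := fun h => hθ1 (Subtype.ext h)
      let g : IrrCharacter K → (K → ℂ) := fun j => (j : K → ℂ)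
      have hfib : (Θ.filter fun j => ind j = ind θ).map ⟨g, Subtype.val_injective⟩ = conjOrbit K (θ : K → ℂ) := by
        ext j
        simp only [Finset.mem_map, Finset.mem_filter, hΘ, Finset.mem_erase, Finset.mem_univ, true_and,
          Function.Embedding.coeFn_mk, mem_conjOrbit]
        constructor
        · rintro ⟨j, ⟨-, hj⟩, rfl⟩
          by_contra hne
          have h0 := indFun_orthogonal_of_not_conj K j.2 θ.2 hne
          rw [show indFun K (j : K → ℂ) = indFun K (θ : K → ℂ) from hj] at h0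
          exact one_ne_zero ((classInner_irr_self (hind θ hθ1).2).symm.trans h0)
        · rintro ⟨x, rfl⟩
          refine ⟨⟨_, isIrr_conjNormFun K x θ.2⟩, ⟨⟨fun h => h1 ?_, ?_⟩, indFun_conjNormFun K x _⟩, rfl⟩
          · have := congrArg (conjNormFun K x⁻¹) (congrArg Subtype.val h)
            rw [← conjNormFun_mul, mul_inv_cancel, conjNormFun_one] at this
            rw [this]; funext y; rfl
          · have : δ ⟨_, isIrr_conjNormFun K x θ.2⟩ = δ θ := by
              have h := hδ ⟨_, isIrr_conjNormFun K x θ.2⟩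
              change conjNormFun K x (θ : K → ℂ) 1 = _ at h
              rw [conjNormFun_apply_one, hδ θ] at h
              exact_mod_cast h.symm
            rw [this]; exact hθR
      have hconst : ∀ j ∈ Θ.filter (fun j => ind j = ind θ), e * δ j ^ 2 = e * δ θ ^ 2 := fun j hj => by
        obtain ⟨hjΘ, hje⟩ := Finset.mem_filter.mp hj
        have hj1 := (Finset.mem_erase.mp hjΘ).1
        have := hdind j hj1
        rw [hje, hdind θ hθ1] at this
        rw [Nat.eq_of_mul_eq_mul_left he this]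
      rw [Finset.sum_congr rfl hconst, Finset.sum_const, ← Finset.card_map ⟨g, Subtype.val_injective⟩, hfib,
        card_conjOrbit, inertia_eq_of_centralizer_le K hC θ.2 h1, hdind θ hθ1, smul_eq_mul]
      ring
  -- the characters of degree `e`
  set B := Sf.filter (fun χ => d χ = e) with hB
  have hBsum : e * e < ∑ χ ∈ B, d χ ^ 2 := by
    have h := hsum (fun m => m = 1) rfl
    have hBeq : Sf.filter (fun χ => ∃ m, m = 1 ∧ d χ = e * m) = B := Finset.filter_congr fun χ _ =>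
      ⟨fun ⟨m, hm, hdm⟩ => by rw [hdm, hm, mul_one], fun h => ⟨1, rfl, by rw [h, mul_one]⟩⟩
    rw [hBeq] at h
    have h2 := Nat.mul_lt_mul_of_pos_left hbase he
    rw [mul_add, mul_one] at h2
    omega
  have hBtwo : ∃ a ∈ B, ∃ b ∈ B, a ≠ b := by
    have hcard : 1 < B.card := by
      by_contra hle
      have h2 : ∑ χ ∈ B, d χ ^ 2 = B.card * (e * e) := by
        rw [Finset.sum_congr rfl fun χ hχ => by rw [(Finset.mem_filter.mp hχ).2, sq], Finset.sum_const, smul_eq_mul]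
      have := Nat.mul_le_mul_right (e * e) (Nat.le_of_not_lt hle)
      omega
    exact Finset.one_lt_card.mp hcard
  have hBsub : ∀ {χ}, χ ∈ B → χ ∈ S := fun h => hSf.mp (Finset.mem_filter.mp h).1
  -- the chain
  have key : ∀ n, ∀ X : Finset (L → ℂ), X.card = n → B ⊆ X → X ⊆ Sf →
      (∀ χ ∈ X, ∀ ξ ∈ Sf, d ξ < d χ → ξ ∈ X) → IsCoherent (↑X : Set (L → ℂ)) {1}ᶜ τ := by
    intro n
    induction n using Nat.strong_induction_on with
    | _ n ih =>
      intro X hn hBX hXS hdown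
      have hXS' : (↑X : Set (L → ℂ)) ⊆ S := fun x hx => hSf.mp (hXS hx)
      by_cases hXB : X ⊆ B
      · obtain ⟨a, ha, b, hb, hab⟩ := hBtwo
        exact coherent_equal_degree _ X.finite_toSet (fun ξ hξ => hirr ξ (hXS' hξ))
          (fun ξ hξ η hη => by
            rw [hd ξ (hXS' hξ), hd η (hXS' hη), (Finset.mem_filter.mp (hXB hξ)).2, (Finset.mem_filter.mp (hXB hη)).2])
          ⟨a, hBX ha, b, hBX hb, hab⟩ (isometryOn_mono (zspanOn_mono hXS' _) hτ)
          (fun α hα => hτ1 α (zspanOn_mono hXS' _ hα))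
      obtain ⟨c, hcX, hcB⟩ := Finset.not_subset.mp hXB
      obtain ⟨χ, hχX, hmax⟩ := Finset.exists_max_image (X \ B) d ⟨c, Finset.mem_sdiff.mpr ⟨hcX, hcB⟩⟩
      rw [Finset.mem_sdiff] at hχX
      obtain ⟨hχX, hχB⟩ := hχX
      have hχS := hXS' hχX
      obtain ⟨θ, hθ1, hθ⟩ := hsurj χ hχS
      have hdχ : d χ = e * δ θ := hθ ▸ hdind θ hθ1
      have hθ2 : 1 < δ θ := by
        obtain ⟨dd, hdd0, hdd⟩ := irr_degree_pos θ.2
        rw [hδ θ, Nat.cast_inj] at hdd
        by_contra hle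
        exact hχB (Finset.mem_filter.mpr ⟨hXS hχX, by rw [hdχ, show δ θ = 1 by omega, mul_one]⟩)
      have hmax' : ∀ ξ ∈ X, d ξ ≤ d χ := fun ξ hξ => by
        by_cases h : ξ ∈ B
        · rw [(Finset.mem_filter.mp h).2, hdχ]; exact Nat.le_mul_of_pos_right _ (by omega)
        · exact hmax ξ (Finset.mem_sdiff.mpr ⟨hξ, h⟩)
      have hX0 : IsCoherent (↑(X.erase χ) : Set (L → ℂ)) {1}ᶜ τ := by
        refine ih _ (by rw [← hn]; exact Finset.card_erase_lt_of_mem hχX) _ rfl (fun b hb => Finset.mem_erase.mpr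
          ⟨fun h => hχB (h ▸ hb), hBX hb⟩) (fun x hx => hXS (Finset.mem_of_mem_erase hx)) fun ξ hξ η hη hlt => ?_
        obtain ⟨hξ1, hξ2⟩ := Finset.mem_erase.mp hξ
        exact Finset.mem_erase.mpr ⟨fun h => by
          have := hmax' ξ hξ2
          rw [← h] at this; omega, hdown ξ hξ2 η hη hlt⟩
      obtain ⟨ψ, hψ, -⟩ := hBtwo
      have hψ' : ψ ∈ X.erase χ := Finset.mem_erase.mpr ⟨fun h => hχB (h ▸ hψ), hBX hψ⟩
      have hlt : 2 * d ψ * d χ < ∑ ξ ∈ X.erase χ, d ξ ^ 2 := by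
        refine lt_of_lt_of_le ?_ (Finset.sum_le_sum_of_subset
          (s := Sf.filter (fun ξ => ∃ m, m < δ θ ∧ d ξ = e * m)) fun ξ hξ => ?_)
        · have h : (∑ ξ ∈ Sf.filter (fun ξ => ∃ m, m < δ θ ∧ d ξ = e * m), d ξ ^ 2) + e =
              e * ∑ φ ∈ Finset.univ.filter (fun φ : IrrCharacter K => δ φ < δ θ), δ φ ^ 2 := by
            convert hsum (fun m => m < δ θ) hθ2
          have h2 := Nat.mul_lt_mul_of_pos_left (hstep θ hθ2) he
          rw [mul_add, mul_one] at h2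
          rw [(Finset.mem_filter.mp hψ).2, hdχ, show 2 * e * (e * δ θ) = e * (2 * e * δ θ) by ring]
          omega
        · obtain ⟨hξS, m, hm, hdm⟩ := Finset.mem_filter.mp hξ
          have hlt : d ξ < d χ := by rw [hdm, hdχ]; exact Nat.mul_lt_mul_of_pos_left hm he
          exact Finset.mem_erase.mpr ⟨fun h => by rw [h] at hlt; omega, hdown χ hχX ξ hξS hlt⟩
      have hins : insert χ (↑(X.erase χ) : Set (L → ℂ)) = ↑X := by
        rw [← Finset.coe_insert, Finset.insert_erase hχX]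
      rw [← hins]
      refine feit_criterion (fun ξ hξ => hirr ξ (hXS' (Finset.mem_of_mem_erase hξ))) (hirr χ hχS) (Finset.notMem_erase χ X)
        (d := d) (fun ξ hξ => hd ξ (hXS' (hins ▸ hξ))) ?_ ?_ hX0 hψ' ?_ hlt
      · rw [hins]; exact isometryOn_mono (zspanOn_mono hXS' _) hτ
      · rw [hins]; exact fun α hα => hτ1 α (zspanOn_mono hXS' _ hα)
      · rw [(Finset.mem_filter.mp hψ).2, hdχ]; exact dvd_mul_right _ _
  have h := key _ Sf rfl (Finset.filter_subset _ _) le_rfl (fun χ _ ξ hξ _ => hξ)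
  rwa [show (↑Sf : Set (L → ℂ)) = S from Set.Finite.coe_toFinset _] at h

end CfsgLib.CharTheory
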