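/-
Feit's coherence theorem.
-/
import Mathlib
import Cfsg.Agent.Lib.CharTheory.FeitCoherence
import Cfsg.Agent.Lib.Frobenius.FixedPointFree

set_option autoImplicit false

namespace CfsgLib.CharTheory

open Cfsg
open scoped ComplexConjugate commutatorElement

universe u v

variable {L : Type u} [Group L] [Fintype L] {G : Type v} [Group G] [Fintype G]

theorem nilpotent_of_centralizer_kernel (K : Subgroup L) [K.Normal] (hKL : K ≠ ⊤)
    (hC : ∀ k ∈ K, k ≠ 1 → Subgroup.centralizer ({k} : Set L) ≤ K) : Group.IsNilpotent K := by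
  by_cases hK : K = ⊥
  · subst hK; infer_instance
  obtain ⟨q, hq, hqd⟩ := Nat.exists_prime_and_dvd (n := K.index) (by rw [Ne, Subgroup.index_eq_one]; exact hKL)
  have := Fact.mk hq
  let S : Sylow q L := default
  obtain ⟨a, ha⟩ := IsPGroup.iff_card.mp S.isPGroup'
  have hnotle : ¬ (S : Subgroup L) ≤ K := fun h => by
    have h1 : q ^ (a + 1) ∣ Nat.card L := by
      rw [← K.card_mul_index, pow_succ]; exact Nat.mul_dvd_mul (ha ▸ Subgroup.card_dvd_of_le h) hqd
    have h2 : q ^ (a + 1) ∣ Nat.card (S : Subgroup L) * (S : Subgroup L).index := by rwa [Subgroup.card_mul_index]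
    rw [ha, pow_succ] at h2
    exact S.not_dvd_index (Nat.dvd_of_mul_dvd_mul_left (pow_pos hq.pos a) h2)
  have hinf : K.subgroupOf (S : Subgroup L) = ⊥ := by
    by_contra hne
    have hnt : Nontrivial (K.subgroupOf (S : Subgroup L)) := (Subgroup.nontrivial_iff_ne_bot _).mpr hne
    obtain ⟨k, hk⟩ := IsPGroup.iff_card.mp (S.isPGroup'.to_subgroup (K.subgroupOf (S : Subgroup L)))
    have hpdvd : q ∣ Nat.card (K.subgroupOf (S : Subgroup L)) := by
      rw [hk]; exact dvd_pow_self _ fun h0 => (Finite.one_lt_card_iff_nontrivial.mpr hnt).ne' (by rw [hk, h0, pow_zero])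
    have hP : IsPGroup q (ConjAct (S : Subgroup L)) := S.isPGroup'.of_equiv ConjAct.toConjAct
    obtain ⟨z, hzfix, hz1⟩ := hP.exists_fixed_point_of_prime_dvd_card_of_fixed_point (K.subgroupOf (S : Subgroup L))
      hpdvd (a := 1) (fun g => smul_one g)
    refine hnotle fun s hs => hC (z : (S : Subgroup L)).1 z.2 (fun e => hz1 (Subtype.ext (Subtype.ext e)).symm) ?_
    have h := congrArg (fun w : K.subgroupOf (S : Subgroup L) => (w : (S : Subgroup L)).1) (hzfix (ConjAct.toConjAct ⟨s, hs⟩))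
    simp only [ConjAct.Subgroup.val_conj_smul, ConjAct.toConjAct_smul, Subgroup.coe_mul, Subgroup.coe_inv] at h
    exact Subgroup.mem_centralizer_singleton_iff.mpr (mul_inv_eq_iff_eq_mul.mp h)
  have hqS : q ∣ Nat.card (S : Subgroup L) := by
    rw [ha]; exact dvd_pow_self _ fun h => hnotle (by
      have h1 : (S : Subgroup L) = ⊥ := Subgroup.card_eq_one.mp (by rw [ha, h, pow_zero])
      rw [h1]; exact bot_le)
  obtain ⟨x, hx⟩ := exists_prime_orderOf_dvd_card' (G := (S : Subgroup L)) q hqS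
  have hxK : (x : L) ∉ K := fun h => by
    have h' : x ∈ K.subgroupOf (S : Subgroup L) := h
    rw [hinf, Subgroup.mem_bot] at h'
    rw [h', orderOf_one] at hx; exact hq.ne_one hx.symm
  set φ : MulAut K := MulAut.conjNormal (x : L) with hφ
  have hfpf : MonoidHom.FixedPointFree (φ : K →* K) := fun k hk => by
    have h1 : (x : L) * k * (x : L)⁻¹ = k := by
      rw [← MulAut.conjNormal_apply]; exact congrArg Subtype.val hk
    by_contra hk1
    exact hxK (hC k k.2 (fun e => hk1 (Subtype.ext e))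
      (Subgroup.mem_centralizer_singleton_iff.mpr (mul_inv_eq_iff_eq_mul.mp h1)))
  refine CfsgLib.Frob.isNilpotent_of_fpf_prime φ hfpf hq (orderOf_eq_prime ?_ ?_)
  · have h1 : x ^ q = 1 := orderOf_dvd_iff_pow_eq_one.mp hx.dvd
    rw [hφ, ← map_pow, ← Subgroup.coe_pow, h1, Subgroup.coe_one, map_one]
  · intro e
    obtain ⟨k, hk, hk1⟩ := SetLike.exists_of_lt (bot_lt_iff_ne_bot.mpr hK)
    exact hk1 (Subgroup.mem_bot.mpr (congrArg Subtype.val (hfpf ⟨k, hk⟩ (by show φ _ = _; rw [e]; rfl))))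

theorem feit_coherence (K : Subgroup L) [K.Normal] (hK : K ≠ ⊥) (hKL : K ≠ ⊤)
    (hC : ∀ k ∈ K, k ≠ 1 → Subgroup.centralizer ({k} : Set L) ≤ K)
    (he : IsMulCommutative K → Nat.card K ≠ K.index + 1)
    {τ : (L → ℂ) → (G → ℂ)} (hτ : IsLinearIsometryOn (zspanOn (inducedIrrAbove K ⊥) {1}ᶜ) τ)
    (hτ1 : ∀ α ∈ zspanOn (inducedIrrAbove K ⊥) {1}ᶜ, τ α 1 = 0) :
    IsCoherent (inducedIrrAbove K ⊥) {1}ᶜ τ ∨
      ∃ p : ℕ, p.Prime ∧ (∃ m : ℕ, Nat.card K = p ^ m) ∧ ¬ IsMulCommutative K ∧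
        (⁅K, K⁆.subgroupOf K).index ≤ 4 * K.index ^ 2 + 1 := by
  classical
  have : Fintype K := Fintype.ofFinite K
  have hnil := nilpotent_of_centralizer_kernel K hKL hC
  by_cases hab : IsMulCommutative K
  · have hab' : ∀ x ∈ K, ∀ y ∈ K, x * y = y * x := fun x hx y hy =>
      congrArg Subtype.val (hab.is_comm.comm (⟨x, hx⟩ : K) ⟨y, hy⟩)
    rcases abelian_kernel_dichotomy K hK (lt_top_iff_ne_top.mpr hKL) hab' hC hτ hτ1 with ⟨-, h, -⟩ | h
    · exact absurd h (he hab)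
    · exact Or.inl h
  by_cases hex : (¬ ∃ p m : ℕ, p.Prime ∧ Nat.card K = p ^ m) ∨ 4 * K.index ^ 2 + 1 < (⁅K, K⁆.subgroupOf K).index
  · choose δ hδ0 hδ using fun θ : IrrCharacter K => irr_degree_pos θ.2
    obtain ⟨h1, h2⟩ := feit_bounds K hC hK δ hδ hex
    exact Or.inl (coherent_of_degree_bounds K hC hτ hτ1 δ hδ h1 h2)
  · push Not at hex
    obtain ⟨⟨p, m, hp, hm⟩, hle⟩ := hex
    exact Or.inr ⟨p, hp, ⟨m, hm⟩, hab, hle⟩

end CfsgLib.CharTheory
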