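/-
Exceptional characters of a trivial intersection Frobenius kernel.
-/
import Cfsg.Agent.Lib.CharTheory.TIKernel
import Cfsg.Agent.Lib.CharTheory.CoherenceDescend
import Cfsg.Agent.Lib.CharTheory.More
import Cfsg.Agent.Lib.Frobenius.FixedPointFree

set_option autoImplicit false
set_option linter.unusedSectionVars false
set_option linter.unusedVariables false
set_option linter.style.haveILetI false

namespace CfsgLib.FrobKernelTI

open Cfsg CfsgLib.CharTheory
open scoped ComplexConjugate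

universe u

section Inside

variable {L : Type u} [Group L] [Fintype L] (K : Subgroup L) [hKn : K.Normal]
variable (hC : ∀ k ∈ K, k ≠ 1 → Subgroup.centralizer ({k} : Set L) ≤ K) (hKL : K < ⊤)

/-- The characters that are not constant on the kernel. -/
def S : Set (L → ℂ) := {χ | IsIrrCharacter L χ ∧ ∃ k ∈ K, χ k ≠ χ 1}

include hC hKL

omit hC in
theorem one_lt_index : 1 < K.index := by
  have h0 : K.index ≠ 0 := Subgroup.index_ne_zero_of_finite
  have h1 : K.index ≠ 1 := fun e => hKL.ne (Subgroup.index_eq_one.mp e)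
  omega

theorem coprime : (Nat.card K).Coprime K.index := by
  refine Nat.coprime_of_dvd fun p hp h1 h2 => ?_
  haveI : Fact p.Prime := ⟨hp⟩
  obtain ⟨P⟩ : Nonempty (Sylow p L) := inferInstance
  have hPK : ¬ (P : Subgroup L) ≤ K := fun h =>
    P.not_dvd_index (h2.trans (Subgroup.index_dvd_of_le h))
  set N := K.subgroupOf (P : Subgroup L)
  have hN : N ≠ ⊥ := by
    intro h
    obtain ⟨x, hx⟩ := exists_prime_orderOf_dvd_card' (G := K) p h1
    have hxp : orderOf (x : L) = p := by rw [Subgroup.orderOf_coe]; exact hx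
    obtain ⟨Q, hQ⟩ := (IsPGroup.of_card (n := 1) (G := Subgroup.zpowers (x : L)) (by
      rw [Nat.card_zpowers, pow_one, hxp])).exists_le_sylow
    obtain ⟨g, hg⟩ := MulAction.exists_smul_eq L Q P
    have hmem : g * (x : L) * g⁻¹ ∈ (P : Subgroup L) := by
      rw [← hg]
      exact Subgroup.smul_mem_pointwise_smul (x : L) (MulAut.conj g) _ (hQ (Subgroup.mem_zpowers _))
    have h3 : (⟨_, hmem⟩ : (P : Subgroup L)) ∈ N := Subgroup.mem_subgroupOf.mpr (hKn.conj_mem _ x.2 g)
    rw [h, Subgroup.mem_bot] at h3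
    have h4 : g * (x : L) * g⁻¹ = 1 := congrArg Subtype.val h3
    rw [mul_inv_eq_one, mul_eq_left] at h4
    exact hp.ne_one (by rw [← hxp, h4, orderOf_one])
  haveI := P.isPGroup'.isNilpotent
  have hne := CfsgLib.inf_center_ne_bot_of_nilpotent (G := (P : Subgroup L)) hN
  obtain ⟨z, hz, hz1⟩ := (Subgroup.bot_or_exists_ne_one _).resolve_left hne
  obtain ⟨hzN, hzc⟩ := Subgroup.mem_inf.mp hz
  refine hPK fun y hy => hC z (Subgroup.mem_subgroupOf.mp hzN) (fun e => hz1 (Subtype.ext e)) ?_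
  rw [Subgroup.mem_centralizer_singleton_iff]
  exact congrArg Subtype.val (Subgroup.mem_center_iff.mp hzc ⟨y, hy⟩)

theorem isNilpotent : Group.IsNilpotent K := by
  by_cases hK1 : K = ⊥
  · subst hK1
    infer_instance
  set q := K.index.minFac with hq
  have hqp : q.Prime := Nat.minFac_prime (one_lt_index K hKL).ne'
  haveI := Fact.mk hqp
  obtain ⟨x, hx⟩ := exists_prime_orderOf_dvd_card' (G := L) q
    ((Nat.minFac_dvd _).trans K.index_dvd_card)
  have hxK : x ∉ K := fun h => hqp.ne_one (Nat.eq_one_of_dvd_coprimes (coprime K hC hKL)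
    (by rw [← hx]; exact K.orderOf_dvd_natCard h) (Nat.minFac_dvd _))
  set φ : MulAut K := MulAut.conjNormal x with hφ
  have hfpf : MonoidHom.FixedPointFree (φ : K →* K) := by
    intro k hk
    by_contra h1
    have e : x * (k : L) * x⁻¹ = k := congrArg Subtype.val hk
    rw [mul_inv_eq_iff_eq_mul] at e
    exact hxK (hC k k.2 (fun e' => h1 (Subtype.ext e'))
      (Subgroup.mem_centralizer_singleton_iff.mpr e))
  refine CfsgLib.Frob.isNilpotent_of_fpf_prime φ hfpf hqp ?_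
  refine orderOf_eq_prime (by rw [hφ, ← map_pow, ← hx, pow_orderOf_eq_one, map_one]) fun h1 => ?_
  obtain ⟨k, hk, hk1⟩ := (Subgroup.bot_or_exists_ne_one K).resolve_left hK1
  exact hk1 (congrArg Subtype.val (hfpf ⟨k, hk⟩ (by rw [h1]; rfl)))

variable [Fintype K]

theorem isIrr_ind {θ : K → ℂ} (hθ : IsIrrCharacter K θ) (hθ1 : θ ≠ fun _ => 1) :
    indFun K θ ∈ S K := by
  have hirr : IsIrrCharacter L (indFun K θ) :=
    isIrrCharacter_indFun_of_inertia_eq K hθ (inertia_eq_of_centralizer_le K hC hθ hθ1)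
  refine ⟨hirr, ?_⟩
  by_contra hno
  push Not at hno
  have h1 := classInner_irr_self hirr
  rw [frobenius_reciprocity K θ (isClassFunction_irr hirr),
    show (fun h : K => indFun K θ h) = indFun K θ 1 • (fun _ : K => (1 : ℂ)) from funext fun h => by
      simp [hno _ h.2], classInner_smul_right, classInner_irr_ne hθ isIrrCharacter_one hθ1, mul_zero] at h1
  exact zero_ne_one h1

theorem exists_eq_ind {χ : L → ℂ} (hχ : χ ∈ S K) :
    ∃ θ : K → ℂ, IsIrrCharacter K θ ∧ θ ≠ (fun _ => 1) ∧ χ = indFun K θ := by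
  obtain ⟨hirr, k, hk, hne⟩ := hχ
  by_contra hcon
  push Not at hcon
  apply hne
  have hres := isClassFunction_char (isCharacter_restrict (isCharacter_of_irr hirr) K)
  have key : ∀ θ : IrrCharacter K, (θ : K → ℂ) ≠ (fun _ => 1) → classInner (fun h : K => χ h) θ = 0 := by
    intro θ hθ
    have hind := (isIrr_ind K hC hKL θ.2 hθ).1
    rw [← frobenius_reciprocity' K (θ : K → ℂ) (isClassFunction_irr hirr), classInner_irr_ne hirr hind
      (fun e => hcon θ θ.2 hθ e)]
  have h := eq_sum_irr hres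
  rw [Finset.sum_eq_single (⟨fun _ => 1, isIrrCharacter_one⟩ : IrrCharacter K)
    (fun θ _ hne => by rw [key θ fun e => hne (Subtype.ext e), zero_smul]) (fun hh => absurd (Finset.mem_univ _) hh)] at h
  have h1 := congrFun h ⟨k, hk⟩
  have h2 := congrFun h 1
  simp only [Pi.smul_apply, smul_eq_mul, mul_one] at h1 h2
  rw [h1, ← h2]
  rfl

theorem vanish {χ : L → ℂ} (hχ : χ ∈ S K) {x : L} (hx : x ∉ K) : χ x = 0 := by
  obtain ⟨θ, -, -, rfl⟩ := exists_eq_ind K hC hKL hχ
  exact indFun_normal_apply_not_mem K θ hx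

/-- There is a member of degree equal to the index. -/
theorem exists_degree_index (hK1 : K ≠ ⊥) : ∃ χ ∈ S K, χ 1 = K.index := by
  haveI := isNilpotent K hC hKL
  obtain ⟨θ, hθ, hθ1, -, hθd⟩ := exists_linear_above K ⊥ inferInstance (bot_lt_iff_ne_bot.mpr hK1)
  exact ⟨_, isIrr_ind K hC hKL hθ hθ1, by rw [indFun_apply_one, hθd, mul_one]⟩

omit hC in
theorem degree_nat {χ : L → ℂ} (hχ : IsIrrCharacter L χ) : ∃ d : ℕ, χ 1 = d :=
  char_one_eq_natCast (isCharacter_of_irr hχ)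

/-- Values on the kernel of a function with proportional exceptional coefficients. -/
theorem kernel_const {f : L → ℂ} (hf : IsClassFunction L f) {s : ℂ}
    (hs : ∀ χ ∈ S K, classInner f χ = s * χ 1) :
    ∃ Φ : ℂ, ((∀ χ, IsIrrCharacter L χ → ∃ z : ℤ, classInner f χ = z) → ∃ z : ℤ, Φ = z) ∧
      ∀ k ∈ K, k ≠ 1 → f k = Φ - s * K.index := by
  classical
  set T := Finset.univ.filter fun χ : IrrCharacter L => ∀ n ∈ K, (χ : L → ℂ) n = (χ : L → ℂ) 1 with hT
  refine ⟨∑ χ ∈ T, classInner f χ * (χ : L → ℂ) 1, fun hint => ?_, fun k hk hk1 => ?_⟩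
  · choose z hz using hint
    refine ⟨∑ χ ∈ T, z _ χ.2 * (charDegree (χ : L → ℂ) : ℤ), ?_⟩
    push_cast
    exact Finset.sum_congr rfl fun χ _ => by rw [hz _ χ.2, (charDegree_spec' χ.2).1]
  have hval : f k = ∑ χ ∈ T, classInner f χ * (χ : L → ℂ) 1 +
      ∑ χ ∈ Finset.univ.filter (fun χ : IrrCharacter L => ¬ ∀ n ∈ K, (χ : L → ℂ) n = (χ : L → ℂ) 1),
        s * ((χ : L → ℂ) k * (χ : L → ℂ) 1) := by
    conv_lhs => rw [eq_sum_irr hf]
    rw [Finset.sum_apply, ← Finset.sum_filter_add_sum_filter_not Finset.univ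
      (fun χ : IrrCharacter L => ∀ n ∈ K, (χ : L → ℂ) n = (χ : L → ℂ) 1)]
    refine congrArg₂ (· + ·) (Finset.sum_congr rfl fun χ hχ => ?_) (Finset.sum_congr rfl fun χ hχ => ?_)
    · rw [Pi.smul_apply, smul_eq_mul, (Finset.mem_filter.mp hχ).2 k hk]
    · have hmem : (χ : L → ℂ) ∈ S K := ⟨χ.2, by
        have := (Finset.mem_filter.mp hχ).2; push Not at this; exact this⟩
      rw [Pi.smul_apply, smul_eq_mul, hs _ hmem]; ring
  have hsum := sum_irr_apply_mul_degree (G := L) k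
  rw [if_neg hk1, ← Finset.sum_filter_add_sum_filter_not Finset.univ
      (fun χ : IrrCharacter L => ∀ n ∈ K, (χ : L → ℂ) n = (χ : L → ℂ) 1)] at hsum
  have hsq := sum_degree_sq_kernel K
  have hT' : ∑ χ ∈ T, (χ : L → ℂ) k * (χ : L → ℂ) 1 = K.index := by
    rw [← hsq, Nat.cast_sum, hT, Finset.sum_subtype (p := fun χ : IrrCharacter L => ∀ n ∈ K, (χ : L → ℂ) n = (χ : L → ℂ) 1) _
      (fun χ => by simp)]
    refine Finset.sum_congr rfl fun χ _ => ?_
    rw [χ.2 k hk, (charDegree_spec' χ.1.2).1]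
    push_cast
    ring
  rw [← hT, hT'] at hsum
  rw [hval, ← Finset.mul_sum, eq_neg_of_add_eq_zero_right hsum]
  ring

/-- Only one exceptional character is constant away from the identity of the kernel. -/
theorem not_const {χ ξ : L → ℂ} (hχ : χ ∈ S K) (hξ : ξ ∈ S K) (hne : χ ≠ ξ) :
    ¬ ∀ a ∈ K, ∀ b ∈ K, a ≠ 1 → b ≠ 1 → χ a = χ b := by
  classical
  intro hconst
  obtain ⟨k₀, hk₀, hk₀ne⟩ := hχ.2
  have hk₀1 : k₀ ≠ 1 := fun e => hk₀ne (by rw [e])
  have h1 : ∑ x : L, χ x * conj (ξ x) = 0 := by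
    have := classInner_irr_ne hχ.1 hξ.1 hne
    simp only [classInner] at this
    exact (mul_eq_zero.mp this).resolve_left (inv_ne_zero (Nat.cast_ne_zero.mpr Nat.card_pos.ne'))
  have h2 : ∑ x : L, conj (ξ x) = 0 := by
    have h1ne : (fun _ : L => (1 : ℂ)) ≠ ξ := fun e => by
      obtain ⟨k, -, hk⟩ := hξ.2
      exact hk (by rw [← e])
    have := classInner_irr_ne isIrrCharacter_one hξ.1 h1ne
    simp only [classInner, one_mul] at this
    exact (mul_eq_zero.mp this).resolve_left (inv_ne_zero (Nat.cast_ne_zero.mpr Nat.card_pos.ne'))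
  have h3 : ∀ x : L, χ x * conj (ξ x) =
      χ k₀ * conj (ξ x) + (if x = 1 then (χ 1 - χ k₀) * conj (ξ x) else 0) := by
    intro x
    by_cases hx : x = 1
    · rw [if_pos hx, hx]; ring
    rw [if_neg hx, add_zero]
    by_cases hxK : x ∈ K
    · rw [hconst x hxK k₀ hk₀ hx hk₀1]
    · rw [vanish K hC hKL hξ hxK, map_zero, mul_zero, mul_zero]
  rw [Finset.sum_congr rfl fun x _ => h3 x, Finset.sum_add_distrib, ← Finset.mul_sum, h2, mul_zero, zero_add,
    Finset.sum_ite_eq' Finset.univ (1 : L), if_pos (Finset.mem_univ _)] at h1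
  rcases mul_eq_zero.mp h1 with h | h
  · exact hk₀ne (sub_eq_zero.mp h).symm
  · exact irr_ne_zero hξ.1 (by simpa using h)

end Inside

section Ambient

variable {G : Type u} [Group G] [Fintype G] (L : Subgroup G) [Fintype L] (K : Subgroup L) [K.Normal] [Fintype K]
variable (hC : ∀ k ∈ K, k ≠ 1 → Subgroup.centralizer ({k} : Set L) ≤ K) (hKL : K < ⊤)
variable (hTI : ∀ g : G, g ∉ L → ∀ t ∈ (Subtype.val '' (K : Set L) : Set G), g * t * g⁻¹ ∈ (Subtype.val '' (K : Set L) : Set G) → t = 1)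

include hC hKL hTI

variable {star : (L → ℂ) → (G → ℂ)} (hstar : IsLinearIsometryOn (zspan (S K)) star)
  (hext : ∀ α ∈ zspanOn (S K) ({1}ᶜ : Set L), star α = indFun L α)

include hstar hext

/-- The weighted difference of two exceptional characters. -/
theorem wdiff {χ ξ : L → ℂ} (hχ : χ ∈ S K) (hξ : ξ ∈ S K) {d e : ℕ} (hd : χ 1 = d) (he : ξ 1 = e) :
    ((e : ℤ) • χ - (d : ℤ) • ξ ∈ zspanOn (S K) ({1}ᶜ : Set L)) ∧
      indFun L ((e : ℤ) • χ - (d : ℤ) • ξ) = (e : ℤ) • star χ - (d : ℤ) • star ξ := by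
  have m1 : χ ∈ zspan (S K) := Submodule.subset_span hχ
  have m2 : ξ ∈ zspan (S K) := Submodule.subset_span hξ
  have m1' : (e : ℤ) • χ ∈ zspan (S K) := Submodule.smul_mem _ _ m1
  have m2' : (-(d : ℤ)) • ξ ∈ zspan (S K) := Submodule.smul_mem _ _ m2
  have hmem : (e : ℤ) • χ - (d : ℤ) • ξ ∈ zspanOn (S K) ({1}ᶜ : Set L) := by
    refine ⟨Submodule.sub_mem _ m1' (Submodule.smul_mem _ _ m2), fun x hx => ?_⟩
    rw [Set.mem_compl_iff, not_not, Set.mem_singleton_iff] at hx
    subst hx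
    simp [hd, he, mul_comm]
  refine ⟨hmem, ?_⟩
  rw [← hext _ hmem, sub_eq_add_neg, ← neg_smul, hstar.1 _ m1' _ m2', hstar.2.1 _ m1, hstar.2.1 _ m2, neg_smul,
    ← sub_eq_add_neg]

theorem irr_or_neg {χ : L → ℂ} (hχ : χ ∈ S K) : IsIrrCharacter G (star χ) ∨ IsIrrCharacter G (-star χ) := by
  have m : χ ∈ zspan (S K) := Submodule.subset_span hχ
  exact irr_or_neg_of_norm_one (hstar.2.2.2 _ m) (by rw [hstar.2.2.1 _ m _ m, classInner_irr_self hχ.1])

theorem restriction : ∃ m : ℤ, ∀ χ ∈ S K, ∀ k : L, k ∈ K → k ≠ 1 →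
    star χ k - χ k = (m : ℂ) * χ 1 / (K.index : ℂ) := by
  by_cases hK1 : K = ⊥
  · exact ⟨0, fun χ _ k hk h1 => absurd (Subgroup.mem_bot.mp (hK1 ▸ hk)) h1⟩
  obtain ⟨χ₀, hχ₀, he⟩ := exists_degree_index K hC hKL hK1
  have hi : (K.index : ℂ) ≠ 0 := Nat.cast_ne_zero.mpr Subgroup.index_ne_zero_of_finite
  set f : L → ℂ := (fun x : L => star χ₀ x) - χ₀ with hf
  have hgen0 : IsGeneralizedCharacter G (star χ₀) := hstar.2.2.2 _ (Submodule.subset_span hχ₀)
  have hres : IsGeneralizedCharacter L (fun x : L => star χ₀ x) := by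
    obtain ⟨a, b, ha, hb, e⟩ := hgen0
    exact ⟨_, _, isCharacter_restrict ha L, isCharacter_restrict hb L, funext fun x => by rw [e]; rfl⟩
  have hfgen : IsGeneralizedCharacter L f := isGenChar_sub hres (isGenChar_of_char (isCharacter_of_irr hχ₀.1))
  have hfcl : IsClassFunction L f := (isGenChar_iff_coeff_int.mp hfgen).1
  have hfint : ∀ φ, IsIrrCharacter L φ → ∃ z : ℤ, classInner f φ = z := fun φ hφ =>
    classInner_genChar_int hfgen (isGenChar_of_char (isCharacter_of_irr hφ))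
  obtain ⟨r0, hr0⟩ := hfint _ hχ₀.1
  have hs : ∀ ξ ∈ S K, classInner f ξ = ((r0 : ℂ) / K.index) * ξ 1 := by
    intro ξ hξ
    obtain ⟨d, hd⟩ := degree_nat K hKL hξ.1
    obtain ⟨hmem, hval⟩ := wdiff L K hC hKL hTI hstar hext hχ₀ hξ he hd
    have h1 : classInner f ((d : ℤ) • χ₀ - (K.index : ℤ) • ξ) = 0 := by
      have hcl := isClassFunction_irr hχ₀.1
      rw [hf, classInner_sub_left, sub_eq_zero,
        ← frobenius_reciprocity' L _ (isGenChar_iff_coeff_int.mp hgen0).1, ← hext _ hmem]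
      exact hstar.2.2.1 _ (Submodule.subset_span hχ₀) _ hmem.1
    rw [← Int.cast_smul_eq_zsmul ℂ, ← Int.cast_smul_eq_zsmul ℂ, classInner_sub_right, classInner_smul_right,
      classInner_smul_right, hr0] at h1
    simp only [Int.cast_natCast, Complex.conj_natCast] at h1
    rw [hd]
    field_simp
    linear_combination -h1
  obtain ⟨Φ, hΦ, hval⟩ := kernel_const K hC hKL hfcl hs
  obtain ⟨z, hz⟩ := hΦ hfint
  refine ⟨z - r0, fun χ hχ k hk hk1 => ?_⟩
  obtain ⟨d, hd⟩ := degree_nat K hKL hχ.1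
  obtain ⟨hmem, hv⟩ := wdiff L K hC hKL hTI hstar hext hχ hχ₀ hd he
  have h0 := hval k hk hk1
  rw [hf, hz, div_mul_cancel₀ _ hi, Pi.sub_apply] at h0
  have hTI' := indFun_apply_of_TI L (Subtype.val '' (K : Set L)) hTI
    (f := (K.index : ℤ) • χ - (d : ℤ) • χ₀)
    (fun g x => by simp [isClassFunction_irr hχ.1 g x, isClassFunction_irr hχ₀.1 g x])
    (fun x hx => by
      have hxK : x ∉ K := fun h => hx ⟨x, h, rfl⟩
      simp [vanish K hC hKL hχ hxK, vanish K hC hKL hχ₀ hxK])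
    (hmem.2 1 (by simp)) k ⟨k, hk, rfl⟩
  rw [congrFun hv] at hTI'
  simp only [Pi.sub_apply, Pi.smul_apply, zsmul_eq_mul, Pi.mul_apply, Pi.intCast_apply, Pi.natCast_apply, Int.cast_natCast] at hTI'
  rw [hd]
  push_cast
  field_simp
  linear_combination hTI' + (d : ℂ) * h0

theorem exceptional_iff (htwo : ∃ χ ∈ S K, ∃ ξ ∈ S K, χ ≠ ξ) {ψ : G → ℂ} (hψ : IsIrrCharacter G ψ) :
    (∃ χ ∈ S K, ψ = star χ ∨ ψ = -star χ) ↔
      ∃ a : L, a ∈ K ∧ ∃ b : L, b ∈ K ∧ a ≠ 1 ∧ b ≠ 1 ∧ ψ a ≠ ψ b := by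
  obtain ⟨m, hm⟩ := restriction L K hC hKL hTI hstar hext
  constructor
  · rintro ⟨χ, hχ, hor⟩
    by_contra hno
    push Not at hno
    obtain ⟨χ', hχ', hne⟩ : ∃ ξ ∈ S K, χ ≠ ξ := by
      obtain ⟨a, ha, b, hb, hab⟩ := htwo
      by_cases h : χ = a
      · exact ⟨b, hb, h ▸ hab⟩
      · exact ⟨a, ha, h⟩
    refine not_const K hC hKL hχ hχ' hne fun a ha b hb ha1 hb1 => ?_
    have h1 := hno a ha b hb ha1 hb1
    have e : star χ a = star χ b := by
      rcases hor with e | e <;> rw [e] at h1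
      · exact h1
      · simpa using h1
    linear_combination hm χ hχ b hb hb1 - hm χ hχ a ha ha1 + e
  · rintro ⟨a, ha, b, hb, ha1, hb1, hab⟩
    by_contra hno
    push Not at hno
    apply hab
    have horth : ∀ χ ∈ S K, classInner ψ (star χ) = 0 := by
      intro χ hχ
      obtain ⟨h1, h2⟩ := hno χ hχ
      rcases irr_or_neg L K hC hKL hTI hstar hext hχ with h | h
      · exact classInner_irr_ne hψ h h1
      · have := classInner_irr_ne hψ h h2
        rwa [classInner_neg_right, neg_eq_zero] at this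
    have hK1 : K ≠ ⊥ := fun e => ha1 (Subgroup.mem_bot.mp (e ▸ ha))
    obtain ⟨χ₀, hχ₀, he⟩ := exists_degree_index K hC hKL hK1
    have hi : (K.index : ℂ) ≠ 0 := Nat.cast_ne_zero.mpr Subgroup.index_ne_zero_of_finite
    set f : L → ℂ := fun x : L => ψ x
    have hs : ∀ ξ ∈ S K, classInner f ξ = (classInner f χ₀ / K.index) * ξ 1 := by
      intro ξ hξ
      obtain ⟨d, hd⟩ := degree_nat K hKL hξ.1
      obtain ⟨hmem, hval⟩ := wdiff L K hC hKL hTI hstar hext hχ₀ hξ he hd
      have h1 : classInner f ((d : ℤ) • χ₀ - (K.index : ℤ) • ξ) = 0 := by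
        rw [← frobenius_reciprocity' L _ (isClassFunction_irr hψ), hval, ← Int.cast_smul_eq_zsmul ℂ,
          ← Int.cast_smul_eq_zsmul ℂ, classInner_sub_right, classInner_smul_right, classInner_smul_right,
          horth _ hχ₀, horth _ hξ, mul_zero, mul_zero, sub_zero]
      rw [← Int.cast_smul_eq_zsmul ℂ, ← Int.cast_smul_eq_zsmul ℂ, classInner_sub_right, classInner_smul_right,
        classInner_smul_right] at h1
      simp only [Int.cast_natCast, Complex.conj_natCast] at h1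
      rw [hd]
      field_simp
      linear_combination -h1
    obtain ⟨Φ, -, hval⟩ := kernel_const K hC hKL (f := f)
      (isClassFunction_char (isCharacter_restrict (isCharacter_of_irr hψ) L)) hs
    exact (hval a ha ha1).trans (hval b hb hb1).symm

end Ambient

end CfsgLib.FrobKernelTI
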