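/-
A character induced from a maximal subgroup `H` with a restriction to the core that stays
irreducible is not quasiprimitive.
-/
import Mathlib
import Cfsg.Agent.Lib.Elementary
import Cfsg.Agent.Lib.Products
import Cfsg.Agent.Lib.CharTheory.ExtCriteria
import Cfsg.Agent.Lib.CharTheory.Induced
import Cfsg.Agent.Lib.CharTheory.More

set_option autoImplicit false

namespace CfsgLib.CharTheory.InducedQuasiPrim

open Cfsg CfsgLib.CharTheory
open scoped ComplexConjugate

universe u

/-- A minimal normal `p`-step above a normal subgroup with solvable quotient. -/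
theorem exists_step {G : Type u} [Group G] [Finite G] (K : Subgroup G) [K.Normal]
    (hsol : Group.IsSolvable (G ⧸ K)) (hK : K ≠ ⊤) :
    ∃ M : Subgroup G, M.Normal ∧ K ≤ M ∧ M ≠ K ∧ (∀ a ∈ M, ∀ b ∈ M, a * b * a⁻¹ * b⁻¹ ∈ K) ∧
      (∃ p : ℕ, p.Prime ∧ ∀ x ∈ M, x ^ p ∈ K) ∧
      ∀ M' : Subgroup G, M'.Normal → K ≤ M' → M' ≤ M → M' = K ∨ M' = M := by
  haveI := hsol
  have htop : (⊤ : Subgroup (G ⧸ K)) ≠ ⊥ := fun h => hK (eq_top_iff.2 fun x _ =>
    (QuotientGroup.eq_one_iff x).1 (Subgroup.mem_bot.1 (h ▸ Subgroup.mem_top (x : G ⧸ K))))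
  obtain ⟨W, hWn, -, hW0, hWmin⟩ := CfsgLib.exists_minimal_normal (N := (⊤ : Subgroup (G ⧸ K))) htop
  haveI := hWn
  obtain ⟨hWc, p, hp, hWp⟩ := CfsgLib.minimal_normal_elementary hW0 inferInstance hWmin
  set f := QuotientGroup.mk' K with hf
  have hsurj : Function.Surjective f := QuotientGroup.mk'_surjective K
  have hKM : K ≤ W.comap f := fun x hx => by
    rw [Subgroup.mem_comap, hf, QuotientGroup.mk'_apply, (QuotientGroup.eq_one_iff x).2 hx]; exact one_mem W
  have hbot : ∀ M' : Subgroup G, K ≤ M' → M'.map f = ⊥ → M' = K := fun M' hKM' h => le_antisymm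
    (fun x hx => (QuotientGroup.eq_one_iff x).1 (Subgroup.mem_bot.1 (h ▸ Subgroup.mem_map_of_mem f hx))) hKM'
  refine ⟨W.comap f, hWn.comap f, hKM, fun h => hW0 ?_, fun a ha b hb => ?_, ⟨p, hp, fun x hx => ?_⟩,
    fun M' hM' hKM' hle => ?_⟩
  · rw [← Subgroup.map_comap_eq_self_of_surjective hsurj W, h, hf]
    exact (Subgroup.map_eq_bot_iff _).2 (QuotientGroup.ker_mk' K).ge
  · refine (QuotientGroup.eq_one_iff _).1 ?_
    have h : f a * f b = f b * f a := congrArg Subtype.val (hWc.is_comm.comm ⟨f a, ha⟩ ⟨f b, hb⟩)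
    show f (a * b * a⁻¹ * b⁻¹) = 1
    rw [map_mul, map_mul, map_mul, h, map_inv, map_inv]; group
  · refine (QuotientGroup.eq_one_iff _).1 ?_
    show f (x ^ p) = 1
    rw [map_pow]; exact hWp _ hx
  · rcases hWmin (M'.map f) (hM'.map f hsurj) (Subgroup.map_le_iff_le_comap.2 hle) with h | h
    · exact Or.inl (hbot M' hKM' h)
    · right
      rw [← h, Subgroup.comap_map_eq, hf, QuotientGroup.ker_mk', sup_eq_left.2 hKM']

theorem relIndex_prime_pow {G : Type u} [Group G] [Finite G] {K M : Subgroup G} [K.Normal] {p : ℕ}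
    (hp : p.Prime) (hpow : ∀ x ∈ M, x ^ p ∈ K) : ∃ a : ℕ, K.relIndex M = p ^ a := by
  haveI := Fact.mk hp
  have h : IsPGroup p (M ⧸ K.subgroupOf M) := fun x => by
    induction x using QuotientGroup.induction_on with
    | _ y =>
      refine ⟨1, ?_⟩
      rw [pow_one, ← QuotientGroup.mk_pow, QuotientGroup.eq_one_iff, Subgroup.mem_subgroupOf]
      exact hpow y y.2
  exact h.exists_card_eq

variable {G : Type u} [Group G] [Fintype G]

theorem indFun_eq_sum_cosets (H : Subgroup G) [Fintype (G ⧸ H)] {ϑ : H → ℂ} (hϑ : IsClassFunction H ϑ) (g : G) :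
    indFun H ϑ g = ∑ q : G ⧸ H, extendByZero H ϑ (q.out⁻¹ * g * q.out) := by
  classical
  have : Fintype H := Fintype.ofFinite H
  have hfib : ∀ q : G ⧸ H, ∑ x ∈ Finset.univ.filter (fun x : G => (QuotientGroup.mk x : G ⧸ H) = q),
      extendByZero H ϑ (x⁻¹ * g * x) = (Nat.card H : ℂ) * extendByZero H ϑ (q.out⁻¹ * g * q.out) := by
    intro q
    have hinv : ∀ h : H, extendByZero H ϑ ((q.out * (h : G))⁻¹ * g * (q.out * h)) =
        extendByZero H ϑ (q.out⁻¹ * g * q.out) := by
      intro h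
      by_cases hm : q.out⁻¹ * g * q.out ∈ H
      · have hm' : (q.out * (h : G))⁻¹ * g * (q.out * h) ∈ H := by
          have e : (q.out * (h : G))⁻¹ * g * (q.out * h) = (h : G)⁻¹ * (q.out⁻¹ * g * q.out) * h := by group
          rw [e]; exact mul_mem (mul_mem (inv_mem h.2) hm) h.2
        rw [extendByZero_of_mem _ _ hm, extendByZero_of_mem _ _ hm', ← hϑ ⟨_, hm⟩ h⁻¹]
        exact congrArg ϑ (Subtype.ext (by simp [mul_assoc]))
      · rw [extendByZero_of_not_mem _ _ hm, extendByZero_of_not_mem]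
        intro hm'
        refine hm ?_
        have e : q.out⁻¹ * g * q.out = (h : G) * ((q.out * (h : G))⁻¹ * g * (q.out * h)) * (h : G)⁻¹ := by group
        rw [e]; exact mul_mem (mul_mem h.2 hm') (inv_mem h.2)
    rw [Nat.card_eq_fintype_card, ← Finset.card_univ, ← nsmul_eq_mul, ← Finset.sum_const]
    symm
    refine Finset.sum_bij (fun h _ => q.out * (h : G)) (fun h _ => ?_)
      (fun a _ b _ hab => Subtype.ext (mul_left_cancel hab)) (fun x hx => ?_) (fun h _ => (hinv h).symm)
    · refine Finset.mem_filter.2 ⟨Finset.mem_univ _, ?_⟩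
      conv_rhs => rw [← Quotient.out_eq q]
      exact QuotientGroup.eq.2 (by simp)
    · have hx' : (QuotientGroup.mk q.out : G ⧸ H) = QuotientGroup.mk x := by
        rw [(Finset.mem_filter.1 hx).2]; exact Quotient.out_eq q
      exact ⟨⟨_, QuotientGroup.eq.1 hx'⟩, Finset.mem_univ _, mul_inv_cancel_left _ _⟩
  simp only [indFun]
  rw [← Finset.sum_fiberwise Finset.univ (fun x : G => (QuotientGroup.mk x : G ⧸ H)),
    Finset.sum_congr rfl fun q _ => hfib q, ← Finset.mul_sum, ← mul_assoc,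
    inv_mul_cancel₀ (Nat.cast_ne_zero.2 Nat.card_pos.ne'), one_mul]

set_option maxHeartbeats 2000000 in
/-- Some normal subgroup above `L` does not act homogeneously. -/
theorem main (L H : Subgroup G) [L.Normal] (hLH : L ≤ H) (hmax : IsCoatom H)
    (hsolv : Group.IsSolvable (G ⧸ L)) (ϑ : H → ℂ) (hϑ : IsIrrCharacter H ϑ)
    (hϑL : IsIrrCharacter L (fun x : L => ϑ ⟨(x : G), hLH x.2⟩)) (hind : IsIrrCharacter G (indFun H ϑ)) :
    ∃ M : Subgroup G, M.Normal ∧ L ≤ M ∧ ¬ ∃ (φ : M → ℂ) (e : ℕ), IsIrrCharacter M φ ∧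
      (fun m : M => indFun H ϑ m) = (e : ℂ) • φ := by
  classical
  by_contra hcon
  push Not at hcon
  haveI := hsolv
  haveI : Fintype (G ⧸ H) := Fintype.ofFinite _
  haveI : Fintype H := Fintype.ofFinite H
  set χ := indFun H ϑ with hχdef
  have hϑc := isClassFunction_irr hϑ
  have hχc : IsClassFunction G χ := indFun_isClassFunction H ϑ
  set K := H.normalCore with hK
  haveI : K.Normal := Subgroup.normalCore_normal H
  haveI : Fintype K := Fintype.ofFinite K
  have hKH : K ≤ H := Subgroup.normalCore_le H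
  have hLK : L ≤ K := Subgroup.normal_le_normalCore.2 hLH
  -- the restriction to the core
  let φ : K → ℂ := fun k => ϑ ⟨k, hKH k.2⟩
  have hφ : IsIrrCharacter K φ := by
    haveI : Fintype L := Fintype.ofFinite L
    have hc : IsCharacter K φ := isCharacter_comp (isCharacter_of_irr hϑ) (Subgroup.inclusion hKH)
    have hφ0 : φ ≠ 0 := fun h => irr_ne_zero hϑ (congrFun h 1)
    obtain ⟨φ₁, hφ₁, hne⟩ := exists_constituent hc hφ0
    have hc' := isCharacter_sub_irr hc hφ₁ hne
    -- compare on `L`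
    have hr₁ : IsCharacter L (fun x : L => φ₁ ⟨x, hLK x.2⟩) :=
      isCharacter_comp (isCharacter_of_irr hφ₁) (Subgroup.inclusion hLK)
    have hr₂ : IsCharacter L (fun x : L => (φ - φ₁) ⟨x, hLK x.2⟩) := isCharacter_comp hc' (Subgroup.inclusion hLK)
    obtain ⟨n₁, hn₁⟩ := classInner_char_nat hr₁ (isCharacter_of_irr hϑL)
    obtain ⟨n₂, hn₂⟩ := classInner_char_nat hr₂ (isCharacter_of_irr hϑL)
    have heq : (fun x : L => ϑ ⟨(x : G), hLH x.2⟩) =
        (fun x : L => φ₁ ⟨x, hLK x.2⟩) + fun x : L => (φ - φ₁) ⟨x, hLK x.2⟩ := by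
      funext x; simp [φ]
    by_cases h0 : φ - φ₁ = 0
    · rw [sub_eq_zero.1 h0]; exact hφ₁
    exfalso
    have h1 := classInner_irr_self hϑL
    conv_lhs at h1 => arg 1; rw [heq]
    rw [classInner_add_left, hn₁, hn₂] at h1
    have h12 : n₁ + n₂ = 1 := by exact_mod_cast h1
    have key : ∀ a b : L → ℂ, IsCharacter L a → IsCharacter L b → (fun x : L => ϑ ⟨(x : G), hLH x.2⟩) = a + b →
        classInner a (fun x : L => ϑ ⟨(x : G), hLH x.2⟩) = 0 → a 1 = 0 := by
      intro a b ha hb hab hz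
      by_contra ha1
      obtain ⟨ψ, hψ, hψne⟩ := exists_constituent ha fun h => ha1 (by rw [h]; rfl)
      obtain ⟨i, hi⟩ := classInner_char_nat ha (isCharacter_of_irr hψ)
      obtain ⟨j, hj⟩ := classInner_char_nat hb (isCharacter_of_irr hψ)
      have h2 : classInner (fun x : L => ϑ ⟨(x : G), hLH x.2⟩) ψ = ((i + j : ℕ) : ℂ) := by
        rw [hab, classInner_add_left, hi, hj, Nat.cast_add]
      rw [classInner_irr hϑL hψ] at h2
      split_ifs at h2 with hs
      · exact hψne (by rw [← hs]; exact hz)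
      · have : i + j = 0 := by exact_mod_cast h2.symm
        exact hψne (by rw [hi, show i = 0 by omega, Nat.cast_zero])
    rcases Nat.eq_zero_or_pos n₁ with h | h
    · have := key _ _ hr₁ hr₂ heq (by rw [hn₁, h, Nat.cast_zero])
      exact irr_ne_zero hφ₁ this
    · have := key _ _ hr₂ hr₁ (heq.trans (add_comm _ _)) (by rw [hn₂, show n₂ = 0 by omega, Nat.cast_zero])
      exact h0 (eq_zero_of_degree_zero hc' this)
  have hcoset1 : ∀ g : G, (∀ q : G ⧸ H, q.out⁻¹ * g * q.out ∈ H) → g ∈ K := by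
    intro g hg x
    have h := hg (QuotientGroup.mk x⁻¹)
    have hh : ((QuotientGroup.mk x⁻¹ : G ⧸ H).out)⁻¹ * x⁻¹ ∈ H := QuotientGroup.eq.1 (Quotient.out_eq _)
    set o := (QuotientGroup.mk x⁻¹ : G ⧸ H).out with ho
    have e : x * g * x⁻¹ = (o⁻¹ * x⁻¹)⁻¹ * (o⁻¹ * g * o) * (o⁻¹ * x⁻¹) := by group
    rw [e]; exact mul_mem (mul_mem (inv_mem hh) h) hh
  have hχ1 : χ 1 ≠ 0 := irr_ne_zero hind
  -- invariance of `φ`
  have hinv : ∀ (x : G) (k : K), φ ⟨x * k * x⁻¹, Subgroup.Normal.conj_mem inferInstance _ k.2 x⟩ = φ k := by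
    obtain ⟨φ', e, hφ', he⟩ := hcon K inferInstance hLK
    have hsum : (fun k : K => χ k) = ∑ q : G ⧸ H, fun k : K => φ ⟨q.out⁻¹ * k * q.out,
        by simpa using Subgroup.Normal.conj_mem inferInstance _ k.2 q.out⁻¹⟩ := by
      funext k
      rw [hχdef, indFun_eq_sum_cosets H hϑc, Finset.sum_apply]
      refine Finset.sum_congr rfl fun q _ => ?_
      have hm : q.out⁻¹ * (k : G) * q.out ∈ K := by simpa using Subgroup.Normal.conj_mem inferInstance _ k.2 q.out⁻¹
      rw [extendByZero_of_mem _ _ (hKH hm)]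
    have hconjirr : ∀ q : G ⧸ H, IsCharacter K (fun k : K => φ ⟨q.out⁻¹ * k * q.out,
        by simpa using Subgroup.Normal.conj_mem inferInstance _ k.2 q.out⁻¹⟩) := fun q =>
      isCharacter_comp (isCharacter_of_irr hφ) (MonoidHom.mk'
        (fun k : K => (⟨q.out⁻¹ * k * q.out, by simpa using Subgroup.Normal.conj_mem inferInstance _ k.2 q.out⁻¹⟩ : K))
        fun a b => Subtype.ext (by simp [mul_assoc]))
    have hφφ' : φ = φ' := by
      by_contra hne
      have hz : classInner (fun k : K => χ k) φ = 0 := by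
        rw [he, classInner_smul_left, classInner_irr_ne hφ' hφ (Ne.symm hne), mul_zero]
      rw [hsum, classInner_sum_left] at hz
      choose n hn using fun q => classInner_char_nat (hconjirr q) (isCharacter_of_irr hφ)
      simp only [hn] at hz
      rw [← Nat.cast_sum, Nat.cast_eq_zero, Finset.sum_eq_zero_iff] at hz
      set q1 : G ⧸ H := QuotientGroup.mk 1
      have hh : q1.out ∈ H := by
        have := QuotientGroup.eq.1 (Quotient.out_eq q1 : (QuotientGroup.mk q1.out : G ⧸ H) = QuotientGroup.mk 1)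
        rw [mul_one] at this
        simpa using inv_mem this
      have h1 : (fun k : K => φ ⟨q1.out⁻¹ * k * q1.out,
          by simpa using Subgroup.Normal.conj_mem inferInstance _ k.2 q1.out⁻¹⟩) = φ := by
        funext k
        show ϑ _ = ϑ ⟨k, hKH k.2⟩
        rw [← hϑc ⟨k, hKH k.2⟩ ⟨q1.out, hh⟩⁻¹]
        exact congrArg ϑ (Subtype.ext (by simp [mul_assoc]))
      have h2 := hn q1
      rw [h1, classInner_irr_self hφ, hz q1 (Finset.mem_univ _)] at h2
      simp at h2
    subst hφφ'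
    have he0 : (e : ℂ) ≠ 0 := fun h => hχ1 (by
      have := congrFun he 1
      simpa [h] using this)
    intro x k
    have h1 := congrFun he ⟨x * k * x⁻¹, Subgroup.Normal.conj_mem inferInstance _ k.2 x⟩
    have h2 := congrFun he k
    simp only [Pi.smul_apply, smul_eq_mul] at h1 h2
    rw [hχc] at h1
    exact mul_left_cancel₀ he0 (h1.symm.trans h2)
  -- the value on the core
  have hχK : ∀ k : K, χ k = (H.index : ℂ) * φ k := by
    intro k
    rw [hχdef, indFun_eq_sum_cosets H hϑc, Finset.sum_congr rfl (g := fun _ => φ k) fun q _ => ?_,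
      Finset.sum_const, Finset.card_univ, nsmul_eq_mul, Subgroup.index_eq_card, Nat.card_eq_fintype_card]
    have hm : q.out⁻¹ * (k : G) * q.out ∈ K := by simpa using Subgroup.Normal.conj_mem inferInstance _ k.2 q.out⁻¹
    rw [extendByZero_of_mem _ _ (hKH hm), ← hinv q.out⁻¹ k]
    exact congrArg ϑ (Subtype.ext (by simp))
  have hφnorm : ∑ k : K, Complex.normSq (φ k) = Nat.card K := by
    have h1 := classInner_irr_self hφ
    simp only [classInner, Complex.mul_conj] at h1
    rw [inv_mul_eq_one₀ (Nat.cast_ne_zero.2 Nat.card_pos.ne')] at h1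
    exact_mod_cast h1.symm
  -- the first step
  have hsolK : Group.IsSolvable (G ⧸ K) :=
    Group.isSolvable_of_surjective (f := QuotientGroup.map L K (MonoidHom.id G) (by simpa using hLK))
      (fun x => by
        induction x using QuotientGroup.induction_on with
        | _ g => exact ⟨QuotientGroup.mk g, rfl⟩)
  have hKtop : K ≠ ⊤ := fun h => hmax.1 (top_le_iff.1 (h ▸ hKH))
  obtain ⟨M, hMn, hKM, hMne, hMab, ⟨r, hr, hMr⟩, hMmin⟩ := exists_step K hsolK hKtop
  haveI := hMn
  haveI : Fintype M := Fintype.ofFinite M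
  have hMH : ¬ M ≤ H := fun h => hMne (le_antisymm (Subgroup.normal_le_normalCore.2 h) hKM)
  have hMHtop : M ⊔ H = ⊤ := hmax.2 _ (lt_of_le_of_ne le_sup_right fun h => hMH (h ▸ le_sup_left))
  have hMHK : M ⊓ H = K := by
    refine le_antisymm ?_ (le_inf hKM hKH)
    rw [hK, Subgroup.normal_le_normalCore (H := H) (N := M ⊓ H) (hN := ?_)]
    · exact inf_le_right
    constructor
    intro x hx g
    obtain ⟨hxM, hxH⟩ := Subgroup.mem_inf.1 hx
    have hg : g ∈ (↑(M ⊔ H) : Set G) := by rw [hMHtop]; exact Subgroup.mem_top g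
    rw [Subgroup.normal_mul] at hg
    obtain ⟨m, hm, h, hh, rfl⟩ := Set.mem_mul.1 hg
    have h1 : h * x * h⁻¹ ∈ M := hMn.conj_mem x hxM h
    have h2 : h * x * h⁻¹ ∈ H := mul_mem (mul_mem hh hxH) (inv_mem hh)
    have h3 := hMab m hm _ h1
    have e : m * h * x * (m * h)⁻¹ = (m * (h * x * h⁻¹) * m⁻¹ * (h * x * h⁻¹)⁻¹) * (h * x * h⁻¹) := by group
    rw [e]
    exact mul_mem (Subgroup.mem_inf.2 ⟨hKM h3, hKH h3⟩) (Subgroup.mem_inf.2 ⟨h1, h2⟩)
  set v := K.relIndex M with hv
  obtain ⟨a, ha⟩ := relIndex_prime_pow hr hMr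
  have hva : v = r ^ a := hv.trans ha
  have hMcard : Nat.card M = Nat.card K * v := (CfsgLib.Products.card_mul_relIndex_of_le hKM).symm
  have hidx : H.index = v := by
    have e1 : Nat.card M * M.relIndex H = Nat.card G := by
      rw [← Subgroup.relIndex_sup_left (K := M) (H := H), hMHtop, Subgroup.relIndex_top_right, Subgroup.card_mul_index]
    have e2 : Nat.card K * M.relIndex H = Nat.card H := by rw [← hMHK]; exact CfsgLib.Products.card_inf_mul_relIndex M H
    have e3 := H.card_mul_index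
    rw [← e2, ← e1, hMcard] at e3
    refine Nat.eq_of_mul_eq_mul_left (Nat.mul_pos (Nat.card_pos (α := K)) (Nat.pos_of_ne_zero fun h0 => ?_ : 0 < M.relIndex H)) (by rw [e3]; ring)
    rw [h0, mul_zero] at e2
    exact Nat.card_pos.ne' e2.symm
  obtain ⟨ψ, e, hψ, he⟩ := hcon M hMn (hLK.trans hKM)
  have hχoff : ∀ m ∈ M, m ∉ K → χ m = 0 := by
    intro m hm hmK
    rw [hχdef, indFun_eq_sum_cosets H hϑc]
    refine Finset.sum_eq_zero fun q _ => extendByZero_of_not_mem _ _ fun h => hmK ?_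
    have h1 : q.out⁻¹ * m * q.out ∈ K := hMHK ▸ Subgroup.mem_inf.2 ⟨by simpa using hMn.conj_mem m hm q.out⁻¹, h⟩
    simpa [mul_assoc] using Subgroup.Normal.conj_mem (inferInstance : K.Normal) _ h1 q.out
  have hMsum : ∑ m : M, Complex.normSq (χ m) = (v : ℝ) * v * Nat.card K := by
    rw [← Finset.sum_subset (Finset.subset_univ (Finset.univ.filter fun m : M => (m : G) ∈ K)) fun m _ hm => ?_]
    · rw [← hφnorm, Finset.mul_sum]
      refine Finset.sum_bij (fun m hm => ⟨m, (Finset.mem_filter.1 hm).2⟩) (fun _ _ => Finset.mem_univ _)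
        (fun a _ b _ h => Subtype.ext (congrArg (fun k : K => (k : G)) h))
        (fun k _ => ⟨⟨k, hKM k.2⟩, Finset.mem_filter.2 ⟨Finset.mem_univ _, k.2⟩, rfl⟩) fun m hm => ?_
      have := hχK ⟨m, (Finset.mem_filter.1 hm).2⟩
      simp only at this
      rw [this, map_mul, hidx, Complex.normSq_natCast]
    · rw [hχoff m m.2 fun h => hm (Finset.mem_filter.2 ⟨Finset.mem_univ _, h⟩), map_zero]
  have he2 : e * e = v := by
    have hnorm : ∑ m : M, Complex.normSq (ψ m) = Nat.card M := by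
      have h1 := classInner_irr_self hψ
      simp only [classInner, Complex.mul_conj] at h1
      rw [inv_mul_eq_one₀ (Nat.cast_ne_zero.2 Nat.card_pos.ne')] at h1
      exact_mod_cast h1.symm
    have h1 : ∑ m : M, Complex.normSq (χ m) = (e : ℝ) * e * Nat.card M := by
      rw [← hnorm, Finset.mul_sum]
      refine Finset.sum_congr rfl fun m _ => ?_
      have := congrFun he m
      simp only [Pi.smul_apply, smul_eq_mul] at this
      rw [this, map_mul, Complex.normSq_natCast]
    rw [hMsum, hMcard] at h1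
    have h2 : v * v * Nat.card K = e * e * (Nat.card K * v) := by exact_mod_cast h1
    have h3 : v * (Nat.card K * v) = (e * e) * (Nat.card K * v) := by rw [← h2]; ring
    exact (Nat.eq_of_mul_eq_mul_right (hMcard ▸ Nat.card_pos) h3).symm
  have hv1 : 1 < v := by
    rcases Nat.lt_or_ge 1 v with h | h
    · exact h
    · exfalso
      have : Nat.card M ≤ Nat.card K := by rw [hMcard]; exact Nat.le_trans (Nat.mul_le_mul_left _ h) (mul_one _).le
      exact hMne (Subgroup.eq_of_le_of_card_ge hKM this).symm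
  -- the second step, inside `H`
  have hKneH : K ≠ H := by
    intro hKeq
    obtain ⟨φ', e', hφ', he'⟩ := hcon K inferInstance hLK
    have hn := classInner_irr_self hind
    have h1 : ∑ g : G, Complex.normSq (χ g) = Nat.card G := by
      simp only [classInner, Complex.mul_conj] at hn
      rw [inv_mul_eq_one₀ (Nat.cast_ne_zero.2 Nat.card_pos.ne')] at hn
      exact_mod_cast hn.symm
    have h2 : (v : ℝ) * v * Nat.card K ≤ ∑ g : G, Complex.normSq (χ g) := by
      rw [← hMsum]
      calc ∑ m : M, Complex.normSq (χ m) = ∑ g ∈ Finset.univ.filter (· ∈ M), Complex.normSq (χ g) :=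
            (Finset.sum_subtype _ (fun g => by simp) fun g => Complex.normSq (χ g)).symm
        _ ≤ _ := Finset.sum_le_univ_sum_of_nonneg fun g => Complex.normSq_nonneg _
    have h3 : Nat.card G = Nat.card K * v := by rw [← hidx, hKeq, Subgroup.card_mul_index]
    rw [h1, h3] at h2
    have h4 : v * v * Nat.card K ≤ Nat.card K * v := by exact_mod_cast h2
    have h5 : v * (Nat.card K * v) ≤ 1 * (Nat.card K * v) := by linarith
    have := Nat.le_of_mul_le_mul_right h5 (hMcard ▸ Nat.card_pos)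
    omega
  set K' := K.subgroupOf H with hK'
  haveI : K'.Normal := Subgroup.normal_subgroupOf
  have hsolH : Group.IsSolvable (H ⧸ K') := by
    haveI := hsolK
    refine Group.isSolvable_of_isSolvable_injective (f := QuotientGroup.map K' K H.subtype fun x hx => hx) ?_
    intro x y
    induction x using QuotientGroup.induction_on with
    | _ x =>
      induction y using QuotientGroup.induction_on with
      | _ y =>
        intro h
        exact QuotientGroup.eq.2 (Subgroup.mem_subgroupOf.2 ((QuotientGroup.eq (s := K)).1 h))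
  obtain ⟨R', hR'n, hKR', hR'ne, -, ⟨q, hq, hR'q⟩, -⟩ := exists_step K' hsolH (fun h => hKneH
    (le_antisymm hKH (Subgroup.subgroupOf_eq_top.1 h)))
  haveI := hR'n
  set R := R'.map H.subtype with hR
  have hRH : R ≤ H := Subgroup.map_subtype_le R'
  have hKR : K ≤ R := fun k hk => ⟨⟨k, hKH hk⟩, hKR' (Subgroup.mem_subgroupOf.2 hk), rfl⟩
  have hRne : R ≠ K := fun h => hR'ne (le_antisymm (fun x hx => Subgroup.mem_subgroupOf.2
    (h ▸ (⟨x, hx, rfl⟩ : (x : G) ∈ R))) hKR')
  have hRq : ∀ x ∈ R, x ^ q ∈ K := by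
    rintro _ ⟨y, hy, rfl⟩
    exact Subgroup.mem_subgroupOf.1 (hR'q y hy)
  have hHR : ∀ h ∈ H, ∀ x ∈ R, h * x * h⁻¹ ∈ R := by
    rintro h hh _ ⟨y, hy, rfl⟩
    exact ⟨⟨h, hh⟩ * y * ⟨h, hh⟩⁻¹, hR'n.conj_mem y hy _, rfl⟩
  have hRnot : ¬ R.Normal := fun hn => hRne (le_antisymm
    (Subgroup.normal_le_normalCore (hN := hn) |>.2 hRH) hKR)
  haveI := Fact.mk hr
  haveI := Fact.mk hq
  -- the two primes differ
  have hrq : r ≠ q := by
    rintro rfl
    apply hRnot
    set f := QuotientGroup.mk' K with hf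
    have hsurj : Function.Surjective f := QuotientGroup.mk'_surjective K
    set W := M.map f with hW
    set Q := R.map f with hQ
    haveI hWn : W.Normal := hMn.map f hsurj
    have hWp : IsPGroup r W := by
      rintro ⟨_, m, hm, rfl⟩
      exact ⟨1, Subtype.ext (by
        rw [pow_one]; push_cast; rw [← map_pow]; exact (QuotientGroup.eq_one_iff _).2 (hMr m hm))⟩
    have hQp : IsPGroup r Q := by
      rintro ⟨_, m, hm, rfl⟩
      exact ⟨1, Subtype.ext (by
        rw [pow_one]; push_cast; rw [← map_pow]; exact (QuotientGroup.eq_one_iff _).2 (hRq m hm))⟩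
    set N0 := W ⊔ Q with hN0
    have hN0p : IsPGroup r N0 := IsPGroup.to_sup_of_normal_left hWp hQp
    haveI : Group.IsNilpotent N0 := hN0p.isNilpotent
    haveI : (W.subgroupOf N0).Normal := Subgroup.normal_subgroupOf
    have hW0 : W.subgroupOf N0 ≠ ⊥ := fun h => by
      obtain ⟨m, hm, hmK⟩ := SetLike.exists_of_lt (lt_of_le_of_ne hKM (Ne.symm hMne))
      have hmem : (⟨f m, le_sup_left (a := W) ⟨m, hm, rfl⟩⟩ : N0) ∈ W.subgroupOf N0 :=
        Subgroup.mem_subgroupOf.2 ⟨m, hm, rfl⟩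
      rw [h, Subgroup.mem_bot] at hmem
      exact hmK ((QuotientGroup.eq_one_iff m).1 (congrArg Subtype.val hmem))
    obtain ⟨⟨z, hz⟩, hz1⟩ := Subgroup.ne_bot_iff_exists_ne_one.1 (CfsgLib.inf_center_ne_bot_of_nilpotent (G := N0) hW0)
    obtain ⟨hzW, hzc⟩ := Subgroup.mem_inf.1 hz
    -- the centralised part of `M`
    let Cm : Subgroup G := M ⊓ (Subgroup.centralizer (Q : Set (G ⧸ K))).comap f
    haveI hCn : Cm.Normal := by
      constructor
      intro x hx g
      obtain ⟨hxM, hxQ⟩ := Subgroup.mem_inf.1 hx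
      refine Subgroup.mem_inf.2 ⟨hMn.conj_mem x hxM g, ?_⟩
      have hg : g ∈ (↑(M ⊔ H) : Set G) := by rw [hMHtop]; exact Subgroup.mem_top g
      rw [Subgroup.normal_mul] at hg
      obtain ⟨m, hm, h, hh, rfl⟩ := Set.mem_mul.1 hg
      have hhx : f (h * x * h⁻¹) ∈ Subgroup.centralizer (Q : Set (G ⧸ K)) := by
        rw [Subgroup.mem_centralizer_iff]
        rintro _ ⟨y, hy, rfl⟩
        have h2 := Subgroup.mem_centralizer_iff.1 (Subgroup.mem_comap.1 hxQ) (f (h⁻¹ * y * h))
          ⟨_, by simpa using hHR h⁻¹ (inv_mem hh) y hy, rfl⟩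
        simp only [← map_mul] at h2 ⊢
        have h3 := congrArg (fun t => f h * t * (f h)⁻¹) h2
        simp only [← map_mul, ← map_inv] at h3
        simpa [mul_assoc] using h3
      rw [Subgroup.mem_comap]
      have e : f (m * h * x * (m * h)⁻¹) = f (h * x * h⁻¹) := by
        have h3 : f (m * (h * x * h⁻¹) * m⁻¹ * (h * x * h⁻¹)⁻¹) = 1 :=
          (QuotientGroup.eq_one_iff _).2 (hMab m hm _ (hMn.conj_mem x hxM h))
        calc f (m * h * x * (m * h)⁻¹)
            = f (m * (h * x * h⁻¹) * m⁻¹ * (h * x * h⁻¹)⁻¹) * f (h * x * h⁻¹) := by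
              rw [← map_mul]; congr 1; group
          _ = f (h * x * h⁻¹) := by rw [h3, one_mul]
      rw [e]; exact hhx
    have hCm : Cm = M := by
      refine (hMmin Cm hCn (fun k hk => Subgroup.mem_inf.2 ⟨hKM hk, ?_⟩) inf_le_left).resolve_left ?_
      · rw [Subgroup.mem_comap, show f k = 1 from (QuotientGroup.eq_one_iff k).2 hk]; exact one_mem _
      intro hCK
      obtain ⟨m, hm, hmz⟩ := (Subgroup.mem_subgroupOf.1 hzW : (z : G ⧸ K) ∈ W)
      have hmC : m ∈ Cm := by
        refine Subgroup.mem_inf.2 ⟨hm, Subgroup.mem_comap.2 ?_⟩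
        rw [hmz, Subgroup.mem_centralizer_iff]
        intro y hy
        exact congrArg Subtype.val (Subgroup.mem_center_iff.1 hzc ⟨y, le_sup_right (b := Q) hy⟩)
      rw [hCK] at hmC
      exact hz1 (Subtype.ext (Subtype.ext (hmz.symm.trans ((QuotientGroup.eq_one_iff m).2 hmC))))
    constructor
    intro x hx g
    have hg : g ∈ (↑(M ⊔ H) : Set G) := by rw [hMHtop]; exact Subgroup.mem_top g
    rw [Subgroup.normal_mul] at hg
    obtain ⟨m, hm, h, hh, rfl⟩ := Set.mem_mul.1 hg
    have hy : h * x * h⁻¹ ∈ R := hHR h hh x hx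
    set y := h * x * h⁻¹ with hydef
    have hc := Subgroup.mem_centralizer_iff.1 (Subgroup.mem_comap.1 (Subgroup.mem_inf.1 (hCm.symm ▸ hm : m ∈ Cm)).2)
      (f y) ⟨y, hy, rfl⟩
    have hk : y⁻¹ * (m * y * m⁻¹) ∈ K := by
      refine (QuotientGroup.eq_one_iff _).1 ?_
      show f (y⁻¹ * (m * y * m⁻¹)) = 1
      rw [map_mul, map_mul, map_mul, ← hc, map_inv, map_inv]; group
    have e : m * h * x * (m * h)⁻¹ = y * (y⁻¹ * (m * y * m⁻¹)) := by rw [hydef]; group
    rw [e]; exact mul_mem hy (hKR hk)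
  -- the normal subgroup `N = M R`
  set N := M ⊔ R with hN
  haveI hNn : N.Normal := by
    constructor
    intro x hx g
    have hg : g ∈ (↑(M ⊔ H) : Set G) := by rw [hMHtop]; exact Subgroup.mem_top g
    rw [Subgroup.normal_mul] at hg
    obtain ⟨m, hm, h, hh, rfl⟩ := Set.mem_mul.1 hg
    have hx' : h * x * h⁻¹ ∈ N := by
      have : N ≤ N.comap (MulAut.conj h).toMonoidHom := sup_le
        (fun y hy => (le_sup_left : M ≤ N) (hMn.conj_mem y hy h))
        (fun y hy => (le_sup_right : R ≤ N) (hHR h hh y hy))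
      exact this hx
    have := mul_mem (mul_mem (le_sup_left (b := R) hm) hx') (inv_mem (le_sup_left (b := R) hm))
    simpa [mul_assoc] using this
  haveI : Fintype N := Fintype.ofFinite N
  haveI : Fintype R := Fintype.ofFinite R
  have hNH : ∀ n ∈ N, n ∈ H → n ∈ R := by
    intro n hn hnH
    have hn' : n ∈ (↑(M ⊔ R) : Set G) := hn
    rw [Subgroup.normal_mul] at hn'
    obtain ⟨m, hm, x, hx, rfl⟩ := Set.mem_mul.1 hn'
    have hmH : m ∈ H := by simpa using mul_mem hnH (inv_mem (hRH hx))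
    exact mul_mem (hKR (hMHK ▸ Subgroup.mem_inf.2 ⟨hm, hmH⟩)) hx
  have hMR : M ⊓ R = K := le_antisymm (hMHK ▸ inf_le_inf_left M hRH) (le_inf hKM hKR)
  have hRrel : M.relIndex R = K.relIndex R := by rw [← hMR, Subgroup.inf_relIndex_right]
  have hNcard : Nat.card N = v * Nat.card R := by
    rw [← CfsgLib.Products.card_mul_relIndex_of_le (le_sup_left : M ≤ N), Subgroup.relIndex_sup_left,
      ← CfsgLib.Products.card_inf_mul_relIndex M R, hMR, hMcard]
    ring
  obtain ⟨η, f, hη, hf⟩ := hcon N hNn ((hLK.trans hKM).trans le_sup_left)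
  have hf' : ∀ n : N, χ n = (f : ℂ) * η n := fun n => by simpa using congrFun hf n
  have he' : ∀ m : M, χ m = (e : ℂ) * ψ m := fun m => by simpa using congrFun he m
  -- `f = e`
  have hf0 : f ≠ 0 := fun h => hχ1 (by
    have := hf' 1
    simpa [h] using this)
  have he0 : e ≠ 0 := fun h => by rw [h] at he2; omega
  have hfe : f = e := by
    set M' := M.subgroupOf N with hM'
    haveI : M'.Normal := Subgroup.normal_subgroupOf
    haveI : Fintype M' := Fintype.ofFinite M'
    let ι : M' →* M := MonoidHom.mk' (fun x => ⟨((x : N) : G), Subgroup.mem_subgroupOf.1 x.2⟩) fun _ _ => rfl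
    have hιs : Function.Surjective ι := fun m =>
      ⟨⟨⟨m, le_sup_left (b := R) m.2⟩, Subgroup.mem_subgroupOf.2 m.2⟩, rfl⟩
    set ψ' : M' → ℂ := fun x => ψ (ι x) with hψ'def
    have hψ' : IsIrrCharacter M' ψ' := isIrrCharacter_comp_surjective hψ ι hιs
    have hrel : (fun x : M' => η x) = ((e : ℂ) / f) • ψ' := by
      funext x
      have h1 := hf' x
      have h2 := he' (ι x)
      rw [Pi.smul_apply, smul_eq_mul, div_mul_eq_mul_div, eq_div_iff (Nat.cast_ne_zero.2 hf0), mul_comm (η _)]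
      exact h1.symm.trans h2
    have hc : classInner (fun x : M' => η x) ψ' ≠ 0 := by
      rw [hrel, classInner_smul_left, classInner_irr_self hψ', mul_one]
      exact div_ne_zero (Nat.cast_ne_zero.2 he0) (Nat.cast_ne_zero.2 hf0)
    obtain ⟨d, hd, hdvd⟩ := degree_ratio_dvd hη hψ' hc
    have h1 : (e : ℂ) * ψ' 1 = ((f * d : ℕ) : ℂ) * ψ' 1 := by
      rw [Nat.cast_mul, mul_assoc, ← hd]
      exact (he' (ι 1)).symm.trans (by simpa [map_one] using hf' 1)
    have hed : e = f * d := Nat.cast_inj.1 (mul_right_cancel₀ (irr_ne_zero hψ') h1)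
    obtain ⟨b, hb⟩ := relIndex_prime_pow hq hRq
    have hdq : d ∣ q ^ b := by
      refine hdvd.trans ?_
      rw [← hb, ← hRrel, ← Subgroup.relIndex_sup_left (K := M) (H := R)]
      exact dvd_rfl
    obtain ⟨i, -, hi⟩ := (Nat.dvd_prime_pow hr).1 (show e ∣ r ^ a from hva ▸ he2 ▸ dvd_mul_right e e)
    have hd1 : d = 1 := Nat.eq_one_of_dvd_coprimes (Nat.Coprime.pow i b ((Nat.coprime_primes hr hq).2 hrq))
      (hi ▸ hed ▸ dvd_mul_left d f) hdq
    rw [hed, hd1, mul_one]
  -- the norm over `N`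
  have hNsum : ∑ n : N, Complex.normSq (χ n) = (v : ℝ) * (v * Nat.card R) := by
    have h1 := classInner_irr_self hη
    simp only [classInner, Complex.mul_conj] at h1
    rw [inv_mul_eq_one₀ (Nat.cast_ne_zero.2 Nat.card_pos.ne')] at h1
    have h1' : (Nat.card N : ℝ) = ∑ n : N, Complex.normSq (η n) := by exact_mod_cast h1
    have h2 : ((v * Nat.card R : ℕ) : ℝ) = ∑ n : N, Complex.normSq (η n) := by rw [← hNcard]; exact h1'
    push_cast at h2
    rw [h2, Finset.mul_sum]
    refine Finset.sum_congr rfl fun n _ => ?_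
    rw [hf', map_mul, hfe, Complex.normSq_natCast]
    norm_cast
    rw [← he2]
  let S : N → Finset (G ⧸ H) := fun n => Finset.univ.filter fun c => c.out⁻¹ * (n : G) * c.out ∈ H
  let P : G → ℝ := fun g => Complex.normSq (extendByZero H ϑ g)
  have hbound : ∀ n : N, Complex.normSq (χ n) ≤ (S n).card * ∑ c : G ⧸ H, P (c.out⁻¹ * n * c.out) := by
    intro n
    have hval : χ n = ∑ c ∈ S n, extendByZero H ϑ (c.out⁻¹ * n * c.out) := by
      rw [hχdef, indFun_eq_sum_cosets H hϑc]
      refine (Finset.sum_subset (Finset.subset_univ _) fun c _ hc => extendByZero_of_not_mem _ _ fun h => ?_).symm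
      exact hc (Finset.mem_filter.2 ⟨Finset.mem_univ _, h⟩)
    have hsq : (∑ c ∈ S n, ‖extendByZero H ϑ (c.out⁻¹ * n * c.out)‖) ^ 2 ≤
        (S n).card * ∑ c ∈ S n, ‖extendByZero H ϑ (c.out⁻¹ * n * c.out)‖ ^ 2 := sq_sum_le_card_mul_sum_sq
    rw [hval, Complex.normSq_eq_norm_sq]
    refine le_trans (pow_le_pow_left₀ (norm_nonneg _) (norm_sum_le _ _) 2) (hsq.trans ?_)
    refine mul_le_mul_of_nonneg_left ?_ (Nat.cast_nonneg _)
    simp only [P, Complex.normSq_eq_norm_sq]
    exact Finset.sum_le_univ_sum_of_nonneg fun c => sq_nonneg _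
  -- conjugation invariance of the number of fixed cosets
  let σ : G ⧸ H → N ≃ N := fun c => (MulAut.conjNormal (H := N) c.out⁻¹).toEquiv
  have hscard : ∀ (c : G ⧸ H) (n : N), (S (σ c n)).card = (S n).card := by
    intro c n
    -- both count the fixed points on cosets
    have hfix : ∀ (g : N) (x : G ⧸ H), x ∈ S g ↔ (g : G) • x = x := by
      intro g x
      simp only [S, Finset.mem_filter, Finset.mem_univ, true_and]
      conv_rhs => rw [← Quotient.out_eq x]
      show _ ↔ (g : G) • (QuotientGroup.mk x.out : G ⧸ H) = QuotientGroup.mk x.out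
      rw [MulAction.Quotient.smul_mk, eq_comm, QuotientGroup.eq, smul_eq_mul, mul_assoc]
    refine Finset.card_bij' (fun x _ => c.out • x) (fun x _ => c.out⁻¹ • x) (fun x hx => ?_) (fun x hx => ?_)
      (fun x _ => inv_smul_smul _ _) (fun x _ => smul_inv_smul _ _)
    · rw [hfix] at hx ⊢
      have e : ((σ c n : N) : G) = c.out⁻¹ * (n : G) * c.out := by simp [σ]
      rw [e, mul_smul, mul_smul, inv_smul_eq_iff] at hx
      exact hx
    · rw [hfix] at hx ⊢
      have e : ((σ c n : N) : G) = c.out⁻¹ * (n : G) * c.out := by simp [σ]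
      rw [e, mul_smul, mul_smul, smul_inv_smul, hx]
  have htot : ∑ n : N, Complex.normSq (χ n) ≤ (v : ℝ) * ∑ n : N, (S n).card * P n := by
    calc ∑ n : N, Complex.normSq (χ n) ≤ ∑ n : N, (S n).card * ∑ c : G ⧸ H, P (c.out⁻¹ * n * c.out) :=
          Finset.sum_le_sum fun n _ => hbound n
      _ = ∑ c : G ⧸ H, ∑ n : N, ((S n).card : ℝ) * P (c.out⁻¹ * n * c.out) := by
          rw [Finset.sum_comm]; simp_rw [Finset.mul_sum]
      _ = ∑ _c : G ⧸ H, ∑ n : N, ((S n).card : ℝ) * P n := by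
          refine Finset.sum_congr rfl fun c _ => Fintype.sum_equiv (σ c) _ _ fun n => ?_
          rw [hscard]
          simp [σ, P]
      _ = _ := by
          rw [Finset.sum_const, Finset.card_univ, nsmul_eq_mul, ← Nat.card_eq_fintype_card, ← Subgroup.index_eq_card, hidx]
  -- the sum over `R`
  let ι : R → N := fun x => ⟨x, le_sup_right (a := M) x.2⟩
  let ϑR : R → ℂ := fun x => ϑ ⟨x, hRH x.2⟩
  have hRsum : ∑ n : N, ((S n).card : ℝ) * P n = ∑ x : R, ((S (ι x)).card : ℝ) * Complex.normSq (ϑR x) := by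
    rw [← Finset.sum_subset (Finset.subset_univ (Finset.univ.filter fun n : N => (n : G) ∈ R)) fun n _ hn => ?_]
    · symm
      refine Finset.sum_bij (fun x _ => ι x) (fun x _ => Finset.mem_filter.2 ⟨Finset.mem_univ _, x.2⟩)
        (fun a _ b _ h => Subtype.ext (congrArg (fun n : N => (n : G)) h))
        (fun n hn => ⟨⟨n, (Finset.mem_filter.1 hn).2⟩, Finset.mem_univ _, rfl⟩) fun x _ => ?_
      simp only [P, ι, ϑR]
      rw [extendByZero_of_mem _ _ (hRH x.2)]
    · simp only [P]
      rw [extendByZero_of_not_mem _ _ fun h => hn (Finset.mem_filter.2 ⟨Finset.mem_univ _, hNH n n.2 h⟩), map_zero, mul_zero]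
  -- `ϑR` is irreducible and not concentrated on `K`
  have hϑRnorm : ∑ x : R, Complex.normSq (ϑR x) ≤ Nat.card R := by
    have hc : IsCharacter R ϑR := isCharacter_comp (isCharacter_of_irr hϑ) (Subgroup.inclusion hRH)
    obtain ⟨n, hn⟩ := classInner_char_nat hc hc
    have hn' : ∑ x : R, Complex.normSq (ϑR x) = Nat.card R * n := by
      simp only [classInner, Complex.mul_conj] at hn
      rw [inv_mul_eq_iff_eq_mul₀ (Nat.cast_ne_zero.2 Nat.card_pos.ne')] at hn
      exact_mod_cast hn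
    obtain ⟨ϑ₁, hϑ₁, hne⟩ := exists_constituent hc fun h => irr_ne_zero hϑ (congrFun h 1)
    have hc' := isCharacter_sub_irr hc hϑ₁ hne
    by_cases h0 : ϑR - ϑ₁ = 0
    · rw [sub_eq_zero.1 h0]
      have h1 := classInner_irr_self hϑ₁
      simp only [classInner, Complex.mul_conj] at h1
      rw [inv_mul_eq_one₀ (Nat.cast_ne_zero.2 Nat.card_pos.ne')] at h1
      exact le_of_eq (by exact_mod_cast h1.symm)
    exfalso
    -- a reducible restriction would stay reducible on `K`
    let j : K →* R := Subgroup.inclusion hKR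
    have hj1 : IsCharacter K (fun k => ϑ₁ (j k)) := isCharacter_comp (isCharacter_of_irr hϑ₁) j
    have hj2 : IsCharacter K (fun k => (ϑR - ϑ₁) (j k)) := isCharacter_comp hc' j
    have heq : φ = (fun k => ϑ₁ (j k)) + fun k => (ϑR - ϑ₁) (j k) := by funext k; simp [φ, ϑR, j]
    obtain ⟨n₁, hn₁⟩ := classInner_char_nat hj1 (isCharacter_of_irr hφ)
    obtain ⟨n₂, hn₂⟩ := classInner_char_nat hj2 (isCharacter_of_irr hφ)
    have h1 := classInner_irr_self hφ
    conv_lhs at h1 => arg 1; rw [heq]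
    rw [classInner_add_left, hn₁, hn₂] at h1
    have h12 : n₁ + n₂ = 1 := by exact_mod_cast h1
    have key : ∀ x y : K → ℂ, IsCharacter K x → IsCharacter K y → φ = x + y → classInner x φ = 0 → x 1 = 0 := by
      intro x y hx hy hxy hz
      by_contra hx1
      obtain ⟨ξ, hξ, hξne⟩ := exists_constituent hx fun h => hx1 (by rw [h]; rfl)
      obtain ⟨i, hi⟩ := classInner_char_nat hx (isCharacter_of_irr hξ)
      obtain ⟨k, hk⟩ := classInner_char_nat hy (isCharacter_of_irr hξ)
      have h2 : classInner φ ξ = ((i + k : ℕ) : ℂ) := by rw [hxy, classInner_add_left, hi, hk, Nat.cast_add]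
      rw [classInner_irr hφ hξ] at h2
      split_ifs at h2 with hs
      · exact hξne (by rw [← hs]; exact hz)
      · have : i + k = 0 := by exact_mod_cast h2.symm
        exact hξne (by rw [hi, show i = 0 by omega, Nat.cast_zero])
    rcases Nat.eq_zero_or_pos n₁ with h | h
    · exact irr_ne_zero hϑ₁ (by simpa using key _ _ hj1 hj2 heq (by rw [hn₁, h, Nat.cast_zero]))
    · have := key _ _ hj2 hj1 (heq.trans (add_comm _ _)) (by rw [hn₂, show n₂ = 0 by omega, Nat.cast_zero])
      exact h0 (eq_zero_of_degree_zero hc' (by simpa using this))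
  have hRsum2 : (v : ℝ) * Nat.card R ≤ ∑ x : R, ((S (ι x)).card : ℝ) * Complex.normSq (ϑR x) := by
    rw [← hRsum]
    exact le_of_mul_le_mul_left (hNsum ▸ htot) (Nat.cast_pos.2 (by omega))
  have hSle : ∀ x : R, (S (ι x)).card ≤ v := fun x => by
    rw [← hidx, Subgroup.index_eq_card, Nat.card_eq_fintype_card]; exact Finset.card_le_univ _
  have hzero : ∀ x : R, (x : G) ∉ K → ϑR x = 0 := by
    intro x hx
    by_contra h0
    have hlt : (S (ι x)).card < v := by
      refine lt_of_le_of_ne (hSle x) fun heq => hx (hcoset1 x fun c => ?_)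
      have hu : S (ι x) = Finset.univ := Finset.eq_univ_of_card _ (by
        rw [heq, ← hidx, Subgroup.index_eq_card, Nat.card_eq_fintype_card])
      have := hu.ge (Finset.mem_univ c)
      exact (Finset.mem_filter.1 this).2
    have hs : ∑ y : R, ((S (ι y)).card : ℝ) * Complex.normSq (ϑR y) < ∑ y : R, (v : ℝ) * Complex.normSq (ϑR y) := by
      refine Finset.sum_lt_sum (fun y _ => mul_le_mul_of_nonneg_right (by exact_mod_cast hSle y) (Complex.normSq_nonneg _))
        ⟨x, Finset.mem_univ _, mul_lt_mul_of_pos_right (by exact_mod_cast hlt) (Complex.normSq_pos.2 h0)⟩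
    rw [← Finset.mul_sum] at hs
    have := mul_le_mul_of_nonneg_left hϑRnorm (Nat.cast_nonneg v : (0 : ℝ) ≤ v)
    linarith
  have hfin : ∑ x : R, Complex.normSq (ϑR x) = Nat.card K := by
    rw [← hφnorm, ← Finset.sum_subset (Finset.subset_univ (Finset.univ.filter fun x : R => (x : G) ∈ K)) fun x _ hx => ?_]
    · refine Finset.sum_bij (fun x hx => ⟨x, (Finset.mem_filter.1 hx).2⟩) (fun _ _ => Finset.mem_univ _)
        (fun a _ b _ h => Subtype.ext (congrArg (fun k : K => (k : G)) h))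
        (fun k _ => ⟨⟨k, hKR k.2⟩, Finset.mem_filter.2 ⟨Finset.mem_univ _, k.2⟩, rfl⟩) fun x hx => rfl
    · rw [hzero x fun h => hx (Finset.mem_filter.2 ⟨Finset.mem_univ _, h⟩), map_zero]
  have hle : ∑ x : R, ((S (ι x)).card : ℝ) * Complex.normSq (ϑR x) ≤ ∑ x : R, (v : ℝ) * Complex.normSq (ϑR x) :=
    Finset.sum_le_sum fun y _ => mul_le_mul_of_nonneg_right (by exact_mod_cast hSle y) (Complex.normSq_nonneg _)
  rw [← Finset.mul_sum, hfin] at hle
  have h9 : v * Nat.card R ≤ v * Nat.card K := by exact_mod_cast hRsum2.trans hle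
  exact hRne (Subgroup.eq_of_le_of_card_ge hKR (Nat.le_of_mul_le_mul_left h9 (by omega))).symm

end CfsgLib.CharTheory.InducedQuasiPrim
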