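/-
Ordinary character theory: composition with the power maps of exponent prime to the group order, and
congruences modulo a prime.
-/
import Cfsg.Agent.Lib.CharTheory.Brauer
import Cfsg.Agent.Lib.CharTheory.Galois
import Cfsg.Agent.Lib.CharTheory.Clifford
import Cfsg.Prelude.Def_Blocks

set_option autoImplicit false

namespace CfsgLib.CharTheory

open Cfsg
open scoped ComplexConjugate

universe u
variable {G : Type u} [Group G]

theorem pow_mem_iff_of_coprime [Finite G] {H : Subgroup G} {m : ℕ} (hm : m.Coprime (Nat.card G))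
    {y : G} : y ^ m ∈ H ↔ y ∈ H := by
  refine ⟨fun h => ?_, fun h => H.pow_mem h m⟩
  have hco : (orderOf y).Coprime m := (hm.coprime_dvd_right (orderOf_dvd_natCard y)).symm
  obtain ⟨k, hk⟩ := exists_pow_eq_self_of_coprime hco.symm
  rw [← hk]
  exact H.pow_mem h k

theorem coprime_card_sub_one [Finite G] : (Nat.card G - 1).Coprime (Nat.card G) := by
  have := Nat.card_pos (α := G)
  exact (Nat.coprime_self_sub_left (by omega)).mpr (Nat.coprime_one_left _)

theorem pow_card_sub_one [Finite G] (g : G) : g ^ (Nat.card G - 1) = g⁻¹ := by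
  refine eq_inv_of_mul_eq_one_left ?_
  rw [← pow_succ, Nat.sub_add_cancel Nat.card_pos, pow_card_eq_one']

variable [Fintype G]

theorem indFun_pow (H : Subgroup G) (θ : H → ℂ) {m : ℕ} (hm : m.Coprime (Nat.card G)) (g : G) :
    indFun H θ (g ^ m) = indFun H (fun h => θ (h ^ m)) g := by
  simp only [indFun]
  congr 1
  refine Finset.sum_congr rfl fun x _ => ?_
  have e : x⁻¹ * g ^ m * x = (x⁻¹ * g * x) ^ m := by
    conv_rhs => rw [show x⁻¹ * g * x = x⁻¹ * g * x⁻¹⁻¹ by rw [inv_inv], conj_pow, inv_inv]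
  rw [e]
  by_cases h : x⁻¹ * g * x ∈ H
  · rw [extendByZero_of_mem _ _ h, extendByZero_of_mem _ _ (H.pow_mem h m)]
    rfl
  · rw [extendByZero_of_not_mem _ _ h,
      extendByZero_of_not_mem _ _ fun h' => h ((pow_mem_iff_of_coprime hm).mp h')]

theorem classInner_pow {m : ℕ} (hm : m.Coprime (Nat.card G)) (a b : G → ℂ) :
    classInner (fun g => a (g ^ m)) (fun g => b (g ^ m)) = classInner a b := by
  simp only [classInner]
  congr 1
  exact Fintype.sum_equiv (powCoprime hm.symm) _ (fun g => a g * conj (b g)) fun g => rfl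

theorem isGenChar_pow {χ : G → ℂ} (hχ : IsCharacter G χ) {m : ℕ} (hm : m.Coprime (Nat.card G)) :
    IsGeneralizedCharacter G (fun g => χ (g ^ m)) := by
  have h := char_mem_linSpan hχ
  clear hχ
  induction h using AddSubgroup.closure_induction with
  | mem f hf =>
    obtain ⟨E, lam, p, -, -, rfl⟩ := hf
    rw [show (fun g => indFun E (fun e => (lam e : ℂ)) (g ^ m)) =
      indFun E (fun e => (((lam.comp (MonoidHom.id E)) e ^ m : ℂˣ) : ℂ)) from funext fun g => by
        rw [indFun_pow E _ hm g]; simp only [MonoidHom.id_comp, map_pow, MonoidHom.comp_apply, MonoidHom.id_apply]]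
    have := Fintype.ofFinite E
    exact isGenChar_indFun E (isGenChar_of_char (isCharacter_of_irr (isIrrCharacter_linear
      ((powMonoidHom m).comp lam))))
  | zero => exact isGenChar_zero
  | add f g _ _ h h' => exact isGenChar_add h h'
  | neg f _ h => exact isGenChar_neg h

/-- Composition with a power map prime to the group order preserves irreducibility. -/
theorem isIrrCharacter_pow {χ : G → ℂ} (hχ : IsIrrCharacter G χ) {m : ℕ}
    (hm : m.Coprime (Nat.card G)) : IsIrrCharacter G (fun g => χ (g ^ m)) := by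
  refine irr_of_norm_one (isGenChar_pow (isCharacter_of_irr hχ) hm)
    (by rw [classInner_pow hm, classInner_irr_self hχ]) ?_
  obtain ⟨d, hd, e⟩ := irr_degree_pos hχ
  show 0 < (χ (1 ^ m)).re
  rw [one_pow, e, Complex.natCast_re]
  exact_mod_cast hd

/-- The permutation of the irreducible characters given by a power map. -/
noncomputable def powIrr {m : ℕ} (hm : m.Coprime (Nat.card G)) (χ : IrrCharacter G) : IrrCharacter G :=
  ⟨_, isIrrCharacter_pow χ.2 hm⟩

theorem powIrr_bijective {m : ℕ} (hm : m.Coprime (Nat.card G)) :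
    Function.Bijective (powIrr (G := G) hm) := by
  refine Finite.injective_iff_bijective.mp fun a b h => Subtype.ext (funext fun g => ?_)
  obtain ⟨y, rfl⟩ := (powCoprime hm.symm).surjective g
  exact congrFun (congrArg Subtype.val h) y

theorem rational_int_of_invariant {F : G → ℂ} (hF : IsCharacter G F) (g : G)
    (h : ∀ m : ℕ, m.Coprime (Nat.card G) → F (g ^ m) = F g) : ∃ z : ℤ, F g = z := by
  obtain ⟨q, hq⟩ := rational_of_pow_invariant hF g h
  obtain ⟨z, hz⟩ := exists_int_of_isIntegral_ratCast (hq ▸ isIntegral_of_char hF g)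
  exact ⟨z, by rw [hq, hz, Rat.cast_intCast]⟩

omit [Fintype G] in
theorem natCast_not_isUnit {p : ℕ} (hp : p.Prime) : ¬ IsUnit ((p : ℕ) : AlgInt) := by
  intro hu
  obtain ⟨z, hz⟩ := hu.exists_right_inv
  have hz' : (p : ℂ) * (z : ℂ) = 1 := by exact_mod_cast congrArg Subtype.val hz
  have hz2 : (z : ℂ) = (((p : ℚ)⁻¹ : ℚ) : ℂ) := by
    push_cast
    exact eq_inv_of_mul_eq_one_right hz'
  obtain ⟨k, hk⟩ := exists_int_of_isIntegral_ratCast (hz2 ▸ z.2)
  have hk' : (p : ℚ) * k = 1 := by rw [← hk]; exact mul_inv_cancel₀ (Nat.cast_ne_zero.mpr hp.ne_zero)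
  have hk'' : (p : ℤ) * k = 1 := by exact_mod_cast hk'
  exact hp.ne_one (Nat.dvd_one.mp (Int.natCast_dvd_natCast.mp ⟨k, hk''.symm⟩))

/-- Frobenius congruence for a character. -/
theorem algInt_frob {χ : G → ℂ} (hχ : IsCharacter G χ) {p : ℕ} [hp : Fact p.Prime] (g : G) (k : ℕ)
    (z z' : AlgInt) (hz : (z : ℂ) = χ g) (hz' : (z' : ℂ) = χ (g ^ p ^ k)) :
    Ideal.Quotient.mk (Ideal.span {((p : ℕ) : AlgInt)}) z' =
      Ideal.Quotient.mk (Ideal.span {((p : ℕ) : AlgInt)}) z ^ p ^ k := by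
  haveI : CharP (AlgInt ⧸ Ideal.span {((p : ℕ) : AlgInt)}) p :=
    CharP.quotient _ p (natCast_not_isUnit hp.out)
  obtain ⟨s, hs, hpow⟩ := exists_roots_pow hχ g
  let T : Multiset AlgInt := s.attach.map fun x => ⟨x.1,
    IsIntegral.of_pow (Nat.card_pos (α := G)) (by rw [hs x.1 x.2]; exact isIntegral_one)⟩
  have hT : ∀ j : ℕ, (((T.map (· ^ j)).sum : AlgInt) : ℂ) = χ (g ^ j) := fun j => by
    rw [hpow j]
    show algebraMap AlgInt ℂ _ = _
    rw [map_multiset_sum, Multiset.map_map, Multiset.map_map]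
    conv_rhs => rw [← Multiset.attach_map_val s, Multiset.map_map]
    exact congrArg _ (Multiset.map_congr rfl fun x _ => by simp)
  have e1 : z = T.sum := Subtype.ext (by
    have := hT 1
    simp only [pow_one, Multiset.map_id'] at this
    rw [hz, this])
  have e2 : z' = (T.map (· ^ p ^ k)).sum := Subtype.ext (by rw [hz', hT])
  set π := Ideal.Quotient.mk (Ideal.span {((p : ℕ) : AlgInt)})
  rw [e1, e2, map_multiset_sum π T, multiset_sum_pow_char_pow, map_multiset_sum π]
  simp only [T, Multiset.map_map]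
  exact congrArg _ (Multiset.map_congr rfl fun x _ => map_pow π _ _)

theorem int_modEq_of_quotient {p : ℕ} (hp : p.Prime) {a b : ℤ}
    (h : Ideal.Quotient.mk (Ideal.span {((p : ℕ) : AlgInt)}) (a : AlgInt) =
      Ideal.Quotient.mk (Ideal.span {((p : ℕ) : AlgInt)}) (b : AlgInt)) : a ≡ b [ZMOD p] := by
  haveI : Fact p.Prime := ⟨hp⟩
  haveI : CharP (AlgInt ⧸ Ideal.span {((p : ℕ) : AlgInt)}) p :=
    CharP.quotient _ p (natCast_not_isUnit hp)
  rw [map_intCast, map_intCast] at h
  exact (CharP.intCast_eq_intCast _ p).mp h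

theorem genChar_frob_modEq {F : G → ℂ} (hF : IsGeneralizedCharacter G F) {p : ℕ} [hp : Fact p.Prime]
    (g : G) (k : ℕ) {a b : ℤ} (ha : F g = a) (hb : F (g ^ p ^ k) = b) : b ≡ a [ZMOD p] := by
  haveI : CharP (AlgInt ⧸ Ideal.span {((p : ℕ) : AlgInt)}) p :=
    CharP.quotient _ p (natCast_not_isUnit hp.out)
  obtain ⟨χ, ψ, hχ, hψ, rfl⟩ := hF
  set π := Ideal.Quotient.mk (Ideal.span {((p : ℕ) : AlgInt)}) with hπ
  let mkA : ∀ φ : G → ℂ, IsCharacter G φ → G → AlgInt := fun φ hφ x => ⟨φ x, isIntegral_of_char hφ x⟩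
  have ea : (a : AlgInt) = mkA χ hχ g - mkA ψ hψ g := Subtype.ext (by
    simpa [mkA] using ha.symm)
  have eb : (b : AlgInt) = mkA χ hχ (g ^ p ^ k) - mkA ψ hψ (g ^ p ^ k) := Subtype.ext (by
    simpa [mkA] using hb.symm)
  have key : π (b : AlgInt) = π (a : AlgInt) ^ p ^ k := by
    rw [ea, eb, map_sub, map_sub, sub_pow_char_pow]
    rw [hπ, algInt_frob hχ g k (mkA χ hχ g) (mkA χ hχ (g ^ p ^ k)) rfl rfl,
      algInt_frob hψ g k (mkA ψ hψ g) (mkA ψ hψ (g ^ p ^ k)) rfl rfl]
  have e3 : (b : ℤ) ≡ a ^ p ^ k [ZMOD p] := int_modEq_of_quotient hp.out (by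
    push_cast
    rw [map_pow]
    exact key)
  refine e3.trans ?_
  rw [← ZMod.intCast_eq_intCast_iff, Int.cast_pow]
  exact ZMod.pow_card_pow _

/-- Multiplying by a commuting `p`-element does not change an integral value modulo `p`. -/
theorem genChar_modEq_mul {F : G → ℂ} (hF : IsGeneralizedCharacter G F) {p : ℕ} [Fact p.Prime]
    {y z : G} {k : ℕ} (hy : y ^ p ^ k = 1) (hyz : Commute y z) {a b c : ℤ} (ha : F (y * z) = a)
    (hb : F z = b) (hc : F (z ^ p ^ k) = c) : a ≡ b [ZMOD p] := by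
  have h1 : F ((y * z) ^ p ^ k) = c := by rw [hyz.mul_pow, hy, one_mul, hc]
  exact (genChar_frob_modEq hF (y * z) k ha h1).symm.trans (genChar_frob_modEq hF z k hb hc)

end CfsgLib.CharTheory
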