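import Cfsg.Agent.Lib.CharTheory.ExtCriteria
import Cfsg.Agent.Lib.CharTheory.AbelianInertia
import Cfsg.Agent.Lib.CharTheory.More

/-!
Determinants of sums and twists of characters, and the determinant identity for the constituents of a
restriction to a normal subgroup inside the derived subgroup.
-/

namespace CfsgLib.CharTheory

open Cfsg
open scoped commutatorElement

universe u

section Det

variable {G : Type u} [Group G] [Finite G]

theorem detChar_zero : detChar (0 : G → ℂ) = fun _ => 1 := by
  have := Fintype.ofFinite G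
  obtain ⟨m, ρ, h⟩ := (isCharacter_zero : IsCharacter G (0 : G → ℂ))
  rw [← h, detChar_eq]
  funext g
  have h1 := congrFun h 1
  rw [Representation.char_one, Pi.zero_apply, Nat.cast_eq_zero] at h1
  rw [coe_detHom]
  have : Subsingleton (Fin m → ℂ) := Module.finrank_zero_iff.mp h1
  rw [Subsingleton.elim (ρ g) LinearMap.id, LinearMap.det_id]

theorem detChar_add {a b : G → ℂ} (ha : IsCharacter G a) (hb : IsCharacter G b) :
    detChar (a + b) = detChar a * detChar b := by
  obtain ⟨n, ρ, rfl⟩ := ha
  obtain ⟨m, σ, rfl⟩ := hb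
  have e : ρ.character + σ.character = (ρ.prod σ).character := by
    funext g
    exact (LinearMap.trace_prodMap' (ρ g) (σ g)).symm
  rw [e, detChar_eq, detChar_eq, detChar_eq]
  funext g
  simp only [Pi.mul_apply, coe_detHom]
  exact LinearMap.det_prodMap (ρ g) (σ g)

theorem detChar_nsmul {a : G → ℂ} (ha : IsCharacter G a) (n : ℕ) :
    detChar ((n : ℂ) • a) = detChar a ^ n := by
  induction n with
  | zero => rw [Nat.cast_zero, zero_smul, pow_zero, detChar_zero]; rfl
  | succ n ih =>
    rw [Nat.cast_succ, add_smul, one_smul, detChar_add (isCharacter_nsmul ha n) ha, ih, pow_succ]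

theorem detChar_sum {ι : Type*} [DecidableEq ι] (s : Finset ι) (f : ι → G → ℂ)
    (h : ∀ i ∈ s, IsCharacter G (f i)) : detChar (∑ i ∈ s, f i) = ∏ i ∈ s, detChar (f i) := by
  induction s using Finset.induction_on with
  | empty => rw [Finset.sum_empty, Finset.prod_empty, detChar_zero]; rfl
  | insert i s hi ih =>
    rw [Finset.sum_insert hi, Finset.prod_insert hi,
      detChar_add (h i (Finset.mem_insert_self i s))
        (isCharacter_sum s f fun j hj => h j (Finset.mem_insert_of_mem hj)),
      ih fun j hj => h j (Finset.mem_insert_of_mem hj)]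

theorem detChar_comp {H : Type u} [Group H] [Finite H] {a : G → ℂ} (ha : IsCharacter G a) (f : H →* G) :
    detChar (fun x => a (f x)) = fun x => detChar a (f x) := by
  obtain ⟨n, ρ, rfl⟩ := ha
  let σ : Representation ℂ H (Fin n → ℂ) := ρ.comp f
  rw [show (fun x => ρ.character (f x)) = σ.character from rfl, detChar_eq, detChar_eq]
  rfl

/-- A determinant as a homomorphism. -/
theorem exists_detHom {a : G → ℂ} (ha : IsCharacter G a) :
    ∃ D : G →* ℂˣ, detChar a = fun g => (D g : ℂ) := by
  obtain ⟨n, ρ, rfl⟩ := ha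
  exact ⟨detHom ρ, detChar_eq ρ⟩

theorem detChar_linear (φ : G →* ℂˣ) : detChar (fun g => (φ g : ℂ)) = fun g => (φ g : ℂ) := by
  rw [← linearRep_character φ, detChar_eq, linearRep_character φ]
  funext g
  rw [coe_detHom]
  show LinearMap.det ((φ g : ℂ) • (LinearMap.id : (Fin 1 → ℂ) →ₗ[ℂ] (Fin 1 → ℂ))) = _
  rw [LinearMap.det_smul, LinearMap.det_id, Module.finrank_fin_fun, pow_one, mul_one]

theorem detChar_twist {θ : G → ℂ} (hθ : IsCharacter G θ) (φ : G →* ℂˣ) :
    detChar (θ * fun g => (φ g : ℂ)) = detChar θ * (fun g => (φ g : ℂ) ^ charDegree θ) := by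
  obtain ⟨n, ρ, rfl⟩ := hθ
  let R : Representation ℂ G (Fin n → ℂ) :=
    { toFun := fun g => (φ g : ℂ) • ρ g
      map_one' := by simp
      map_mul' := fun a b => by
        rw [map_mul, map_mul, Units.val_mul, smul_mul_assoc, mul_smul_comm, smul_smul] }
  have hR : R.character = ρ.character * fun g => (φ g : ℂ) := by
    funext g
    show LinearMap.trace ℂ _ ((φ g : ℂ) • ρ g) = ρ.character g * _
    rw [map_smul, smul_eq_mul, mul_comm]
    rfl
  rw [← hR, detChar_eq, detChar_eq]
  funext g
  rw [Pi.mul_apply, coe_detHom, coe_detHom, show R g = (φ g : ℂ) • ρ g from rfl, LinearMap.det_smul,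
    mul_comm]
  simp [charDegree, Representation.char_one]

end Det

variable {G : Type u} [Group G] [Fintype G] (N : Subgroup G) [hN : N.Normal] [Fintype N]

omit [Fintype N] in
theorem detChar_res_eq_one (hNG : N ≤ commutator G) {χ : G → ℂ} (hχ : IsCharacter G χ) :
    detChar (fun n : N => χ n) = fun _ => 1 := by
  rw [show (fun n : N => χ n) = fun n => χ (N.subtype n) from rfl, detChar_comp hχ]
  obtain ⟨D, hD⟩ := exists_detHom hχ
  rw [hD]
  funext n
  have : (n : G) ∈ D.ker := Abelianization.commutator_subset_ker D (hNG n.2)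
  show (D n : ℂ) = 1
  rw [MonoidHom.mem_ker.mp this, Units.val_one]

/-- If the `M`-th power of the determinant of a constituent is `G`-invariant then its
`M * (χ 1 / θ 1)`-th power is trivial. -/
theorem detChar_pow_eq_one (hNG : N ≤ commutator G) {χ : G → ℂ} (hχ : IsIrrCharacter G χ)
    {θ : N → ℂ} (hθ : IsIrrCharacter N θ) (hc : classInner (fun n : N => χ n) θ ≠ 0) (M : ℕ)
    (hinv : ∀ g : G, conjNormFun N g (detChar θ ^ M) = detChar θ ^ M) :
    ∃ e : ℕ, charDegree χ = e * charDegree θ ∧ detChar θ ^ (M * e) = 1 := by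
  classical
  have hθc := isCharacter_of_irr hθ
  obtain ⟨m, hm⟩ := classInner_char_nat (isCharacter_restrict (isCharacter_of_irr hχ) N) hθc
  have hcl := clifford N hχ hθ hc
  have hsum : ∀ ψ ∈ conjOrbit N θ, IsCharacter N ψ := fun ψ hψ => by
    obtain ⟨g, rfl⟩ := (mem_conjOrbit N).mp hψ
    exact isCharacter_of_irr (isIrr_conjNormFun N g hθ)
  refine ⟨m * (conjOrbit N θ).card, ?_, ?_⟩
  · have h := clifford_degree N hχ hθ hc
    rw [hm, (charDegree_spec' hχ).1, (charDegree_spec' hθ).1, ← Nat.cast_mul, ← Nat.cast_mul,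
      Nat.cast_inj, ← card_conjOrbit] at h
    exact h
  · have h := detChar_res_eq_one N hNG (isCharacter_of_irr hχ)
    rw [hcl, hm, detChar_nsmul (isCharacter_sum _ _ hsum) m, detChar_sum _ _ hsum] at h
    have h2 : ∀ ψ ∈ conjOrbit N θ, detChar ψ ^ M = detChar θ ^ M := by
      intro ψ hψ
      obtain ⟨g, rfl⟩ := (mem_conjOrbit N).mp hψ
      rw [← hinv g]
      conv_lhs => rw [conjNormFun_eq]
      rw [show (fun n => θ (MulAut.conjNormal g n)) =
        fun n => θ ((MulAut.conjNormal g : N ≃* N).toMonoidHom n) from rfl, detChar_comp hθc,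
        conjNormFun_eq]
      rfl
    calc detChar θ ^ (M * (m * (conjOrbit N θ).card))
        = ((∏ _ψ ∈ conjOrbit N θ, detChar θ ^ M)) ^ m := by
          rw [Finset.prod_const, ← pow_mul, ← pow_mul]; congr 1; ring
      _ = (∏ ψ ∈ conjOrbit N θ, detChar ψ ^ M) ^ m := by
          rw [Finset.prod_congr rfl fun ψ hψ => (h2 ψ hψ).symm]
      _ = ((∏ ψ ∈ conjOrbit N θ, detChar ψ) ^ m) ^ M := by
          rw [Finset.prod_pow, ← pow_mul, ← pow_mul, mul_comm]
      _ = 1 := by rw [h]; funext n; simp

end CfsgLib.CharTheory
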