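import Cfsg.Agent.Lib.CharTheory.Brauer

/-!
# Galois twisting of characters by a power map
-/

namespace CfsgLib.CharTheory

open Cfsg
open scoped ComplexConjugate

set_option linter.unusedSectionVars false

universe u

variable {G : Type u} [Group G] [Fintype G]

theorem pow_bijective_coprime {k : ℕ} (hk : (Nat.card G).Coprime k) :
    Function.Bijective fun g : G => g ^ k := (powCoprime hk).bijective

theorem indFun_powCoprime {k : ℕ} (hk : (Nat.card G).Coprime k) (H : Subgroup G) (φ : H → ℂ) (g : G) :
    indFun H φ (g ^ k) = indFun H (fun h => φ (h ^ k)) g := by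
  classical
  unfold indFun
  congr 1
  refine Finset.sum_congr rfl fun x _ => ?_
  have e : x⁻¹ * g ^ k * x = (x⁻¹ * g * x) ^ k := by
    have := conj_pow (i := k) (a := x⁻¹) (b := g)
    rw [inv_inv] at this
    exact this.symm
  rw [e]
  by_cases h : x⁻¹ * g * x ∈ H
  · rw [extendByZero_of_mem H φ (H.pow_mem h k), extendByZero_of_mem H _ h]
    rfl
  · rw [extendByZero_of_not_mem H _ h, extendByZero_of_not_mem H φ]
    intro h'
    apply h
    obtain ⟨m, hm⟩ : ∃ m, (x⁻¹ * g * x) = ((x⁻¹ * g * x) ^ k) ^ m := by
      have hc : (orderOf (x⁻¹ * g * x)).Coprime k :=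
        hk.coprime_dvd_left (orderOf_dvd_natCard _)
      obtain ⟨m, hm⟩ := exists_pow_eq_self_of_coprime hc.symm
      exact ⟨m, hm.symm⟩
    rw [hm]
    exact H.pow_mem h' m

/-- The twist of an irreducible character by a power map prime to the group order is irreducible. -/
theorem isIrrCharacter_powCoprime {χ : G → ℂ} (hχ : IsIrrCharacter G χ) {k : ℕ}
    (hk : (Nat.card G).Coprime k) : IsIrrCharacter G (fun g => χ (g ^ k)) := by
  classical
  have hgen : ∀ f ∈ linSpan G, IsGeneralizedCharacter G (fun g => f (g ^ k)) := by
    intro f hf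
    induction hf using AddSubgroup.closure_induction with
    | mem f hf =>
      obtain ⟨E, lam, p, -, -, rfl⟩ := hf
      haveI := Fintype.ofFinite E
      let lam' : E →* ℂˣ :=
        { toFun := fun e => lam e ^ k
          map_one' := by simp
          map_mul' := fun a b => by rw [map_mul, mul_pow] }
      have e : (fun g => indFun E (fun h => (lam h : ℂ)) (g ^ k)) =
          indFun E (fun h => (lam' h : ℂ)) := by
        funext g
        rw [indFun_powCoprime hk]
        congr 1
        funext h
        show ((lam (h ^ k) : ℂˣ) : ℂ) = _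
        rw [map_pow]; rfl
      rw [e]
      exact isGenChar_of_char (isCharacter_indFun E (isCharacter_of_irr (isIrrCharacter_linear lam')))
    | zero => exact isGenChar_zero
    | add f g _ _ h h' => exact isGenChar_add h h'
    | neg f _ h => exact isGenChar_neg h
  refine irr_of_norm_one (hgen χ (char_mem_linSpan (isCharacter_of_irr hχ))) ?_ ?_
  · rw [← classInner_irr_self hχ]
    unfold classInner
    congr 1
    exact Fintype.sum_bijective _ (pow_bijective_coprime hk) _ _ fun g => rfl
  · show 0 < (χ ((1 : G) ^ k)).re
    obtain ⟨d, hd, hd'⟩ := irr_degree_pos hχ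
    rw [one_pow, hd', Complex.natCast_re]
    exact Nat.cast_pos.2 hd

end CfsgLib.CharTheory
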