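/-
Multiplicity-free representations have commutative intertwining algebras, and conversely.
-/
import Cfsg.Agent.Lib.CharTheory.Schur
import Cfsg.Agent.Lib.CharTheory.Irr
import Cfsg.Prelude.Def_Perm

set_option autoImplicit false

namespace CfsgLib.CharTheory

open Cfsg

universe u v w

variable {G : Type u} [Group G] [Fintype G]

/-- The projection onto the second summand of an invariant decomposition, as an intertwining map. -/
noncomputable def projSnd {V : Type v} [AddCommGroup V] [Module ℂ V] {ρ : Representation ℂ G V}
    (p q : Subrepresentation ρ) (h : IsCompl p.toSubmodule q.toSubmodule) :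
    Representation.IntertwiningMap ρ q.toRepresentation :=
  ⟨(LinearMap.snd ℂ p.toSubmodule q.toSubmodule) ∘ₗ (p.toSubmodule.prodEquivOfIsCompl q.toSubmodule h).symm.toLinearMap,
    fun g => by
      refine LinearMap.ext fun x => ?_
      obtain ⟨⟨a, b⟩, rfl⟩ := (p.toSubmodule.prodEquivOfIsCompl q.toSubmodule h).surjective x
      have e : ρ g (p.toSubmodule.prodEquivOfIsCompl q.toSubmodule h (a, b)) =
          p.toSubmodule.prodEquivOfIsCompl q.toSubmodule h (p.toRepresentation g a, q.toRepresentation g b) := by
        simp [Subrepresentation.toRepresentation, LinearMap.restrict_apply]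
      simp only [LinearMap.comp_apply, LinearEquiv.coe_coe, e, LinearEquiv.symm_apply_apply, LinearMap.snd_apply]⟩

theorem projSnd_left {V : Type v} [AddCommGroup V] [Module ℂ V] {ρ : Representation ℂ G V}
    (p q : Subrepresentation ρ) (h : IsCompl p.toSubmodule q.toSubmodule) (a : p.toSubmodule) :
    (projSnd p q h).toLinearMap (a : V) = 0 := by
  have : (a : V) = p.toSubmodule.prodEquivOfIsCompl q.toSubmodule h (a, 0) := by simp
  rw [this]
  show ((p.toSubmodule.prodEquivOfIsCompl q.toSubmodule h).symm _).2 = 0
  rw [LinearEquiv.symm_apply_apply]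

theorem projSnd_right {V : Type v} [AddCommGroup V] [Module ℂ V] {ρ : Representation ℂ G V}
    (p q : Subrepresentation ρ) (h : IsCompl p.toSubmodule q.toSubmodule) (b : q.toSubmodule) :
    (projSnd p q h).toLinearMap (b : V) = b := by
  have : (b : V) = p.toSubmodule.prodEquivOfIsCompl q.toSubmodule h (0, b) := by simp
  rw [this]
  show ((p.toSubmodule.prodEquivOfIsCompl q.toSubmodule h).symm _).2 = b
  rw [LinearEquiv.symm_apply_apply]

theorem mem_of_projSnd_eq_zero {V : Type v} [AddCommGroup V] [Module ℂ V] {ρ : Representation ℂ G V}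
    (p q : Subrepresentation ρ) (h : IsCompl p.toSubmodule q.toSubmodule) {x : V}
    (hx : (projSnd p q h).toLinearMap x = 0) : x ∈ p.toSubmodule := by
  obtain ⟨⟨a, b⟩, rfl⟩ := (p.toSubmodule.prodEquivOfIsCompl q.toSubmodule h).surjective x
  have hb : b = 0 := by
    simpa [projSnd] using hx
  simp [hb]

/-- An endomorphism commuting with the group preserves a summand sharing no constituent with the other one. -/
theorem preserves_summand {V : Type v} [AddCommGroup V] [Module ℂ V] [FiniteDimensional ℂ V] {ρ : Representation ℂ G V}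
    (p q : Subrepresentation ρ) (h : IsCompl p.toSubmodule q.toSubmodule)
    (h0 : classInner q.toRepresentation.character p.toRepresentation.character = 0)
    (S : Module.End ℂ V) (hS : ∀ g, S * ρ g = ρ g * S) : ∀ x ∈ p.toSubmodule, S x ∈ p.toSubmodule := by
  intro x hx
  refine mem_of_projSnd_eq_zero p q h ?_
  let f : Representation.IntertwiningMap p.toRepresentation q.toRepresentation :=
    ⟨(projSnd p q h).toLinearMap ∘ₗ S ∘ₗ p.toSubmodule.subtype, fun g => by
      refine LinearMap.ext fun a => ?_
      show (projSnd p q h).toLinearMap (S (ρ g a)) = q.toRepresentation g ((projSnd p q h).toLinearMap (S a))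
      rw [show S (ρ g a) = ρ g (S a) from LinearMap.congr_fun (hS g) a]
      exact LinearMap.congr_fun ((projSnd p q h).isIntertwining' g) (S a)⟩
  have hf : f = 0 := by
    rw [classInner_character, Nat.cast_eq_zero] at h0
    haveI : Subsingleton (Representation.IntertwiningMap p.toRepresentation q.toRepresentation) :=
      Module.finrank_zero_iff.mp h0
    exact Subsingleton.elim _ _
  exact LinearMap.congr_fun (congrArg (fun m : Representation.IntertwiningMap _ _ => m.toLinearMap) hf) ⟨x, hx⟩

/-- In a multiplicity-free representation any two equivariant endomorphisms commute. -/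
theorem commute_of_multFree {V : Type v} [AddCommGroup V] [Module ℂ V] [FiniteDimensional ℂ V] (ρ : Representation ℂ G V)
    (hmf : ∀ χ : G → ℂ, IsIrrCharacter G χ → classInner ρ.character χ = 0 ∨ classInner ρ.character χ = 1)
    (S T : Module.End ℂ V) (hS : ∀ g, S * ρ g = ρ g * S) (hT : ∀ g, T * ρ g = ρ g * T) : S * T = T * S := by
  revert hmf S T
  refine rep_induction (P := fun V _ _ ρ =>
    (∀ χ : G → ℂ, IsIrrCharacter G χ → classInner ρ.character χ = 0 ∨ classInner ρ.character χ = 1) →
      ∀ S T : Module.End ℂ V, (∀ g, S * ρ g = ρ g * S) → (∀ g, T * ρ g = ρ g * T) → S * T = T * S) ?_ ?_ ?_ V ρ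
  · intro V _ _ _ ρ hs _ S T _ _
    exact LinearMap.ext fun x => Subsingleton.elim _ _
  · intro V _ _ _ ρ hi _ S T hS hT
    rw [eq_smul_id_of_commute ρ S hS, eq_smul_id_of_commute ρ T hT, smul_mul_smul_comm, smul_mul_smul_comm, mul_comm]
  intro V _ _ _ ρ p q hpq ihp ihq hmf S T hS hT
  have hsum := character_eq_add_of_isCompl ρ p q hpq
  have hcp := isCharacter_character p.toRepresentation
  have hcq := isCharacter_character q.toRepresentation
  have hboth : ∀ χ, IsIrrCharacter G χ → ∃ a b : ℕ, classInner p.toRepresentation.character χ = a ∧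
      classInner q.toRepresentation.character χ = b ∧ a + b ≤ 1 := by
    intro χ hχ
    obtain ⟨a, ha⟩ := classInner_char_nat hcp (isCharacter_of_irr hχ)
    obtain ⟨b, hb⟩ := classInner_char_nat hcq (isCharacter_of_irr hχ)
    refine ⟨a, b, ha, hb, ?_⟩
    have h := hmf χ hχ
    rw [hsum, classInner_add_left, ha, hb, ← Nat.cast_add] at h
    rcases h with h | h
    · rw [Nat.cast_eq_zero] at h; omega
    · rw [Nat.cast_eq_one] at h; omega
  have horth : ∀ p' q' : G → ℂ, IsCharacter G p' → (∀ χ, IsIrrCharacter G χ → classInner p' χ ≠ 0 → classInner q' χ = 0) →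
      classInner q' p' = 0 := by
    intro p' q' hp' hdis
    obtain ⟨l, hl, rfl⟩ := exists_list_irr hp'
    have key : ∀ l' : List (G → ℂ), (∀ x ∈ l', x ∈ l) → classInner q' l'.sum = 0 := by
      intro l'
      induction l' with
      | nil => intro _; simp [classInner]
      | cons x t ih =>
        intro hmem
        rw [List.sum_cons, classInner_add_right, ih fun y hy => hmem y (List.mem_cons_of_mem _ hy), add_zero]
        refine hdis x (hl x (hmem x List.mem_cons_self)) ?_
        obtain ⟨s, t', e⟩ := List.append_of_mem (hmem x List.mem_cons_self)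
        have hrest : ∃ n : ℕ, classInner (s ++ t').sum x = n := by
          have : ∀ m : List (G → ℂ), (∀ y ∈ m, IsIrrCharacter G y) → ∃ n : ℕ, classInner m.sum x = n := by
            intro m
            induction m with
            | nil => intro _; exact ⟨0, by simp [classInner]⟩
            | cons y m' ihm =>
              intro hm
              obtain ⟨n, hn⟩ := ihm fun z hz => hm z (List.mem_cons_of_mem _ hz)
              obtain ⟨n', hn'⟩ := classInner_char_nat (isCharacter_of_irr (hm y List.mem_cons_self))
                (isCharacter_of_irr (hl x (hmem x List.mem_cons_self)))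
              exact ⟨n' + n, by rw [List.sum_cons, classInner_add_left, hn, hn', Nat.cast_add]⟩
          refine this _ fun y hy => hl y ?_
          rw [e]
          simp only [List.mem_append, List.mem_cons] at hy ⊢
          tauto
        obtain ⟨n, hn⟩ := hrest
        rw [e, List.sum_append, List.sum_cons, show s.sum + (x + t'.sum) = x + (s ++ t').sum by rw [List.sum_append]; abel,
          classInner_add_left, classInner_irr_self (hl x (hmem x List.mem_cons_self)), hn, ← Nat.cast_one, ← Nat.cast_add, Nat.cast_ne_zero]
        omega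
    exact key l fun x hx => hx
  have hp0 : classInner q.toRepresentation.character p.toRepresentation.character = 0 := horth _ _ hcp fun χ hχ h => by
    obtain ⟨a, b, ha, hb, hab⟩ := hboth χ hχ
    rw [ha, Nat.cast_ne_zero] at h
    rw [hb, show b = 0 by omega, Nat.cast_zero]
  have hq0 : classInner p.toRepresentation.character q.toRepresentation.character = 0 := horth _ _ hcq fun χ hχ h => by
    obtain ⟨a, b, ha, hb, hab⟩ := hboth χ hχ
    rw [hb, Nat.cast_ne_zero] at h
    rw [ha, show a = 0 by omega, Nat.cast_zero]
  have key : ∀ r : Subrepresentation ρ, (∀ R : Module.End ℂ V, (∀ g, R * ρ g = ρ g * R) → ∀ x ∈ r.toSubmodule, R x ∈ r.toSubmodule) →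
      (∀ χ, IsIrrCharacter G χ → classInner r.toRepresentation.character χ = 0 ∨ classInner r.toRepresentation.character χ = 1) →
      ((∀ χ : G → ℂ, IsIrrCharacter G χ → classInner r.toRepresentation.character χ = 0 ∨ classInner r.toRepresentation.character χ = 1) →
        ∀ S T : Module.End ℂ r.toSubmodule, (∀ g, S * r.toRepresentation g = r.toRepresentation g * S) →
          (∀ g, T * r.toRepresentation g = r.toRepresentation g * T) → S * T = T * S) →
      ∀ x ∈ r.toSubmodule, S (T x) = T (S x) := by
    intro r hpres hmfr ih x hx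
    have h := ih hmfr (S.restrict (hpres S hS)) (T.restrict (hpres T hT))
      (fun g => LinearMap.ext fun a => Subtype.ext (LinearMap.congr_fun (hS g) a))
      (fun g => LinearMap.ext fun a => Subtype.ext (LinearMap.congr_fun (hT g) a))
    exact congrArg Subtype.val (LinearMap.congr_fun h ⟨x, hx⟩)
  refine LinearMap.ext fun x => ?_
  show S (T x) = T (S x)
  obtain ⟨⟨a, b⟩, rfl⟩ := (p.toSubmodule.prodEquivOfIsCompl q.toSubmodule hpq).surjective x
  have h1 := key p (fun R hR => preserves_summand p q hpq hp0 R hR) (fun χ hχ => by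
    obtain ⟨a, b, ha, hb, hab⟩ := hboth χ hχ
    rcases Nat.eq_zero_or_pos a with h | h
    · left; rw [ha, h, Nat.cast_zero]
    · right; rw [ha, show a = 1 by omega, Nat.cast_one]) ihp a a.2
  have h2 := key q (fun R hR => preserves_summand q p hpq.symm hq0 R hR) (fun χ hχ => by
    obtain ⟨a, b, ha, hb, hab⟩ := hboth χ hχ
    rcases Nat.eq_zero_or_pos b with h | h
    · left; rw [hb, h, Nat.cast_zero]
    · right; rw [hb, show b = 1 by omega, Nat.cast_one]) ihq b b.2
  simp only [Submodule.coe_prodEquivOfIsCompl', map_add, h1, h2]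

/-- If all equivariant endomorphisms commute, the representation is multiplicity-free. -/
theorem multFree_of_commute {V : Type v} [AddCommGroup V] [Module ℂ V] [FiniteDimensional ℂ V] (ρ : Representation ℂ G V)
    (hc : ∀ S T : Module.End ℂ V, (∀ g, S * ρ g = ρ g * S) → (∀ g, T * ρ g = ρ g * T) → S * T = T * S)
    (χ : G → ℂ) (hχ : IsIrrCharacter G χ) : classInner ρ.character χ = 0 ∨ classInner ρ.character χ = 1 := by
  obtain ⟨m, hm⟩ := classInner_char_nat (isCharacter_character ρ) (isCharacter_of_irr hχ)
  by_contra hcon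
  rw [not_or, hm, Nat.cast_eq_zero, Nat.cast_eq_one] at hcon
  obtain ⟨n, σ, hσ, rfl⟩ := hχ
  haveI := hσ
  have hm' := hm
  rw [classInner_character, Nat.cast_inj] at hm'
  obtain ⟨φ, hφ⟩ : ∃ φ : Representation.IntertwiningMap σ ρ, φ ≠ 0 := by
    by_contra h
    push Not at h
    haveI : Subsingleton (Representation.IntertwiningMap σ ρ) := ⟨fun a b => (h a).trans (h b).symm⟩
    rw [Module.finrank_zero_of_subsingleton] at hm'
    exact hcon.1 hm'.symm
  -- `φ` is injective
  let K : Subrepresentation σ := ⟨LinearMap.ker φ.toLinearMap, fun g v hv => by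
    rw [LinearMap.mem_ker] at hv ⊢
    rw [show φ.toLinearMap (σ g v) = ρ g (φ.toLinearMap v) from LinearMap.congr_fun (φ.isIntertwining' g) v, hv, map_zero]⟩
  have hinj : Function.Injective φ.toLinearMap := by
    rw [← LinearMap.ker_eq_bot]
    rcases hσ.eq_bot_or_eq_top K with h | h
    · exact congrArg Subrepresentation.toSubmodule h
    · exfalso
      refine hφ (Representation.IntertwiningMap.ext ?_)
      refine LinearMap.ext fun v => ?_
      exact LinearMap.mem_ker.mp (show v ∈ K.toSubmodule by rw [h]; exact Submodule.mem_top)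
  let p : Subrepresentation ρ := ⟨LinearMap.range φ.toLinearMap, fun g v hv => by
    obtain ⟨w, rfl⟩ := hv
    exact ⟨σ g w, LinearMap.congr_fun (φ.isIntertwining' g) w⟩⟩
  obtain ⟨q, hq⟩ := exists_isCompl_subrep ρ p
  let e : (Fin n → ℂ) ≃ₗ[ℂ] p.toSubmodule := LinearEquiv.ofInjective φ.toLinearMap hinj
  have heq : ∀ g v, e (σ g v) = p.toRepresentation g (e v) := fun g v =>
    Subtype.ext (LinearMap.congr_fun (φ.isIntertwining' g) v)
  have hp : p.toRepresentation.character = σ.character := by
    funext g
    show LinearMap.trace ℂ _ (p.toRepresentation g) = LinearMap.trace ℂ _ (σ g)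
    have : e.conj (σ g) = p.toRepresentation g := LinearMap.ext fun w => by
      rw [LinearEquiv.conj_apply_apply, heq, LinearEquiv.apply_symm_apply]
    rw [← this, LinearMap.trace_conj']
  have hm2 := hm
  rw [character_eq_add_of_isCompl ρ p q hq, classInner_add_left, hp, classInner_irr_self (isIrrCharacter_character σ),
    classInner_character, ← Nat.cast_one, ← Nat.cast_add, Nat.cast_inj] at hm2
  obtain ⟨ψ, hψ⟩ : ∃ ψ : Representation.IntertwiningMap σ q.toRepresentation, ψ ≠ 0 := by
    by_contra h
    push Not at h
    haveI : Subsingleton (Representation.IntertwiningMap σ q.toRepresentation) := ⟨fun a b => (h a).trans (h b).symm⟩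
    rw [Module.finrank_zero_of_subsingleton] at hm2
    exact hcon.2 hm2.symm
  set π := (projSnd q p hq.symm).toLinearMap with hπ
  set S : Module.End ℂ V := p.toSubmodule.subtype ∘ₗ π with hS
  set T : Module.End ℂ V := q.toSubmodule.subtype ∘ₗ ψ.toLinearMap ∘ₗ e.symm.toLinearMap ∘ₗ π with hT
  have hπg : ∀ g x, π (ρ g x) = p.toRepresentation g (π x) := fun g x =>
    LinearMap.congr_fun ((projSnd q p hq.symm).isIntertwining' g) x
  have h1 : ∀ g, S * ρ g = ρ g * S := fun g => LinearMap.ext fun x => by
    show ((π (ρ g x) : p.toSubmodule) : V) = ρ g ((π x : p.toSubmodule) : V)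
    rw [hπg]; rfl
  have h2 : ∀ g, T * ρ g = ρ g * T := fun g => LinearMap.ext fun x => by
    show ((ψ.toLinearMap (e.symm (π (ρ g x))) : q.toSubmodule) : V) = ρ g ((ψ.toLinearMap (e.symm (π x)) : q.toSubmodule) : V)
    rw [hπg, show e.symm (p.toRepresentation g (π x)) = σ g (e.symm (π x)) by
      rw [LinearEquiv.symm_apply_eq, heq, LinearEquiv.apply_symm_apply]]
    exact congrArg Subtype.val (LinearMap.congr_fun (ψ.isIntertwining' g) _)
  apply hψ
  refine Representation.IntertwiningMap.ext (LinearMap.ext fun v => Subtype.ext ?_)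
  have h := LinearMap.congr_fun (hc S T h1 h2) ((e v : p.toSubmodule) : V)
  have hTe : T ((e v : p.toSubmodule) : V) = ((ψ.toLinearMap v : q.toSubmodule) : V) := by
    show ((ψ.toLinearMap (e.symm (π _)) : q.toSubmodule) : V) = _
    rw [show π ((e v : p.toSubmodule) : V) = e v from projSnd_right q p hq.symm (e v), LinearEquiv.symm_apply_apply]
  have hSe : S ((e v : p.toSubmodule) : V) = ((e v : p.toSubmodule) : V) :=
    congrArg Subtype.val (projSnd_right q p hq.symm (e v))
  change S (T _) = T (S _) at h
  rw [hTe, hSe, hTe] at h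
  rw [← h]
  show ((π _ : p.toSubmodule) : V) = _
  rw [show π ((ψ.toLinearMap v : q.toSubmodule) : V) = 0 from projSnd_left q p hq.symm _]
  rfl

/-- The character of a permutation representation counts fixed points. -/
theorem permRep_character {Ω : Type w} [Fintype Ω] [MulAction G Ω] :
    (Cfsg.permRep ℂ G Ω).character = fun g : G => (Nat.card (MulAction.fixedBy Ω g) : ℂ) := by
  classical
  funext g
  show LinearMap.trace ℂ _ (Cfsg.permRep ℂ G Ω g) = _
  rw [LinearMap.trace_eq_matrix_trace ℂ (Pi.basisFun ℂ Ω), Matrix.trace]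
  simp only [Matrix.diag_apply, LinearMap.toMatrix_apply, Pi.basisFun_repr, Pi.basisFun_apply]
  have key : ∀ x : Ω, (Cfsg.permRep ℂ G Ω g (Pi.single x 1)) x = if g • x = x then (1 : ℂ) else 0 := fun x => by
    show (Pi.single x (1 : ℂ) : Ω → ℂ) (g⁻¹ • x) = _
    rw [Pi.single_apply]
    exact if_congr ⟨fun h => (inv_smul_eq_iff.mp h).symm, fun h => inv_smul_eq_iff.mpr h.symm⟩ rfl rfl
  rw [Finset.sum_congr rfl fun x _ => key x, Finset.sum_boole, Nat.card_eq_fintype_card, ← Set.toFinset_card]
  congr 2
  ext x
  simp [MulAction.mem_fixedBy]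

end CfsgLib.CharTheory
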