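/-
Ordinary character theory, part 21: functions supported on a section.
-/
import Cfsg.Agent.Lib.CharTheory.Brauer
import Cfsg.Agent.Lib.CharTheory.Gallagher

namespace CfsgLib.CharTheory

open Cfsg
open scoped ComplexConjugate

universe u

variable {G : Type u} [Group G]

/-- In a finite nilpotent group the elements of order prime to `n` form a normal subgroup. -/
theorem exists_coprime_part {E : Type u} [Group E] [Finite E] (hE : Group.IsNilpotent E) (n : ℕ) :
    ∃ U : Subgroup E, U.Normal ∧ (∀ e : E, e ∈ U ↔ Nat.Coprime (orderOf e) n) ∧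
      ∀ a b : E, Nat.Coprime (orderOf a) (orderOf b) → Commute a b := by
  classical
  obtain ⟨φ⟩ := ((Group.isNilpotent_of_finite_tfae (G := E)).out 0 4 rfl rfl).mp hE
  -- the projection to a factor
  let ev : ∀ (q : (Nat.card E).primeFactors) (P : Sylow q E), E →* (P : Subgroup E) := fun q P =>
    ((Pi.evalMonoidHom (fun P : Sylow (q : ℕ) E => (P : Subgroup E)) P).comp
      (Pi.evalMonoidHom (fun q : (Nat.card E).primeFactors => ∀ P : Sylow (q : ℕ) E, (P : Subgroup E)) q)).comp
      φ.symm.toMonoidHom
  have hext : ∀ x y : E, (∀ q P, ev q P x = ev q P y) → x = y := fun x y h =>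
    φ.symm.injective (funext fun q => funext fun P => h q P)
  have hpp : ∀ (q : (Nat.card E).primeFactors) (P : Sylow q E) (x : E), ev q P x ≠ 1 →
      (q : ℕ) ∣ orderOf x := by
    intro q P x hx
    have hq : (q : ℕ).Prime := Nat.prime_of_mem_primeFactors q.2
    have := Fact.mk hq
    refine dvd_trans ?_ (orderOf_map_dvd (ev q P) x)
    obtain ⟨i, hi⟩ := (IsPGroup.iff_orderOf).mp P.2 (ev q P x)
    rw [hi]
    refine dvd_pow_self _ fun h0 => hx ?_
    rw [h0, pow_zero] at hi
    exact orderOf_eq_one_iff.mp hi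
  have hU : ∀ x : E, Nat.Coprime (orderOf x) n ↔
      ∀ (q : (Nat.card E).primeFactors) (P : Sylow q E), (q : ℕ) ∣ n → ev q P x = 1 := by
    intro x
    constructor
    · intro hx q P hqn
      by_contra h
      exact (Nat.prime_of_mem_primeFactors q.2).ne_one
        (Nat.eq_one_of_dvd_coprimes hx (hpp q P x h) hqn)
    · intro h
      refine Nat.coprime_of_dvd fun r hr hrx hrn => ?_
      have := Fact.mk hr
      have hrE : r ∣ Nat.card E := hrx.trans (orderOf_dvd_natCard x)
      have hpow : x ^ (Nat.card E / r ^ (Nat.card E).factorization r) = 1 := by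
        refine hext _ _ fun q P => ?_
        rw [map_one, map_pow]
        have hq : (q : ℕ).Prime := Nat.prime_of_mem_primeFactors q.2
        by_cases hqr : (q : ℕ) = r
        · rw [h q P (hqr ▸ hrn), one_pow]
        · have := Fact.mk hq
          refine orderOf_dvd_iff_pow_eq_one.mp ?_
          obtain ⟨i, hi⟩ := (IsPGroup.iff_orderOf).mp P.2 (ev q P x)
          refine Nat.Coprime.dvd_of_dvd_mul_left (m := r ^ (Nat.card E).factorization r) ?_ ?_
          · rw [hi]; exact ((Nat.coprime_primes hq hr).mpr hqr).pow i _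
          · rw [Nat.ordProj_mul_ordCompl_eq_self]
            exact (orderOf_map_dvd (ev q P) x).trans (orderOf_dvd_natCard x)
      exact Nat.not_dvd_ordCompl hr Nat.card_pos.ne' (hrx.trans (orderOf_dvd_of_pow_eq_one hpow))
  refine ⟨{ carrier := {x | Nat.Coprime (orderOf x) n}
            one_mem' := by simp
            mul_mem' := fun {a b} ha hb => (hU _).mpr fun q P hq => by
              rw [map_mul, (hU a).mp ha q P hq, (hU b).mp hb q P hq, one_mul]
            inv_mem' := fun {a} ha => by simpa using ha }, ⟨fun a ha g => ?_⟩, fun e => Iff.rfl, ?_⟩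
  · show Nat.Coprime (orderOf (g * a * g⁻¹)) n
    rw [show g * a * g⁻¹ = (MulAut.conj g).toMonoidHom a from rfl,
      orderOf_injective _ (MulAut.conj g).injective]
    exact ha
  · intro a b hab
    refine hext _ _ fun q P => ?_
    rw [map_mul, map_mul]
    by_cases h : ev q P a = 1
    · rw [h, one_mul, mul_one]
    · by_cases h' : ev q P b = 1
      · rw [h', one_mul, mul_one]
      · exact absurd (Nat.eq_one_of_dvd_coprimes hab (hpp q P a h) (hpp q P b h'))
          (Nat.prime_of_mem_primeFactors q.2).ne_one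

theorem dvd_of_coprime_right {a m n : ℕ} (h : a ∣ m * n) (hc : Nat.Coprime a n) : a ∣ m :=
  hc.dvd_of_dvd_mul_right h

/-- Uniqueness of the decomposition of an element into parts of coprime orders. -/
theorem part_unique [Finite G] {m n : ℕ} (hmn : Nat.card G = m * n) (hcop : Nat.Coprime m n)
    {u v u' v' : G} (hc : Commute u v) (hc' : Commute u' v') (he : u * v = u' * v')
    (hu : Nat.Coprime (orderOf u) n) (hv : Nat.Coprime (orderOf v) m)
    (hu' : Nat.Coprime (orderOf u') n) (hv' : Nat.Coprime (orderOf v') m) : v = v' := by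
  have hpu : ∀ w : G, Nat.Coprime (orderOf w) n → w ^ m = 1 := fun w hw =>
    orderOf_dvd_iff_pow_eq_one.mp (dvd_of_coprime_right (hmn ▸ orderOf_dvd_natCard w) hw)
  have hpv : ∀ w : G, Nat.Coprime (orderOf w) m → w ^ n = 1 := fun w hw =>
    orderOf_dvd_iff_pow_eq_one.mp
      (dvd_of_coprime_right (by rw [mul_comm]; exact hmn ▸ orderOf_dvd_natCard w) hw)
  have h1 : v ^ m = v' ^ m := by
    have h := congrArg (fun x => x ^ m) he
    simpa [hc.mul_pow, hc'.mul_pow, hpu u hu, hpu u' hu'] using h
  have hb : (1 : ℤ) = (m : ℤ) * Nat.gcdA m n + (n : ℤ) * Nat.gcdB m n := by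
    rw [← Nat.gcd_eq_gcd_ab, hcop.gcd_eq_one, Nat.cast_one]
  rw [← zpow_one v, ← zpow_one v', hb, zpow_add, zpow_add, zpow_mul, zpow_mul, zpow_mul, zpow_mul,
    zpow_natCast, zpow_natCast, zpow_natCast, zpow_natCast, h1, hpv v hv, hpv v' hv']

/-- Membership in the section of `g`. -/
def InSection (m n : ℕ) (g x : G) : Prop :=
  ∃ v : G, IsConj v g ∧
    ∃ u : G, x = u * v ∧ Commute u v ∧ Nat.Coprime (orderOf u) n ∧ Nat.Coprime (orderOf v) m

theorem inSection_conj {m n : ℕ} {g x : G} (h : InSection m n g x) (k : G) :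
    InSection m n g (k * x * k⁻¹) := by
  obtain ⟨v, hv, u, rfl, hc, hu, hvo⟩ := h
  have ho : ∀ w : G, orderOf (k * w * k⁻¹) = orderOf w := fun w => by
    rw [show k * w * k⁻¹ = (MulAut.conj k).toMonoidHom w from rfl,
      orderOf_injective _ (MulAut.conj k).injective]
  refine ⟨k * v * k⁻¹, (isConj_iff.mpr ⟨k, rfl⟩ : IsConj v (k * v * k⁻¹)).symm.trans hv,
    k * u * k⁻¹, by group, (hc.map (MulAut.conj k).toMonoidHom), by rwa [ho], by rwa [ho]⟩

theorem isIntegral_conj {z : ℂ} (h : IsIntegral ℤ z) : IsIntegral ℤ (conj z) :=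
  h.map (starRingEnd ℂ).toIntAlgHom

theorem isIntegral_nat (k : ℕ) : IsIntegral ℤ (k : ℂ) := by
  simpa using (isIntegral_algebraMap (R := ℤ) (A := ℂ) (x := (k : ℤ)))

/-- The multiplicities of a section function are algebraic integers. -/
theorem isIntegral_classInner_section [Fintype G] {m n : ℕ} (hmn : Nat.card G = m * n)
    (hcop : Nat.Coprime m n) (g : G) {ϑ : G → ℂ} (h1 : ∀ x, InSection m n g x → ϑ x = n)
    (h0 : ∀ x, ¬ InSection m n g x → ϑ x = 0) {χ : G → ℂ} (hχ : IsIrrCharacter G χ) :
    IsIntegral ℤ (classInner ϑ χ) := by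
  classical
  have hinv : ∀ x k : G, InSection m n g (k * x * k⁻¹) → InSection m n g x := fun x k h => by
    have := inSection_conj h k⁻¹
    simpa [mul_assoc] using this
  have hcl : IsClassFunction G ϑ := by
    intro x k
    by_cases h : InSection m n g x
    · rw [h1 x h, h1 _ (inSection_conj h k)]
    · rw [h0 x h, h0 _ fun h' => h (hinv x k h')]
  -- the case of an elementary subgroup
  have key : ∀ (E : Subgroup G) (p : ℕ), p.Prime → IsElementary p E →
      ∀ [Fintype E] (ψ : E → ℂ), IsIrrCharacter E ψ → IsIntegral ℤ (classInner ψ (fun e : E => ϑ e)) := by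
    intro E p hp hE _ ψ hψ
    obtain ⟨U, hUn, hU, hcomm⟩ := exists_coprime_part (isNilpotent_of_elementary hp hE) n
    have := Fintype.ofFinite U
    have hβ : ∀ (a : U) (e : E), ϑ (((a : E) * e : E) : G) = ϑ (e : G) := by
      suffices ∀ (a : U) (e : E), InSection m n g (e : G) → InSection m n g (((a : E) * e : E) : G) by
        intro a e
        by_cases h : InSection m n g (e : G)
        · rw [h1 _ h, h1 _ (this a e h)]
        · refine (h0 _ fun h' => h ?_).trans (h0 _ h).symm
          simpa using this a⁻¹ _ h'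
      rintro a e ⟨v, hv, u, hx, hc, hu, hvo⟩
      have hum : u ^ m = 1 := orderOf_dvd_iff_pow_eq_one.mp
        (dvd_of_coprime_right (hmn ▸ orderOf_dvd_natCard u) hu)
      have hvn : v ^ n = 1 := orderOf_dvd_iff_pow_eq_one.mp
        (dvd_of_coprime_right (by rw [mul_comm]; exact hmn ▸ orderOf_dvd_natCard v) hvo)
      have hb : (1 : ℤ) = (m : ℤ) * Nat.gcdA m n + (n : ℤ) * Nat.gcdB m n := by
        rw [← Nat.gcd_eq_gcd_ab, hcop.gcd_eq_one, Nat.cast_one]
      have hvE : v ∈ E := by
        have hvp : v = (e : G) ^ ((m : ℤ) * Nat.gcdA m n) := by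
          rw [zpow_mul, zpow_natCast, hx, hc.mul_pow, hum, one_mul, ← zpow_natCast v m, ← zpow_mul]
          conv_lhs => rw [← zpow_one v, hb, zpow_add, zpow_mul v (n : ℤ), zpow_natCast, hvn, one_zpow,
            mul_one]
        rw [hvp]; exact E.zpow_mem e.2 _
      have huE : u ∈ E := by
        have : u = (e : G) * v⁻¹ := by rw [hx]; group
        rw [this]; exact E.mul_mem e.2 (E.inv_mem hvE)
      have haU : (⟨u, huE⟩ : E) ∈ U := (hU _).mpr (by rwa [Subgroup.orderOf_mk])
      have hcop' : Nat.Coprime (orderOf (((a : E) : G) * u)) n := by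
        have h := (hU _).mp (U.mul_mem a.2 haU)
        rwa [← Subgroup.orderOf_coe, Subgroup.coe_mul] at h
      refine ⟨v, hv, ((a : E) : G) * u, by rw [Subgroup.coe_mul, hx, mul_assoc], ?_, hcop', hvo⟩
      have hva : Commute (a : E) (⟨v, hvE⟩ : E) := by
        refine hcomm _ _ ?_
        rw [Subgroup.orderOf_mk]
        have h := (hU _).mp a.2
        have hd : orderOf (a : E) ∣ m := dvd_of_coprime_right
          (hmn ▸ (Subgroup.orderOf_coe (a : E)) ▸ orderOf_dvd_natCard ((a : E) : G)) h
        have hvo' : Nat.Coprime (orderOf (⟨v, hvE⟩ : E)) m := by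
          rw [Subgroup.orderOf_mk]; exact hvo
        have := hvo'.symm.coprime_dvd_left hd
        rwa [Subgroup.orderOf_mk] at this
      exact Commute.mul_left (congrArg Subtype.val hva) hc
    rw [← classInner_cosetAvg_left U ψ hβ]
    rcases kernel_or_cosetAvg_eq_zero U hψ with hk | hk
    swap
    · rw [hk]; simp [classInner, isIntegral_zero]
    rw [classInner_cosetAvg_left U ψ hβ]
    obtain ⟨c, hc⟩ : U.index ∣ n := by
      have hco : Nat.Coprime U.index m := by
        refine Nat.coprime_of_dvd fun r hr hrU hrm => ?_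
        have := Fact.mk hr
        obtain ⟨R⟩ : Nonempty (Sylow r E) := inferInstance
        refine R.not_dvd_index (hrU.trans (Subgroup.index_dvd_of_le fun x hx => (hU x).mpr ?_))
        obtain ⟨i, hi⟩ := (IsPGroup.iff_orderOf).mp R.2 ⟨x, hx⟩
        rw [← Subgroup.orderOf_mk x hx] at *
        rw [hi]
        exact ((hcop.coprime_dvd_left hrm)).pow_left i
      refine hco.dvd_of_dvd_mul_left ?_
      exact hmn ▸ (Subgroup.index_dvd_card U).trans (Subgroup.card_subgroup_dvd_card E)
    -- split into cosets of `U`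
    let F : E → ℂ := fun e => ψ e * conj (if InSection m n g (e : G) then (1 : ℂ) else 0)
    have hFinv : ∀ (q : E ⧸ U) (a : U), F (q.out * (a : E)) = F q.out := by
      intro q a
      let b : U := ⟨q.out * (a : E) * q.out⁻¹, hUn.conj_mem _ a.2 _⟩
      rw [show q.out * (a : E) = (b : E) * q.out by simp [b]]
      simp only [F]
      rw [apply_mul_of_kernel U (isCharacter_of_irr hψ) hk]
      congr 2
      have := hβ b q.out
      by_cases h : InSection m n g ((q.out : E) : G) <;>
        by_cases h' : InSection m n g (((b : E) * q.out : E) : G)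
      · rw [if_pos h, if_pos h']
      · rw [h1 _ h, h0 _ h'] at this
        have hn0 : n ≠ 0 := fun e => by simp [e] at hmn
        exact absurd this.symm (Nat.cast_ne_zero.mpr hn0)
      · rw [h0 _ h, h1 _ h'] at this
        have hn0 : n ≠ 0 := fun e => by simp [e] at hmn
        exact absurd this (Nat.cast_ne_zero.mpr hn0)
      · rw [if_neg h, if_neg h']
    have hval : classInner ψ (fun e : E => ϑ e) = (c : ℂ) * ∑ q : E ⧸ U, F q.out := by
      have e1 : ∀ e : E, ψ e * conj (ϑ e) = (n : ℂ) * F e := fun e => by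
        by_cases h : InSection m n g (e : G)
        · simp only [F, h1 _ h, if_pos h, Complex.conj_natCast, map_one]; ring
        · simp [F, h0 _ h, if_neg h]
      have e2 : ∑ e : E, F e = (Nat.card U : ℂ) * ∑ q : E ⧸ U, F q.out := by
        have hbij : Function.Bijective fun x : (E ⧸ U) × U => x.1.out * (x.2 : E) := by
          refine ⟨fun x y h => ?_, fun e => ?_⟩
          · simp only at h
            have hq : x.1 = y.1 := by
              have h' := congrArg (fun e : E => (e : E ⧸ U)) h
              simpa [QuotientGroup.mk_mul_of_mem _ x.2.2, QuotientGroup.mk_mul_of_mem _ y.2.2] using h'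
            refine Prod.ext hq (Subtype.ext ?_)
            rw [hq] at h
            exact mul_left_cancel h
          · refine ⟨((e : E ⧸ U), ⟨(e : E ⧸ U).out⁻¹ * e, QuotientGroup.eq.mp (Quotient.out_eq _)⟩), ?_⟩
            simp
        rw [← Fintype.sum_bijective _ hbij (fun x : (E ⧸ U) × U => F (x.1.out * (x.2 : E))) F
          (fun x => rfl), Fintype.sum_prod_type, Finset.mul_sum]
        exact Finset.sum_congr rfl fun q _ => by simp [hFinv, Nat.card_eq_fintype_card]
      simp only [classInner]
      rw [Finset.sum_congr rfl fun e _ => e1 e, ← Finset.mul_sum, e2, hc, ← Subgroup.card_mul_index U]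
      have hU0 : (Nat.card U : ℂ) ≠ 0 := Nat.cast_ne_zero.mpr Nat.card_pos.ne'
      have hi0 : (U.index : ℂ) ≠ 0 := Nat.cast_ne_zero.mpr Subgroup.index_ne_zero_of_finite
      push_cast
      field_simp
    rw [hval]
    refine IsIntegral.mul (isIntegral_nat c) (IsIntegral.sum _ fun q _ => ?_)
    simp only [F]
    refine (isIntegral_of_char (isCharacter_of_irr hψ) _).mul ?_
    split_ifs <;> simp [isIntegral_one, isIntegral_zero]
  suffices ∀ f ∈ linSpan G, IsIntegral ℤ (classInner (f * ϑ) χ) by
    have := this _ one_mem_linSpan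
    rwa [show ((fun _ => 1) * ϑ) = ϑ from funext fun t => one_mul _] at this
  intro f hf
  induction hf using AddSubgroup.closure_induction with
  | mem f hf =>
    obtain ⟨E, lam, p, hp, hE, rfl⟩ := hf
    have := Fintype.ofFinite E
    rw [← indFun_mul E _ hcl, frobenius_reciprocity E _ (isClassFunction_irr hχ)]
    have hα : IsCharacter E (fun e : E => χ e * conj (lam e : ℂ)) :=
      isCharacter_mul (isCharacter_restrict (isCharacter_of_irr hχ) E)
        (isCharacter_conj (isCharacter_of_irr (isIrrCharacter_linear lam)))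
    rw [show classInner ((fun e : E => (lam e : ℂ)) * fun h : E => ϑ h) (fun h : E => χ h) =
        classInner (fun e : E => ϑ e) (fun e : E => χ e * conj (lam e : ℂ)) by
      simp only [classInner, Pi.mul_apply, map_mul, Complex.conj_conj]
      congr 1
      exact Finset.sum_congr rfl fun e _ => by ring,
      eq_sum_irr (isClassFunction_char hα), classInner_sum_right]
    refine IsIntegral.sum _ fun ψ _ => ?_
    obtain ⟨k, hk⟩ := classInner_char_nat hα (isCharacter_of_irr ψ.2)
    rw [classInner_smul_right, hk, Complex.conj_natCast, ← classInner_comm]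
    exact (isIntegral_nat k).mul (isIntegral_conj (key E p hp hE ψ ψ.2))
  | zero => rw [zero_mul]; simp [classInner, isIntegral_zero]
  | add f g _ _ h h' => rw [add_mul, classInner_add_left]; exact h.add h'
  | neg f _ h => rw [neg_mul, classInner_neg_left]; exact h.neg

end CfsgLib.CharTheory
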