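/-
Ordinary character theory, part 22: the normal complement criterion of Brauer and Suzuki.
-/
import Cfsg.Agent.Lib.CharTheory.PSection

namespace CfsgLib.CharTheory

open Cfsg
open scoped ComplexConjugate

universe u

variable {G : Type u} [Group G]

/-- The component of order prime to `n` of an element, when `|G| = m * n`. -/
def hallPart (m n : ℕ) (g : G) : G := g ^ ((n : ℤ) * Nat.gcdB m n)

/-- The component of order prime to `m` of an element, when `|G| = m * n`. -/
def hallRest (m n : ℕ) (g : G) : G := g ^ ((m : ℤ) * Nat.gcdA m n)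

theorem orderOf_conj_self (k g : G) : orderOf (k * g * k⁻¹) = orderOf g := by
  rw [show k * g * k⁻¹ = (MulAut.conj k).toMonoidHom g from rfl,
    orderOf_injective _ (MulAut.conj k).injective]

theorem hallPart_spec [Finite G] {m n : ℕ} (hmn : Nat.card G = m * n) (hcop : Nat.Coprime m n)
    (g : G) : g = hallPart m n g * hallRest m n g ∧ Commute (hallPart m n g) (hallRest m n g) ∧
      Nat.Coprime (orderOf (hallPart m n g)) n ∧ Nat.Coprime (orderOf (hallRest m n g)) m := by
  have hg : g ^ (m * n) = 1 := by rw [← hmn]; exact pow_card_eq_one'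
  refine ⟨?_, ?_, ?_, ?_⟩
  · rw [hallPart, hallRest, ← zpow_add, add_comm, ← Nat.gcd_eq_gcd_ab, hcop.gcd_eq_one,
      Nat.cast_one, zpow_one]
  · exact ((Commute.refl g).zpow_zpow _ _)
  · refine hcop.coprime_dvd_left (orderOf_dvd_of_pow_eq_one ?_)
    rw [hallPart, ← zpow_natCast, ← zpow_mul, mul_comm, ← mul_assoc, zpow_mul, ← Nat.cast_mul,
      zpow_natCast, hg, one_zpow]
  · refine hcop.symm.coprime_dvd_left (orderOf_dvd_of_pow_eq_one ?_)
    rw [hallRest, ← zpow_natCast, ← zpow_mul, mul_comm, ← mul_assoc, zpow_mul, ← Nat.cast_mul,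
      mul_comm n m, zpow_natCast, hg, one_zpow]

theorem hallPart_unique [Finite G] {m n : ℕ} (hmn : Nat.card G = m * n) (hcop : Nat.Coprime m n)
    {g u v : G} (he : g = u * v) (hc : Commute u v) (hu : Nat.Coprime (orderOf u) n)
    (hv : Nat.Coprime (orderOf v) m) : hallPart m n g = u ∧ hallRest m n g = v := by
  obtain ⟨h1, h2, h3, h4⟩ := hallPart_spec hmn hcop g
  have hv' := part_unique hmn hcop h2 hc (h1.symm.trans he) h3 h4 hu hv
  refine ⟨?_, hv'⟩
  have h := h1.symm.trans he
  rw [hv'] at h
  exact mul_right_cancel h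

theorem hallPart_conj (m n : ℕ) (k g : G) : hallPart m n (k * g * k⁻¹) = k * hallPart m n g * k⁻¹ := by
  simp only [hallPart]
  exact (map_zpow (MulAut.conj k) g _).symm

/-- Frobenius: the number of elements of order prime to `n` is a multiple of `m`. -/
theorem dvd_card_coprime_order [Finite G] {m n : ℕ} (hmn : Nat.card G = m * n)
    (hcop : Nat.Coprime m n) : m ∣ Nat.card {x : G // Nat.Coprime (orderOf x) n} := by
  classical
  have := Fintype.ofFinite G
  have hiff : ∀ x : G, InSection m n 1 x ↔ Nat.Coprime (orderOf x) n := by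
    intro x
    constructor
    · rintro ⟨v, hv, u, rfl, -, hu, -⟩
      rw [isConj_one_left.mp hv, mul_one]
      exact hu
    · exact fun h => ⟨1, IsConj.refl _, x, (mul_one x).symm, Commute.one_right x, h, by simp⟩
  let ϑ : G → ℂ := fun x => if InSection m n 1 x then (n : ℂ) else 0
  have hint := isIntegral_classInner_section hmn hcop 1 (ϑ := ϑ) (fun z hz => if_pos hz)
    (fun z hz => if_neg hz) isIrrCharacter_one
  set N := Nat.card {x : G // Nat.Coprime (orderOf x) n} with hN
  have hval : classInner ϑ (fun _ => 1) = (((N : ℚ) / m : ℚ) : ℂ) := by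
    have hsum : ∑ x : G, ϑ x = (N : ℂ) * n := by
      simp only [ϑ, hiff, hN, Nat.card_eq_fintype_card, Fintype.card_subtype]
      rw [← Finset.sum_filter, Finset.sum_const, nsmul_eq_mul]
    simp only [classInner, map_one, mul_one, hsum, hmn]
    have hn0 : (n : ℂ) ≠ 0 := Nat.cast_ne_zero.mpr fun e => by simp [e] at hmn
    push_cast
    field_simp
  rw [hval] at hint
  obtain ⟨z, hz⟩ := exists_int_of_isIntegral_ratCast hint
  have hm0 : (m : ℚ) ≠ 0 := Nat.cast_ne_zero.mpr fun e => by simp [e] at hmn
  rw [div_eq_iff hm0] at hz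
  exact Int.natCast_dvd_natCast.mp ⟨z, by rw [mul_comm]; exact_mod_cast hz⟩

theorem card_isConj_fibre [Finite G] (h u : G) (hu : IsConj h u) :
    Nat.card {k : G // k * h * k⁻¹ = u} = Nat.card (Subgroup.centralizer ({h} : Set G)) := by
  obtain ⟨k₀, hk₀⟩ := isConj_iff.mp hu
  refine Nat.card_congr
    { toFun := fun k => ⟨k₀⁻¹ * k.1, ?_⟩
      invFun := fun c => ⟨k₀ * c.1, ?_⟩
      left_inv := fun k => Subtype.ext (by simp)
      right_inv := fun c => Subtype.ext (by simp) }
  · rw [Subgroup.mem_centralizer_singleton_iff]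
    have h1 : k.1 * h * k.1⁻¹ = k₀ * h * k₀⁻¹ := k.2.trans hk₀.symm
    calc k₀⁻¹ * k.1 * h = k₀⁻¹ * (k.1 * h * k.1⁻¹) * k.1 := by group
      _ = k₀⁻¹ * (k₀ * h * k₀⁻¹) * k.1 := by rw [h1]
      _ = _ := by group
  · have hc : c.1 * h = h * c.1 := Subgroup.mem_centralizer_singleton_iff.mp c.2
    calc k₀ * c.1 * h * (k₀ * c.1)⁻¹ = k₀ * (c.1 * h) * c.1⁻¹ * k₀⁻¹ := by group
      _ = k₀ * (h * c.1) * c.1⁻¹ * k₀⁻¹ := by rw [hc]
      _ = u := by rw [← hk₀]; group

theorem isElementary_zpowers_sup [Finite G] {p : ℕ} (hp : p.Prime) (h : G) {R : Subgroup G}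
    (hR : IsPGroup p R) (hc : R ≤ Subgroup.centralizer ({h} : Set G)) :
    IsElementary p (Subgroup.zpowers h ⊔ R : Subgroup G) ∨
      ∃ R' : Subgroup G, IsPGroup p R' ∧ R ≤ R' ∧ R' ≤ Subgroup.centralizer ({h} : Set G) ∧ R ≠ R' := by
  classical
  have := Fact.mk hp
  by_cases hmax : ∃ R' : Subgroup G,
      IsPGroup p R' ∧ R ≤ R' ∧ R' ≤ Subgroup.centralizer ({h} : Set G) ∧ R ≠ R'
  · exact Or.inr hmax
  refine Or.inl ?_
  push Not at hmax
  obtain ⟨a, m, hm, hho⟩ := Nat.exists_eq_pow_mul_and_not_dvd (orderOf_pos h).ne' p hp.ne_one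
  set E := Subgroup.zpowers h ⊔ R with hE
  have hhE : h ∈ E := (le_sup_left : Subgroup.zpowers h ≤ E) (Subgroup.mem_zpowers h)
  have hEc : E ≤ Subgroup.centralizer ({h} : Set G) :=
    sup_le (Subgroup.zpowers_le.mpr (Subgroup.mem_centralizer_singleton_iff.mpr rfl)) hc
  let x : E := ⟨h ^ p ^ a, E.pow_mem hhE _⟩
  have hxc : x ∈ Subgroup.center E := Subgroup.mem_center_iff.mpr fun e => Subtype.ext
    ((show Commute (e : G) h from Subgroup.mem_centralizer_singleton_iff.mp (hEc e.2)).pow_right _).eq
  have hxo : orderOf x = m := by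
    rw [← Subgroup.orderOf_coe]
    show orderOf (h ^ p ^ a) = m
    rw [orderOf_pow_of_dvd (pow_ne_zero _ hp.ne_zero) (hho ▸ dvd_mul_right _ _), hho,
      Nat.mul_div_cancel_left _ (pow_pos hp.pos _)]
  have hZn : (Subgroup.zpowers x).Normal := ⟨fun y hy g => by
    rw [Subgroup.mem_center_iff.mp (Subgroup.zpowers_le.mpr hxc hy) g, mul_inv_cancel_right]
    exact hy⟩
  refine ⟨x, hxc, by rw [hxo]; exact (hp.coprime_iff_not_dvd.mpr hm).symm, ?_⟩
  have hq : IsPGroup p (E ⧸ Subgroup.zpowers x) := by
    let f : E →* E ⧸ Subgroup.zpowers x := QuotientGroup.mk' _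
    have hgen : ∀ e : E, ∃ i : ℕ, f e ^ p ^ i = 1 := by
      have hcomm : ∀ e : E, Commute (⟨h, hhE⟩ : E) e := fun e => Subtype.ext
        (Subgroup.mem_centralizer_singleton_iff.mp (hEc e.2)).symm
      intro e
      have he : (e : G) ∈ ((R ⊔ Subgroup.zpowers h : Subgroup G) : Set G) := by
        rw [sup_comm]; exact e.2
      rw [Subgroup.coe_mul_of_left_le_normalizer_right R (Subgroup.zpowers h)
        (hc.trans (by
          intro r hr
          rw [Subgroup.mem_normalizer_iff]
          intro w
          have hrw : ∀ z ∈ Subgroup.zpowers h, r * z * r⁻¹ = z := by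
            intro z hz
            obtain ⟨j, rfl⟩ := Subgroup.mem_zpowers_iff.mp hz
            rw [((show Commute r h from Subgroup.mem_centralizer_singleton_iff.mp hr).zpow_right j).eq,
              mul_inv_cancel_right]
          constructor
          · intro hw
            show r * w * r⁻¹ ∈ Subgroup.zpowers h
            rw [hrw w hw]; exact hw
          · intro hw
            have h1 : r * (r * w * r⁻¹) * r⁻¹ = r * w * r⁻¹ := hrw _ hw
            have h2 : r * w * r⁻¹ = w := mul_left_cancel (mul_right_cancel h1)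
            exact h2 ▸ hw))] at he
      obtain ⟨r, hr, z, hz, hrz⟩ := he
      obtain ⟨j, rfl⟩ := Subgroup.mem_zpowers_iff.mp hz
      obtain ⟨i, hi⟩ := hR ⟨r, hr⟩
      refine ⟨i + a, ?_⟩
      have hre : (⟨r, le_sup_right (a := Subgroup.zpowers h) hr⟩ : E) * (⟨h, hhE⟩ : E) ^ j = e :=
        Subtype.ext hrz
      rw [← hre, map_mul, Commute.mul_pow (by
        exact Commute.map ((hcomm _).symm.zpow_right j) f)]
      have h1 : f ⟨r, le_sup_right (a := Subgroup.zpowers h) hr⟩ ^ p ^ (i + a) = 1 := by
        rw [← map_pow, show (⟨r, le_sup_right (a := Subgroup.zpowers h) hr⟩ : E) ^ p ^ (i + a) = 1 from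
          Subtype.ext (by
            have := congrArg Subtype.val hi
            simp only [SubmonoidClass.coe_pow, OneMemClass.coe_one] at this ⊢
            rw [pow_add, pow_mul, this, one_pow]), map_one]
      have h2 : f (⟨h, hhE⟩ : E) ^ p ^ a = 1 := by
        rw [← map_pow, ← MonoidHom.mem_ker, QuotientGroup.ker_mk']
        exact Subgroup.mem_zpowers_iff.mpr ⟨1, by simp [x]⟩
      rw [h1, one_mul, map_zpow, ← zpow_natCast, ← zpow_mul, mul_comm, zpow_mul, zpow_natCast,
        pow_add, mul_comm (p ^ i), pow_mul, h2, one_pow, one_zpow]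
    intro q
    obtain ⟨e, rfl⟩ := QuotientGroup.mk'_surjective _ q
    exact hgen e
  exact hq.exists_card_eq

/-- For `h` in `H`, the centralizer in `H` is a Hall subgroup of the centralizer. -/
theorem centralizer_hall [Finite G] {H : Subgroup G} (hHall : Nat.Coprime (Nat.card H) H.index)
    (hfus : ∀ x ∈ H, ∀ y ∈ H, IsConj x y → ∃ h ∈ H, h * x * h⁻¹ = y)
    (helem : ∀ (E : Subgroup G) (p : ℕ), p.Prime → IsElementary p E →
      Nat.card E ∣ Nat.card H → ∃ g : G, E.map (MulAut.conj g).toMonoidHom ≤ H)
    {h : G} (hh : h ∈ H) :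
    ∃ t : ℕ, Nat.card (Subgroup.centralizer ({h} : Set G)) =
      Nat.card ↥(H ⊓ Subgroup.centralizer ({h} : Set G)) * t ∧ Nat.Coprime t (Nat.card H) := by
  classical
  set C := Subgroup.centralizer ({h} : Set G) with hC
  obtain ⟨t, ht⟩ := Subgroup.card_dvd_of_le (inf_le_right : H ⊓ C ≤ C)
  refine ⟨t, ht, Nat.coprime_of_dvd fun q hq hqt hqH => ?_⟩
  have := Fact.mk hq
  obtain ⟨R⟩ : Nonempty (Sylow q C) := inferInstance
  let RG : Subgroup G := (R : Subgroup C).map C.subtype
  have hRC : RG ≤ C := Subgroup.map_subtype_le _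
  have hRp : IsPGroup q RG := R.2.map C.subtype
  set E := Subgroup.zpowers h ⊔ RG with hE
  have hEe : IsElementary q E := by
    rcases isElementary_zpowers_sup hq h hRp hRC with h' | ⟨R', hR', hle, hR'C, hne⟩
    · exact h'
    · exfalso
      have h1 : (R : Subgroup C) ≤ R'.subgroupOf C := fun x hx => hle ⟨x, hx, rfl⟩
      have h2 := R.3 (hR'.comap_of_injective C.subtype C.subtype_injective) h1
      refine hne (le_antisymm hle ?_)
      intro x hx
      exact ⟨⟨x, hR'C hx⟩, h2.le hx, rfl⟩
  have hEcard : Nat.card E ∣ Nat.card H := by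
    -- every element has order dividing `|H|`
    have hd : Nat.card E ∣ Nat.card H * H.index := by
      rw [Subgroup.card_mul_index]; exact Subgroup.card_subgroup_dvd_card E
    refine Nat.Coprime.dvd_of_dvd_mul_right ?_ hd
    refine Nat.coprime_of_dvd fun r hr hrE hri => ?_
    obtain ⟨⟨e, he⟩, heo⟩ := exists_prime_orderOf_dvd_card' (hp := ⟨hr⟩) r hrE
    rw [Subgroup.orderOf_mk] at heo
    have hrH : ¬ r ∣ Nat.card H := fun hh' => hr.ne_one (Nat.eq_one_of_dvd_coprimes hHall hh' hri)
    have hrne : r ≠ q := fun e' => hrH (e' ▸ hqH)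
    have hEn : RG ≤ Subgroup.normalizer (Subgroup.zpowers h : Set G) := fun r' hr' => by
      have hc : Commute r' h := Subgroup.mem_centralizer_singleton_iff.mp (hRC hr')
      rw [Subgroup.mem_normalizer_iff]
      intro w
      have hrw : ∀ z ∈ Subgroup.zpowers h, r' * z * r'⁻¹ = z := by
        intro z hz
        obtain ⟨j, rfl⟩ := Subgroup.mem_zpowers_iff.mp hz
        rw [(hc.zpow_right j).eq, mul_inv_cancel_right]
      constructor
      · intro hw
        show r' * w * r'⁻¹ ∈ Subgroup.zpowers h
        rw [hrw w hw]; exact hw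
      · intro hw
        have h1 : r' * (r' * w * r'⁻¹) * r'⁻¹ = r' * w * r'⁻¹ := hrw _ hw
        exact (mul_left_cancel (mul_right_cancel h1)) ▸ hw
    have he' : e ∈ (E : Set G) := he
    rw [hE, Subgroup.coe_mul_of_right_le_normalizer_left _ _ hEn] at he'
    obtain ⟨z, hz, r', hr', rfl⟩ := he'
    obtain ⟨j, rfl⟩ := Subgroup.mem_zpowers_iff.mp hz
    have hc : Commute (h ^ j) r' :=
      ((show Commute r' h from Subgroup.mem_centralizer_singleton_iff.mp (hRC hr')).symm).zpow_left j
    obtain ⟨i, hi⟩ := hRp ⟨r', hr'⟩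
    have hpow : (h ^ j * r') ^ (Nat.card H * q ^ i) = 1 := by
      have h1 : h ^ Nat.card H = 1 := by
        exact congrArg Subtype.val (pow_card_eq_one' (x := (⟨h, hh⟩ : H)))
      have h2 : r' ^ q ^ i = 1 := by simpa using congrArg Subtype.val hi
      rw [hc.mul_pow, pow_mul, ← zpow_natCast (h ^ j), ← zpow_mul, mul_comm j, zpow_mul, zpow_natCast,
        h1, one_zpow, one_pow, one_mul, mul_comm (Nat.card H), pow_mul, h2, one_pow]
    have := orderOf_dvd_of_pow_eq_one hpow
    rw [heo] at this
    rcases hr.dvd_mul.mp this with h' | h'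
    · exact hrH h'
    · exact hrne ((Nat.prime_dvd_prime_iff_eq hr hq).mp (hr.dvd_of_dvd_pow h'))
  obtain ⟨g, hg⟩ := helem E q hq hEe hEcard
  have hgh : g * h * g⁻¹ ∈ H :=
    hg ⟨h, (le_sup_left : Subgroup.zpowers h ≤ E) (Subgroup.mem_zpowers h), rfl⟩
  obtain ⟨k, hk, hke⟩ := hfus _ hgh h hh (isConj_iff.mpr ⟨g, rfl⟩ : IsConj h (g * h * g⁻¹)).symm
  have hle : RG.map (MulAut.conj (k * g)).toMonoidHom ≤ H ⊓ C := by
    rintro _ ⟨r, hr, rfl⟩
    constructor
    · show k * g * r * (k * g)⁻¹ ∈ H
      rw [show k * g * r * (k * g)⁻¹ = k * (g * r * g⁻¹) * k⁻¹ by group]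
      exact H.mul_mem (H.mul_mem hk (hg ⟨r, (le_sup_right : RG ≤ E) hr, rfl⟩)) (H.inv_mem hk)
    · show k * g * r * (k * g)⁻¹ ∈ C
      rw [hC, Subgroup.mem_centralizer_singleton_iff]
      have e1 : k * g * h * (k * g)⁻¹ = h := by
        rw [show k * g * h * (k * g)⁻¹ = k * (g * h * g⁻¹) * k⁻¹ by group, hke]
      have e2 : r * h = h * r := Subgroup.mem_centralizer_singleton_iff.mp (hRC hr)
      calc k * g * r * (k * g)⁻¹ * h = k * g * r * (k * g)⁻¹ * (k * g * h * (k * g)⁻¹) := by rw [e1]
        _ = k * g * (r * h) * (k * g)⁻¹ := by group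
        _ = k * g * h * (k * g)⁻¹ * (k * g * r * (k * g)⁻¹) := by rw [e2]; group
        _ = _ := by rw [e1]
  have h1 : Nat.card R ∣ Nat.card ↥(H ⊓ C) := by
    have := Subgroup.card_dvd_of_le hle
    rwa [Subgroup.card_map_of_injective (MulAut.conj (k * g)).injective,
      Subgroup.card_map_of_injective C.subtype_injective] at this
  rw [R.card_eq_multiplicity, ht] at h1
  have hpos : Nat.card ↥(H ⊓ C) ≠ 0 := Nat.card_pos.ne'
  have ht0 : t ≠ 0 := fun e => by rw [e, mul_zero] at ht; exact Nat.card_pos.ne' ht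
  have h2 := (hq.pow_dvd_iff_le_factorization hpos).mp h1
  rw [Nat.factorization_mul hpos ht0, Finsupp.add_apply] at h2
  have h3 := hq.factorization_pos_of_dvd ht0 hqt
  omega

/-- Brauer–Suzuki: a Hall subgroup controlling fusion and containing the elementary subgroups up
to conjugation has a normal complement. -/
theorem brauer_suzuki_complement [Finite G] (H : Subgroup G)
    (hHall : Nat.Coprime (Nat.card H) H.index)
    (hfus : ∀ x ∈ H, ∀ y ∈ H, IsConj x y → ∃ h ∈ H, h * x * h⁻¹ = y)
    (helem : ∀ (E : Subgroup G) (p : ℕ), p.Prime → IsElementary p E →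
      Nat.card E ∣ Nat.card H → ∃ g : G, E.map (MulAut.conj g).toMonoidHom ≤ H) :
    ∃ K : Subgroup G, K.Normal ∧ K ⊔ H = ⊤ ∧ K ⊓ H = ⊥ := by
  classical
  have := Fintype.ofFinite G
  have := Fintype.ofFinite H
  set m := Nat.card H with hm
  set n := H.index with hn
  have hmn : Nat.card G = m * n := (Subgroup.card_mul_index H).symm
  have hu := fun g : G => (hallPart_spec hmn hHall g)
  -- elements of `H` conjugate to the component of `g`
  have hex : ∀ g : G, ∃ h : H, IsConj (h : G) (hallPart m n g) := by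
    intro g
    have hd : orderOf (hallPart m n g) ∣ m :=
      dvd_of_coprime_right (hmn ▸ orderOf_dvd_natCard _) (hu g).2.2.1
    obtain ⟨p, hp, hpi⟩ : ∃ p, p.Prime ∧ IsElementary p (Subgroup.zpowers (hallPart m n g)) := by
      obtain ⟨p, hp⟩ := Nat.exists_infinite_primes (orderOf (hallPart m n g) + 1)
      refine ⟨p, hp.2, ⟨hallPart m n g, Subgroup.mem_zpowers _⟩, ?_, ?_, 0, ?_⟩
      · rw [Subgroup.mem_center_iff]
        intro y
        obtain ⟨i, hi⟩ := Subgroup.mem_zpowers_iff.mp y.2
        apply Subtype.ext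
        simp only [Subgroup.coe_mul, ← hi]
        exact ((Commute.refl (hallPart m n g)).zpow_left i).eq
      · rw [Subgroup.orderOf_mk]
        exact (hp.2.coprime_iff_not_dvd.mpr fun h => by
          have := Nat.le_of_dvd (orderOf_pos _) h
          omega).symm
      · rw [pow_zero, Subgroup.index_eq_one, Subgroup.eq_top_iff']
        intro y
        obtain ⟨i, hi⟩ := Subgroup.mem_zpowers_iff.mp y.2
        exact Subgroup.mem_zpowers_iff.mpr ⟨i, Subtype.ext (by simpa using hi)⟩
    obtain ⟨k, hk⟩ := helem _ p hp hpi (by rw [Nat.card_zpowers]; exact hd)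
    exact ⟨⟨_, hk ⟨_, Subgroup.mem_zpowers _, rfl⟩⟩,
      (isConj_iff.mpr ⟨k, rfl⟩ : IsConj (hallPart m n g) (k * hallPart m n g * k⁻¹)).symm⟩
  choose φ hφ using hex
  have hφeq : ∀ {F : H → ℂ}, IsClassFunction H F → ∀ (g : G) (h : H),
      IsConj (h : G) (hallPart m n g) → F (φ g) = F h := by
    intro F hF g h hh
    obtain ⟨k, hk, hke⟩ := hfus h h.2 (φ g) (φ g).2 (hh.trans (hφ g).symm)
    rw [show φ g = ⟨k, hk⟩ * h * ⟨k, hk⟩⁻¹ from Subtype.ext hke.symm]
    exact hF h ⟨k, hk⟩
  -- the centralizer data
  choose t ht htc using fun h : H => centralizer_hall hHall hfus helem h.2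
  let Y : H → Type u := fun h =>
    {y : Subgroup.centralizer ({(h : G)} : Set G) // Nat.Coprime (orderOf y) m}
  have hc : ∀ h : H, ∃ c : ℕ, 0 < c ∧ Nat.card (Y h) = t h * c := by
    intro h
    obtain ⟨c, hc⟩ : t h ∣ Nat.card (Y h) := by
      set C := Subgroup.centralizer ({(h : G)} : Set G) with hC
      set s := Nat.card ↥(H ⊓ C) with hs
      have hsm : s ∣ m := Subgroup.card_dvd_of_le inf_le_left
      have hcop : Nat.Coprime (t h) s := (htc h).coprime_dvd_right hsm
      have hdiv := dvd_card_coprime_order (G := C) (m := t h) (n := s)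
        (by rw [ht h, mul_comm]) hcop
      convert hdiv using 1
      refine Nat.card_congr (Equiv.subtypeEquivRight fun y => ⟨fun hy => hy.coprime_dvd_right hsm,
        fun hy => ?_⟩)
      refine ((htc h)).coprime_dvd_left ?_
      exact dvd_of_coprime_right (by rw [mul_comm, ← ht h]; exact orderOf_dvd_natCard y) hy
    refine ⟨c, Nat.pos_of_ne_zero fun e => ?_, hc⟩
    rw [e, mul_zero] at hc
    have : Nonempty (Y h) := ⟨⟨1, by simp⟩⟩
    exact Nat.card_pos.ne' hc
  choose c hcpos hc using hc
  -- the weighted count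
  have hsum : ∀ F : H → ℂ, IsClassFunction H F →
      ∑ g : G, F (φ g) = (n : ℂ) * ∑ h : H, (c h : ℂ) * F h := by
    intro F hF
    let T := (h : H) × (G × Y h)
    have : ∀ h, Fintype (Y h) := fun h => Fintype.ofFinite _
    let π : T → G := fun x => x.2.1 * ((x.1 : G) * ((x.2.2.1 : _) : G)) * x.2.1⁻¹
    have hpart : ∀ x : T, hallPart m n (π x) = x.2.1 * (x.1 : G) * x.2.1⁻¹ := by
      rintro ⟨h, k, y⟩
      rw [hallPart_conj]
      congr 2
      refine (hallPart_unique hmn hHall rfl
        ((show Commute ((y.1 : G)) (h : G) from Subgroup.mem_centralizer_singleton_iff.mp y.1.2).symm)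
        ?_ ?_).1
      · rw [Subgroup.orderOf_coe]
        exact hHall.coprime_dvd_left (orderOf_dvd_natCard h)
      · rw [Subgroup.orderOf_coe]; exact y.2
    let w : T → ℂ := fun x => F x.1 / ((m : ℂ) * (t x.1 : ℂ))
    have ht0 : ∀ h, (t h : ℂ) ≠ 0 := fun h => Nat.cast_ne_zero.mpr fun e => by
      have := ht h
      rw [e, mul_zero] at this
      exact Nat.card_pos.ne' this
    have hm0 : (m : ℂ) ≠ 0 := Nat.cast_ne_zero.mpr Nat.card_pos.ne'
    have hfib : ∀ g : G, ∑ x ∈ Finset.univ.filter (fun x : T => π x = g), w x = F (φ g) := by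
      intro g
      -- the fibre
      let S : Finset H := Finset.univ.filter fun h : H => IsConj (h : G) (hallPart m n g)
      have hw : ∀ x ∈ Finset.univ.filter (fun x : T => π x = g),
          w x = F (φ g) / ((m : ℂ) * (t (φ g) : ℂ)) ∧ x.1 ∈ S := by
        intro x hx
        have hxg : π x = g := (Finset.mem_filter.mp hx).2
        have hcj : IsConj (x.1 : G) (hallPart m n g) := by
          rw [← hxg, hpart]; exact isConj_iff.mpr ⟨x.2.1, rfl⟩
        refine ⟨?_, Finset.mem_filter.mpr ⟨Finset.mem_univ _, hcj⟩⟩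
        have e1 : F x.1 = F (φ g) := (hφeq hF g x.1 hcj).symm
        have e2 : (t x.1 : ℂ) = (t (φ g) : ℂ) := by
          have := hφeq (F := fun h => (t h : ℂ)) (fun h k => by
            have h1 := ht h
            have h2 := ht (k * h * k⁻¹)
            have hC : Nat.card (Subgroup.centralizer ({((k * h * k⁻¹ : H) : G)} : Set G)) =
                Nat.card (Subgroup.centralizer ({(h : G)} : Set G)) :=
              (card_centralizer_of_isConj (isConj_iff.mpr ⟨(k : G), rfl⟩)).symm
            have hH : Nat.card ↥(H ⊓ Subgroup.centralizer ({((k * h * k⁻¹ : H) : G)} : Set G)) =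
                Nat.card ↥(H ⊓ Subgroup.centralizer ({(h : G)} : Set G)) := by
              have e : ∀ z : H, Nat.card ↥(H ⊓ Subgroup.centralizer ({(z : G)} : Set G)) =
                  Nat.card (Subgroup.centralizer ({z} : Set H)) := fun z => Nat.card_congr
                { toFun := fun a => ⟨⟨a.1, a.2.1⟩, Subgroup.mem_centralizer_singleton_iff.mpr
                    (Subtype.ext (Subgroup.mem_centralizer_singleton_iff.mp a.2.2))⟩
                  invFun := fun a => ⟨a.1.1, a.1.2, Subgroup.mem_centralizer_singleton_iff.mpr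
                    (congrArg Subtype.val (Subgroup.mem_centralizer_singleton_iff.mp a.2))⟩
                  left_inv := fun a => rfl
                  right_inv := fun a => rfl }
              rw [e, e]
              exact (card_centralizer_of_isConj (isConj_iff.mpr ⟨k, rfl⟩)).symm
            rw [hC, hH, h1] at h2
            exact congrArg _ (mul_left_cancel₀ Nat.card_pos.ne' h2).symm) g x.1 hcj
          exact this.symm
        simp only [w, e1, e2]
      rw [Finset.sum_congr rfl fun x hx => (hw x hx).1, Finset.sum_const, nsmul_eq_mul]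
      have hcard : (Finset.univ.filter (fun x : T => π x = g)).card = m * t (φ g) := by
        have e1 : (Finset.univ.filter (fun x : T => π x = g)).card =
            ∑ h ∈ S, Nat.card {k : G // k * (h : G) * k⁻¹ = hallPart m n g} := by
          rw [Finset.card_eq_sum_card_fiberwise (f := Sigma.fst) (t := S) (fun x hx => (hw x hx).2)]
          refine Finset.sum_congr rfl fun h hh => ?_
          rw [Finset.filter_filter, ← Fintype.card_subtype, ← Nat.card_eq_fintype_card]
          refine Nat.card_eq_of_bijective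
            (fun x => ⟨x.1.2.1, by
              obtain ⟨⟨h', k', y'⟩, hxg, rfl⟩ := x
              exact (hpart ⟨h', k', y'⟩).symm.trans (congrArg (hallPart m n) hxg)⟩) ⟨?_, ?_⟩
          · rintro ⟨⟨h₁, k₁, y₁⟩, hg₁, e₁⟩ ⟨⟨h₂, k₂, y₂⟩, hg₂, e₂⟩ hk
            simp only at e₁ e₂
            subst e₁ e₂
            simp only [Subtype.mk.injEq] at hk
            subst hk
            have : (y₁.1 : G) = (y₂.1 : G) := by
              have := hg₁.trans hg₂.symm
              simp only [π, mul_left_inj, mul_right_inj] at this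
              exact this
            obtain rfl : y₁ = y₂ := Subtype.ext (Subtype.ext this)
            rfl
          · rintro ⟨k, hk⟩
            have hy : k⁻¹ * hallRest m n g * k ∈ Subgroup.centralizer ({(h : G)} : Set G) := by
              rw [Subgroup.mem_centralizer_singleton_iff]
              have hc' := (hu g).2.1.eq
              have hh' : (h : G) = k⁻¹ * hallPart m n g * k := by rw [← hk]; group
              rw [hh']
              calc k⁻¹ * hallRest m n g * k * (k⁻¹ * hallPart m n g * k)
                  = k⁻¹ * (hallRest m n g * hallPart m n g) * k := by group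
                _ = k⁻¹ * (hallPart m n g * hallRest m n g) * k := by rw [hc']
                _ = _ := by group
            refine ⟨⟨⟨h, k, ⟨⟨_, hy⟩, ?_⟩⟩, ?_, rfl⟩, rfl⟩
            · rw [Subgroup.orderOf_mk]
              have := orderOf_conj_self k⁻¹ (hallRest m n g)
              rw [inv_inv] at this
              rw [this]; exact (hu g).2.2.2
            · show k * ((h : G) * (k⁻¹ * hallRest m n g * k)) * k⁻¹ = g
              conv_rhs => rw [(hu g).1, ← hk]
              group
        have hS : S.card * Nat.card ↥(H ⊓ Subgroup.centralizer ({(φ g : G)} : Set G)) = m := by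
          have e : S.card = Nat.card {h : H // IsConj (φ g) h} := by
            rw [Nat.card_eq_fintype_card, Fintype.card_subtype]
            congr 1
            ext h
            simp only [S, Finset.mem_filter, Finset.mem_univ, true_and]
            constructor
            · intro hh
              obtain ⟨k, hk, hke⟩ := hfus _ (φ g).2 _ h.2 ((hφ g).trans hh.symm)
              exact isConj_iff.mpr ⟨⟨k, hk⟩, Subtype.ext hke⟩
            · intro hh
              exact ((Subgroup.subtype H).map_isConj hh).symm.trans (hφ g)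
          have e' : Nat.card ↥(H ⊓ Subgroup.centralizer ({(φ g : G)} : Set G)) =
              Nat.card (Subgroup.centralizer ({φ g} : Set H)) := Nat.card_congr
            { toFun := fun a => ⟨⟨a.1, a.2.1⟩, Subgroup.mem_centralizer_singleton_iff.mpr
                (Subtype.ext (Subgroup.mem_centralizer_singleton_iff.mp a.2.2))⟩
              invFun := fun a => ⟨a.1.1, a.1.2, Subgroup.mem_centralizer_singleton_iff.mpr
                (congrArg Subtype.val (Subgroup.mem_centralizer_singleton_iff.mp a.2))⟩
              left_inv := fun a => rfl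
              right_inv := fun a => rfl }
          rw [e, e', card_isConj_mul_card_centralizer]
        have e2 : ∀ h ∈ S, Nat.card {k : G // k * (h : G) * k⁻¹ = hallPart m n g} =
            Nat.card ↥(H ⊓ Subgroup.centralizer ({(φ g : G)} : Set G)) * t (φ g) := by
          intro h hh
          rw [card_isConj_fibre _ _ (Finset.mem_filter.mp hh).2,
            card_centralizer_of_isConj ((Finset.mem_filter.mp hh).2.trans (hφ g).symm), ht]
        rw [e1, Finset.sum_congr rfl e2, Finset.sum_const, smul_eq_mul, ← mul_assoc, hS]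
      rw [hcard, Nat.cast_mul]
      field_simp [ht0 (φ g), hm0]
    calc ∑ g : G, F (φ g) = ∑ g : G, ∑ x ∈ Finset.univ.filter (fun x : T => π x = g), w x :=
          Finset.sum_congr rfl fun g _ => (hfib g).symm
      _ = ∑ x : T, w x := Finset.sum_fiberwise _ π w
      _ = _ := by
          rw [Fintype.sum_sigma, Finset.mul_sum]
          refine Finset.sum_congr rfl fun h _ => ?_
          simp only [w, Finset.sum_const, Finset.card_univ, ← Nat.card_eq_fintype_card, Nat.card_prod,
            hc h, hmn, nsmul_eq_mul]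
          have := ht0 h
          push_cast
          field_simp
  have hc1 : ∀ h, c h = 1 := by
    have h1 := hsum (fun _ => 1) isClassFunction_one
    simp only [Finset.sum_const, Finset.card_univ, ← Nat.card_eq_fintype_card, nsmul_eq_mul,
      mul_one] at h1
    rw [hmn, ← Nat.cast_sum, ← Nat.cast_mul, Nat.cast_inj, mul_comm m n] at h1
    have hn0 : n ≠ 0 := Subgroup.index_ne_zero_of_finite
    have h2 : ∑ h : H, c h = ∑ _h : H, 1 := by
      rw [← mul_left_cancel₀ hn0 h1]
      simp [hm, Nat.card_eq_fintype_card]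
    intro h
    exact ((Finset.sum_eq_sum_iff_of_le (fun h _ => hcpos h)).mp h2.symm h (Finset.mem_univ h)).symm
  -- the extended characters
  have hext : ∀ χ : IrrCharacter H, IsIrrCharacter G (fun g => (χ : H → ℂ) (φ g)) := by
    intro χ
    have hχc := isClassFunction_irr χ.2
    have hcl : IsClassFunction G (fun g => (χ : H → ℂ) (φ g)) := by
      intro g k
      show (χ : H → ℂ) (φ (k * g * k⁻¹)) = (χ : H → ℂ) (φ g)
      refine hφeq hχc (k * g * k⁻¹) (φ g) ?_
      refine (hφ g).trans ?_
      rw [hallPart_conj]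
      exact isConj_iff.mpr ⟨k, rfl⟩
    have hgen : IsGeneralizedCharacter G (fun g => (χ : H → ℂ) (φ g)) := by
      refine isGenChar_of_elementary hcl fun E p hp hE => ?_
      obtain ⟨U, -, hU, hcomm⟩ := exists_coprime_part (isNilpotent_of_elementary hp hE) n
      obtain ⟨U', -, hU', -⟩ := exists_coprime_part (isNilpotent_of_elementary hp hE) m
      have hpU : ∀ e : E, hallPart m n (e : G) ∈ E ∧ hallRest m n (e : G) ∈ E := fun e =>
        ⟨E.zpow_mem e.2 _, E.zpow_mem e.2 _⟩
      let π : E →* E :=
        { toFun := fun e => ⟨hallPart m n (e : G), (hpU e).1⟩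
          map_one' := Subtype.ext (by simp [hallPart])
          map_mul' := fun a b => Subtype.ext (by
            show hallPart m n ((a : G) * b) = hallPart m n (a : G) * hallPart m n (b : G)
            let ua : E := ⟨_, (hpU a).1⟩
            let va : E := ⟨_, (hpU a).2⟩
            let ub : E := ⟨_, (hpU b).1⟩
            let vb : E := ⟨_, (hpU b).2⟩
            have o : ∀ z : E, orderOf (z : G) = orderOf z := fun z => Subgroup.orderOf_coe z
            have hU1 : ua * ub ∈ U := U.mul_mem ((hU _).mpr (by rw [← o]; exact (hu a).2.2.1))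
              ((hU _).mpr (by rw [← o]; exact (hu b).2.2.1))
            have hU2 : va * vb ∈ U' := U'.mul_mem ((hU' _).mpr (by rw [← o]; exact (hu a).2.2.2))
              ((hU' _).mpr (by rw [← o]; exact (hu b).2.2.2))
            have hcc : ∀ z w : E, Nat.Coprime (orderOf z) n → Nat.Coprime (orderOf w) m → Commute z w :=
              fun z w hz hw => hcomm z w (hw.symm.coprime_dvd_left (dvd_of_coprime_right
                (hmn ▸ (o z) ▸ orderOf_dvd_natCard (z : G)) hz))
            have hc' : Commute (ua * ub) (va * vb) := hcc _ _ ((hU _).mp hU1) ((hU' _).mp hU2)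
            have hswap : Commute va ub :=
              (hcc ub va (by rw [← o]; exact (hu b).2.2.1) (by rw [← o]; exact (hu a).2.2.2)).symm
            refine (hallPart_unique hmn hHall (v := ((va * vb : E) : G)) ?_
              (congrArg Subtype.val hc') ?_ ?_).1
            · have e : a * b = ua * ub * (va * vb) := by
                have ea : a = ua * va := Subtype.ext (hu a).1
                have eb : b = ub * vb := Subtype.ext (hu b).1
                calc a * b = ua * va * (ub * vb) := by rw [← ea, ← eb]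
                  _ = ua * (va * ub) * vb := by group
                  _ = ua * (ub * va) * vb := by rw [hswap.eq]
                  _ = _ := by group
              exact congrArg Subtype.val e
            · exact (o (ua * ub)) ▸ (hU _).mp hU1
            · rw [o]; exact (hU' _).mp hU2) }
      have hπU : ∀ e : E, π e ∈ U := fun e => (hU _).mpr (by
        rw [← Subgroup.orderOf_coe]; exact (hu e).2.2.1)
      have hUd : Nat.card (U.map E.subtype) ∣ m := by
        rw [Subgroup.card_map_of_injective E.subtype_injective]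
        refine dvd_of_coprime_right
          (hmn ▸ (Subgroup.card_subgroup_dvd_card U).trans (Subgroup.card_subgroup_dvd_card E)) ?_
        refine Nat.coprime_of_dvd fun r hr hrU hrn => ?_
        obtain ⟨⟨e, he⟩, heo⟩ := exists_prime_orderOf_dvd_card' (hp := ⟨hr⟩) r hrU
        rw [Subgroup.orderOf_mk] at heo
        exact hr.ne_one (Nat.eq_one_of_dvd_coprimes ((hU e).mp he) (heo ▸ dvd_rfl) hrn)
      obtain ⟨k, hk⟩ := helem _ p hp (isElementary_of_le hp hE (Subgroup.map_subtype_le U)) hUd
      let ψ : E →* H :=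
        { toFun := fun e => ⟨k * (π e : G) * k⁻¹, hk ⟨(π e : G), ⟨π e, hπU e, rfl⟩, rfl⟩⟩
          map_one' := Subtype.ext (by simp)
          map_mul' := fun a b => Subtype.ext (by simp [mul_assoc]) }
      refine isGenChar_of_char ?_
      convert isCharacter_comp (isCharacter_of_irr χ.2) ψ using 1
      funext e
      exact hφeq hχc (e : G) (ψ e) (isConj_iff.mpr ⟨k, rfl⟩ : IsConj (π e : G) _).symm
    have h1 : (χ : H → ℂ) (φ 1) = (χ : H → ℂ) 1 :=
      hφeq hχc 1 1 (by simp [hallPart, IsConj.refl])
    refine irr_of_norm_one hgen ?_ ?_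
    · have hF : IsClassFunction H (fun h => (χ : H → ℂ) h * conj ((χ : H → ℂ) h)) := fun h k => by
        simp only [hχc h k]
      have h2 := classInner_irr_self χ.2
      simp only [classInner] at h2 ⊢
      rw [hsum _ hF]
      simp only [hc1, Nat.cast_one, one_mul, hmn]
      have hn0 : (n : ℂ) ≠ 0 := Nat.cast_ne_zero.mpr Subgroup.index_ne_zero_of_finite
      have hm0 : (m : ℂ) ≠ 0 := Nat.cast_ne_zero.mpr Nat.card_pos.ne'
      rw [← hm, inv_mul_eq_one₀ hm0] at h2
      rw [← h2]
      push_cast
      field_simp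
    · obtain ⟨d, hd, hd'⟩ := irr_degree_pos χ.2
      refine lt_of_lt_of_eq (Nat.cast_pos.mpr hd : (0 : ℝ) < d) ?_
      show _ = ((χ : H → ℂ) (φ 1)).re
      rw [h1, hd', Complex.natCast_re]
  -- the complement
  let K := ⨅ χ : IrrCharacter H, charKernel _ (isCharacter_of_irr (hext χ))
  have hK : ∀ g, g ∈ K ↔ Nat.Coprime (orderOf g) m := by
    intro g
    simp only [K, Subgroup.mem_iInf, mem_charKernel]
    have h1 : ∀ χ : IrrCharacter H, (χ : H → ℂ) (φ 1) = (χ : H → ℂ) 1 := fun χ =>
      hφeq (isClassFunction_irr χ.2) 1 1 (by simp [hallPart, IsConj.refl])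
    constructor
    · intro hall
      have h2 : IsConj (φ g) 1 := isConj_of_forall_irr fun χ => (hall χ).trans (h1 χ)
      have h3 : hallPart m n g = 1 := by
        have := hφ g
        rw [isConj_one_left.mp h2] at this
        exact isConj_one_right.mp this
      rw [(hu g).1, h3, one_mul]
      exact (hu g).2.2.2
    · intro hg χ
      have h3 : hallPart m n g = 1 :=
        (hallPart_unique hmn hHall (one_mul g).symm (Commute.one_left g) (by simp) hg).1
      rw [h1, hφeq (isClassFunction_irr χ.2) g 1 (by simp [h3, IsConj.refl])]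
  have hKn : K.Normal := by
    refine ⟨fun g hg k => ?_⟩
    rw [hK] at hg ⊢
    rwa [orderOf_conj_self]
  have hinter : K ⊓ H = ⊥ := by
    rw [Subgroup.eq_bot_iff_forall]
    rintro g ⟨hgK, hgH⟩
    have h1 : orderOf g ∣ m := Subgroup.orderOf_mk g hgH ▸ orderOf_dvd_natCard (⟨g, hgH⟩ : H)
    exact orderOf_eq_one_iff.mp (Nat.Coprime.eq_one_of_dvd ((hK g).mp hgK) h1)
  refine ⟨K, hKn, ?_, hinter⟩
  have hKcard : Nat.card K = n := by
    have h0 := hc (1 : H)
    rw [hc1, mul_one] at h0
    have hcentre : Subgroup.centralizer ({((1 : H) : G)} : Set G) = ⊤ :=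
      (Subgroup.eq_top_iff' _).mpr fun x => Subgroup.mem_centralizer_singleton_iff.mpr (by simp)
    have ht1 : t (1 : H) = n := by
      have := ht (1 : H)
      rw [hcentre, inf_top_eq, Subgroup.card_top, hmn] at this
      exact (mul_left_cancel₀ Nat.card_pos.ne' this).symm
    rw [← ht1, ← h0]
    exact Nat.card_congr
      { toFun := fun g => ⟨⟨g.1, by rw [hcentre]; exact Subgroup.mem_top _⟩,
          by rw [Subgroup.orderOf_mk]; exact (hK g).mp g.2⟩
        invFun := fun y => ⟨y.1.1, (hK _).mpr (by rw [Subgroup.orderOf_coe]; exact y.2)⟩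
        left_inv := fun g => rfl
        right_inv := fun y => rfl }
  refine (Subgroup.isComplement'_of_coprime ?_ ?_).sup_eq_top
  · rw [hKcard, mul_comm, ← hm, ← hmn]
  · rw [hKcard, ← hm]; exact hHall.symm

end CfsgLib.CharTheory
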