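import Cfsg.Agent.Lib.CharTheory.SmallDegree

/-!
# Small characters force normal subgroups
-/

namespace CfsgLib.CharTheory.SmallDegree

open Cfsg CfsgLib.CharTheory
open scoped ComplexConjugate

set_option linter.unusedVariables false
set_option linter.style.haveILetI false
set_option linter.unusedSectionVars false

universe u

variable {G : Type u} [Group G] [Fintype G] {p : ℕ} {P : Subgroup G} [Fintype P] [Fintype (cen P)]

theorem norm_cen_mem {g : G} (hg : g ∈ Subgroup.normalizer (P : Set G)) (c : G) :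
    c ∈ cen P ↔ g * c * g⁻¹ ∈ cen P := by
  have key : ∀ n ∈ Subgroup.normalizer (P : Set G), ∀ c ∈ cen P, n * c * n⁻¹ ∈ cen P := by
    intro n hn c hc
    rw [Subgroup.mem_centralizer_iff]
    intro z hz
    have h1 : n⁻¹ * z * n ∈ P := by
      have := (Subgroup.mem_normalizer_iff.1 ((Subgroup.normalizer (P : Set G)).inv_mem hn) z).1 hz
      simpa using this
    have h2 := Subgroup.mem_centralizer_iff.1 hc _ h1
    calc z * (n * c * n⁻¹) = n * ((n⁻¹ * z * n) * c) * n⁻¹ := by group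
      _ = n * (c * (n⁻¹ * z * n)) * n⁻¹ := by rw [h2]
      _ = n * c * n⁻¹ * z := by group
  refine ⟨key g hg c, fun h => ?_⟩
  simpa [mul_assoc] using key g⁻¹ (Subgroup.inv_mem _ hg) _ h

/-- Conjugation on the centralizer. -/
noncomputable def cEquiv {g : G} (hg : g ∈ Subgroup.normalizer (P : Set G)) : cen P ≃* cen P where
  toFun c := ⟨g * c * g⁻¹, (norm_cen_mem hg c).1 c.2⟩
  invFun c := ⟨g⁻¹ * c * g, (norm_cen_mem hg _).2 (by
    rw [show g * (g⁻¹ * (c : G) * g) * g⁻¹ = (c : G) by group]; exact c.2)⟩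
  left_inv c := Subtype.ext (by simp [mul_assoc])
  right_inv c := Subtype.ext (by simp [mul_assoc])
  map_mul' a b := Subtype.ext (by simp [mul_assoc])

/-- The conjugate of a character of the centralizer. -/
noncomputable def cConj {g : G} (hg : g ∈ Subgroup.normalizer (P : Set G)) (μ : IrrCharacter (cen P)) :
    IrrCharacter (cen P) :=
  ⟨fun c => (μ : cen P → ℂ) (cEquiv hg c),
    isIrrCharacter_comp_surjective μ.2 (cEquiv hg).toMonoidHom (cEquiv hg).surjective⟩

theorem co_cConj {g : G} (hg : g ∈ Subgroup.normalizer (P : Set G)) {f : G → ℂ}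
    (hf : IsClassFunction G f) (μ : IrrCharacter (cen P)) : co f (cConj hg μ) = co f μ := by
  unfold co classInner
  congr 1
  refine Fintype.sum_equiv (cEquiv hg).toEquiv _ _ fun c => ?_
  show f c * conj ((μ : cen P → ℂ) (cEquiv hg c)) = f (cEquiv hg c : G) * _
  rw [show ((cEquiv hg c : cen P) : G) = g * (c : G) * g⁻¹ from rfl, hf]
  rfl

/-- The product of linear characters. -/
theorem lam_mul_conj_irr (h : Setup p P) (μ ν : IrrCharacter (cen P)) :
    IsIrrCharacter P (fun x => lam h μ x * conj (lam h ν x)) := by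
  let φ : P →* ℂ :=
    { toFun := fun x => lam h μ x * conj (lam h ν x)
      map_one' := by rw [(lam_spec h μ).2.1, (lam_spec h ν).2.1, map_one, mul_one]
      map_mul' := fun a b => by
        rw [(lam_spec h μ).2.2.1, (lam_spec h ν).2.2.1, map_mul]; ring }
  exact isIrrCharacter_linear φ.toHomUnits

/-- A free orbit of constituents. -/
theorem exists_orbit (h : Setup p P) [DecidableEq (P → ℂ)] {f : G → ℂ} (hf : IsClassFunction G f)
    {n : IrrCharacter (cen P) → ℕ} (hn : ∀ μ, co f μ = (n μ : ℂ)) {μ : IrrCharacter (cen P)}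
    (hμ : μ ∈ supp n) (hne : lam h μ ≠ fun _ => 1) :
    ∃ T : Finset (IrrCharacter (cen P)), T ⊆ supp n ∧ T.card = fIdx P ∧
      (T.image (lam h)).card = fIdx P ∧ ∀ ν ∈ T, lam h ν ≠ fun _ => 1 := by
  classical
  let N := Subgroup.normalizer (P : Set G)
  let C' := (cen P).subgroupOf N
  haveI := Fintype.ofFinite (N ⧸ C')
  let Φ : N ⧸ C' → IrrCharacter (cen P) := fun q => cConj (q.out).2 μ
  have hlam : ∀ (g : N) (x x' : P), (x' : G) = (g : G) * x * (g : G)⁻¹ →
      lam h (cConj g.2 μ) x = lam h μ x' := fun g x x' e => by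
    show (μ : cen P → ℂ) _ / (μ : cen P → ℂ) (cEquiv g.2 1) = _
    rw [map_one]
    exact congrArg (fun c => (μ : cen P → ℂ) c / (μ : cen P → ℂ) 1) (Subtype.ext e.symm)
  have hne' : ∀ q, lam h (Φ q) ≠ fun _ => 1 := fun q e => hne (funext fun x' => by
    have hx : (q.out : G)⁻¹ * (x' : G) * (q.out : G) ∈ P := by
      have := (Subgroup.mem_normalizer_iff.1 (N.inv_mem q.out.2) (x' : G)).1 x'.2
      simpa using this
    rw [← hlam q.out ⟨_, hx⟩ x' (by simp [mul_assoc])]
    exact congrFun e _)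
  have hinj : Function.Injective fun q => lam h (Φ q) := by
    intro a b e
    by_contra hab
    have hg : (a.out : G) * (b.out : G)⁻¹ ∉ cen P := fun hm => hab (by
      rw [← QuotientGroup.out_eq' a, ← QuotientGroup.out_eq' b]
      refine QuotientGroup.eq.2 (Subgroup.mem_subgroupOf.2 ?_)
      show (a.out : G)⁻¹ * (b.out : G) ∈ cen P
      have := (norm_cen_mem (N.inv_mem b.out.2) _).1 ((cen P).inv_mem hm)
      simpa [mul_assoc] using this)
    set g : G := (a.out : G) * (b.out : G)⁻¹ with hgdef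
    have hgN : g ∈ N := N.mul_mem a.out.2 (N.inv_mem b.out.2)
    have hgx : ∀ x : P, g * (x : G) * g⁻¹ ∈ P := fun x => (Subgroup.mem_normalizer_iff.1 hgN x).1 x.2
    have hfix : ∀ x : P, lam h μ ⟨_, hgx x⟩ = lam h μ x := fun x => by
      have hx : (b.out : G)⁻¹ * (x : G) * (b.out : G) ∈ P := by
        have := (Subgroup.mem_normalizer_iff.1 (N.inv_mem b.out.2) (x : G)).1 x.2
        simpa using this
      rw [← hlam b.out ⟨_, hx⟩ x (by simp [mul_assoc]),
        ← hlam a.out ⟨_, hx⟩ ⟨_, hgx x⟩ (by simp [hgdef, mul_assoc])]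
      exact congrFun e _
    let d : P → P := fun x => ⟨g * (x : G) * g⁻¹ * (x : G)⁻¹, P.mul_mem (hgx x) (P.inv_mem x.2)⟩
    have hd : Function.Surjective d := Finite.injective_iff_surjective.1 fun x y e => by
      have e' : g * (x : G) * g⁻¹ * (x : G)⁻¹ = g * (y : G) * g⁻¹ * (y : G)⁻¹ :=
        congrArg Subtype.val e
      by_contra hxy
      have hz : ((y : G)⁻¹ * x) ≠ 1 := fun hz => hxy (Subtype.ext (inv_mul_eq_one.1 hz).symm)
      refine hg (h.free (P.mul_mem (P.inv_mem y.2) x.2) hz ?_)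
      have hw : g * (x : G) * g⁻¹ = g * (y : G) * g⁻¹ * (y : G)⁻¹ * x := by
        rw [← e', inv_mul_cancel_right]
      calc g * ((y : G)⁻¹ * x) * g⁻¹ = (g * (y : G) * g⁻¹)⁻¹ * (g * (x : G) * g⁻¹) := by group
        _ = (y : G)⁻¹ * x := by rw [hw]; group
    apply hne
    funext z
    obtain ⟨x, rfl⟩ := hd z
    rw [show d x = ⟨_, hgx x⟩ * x⁻¹ from Subtype.ext rfl, (lam_spec h μ).2.2.1, hfix,
      ← (lam_spec h μ).2.2.1, mul_inv_cancel, (lam_spec h μ).2.1]
  have hcard : Fintype.card (N ⧸ C') = fIdx P := by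
    rw [← Nat.card_eq_fintype_card, ← Subgroup.index_eq_card]; rfl
  refine ⟨Finset.univ.image Φ, ?_, ?_, ?_, ?_⟩
  · intro ν hν
    obtain ⟨q, -, rfl⟩ := Finset.mem_image.1 hν
    refine Finset.mem_filter.2 ⟨Finset.mem_univ _, fun h0 => (Finset.mem_filter.1 hμ).2 ?_⟩
    have := co_cConj (q.out).2 hf μ
    rw [hn, hn, show n (cConj (q.out).2 μ) = 0 from h0] at this
    exact_mod_cast this.symm
  · rw [Finset.card_image_of_injective _ fun a b e => hinj (congrArg (lam h) e), Finset.card_univ,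
      hcard]
  · rw [Finset.image_image]
    show (Finset.univ.image fun q => lam h (Φ q)).card = _
    rw [Finset.card_image_of_injective _ hinj, Finset.card_univ, hcard]
  · intro ν hν
    obtain ⟨q, -, rfl⟩ := Finset.mem_image.1 hν
    exact hne' q

omit [Fintype G] in
theorem one_le_degree {μ : IrrCharacter (cen P)} [Finite G] :
    ∃ d : ℕ, 1 ≤ d ∧ (μ : cen P → ℂ) 1 = d :=
  irr_degree_pos μ.2

/-- A character with trivial `P`-part has `P` in its kernel. -/
theorem kernel_of_lams (h : Setup p P) [DecidableEq (P → ℂ)] {ψ : G → ℂ} (hψ : IsIrrCharacter G ψ)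
    (hno : ∀ K : Subgroup G, K.Normal → P ≤ K → K = ⊤) {n : IrrCharacter (cen P) → ℕ}
    (hf : ∀ c : cen P, ψ c = ∑ μ, (n μ : ℂ) * (μ : cen P → ℂ) c)
    (hl : ∀ μ ∈ supp n, lam h μ = fun _ => 1) : ψ = fun _ => 1 := by
  refine irr_eq_one_of_kernel_top hψ fun g => ?_
  have hK := hno (charKernel ψ (isCharacter_of_irr hψ)) inferInstance fun x hx => by
    rw [mem_charKernel]
    have e1 := hf ⟨x, h.le_cent hx⟩
    have e2 := hf 1
    rw [show ψ x = ∑ μ, (n μ : ℂ) * (μ : cen P → ℂ) ⟨x, h.le_cent hx⟩ from e1,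
      show ψ 1 = ∑ μ, (n μ : ℂ) * (μ : cen P → ℂ) 1 from e2]
    refine Finset.sum_congr rfl fun μ _ => ?_
    rcases eq_or_ne (n μ) 0 with h0 | h0
    · simp [h0]
    have := (lam_spec h μ).2.2.2 ⟨x, hx⟩ 1
    rw [mul_one, hl μ (Finset.mem_filter.2 ⟨Finset.mem_univ _, h0⟩), one_mul] at this
    rw [this]
  exact (mem_charKernel _ g).1 (hK.symm ▸ Subgroup.mem_top g)

theorem co_mul_conj (χ : G → ℂ) (one : IrrCharacter (cen P)) (hone : ∀ c, (one : cen P → ℂ) c = 1) :
    co (fun g => χ g * conj (χ g)) one =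
      classInner (fun c : cen P => χ c) (fun c : cen P => χ c) := by
  simp [co, classInner, hone]

/-- The main theorem: small non-trivial characters are linear. -/
theorem linear_of_small (h : Setup p P) (hno : ∀ K : Subgroup G, K.Normal → P ≤ K → K = ⊤)
    {χ : G → ℂ} (hχ : IsIrrCharacter G χ) (hne : χ ≠ fun _ => 1) {d : ℕ} (hd : χ 1 = d)
    (hsmall : d ^ 2 + 1 < Nat.card P) : d = 1 ∧ fIdx P = 1 := by
  classical
  obtain ⟨H, hHle, hinf, hcardH, hprod⟩ := h.exists_compl
  have hH : Compl P H := ⟨hHle, hinf, hcardH, hprod⟩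
  haveI := Fintype.ofFinite H
  set f := fIdx P with hfdef
  set q := Nat.card P with hq
  have hf0 : 1 ≤ f := Nat.one_le_iff_ne_zero.2 Subgroup.index_ne_zero_of_finite
  have hq1 : 1 ≤ q := Nat.card_pos
  have hH0 : (0 : ℝ) < Nat.card H := Nat.cast_pos.2 Nat.card_pos
  have hcen : (Nat.card (cen P) : ℝ) = q * Nat.card H := by rw [← hH.card]; push_cast; rfl
  -- the general inequality
  have hineq : ∀ {ψ : G → ℂ}, IsIrrCharacter G ψ → ∀ n : IrrCharacter (cen P) → ℕ,
      (∀ μ, co ψ μ = (n μ : ℂ)) → (∀ c : cen P, ψ c = ∑ μ, (n μ : ℂ) * (μ : cen P → ℂ) c) →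
      ((q : ℝ) - (lams n h).card) * (∑ μ, (n μ : ℝ) ^ 2) < (f : ℝ) * q := by
    intro ψ hψ n hn hfn
    have h1 := le_mass n h hH hn hfn
    have h2 := mass_lt h hH (isClassFunction_irr hψ) (irr_ne_zero hψ)
    rw [classInner_irr_self hψ, Complex.one_re, mul_one, hcen] at h2
    have h3 := lt_of_le_of_lt h1 h2
    nlinarith
  have hA : ∀ n : IrrCharacter (cen P) → ℕ, ∀ T ⊆ supp n, (T.card : ℝ) ≤ ∑ μ, (n μ : ℝ) ^ 2 := by
    intro n T hT
    calc (T.card : ℝ) = ∑ μ ∈ T, (1 : ℝ) := by simp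
      _ ≤ ∑ μ ∈ T, (n μ : ℝ) ^ 2 := Finset.sum_le_sum fun μ hμ => by
          have : (1 : ℝ) ≤ n μ := by
            exact_mod_cast Nat.one_le_iff_ne_zero.2 (Finset.mem_filter.1 (hT hμ)).2
          nlinarith
      _ ≤ _ := Finset.sum_le_sum_of_subset_of_nonneg (Finset.subset_univ _) fun _ _ _ => sq_nonneg _
  -- the character
  obtain ⟨n, hn, hfn⟩ := exists_co (P := P) (isCharacter_of_irr hχ)
  have hdeg : ∑ μ, n μ ≤ d := by
    choose e he1 he2 using fun μ : IrrCharacter (cen P) => one_le_degree (μ := μ)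
    have h1 := hfn 1
    rw [OneMemClass.coe_one, hd, Finset.sum_congr rfl fun μ _ => by rw [he2 μ]] at h1
    have h2 : d = ∑ μ, n μ * e μ := by exact_mod_cast h1
    rw [h2]
    exact Finset.sum_le_sum fun μ _ => Nat.le_mul_of_pos_right _ (he1 μ)
  obtain ⟨μ₀, hμ₀, hμ₀ne⟩ : ∃ μ ∈ supp n, lam h μ ≠ fun _ => 1 := by
    by_contra hno'
    push Not at hno'
    exact hne (kernel_of_lams h hχ hno hfn hno')
  obtain ⟨T, hT, hTc, hTl, hT1⟩ := exists_orbit h (isClassFunction_irr hχ) hn hμ₀ hμ₀ne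
  rw [← hfdef] at hTc hTl
  have hsupp : (supp n).card ≤ ∑ μ, n μ := by
    calc (supp n).card = ∑ μ ∈ supp n, 1 := by simp
      _ ≤ ∑ μ ∈ supp n, n μ := Finset.sum_le_sum fun μ hμ =>
          Nat.one_le_iff_ne_zero.2 (Finset.mem_filter.1 hμ).2
      _ ≤ _ := Finset.sum_le_sum_of_subset (Finset.subset_univ _)
  have hfd : f ≤ d := hTc ▸ (Finset.card_le_card hT).trans (hsupp.trans hdeg)
  have hUd : (lams n h).card ≤ d := Finset.card_image_le.trans (hsupp.trans hdeg)
  have hqf : f ^ 2 + f + 1 ≤ q := by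
    obtain ⟨k, hk⟩ := h.dvd_pred
    rw [← hfdef, ← hq] at hk
    have h1 : f * f < f * k := by nlinarith [Nat.mul_le_mul hfd hfd, Nat.sub_add_cancel hq1]
    have h2 : f < k := Nat.lt_of_mul_lt_mul_left h1
    nlinarith [Nat.sub_add_cancel hq1]
  -- the support is the orbit
  have hAle : ∑ μ, (n μ) ^ 2 ≤ f := by
    by_contra hgt
    push Not at hgt
    have h1 := hineq hχ n hn hfn
    have h2 : ((f : ℝ) + 1) ≤ ∑ μ, (n μ : ℝ) ^ 2 := by exact_mod_cast hgt
    have h3 : ((lams n h).card : ℝ) ≤ d := by exact_mod_cast hUd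
    have h4 : (d : ℝ) ^ 2 + 1 < q := by exact_mod_cast hsmall
    rcases eq_or_lt_of_le hfd with hdf | hdf
    · -- exactly the orbit
      have hs : supp n = T := (Finset.eq_of_subset_of_card_le hT
        (by rw [hTc, hdf]; exact hsupp.trans hdeg)).symm
      have hone : ∀ μ ∈ supp n, n μ = 1 := by
        intro μ hμ
        by_contra hne1
        have hlt : (supp n).card < ∑ μ ∈ supp n, n μ := by
          rw [Finset.card_eq_sum_ones]
          refine Finset.sum_lt_sum (fun ν hν => Nat.one_le_iff_ne_zero.2 (Finset.mem_filter.1 hν).2)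
            ⟨μ, hμ, ?_⟩
          have := (Finset.mem_filter.1 hμ).2
          omega
        have h5 : ∑ μ ∈ supp n, n μ ≤ d :=
          (Finset.sum_le_sum_of_subset (Finset.subset_univ _)).trans hdeg
        rw [hs, hTc, hdf] at hlt
        rw [hs] at h5
        omega
      have h6 : ∑ μ, (n μ) ^ 2 = (supp n).card := by
        rw [← Finset.sum_filter_of_ne (p := fun μ => n μ ≠ 0) (fun μ _ hμ e => hμ (by simp [e])),
          Finset.card_eq_sum_ones]
        exact Finset.sum_congr rfl fun μ hμ => by rw [hone μ hμ, one_pow]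
      rw [h6, hs, hTc] at hgt
      omega
    · have hdf' : (f : ℝ) + 1 ≤ d := by exact_mod_cast hdf
      nlinarith [mul_le_mul_of_nonneg_left h2 (show (0 : ℝ) ≤ (q : ℝ) - (lams n h).card by nlinarith),
        mul_le_mul_of_nonneg_left hdf' (Nat.cast_nonneg (α := ℝ) d)]
  have hsT : supp n = T := by
    refine (Finset.eq_of_subset_of_card_le hT ?_).symm
    rw [hTc]
    refine le_trans ?_ hAle
    calc (supp n).card = ∑ μ ∈ supp n, 1 := by simp
      _ ≤ ∑ μ ∈ supp n, n μ ^ 2 := Finset.sum_le_sum fun μ hμ =>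
          Nat.one_le_iff_ne_zero.2 (pow_ne_zero 2 (Finset.mem_filter.1 hμ).2)
      _ ≤ _ := Finset.sum_le_sum_of_subset (Finset.subset_univ _)
  have hAeq : ∑ μ, (n μ) ^ 2 = f := le_antisymm hAle (by
    rw [← hTc, Finset.card_eq_sum_ones]
    exact (Finset.sum_le_sum fun μ hμ => Nat.one_le_iff_ne_zero.2
      (pow_ne_zero 2 (Finset.mem_filter.1 (hT hμ)).2)).trans
      (Finset.sum_le_sum_of_subset (Finset.subset_univ _)))
  set R := lams n h with hR
  have hRc : R.card = f := by rw [hR, lams, hsT, hTl]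
  -- the character times its conjugate
  set η : G → ℂ := fun g => χ g * conj (χ g) with hη
  have hηc : IsCharacter G η :=
    isCharacter_mul (isCharacter_of_irr hχ) (isCharacter_conj (isCharacter_of_irr hχ))
  choose m hm using fun ψ : IrrCharacter G => classInner_char_nat hηc (isCharacter_of_irr ψ.2)
  have hηsum : ∀ g, η g = ∑ ψ : IrrCharacter G, (m ψ : ℂ) * (ψ : G → ℂ) g := fun g => by
    have := congrFun (eq_sum_irr (isClassFunction_char hηc)) g
    simpa [hm] using this
  choose nn hnn hfnn using fun ψ : IrrCharacter G => exists_co (P := P) (isCharacter_of_irr ψ.2)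
  have hcoη : ∀ μ, co η μ = ∑ ψ, (m ψ : ℂ) * (nn ψ μ : ℂ) := by
    intro μ
    simp only [← hnn, co, classInner, Finset.mul_sum, hηsum, Finset.sum_mul]
    rw [Finset.sum_comm]
    exact Finset.sum_congr rfl fun ψ _ => Finset.sum_congr rfl fun c _ => by ring
  set D := (R ×ˢ R).image (fun ab : (P → ℂ) × (P → ℂ) => fun x => ab.1 x * conj (ab.2 x)) with hD
  -- constituents of the product on `P`
  have hsub : ∀ ψ : IrrCharacter G, m ψ ≠ 0 → ∀ μ ∈ supp (nn ψ), lam h μ ∈ D := by
    intro ψ hmψ μ hμ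
    by_contra hout
    have hco0 : co η μ = 0 := by
      unfold co classInner
      rw [mul_eq_zero]
      right
      rw [sum_cen h hH, Finset.sum_comm]
      refine Finset.sum_eq_zero fun y _ => ?_
      have hexp : ∀ x : P, η (pr h hH (x, y) : G) * conj ((μ : cen P → ℂ) (pr h hH (x, y))) =
          ∑ ab ∈ R ×ˢ R, (fun x => ab.1 x * conj (ab.2 x)) x * conj (lam h μ x) *
            (part n h ab.1 ⟨y, hH.le y.2⟩ * conj (part n h ab.2 ⟨y, hH.le y.2⟩) *
              conj ((μ : cen P → ℂ) ⟨y, hH.le y.2⟩)) := by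
        intro x
        show χ (pr h hH (x, y) : G) * conj (χ (pr h hH (x, y) : G)) * _ = _
        rw [apply_pr n h hH hfn x y,
          show pr h hH (x, y) = ⟨x, h.le_cent x.2⟩ * ⟨y, hH.le y.2⟩ from Subtype.ext rfl,
          (lam_spec h μ).2.2.2, map_sum, Finset.sum_mul_sum, ← Finset.sum_product', Finset.sum_mul]
        exact Finset.sum_congr rfl fun ab _ => by simp only [map_mul]; ring
      rw [Finset.sum_congr rfl fun x _ => hexp x, Finset.sum_comm]
      refine Finset.sum_eq_zero fun ab hab => ?_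
      rw [← Finset.sum_mul, mul_eq_zero]
      left
      obtain ⟨ha, hb⟩ := Finset.mem_product.1 hab
      obtain ⟨μa, -, ea⟩ := Finset.mem_image.1 ha
      obtain ⟨μb, -, eb⟩ := Finset.mem_image.1 hb
      have h1 := classInner_irr_ne (lam_mul_conj_irr h μa μb) (lam_spec h μ).1 fun e =>
        hout (e ▸ Finset.mem_image.2 ⟨ab, hab, by rw [← ea, ← eb]⟩)
      rw [classInner, mul_eq_zero] at h1
      rw [← ea, ← eb]
      exact h1.resolve_left (inv_ne_zero (Nat.cast_ne_zero.2 Nat.card_pos.ne'))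
    rw [hcoη] at hco0
    have h2 : ∑ ψ, m ψ * nn ψ μ = 0 := by exact_mod_cast hco0
    exact (mul_ne_zero hmψ (Finset.mem_filter.1 hμ).2)
      (Finset.sum_eq_zero_iff.1 h2 ψ (Finset.mem_univ _))
  have hDone : ∀ a ∈ R, (fun x => a x * conj (a x)) = fun _ => (1 : ℂ) := fun a ha => funext fun x => by
    obtain ⟨μ, -, rfl⟩ := Finset.mem_image.1 ha
    have h1 := char_apply_inv (isCharacter_of_irr (lam_spec h μ).1) x
    rw [← h1, ← (lam_spec h μ).2.2.1, mul_inv_cancel, (lam_spec h μ).2.1]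
  let one : IrrCharacter (cen P) := ⟨fun _ => 1, isIrrCharacter_one⟩
  let oneG : IrrCharacter G := ⟨fun _ => 1, isIrrCharacter_one⟩
  have honel : lam h one = fun _ => 1 := funext fun x => by simp [lam, one]
  have hηone : classInner η (oneG : G → ℂ) = 1 := by
    rw [← classInner_irr_self hχ]
    simp [classInner, hη, oneG]
  have hm1 : m oneG = 1 := by
    have := hm oneG
    rw [hηone] at this
    exact_mod_cast this.symm
  rcases eq_or_lt_of_le hf0 with hf1 | hf2
  · -- no fixed-point-free part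
    refine ⟨?_, hf1.symm⟩
    obtain ⟨a, ha⟩ := Finset.card_eq_one.1 (hRc.trans hf1.symm)
    have hall : ∀ ψ : IrrCharacter G, m ψ ≠ 0 → ψ = oneG := fun ψ hψ => Subtype.ext
      (kernel_of_lams h ψ.2 hno (hfnn ψ) fun μ hμ => by
        obtain ⟨ab, hab, e⟩ := Finset.mem_image.1 (hsub ψ hψ μ hμ)
        obtain ⟨ha1, hb1⟩ := Finset.mem_product.1 hab
        rw [ha, Finset.mem_singleton] at ha1 hb1
        rw [← e, ha1, hb1]
        exact hDone a (ha ▸ Finset.mem_singleton_self a))
    have h1 := hηsum 1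
    rw [Finset.sum_eq_single oneG (fun ψ _ hψ => by
      rw [show m ψ = 0 from by_contra fun hm0 => hψ (hall ψ hm0)]; simp)
      (fun hh => absurd (Finset.mem_univ _) hh), hm1] at h1
    simp only [hη, hd, oneG, Complex.conj_natCast, Nat.cast_one, mul_one] at h1
    have h2 : d * d = 1 := by exact_mod_cast h1
    exact Nat.eq_one_of_mul_eq_one_right h2
  exfalso
  -- a constituent with trivial part
  obtain ⟨ψ, hψm, hψ1, hψne⟩ : ∃ ψ : IrrCharacter G, m ψ ≠ 0 ∧ nn ψ one ≠ 0 ∧ ψ ≠ oneG := by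
    have hs : ∑ ψ, m ψ * nn ψ one = f := by
      have h1 : co η one = (f : ℂ) := by
        rw [hη, co_mul_conj χ one (fun _ => rfl), ← hAeq]
        conv_lhs => arg 1; rw [show (fun c : cen P => χ c) =
          ∑ μ, (n μ : ℂ) • ((μ : cen P → ℂ)) from funext fun c => by simp [hfn]]
        rw [classInner_sum_left, Nat.cast_sum]
        refine Finset.sum_congr rfl fun μ _ => ?_
        have h2 := hn μ
        rw [co, ← classInner_comm] at h2
        rw [classInner_smul_left, ← Complex.conj_conj (classInner (μ : cen P → ℂ) _), h2,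
          Complex.conj_natCast, Nat.cast_pow, sq]
      rw [hcoη] at h1
      exact_mod_cast h1
    by_contra hnone
    push Not at hnone
    have h2 : ∑ ψ, m ψ * nn ψ one = m oneG * nn oneG one := by
      refine Finset.sum_eq_single oneG (fun ψ _ hψ => ?_) fun hh => absurd (Finset.mem_univ _) hh
      by_contra h0
      obtain ⟨ha, hb⟩ := mul_ne_zero_iff.1 h0
      exact hψ (hnone ψ ha hb)
    have h3 : nn oneG one = 1 := by
      have := hnn oneG one
      rw [co, show classInner (fun c : cen P => (oneG : G → ℂ) c) (one : cen P → ℂ) = 1 from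
        classInner_irr_self one.2] at this
      exact_mod_cast this.symm
    rw [h2, hm1, h3] at hs
    omega
  obtain ⟨μ₁, hμ₁, hμ₁ne⟩ : ∃ μ ∈ supp (nn ψ), lam h μ ≠ fun _ => 1 := by
    by_contra hno'
    push Not at hno'
    exact hψne (Subtype.ext (kernel_of_lams h ψ.2 hno (hfnn ψ) hno'))
  obtain ⟨T', hT', hT'c, hT'l, hT'1⟩ := exists_orbit h (isClassFunction_irr ψ.2) (hnn ψ) hμ₁ hμ₁ne
  rw [← hfdef] at hT'c hT'l
  have hone_mem : one ∈ supp (nn ψ) := Finset.mem_filter.2 ⟨Finset.mem_univ _, hψ1⟩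
  have hU1 : f + 1 ≤ (lams (nn ψ) h).card := by
    have h1 : insert (lam h one) (T'.image (lam h)) ⊆ lams (nn ψ) h :=
      Finset.insert_subset (Finset.mem_image_of_mem _ hone_mem) (Finset.image_subset_image hT')
    refine le_trans ?_ (Finset.card_le_card h1)
    rw [Finset.card_insert_of_notMem (fun hmem => by
      obtain ⟨ν, hν, e⟩ := Finset.mem_image.1 hmem
      exact hT'1 ν hν (e.trans honel)), hT'l]
  have hUM : (lams (nn ψ) h).card + f ≤ f ^ 2 + 1 := by
    have h1 : lams (nn ψ) h ⊆ D := fun ν hν => by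
      obtain ⟨μ, hμ, rfl⟩ := Finset.mem_image.1 hν
      exact hsub ψ hψm μ hμ
    have h2 : D ⊆ insert (fun _ => (1 : ℂ))
        (R.offDiag.image fun ab : (P → ℂ) × (P → ℂ) => fun x => ab.1 x * conj (ab.2 x)) := by
      intro ν hν
      obtain ⟨⟨a, b⟩, hab, rfl⟩ := Finset.mem_image.1 hν
      obtain ⟨ha, hb⟩ := Finset.mem_product.1 hab
      by_cases e : a = b
      · subst e; exact Finset.mem_insert.2 (Or.inl (hDone a ha))
      · exact Finset.mem_insert_of_mem (Finset.mem_image.2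
          ⟨(a, b), Finset.mem_offDiag.2 ⟨ha, hb, e⟩, rfl⟩)
    have h3 := (Finset.card_le_card (h1.trans h2)).trans ((Finset.card_insert_le _ _).trans
      (Nat.add_le_add_right Finset.card_image_le 1))
    rw [Finset.offDiag_card, hRc] at h3
    have : f ≤ f * f := Nat.le_mul_self f
    rw [sq]; omega
  set U := (lams (nn ψ) h).card with hUdef
  set A := ∑ μ, (nn ψ μ : ℝ) ^ 2 with hAdef
  have hAU : (U : ℝ) ≤ A :=
    le_trans (by exact_mod_cast Finset.card_image_le) (hA (nn ψ) (supp (nn ψ)) Finset.Subset.rfl)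
  have hlt := hineq ψ.2 (nn ψ) (hnn ψ) (hfnn ψ)
  rw [← hUdef, ← hAdef] at hlt
  have hqR : (f : ℝ) ^ 2 + f + 1 ≤ q := by exact_mod_cast hqf
  have hUM' : (U : ℝ) + f ≤ (f : ℝ) ^ 2 + 1 := by exact_mod_cast hUM
  rcases eq_or_lt_of_le hU1 with hUe | hUlt
  swap
  · have hU2 : (f : ℝ) + 2 ≤ U := by exact_mod_cast hUlt
    have hf3 : (3 : ℝ) ≤ f := by
      have h3 : 3 ≤ f := by
        by_contra hlt3
        have : f = 2 := by omega
        subst_vars
        simp only [this] at *
        omega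
      exact_mod_cast h3
    have h5 : ((q : ℝ) - U) * U ≤ ((q : ℝ) - U) * A :=
      mul_le_mul_of_nonneg_left hAU (by nlinarith)
    have h6 : (0 : ℝ) ≤ (q - (f ^ 2 + f + 1)) * (U - f) :=
      mul_nonneg (by linarith) (by linarith)
    have h7 : (0 : ℝ) ≤ (U - f - 2) * (f ^ 2 + 1 - f - U) := mul_nonneg (by linarith) (by linarith)
    nlinarith [mul_le_mul_of_nonneg_left hU2 (show (0 : ℝ) ≤ f - 2 by linarith)]
  -- the extremal case
  have hUR : (U : ℝ) = f + 1 := by rw [← hUe]; push_cast; rfl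
  rw [hUR] at hlt
  have hf2' : (2 : ℝ) ≤ f := by exact_mod_cast hf2
  have hAlt : A < (f : ℝ) + 2 := by
    by_contra hge
    push Not at hge
    nlinarith [mul_le_mul_of_nonneg_left hge (show (0 : ℝ) ≤ (q : ℝ) - (f + 1) by nlinarith)]
  have hAnat : ∑ μ, (nn ψ μ) ^ 2 ≤ f + 1 := by
    have : ((∑ μ, (nn ψ μ) ^ 2 : ℕ) : ℝ) < ((f + 2 : ℕ) : ℝ) := by push_cast; exact hAlt
    have := Nat.cast_lt.1 this
    omega
  have hsc : (f + 1 : ℕ) ≤ (supp (nn ψ)).card := hUe ▸ Finset.card_image_le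
  have hones : ∀ μ ∈ supp (nn ψ), nn ψ μ = 1 := by
    intro μ hμ
    by_contra hne1
    have h1 : (supp (nn ψ)).card < ∑ μ ∈ supp (nn ψ), nn ψ μ ^ 2 := by
      rw [Finset.card_eq_sum_ones]
      refine Finset.sum_lt_sum (fun ν hν => Nat.one_le_iff_ne_zero.2
        (pow_ne_zero 2 (Finset.mem_filter.1 hν).2)) ⟨μ, hμ, ?_⟩
      have := (Finset.mem_filter.1 hμ).2
      nlinarith [show 2 ≤ nn ψ μ by omega]
    have h2 : ∑ μ ∈ supp (nn ψ), nn ψ μ ^ 2 ≤ ∑ μ, (nn ψ μ) ^ 2 :=
      Finset.sum_le_sum_of_subset (Finset.subset_univ _)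
    omega
  have hAge : (f : ℝ) + 1 ≤ A := by rw [← hUR]; exact hAU
  have hsce : (supp (nn ψ)).card ≤ f + 1 := by
    refine le_trans ?_ hAnat
    calc (supp (nn ψ)).card = ∑ μ ∈ supp (nn ψ), 1 := by simp
      _ ≤ ∑ μ ∈ supp (nn ψ), nn ψ μ ^ 2 := Finset.sum_le_sum fun μ hμ =>
          Nat.one_le_iff_ne_zero.2 (pow_ne_zero 2 (Finset.mem_filter.1 hμ).2)
      _ ≤ _ := Finset.sum_le_sum_of_subset (Finset.subset_univ _)
  -- sums over the complement
  have hμH : ∀ μ : IrrCharacter (cen P), (∑ y : H, (μ : cen P → ℂ) ⟨y, hH.le y.2⟩).re ≤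
      Nat.card H := by
    intro μ
    let ι : H →* cen P := Subgroup.inclusion hH.le
    have hc : IsCharacter H (fun y => (μ : cen P → ℂ) (ι y)) :=
      isCharacter_comp (isCharacter_of_irr μ.2) ι
    have hHc : (Nat.card H : ℂ) ≠ 0 := Nat.cast_ne_zero.2 Nat.card_pos.ne'
    have hnorm : classInner (fun y => (μ : cen P → ℂ) (ι y)) (fun y => (μ : cen P → ℂ) (ι y)) = 1 := by
      rw [← classInner_irr_self μ.2]
      have hqc : (Nat.card P : ℂ) ≠ 0 := Nat.cast_ne_zero.2 Nat.card_pos.ne'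
      have e : ∑ c : cen P, (μ : cen P → ℂ) c * conj ((μ : cen P → ℂ) c) =
          (Nat.card P : ℂ) * ∑ y : H, (μ : cen P → ℂ) (ι y) * conj ((μ : cen P → ℂ) (ι y)) := by
        rw [sum_cen h hH]
        have h1 := lam_orth h μ μ
        rw [if_pos rfl] at h1
        rw [← h1, Finset.sum_mul_sum]
        refine Finset.sum_congr rfl fun x _ => Finset.sum_congr rfl fun y _ => ?_
        rw [show pr h hH (x, y) = ⟨x, h.le_cent x.2⟩ * ⟨y, hH.le y.2⟩ from Subtype.ext rfl,
          (lam_spec h μ).2.2.2, map_mul]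
        show _ = _ * ((μ : cen P → ℂ) ⟨y, hH.le y.2⟩ * conj ((μ : cen P → ℂ) ⟨y, hH.le y.2⟩))
        ring
      simp only [classInner]
      rw [e, ← hH.card]
      push_cast
      field_simp
    have hirr := irr_of_char_norm_one hc hnorm
    have e2 : ∑ y : H, (μ : cen P → ℂ) ⟨y, hH.le y.2⟩ =
        (Nat.card H : ℂ) * classInner (fun y => (μ : cen P → ℂ) (ι y)) (fun _ => 1) := by
      simp only [classInner, map_one, mul_one]
      rw [mul_inv_cancel_left₀ hHc]
      rfl
    rw [e2]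
    by_cases he : (fun y => (μ : cen P → ℂ) (ι y)) = fun _ => (1 : ℂ)
    · rw [he, classInner_irr_self isIrrCharacter_one, mul_one, Complex.natCast_re]
    · rw [classInner_irr_ne hirr isIrrCharacter_one he, mul_zero, Complex.zero_re]
      exact Nat.cast_nonneg _
  set k : ℂ := ∑ y : H, (ψ : G → ℂ) y with hk
  have hkle : k.re ≤ (Nat.card H : ℝ) * (f + 1) := by
    have e : k = ∑ μ ∈ supp (nn ψ), ∑ y : H, (μ : cen P → ℂ) ⟨y, hH.le y.2⟩ := by
      rw [hk, Finset.sum_congr rfl fun (y : H) _ => show (ψ : G → ℂ) y = _ from hfnn ψ ⟨y, hH.le y.2⟩,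
        Finset.sum_comm]
      rw [← Finset.sum_filter_of_ne (p := fun μ => nn ψ μ ≠ 0) (fun μ _ hμ e => hμ (by simp [e]))]
      refine Finset.sum_congr rfl fun μ hμ => ?_
      rw [← Finset.mul_sum, hones μ hμ, Nat.cast_one, one_mul]
    rw [e, Complex.re_sum]
    refine le_trans (Finset.sum_le_card_nsmul _ _ _ fun μ _ => hμH μ) ?_
    rw [nsmul_eq_mul, mul_comm]
    exact mul_le_mul_of_nonneg_left (by exact_mod_cast hsce) (Nat.cast_nonneg _)
  have hsing : ∑ x : P, ∑ y : H, (if (x : G) = 1 then 0 else (ψ : G → ℂ) ((x : G) * y)) =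
      (Nat.card (cen P) : ℂ) - k := by
    have e1 : ∑ c : cen P, (ψ : G → ℂ) c = (Nat.card (cen P) : ℂ) := by
      have := hnn ψ one
      rw [hones one hone_mem, Nat.cast_one, co, classInner] at this
      simp only [one, map_one, mul_one] at this
      rw [inv_mul_eq_iff_eq_mul₀ (Nat.cast_ne_zero.2 Nat.card_pos.ne'), mul_one] at this
      exact this
    rw [sum_cen h hH (fun c => (ψ : G → ℂ) c)] at e1
    rw [← e1, hk, eq_sub_iff_add_eq,
      Finset.sum_eq_add_sum_sdiff_singleton_of_mem (Finset.mem_univ (1 : P)),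
      Finset.sum_eq_add_sum_sdiff_singleton_of_mem (Finset.mem_univ (1 : P))
        (f := fun x => ∑ y : H, (ψ : G → ℂ) (pr h hH (x, y) : G)),
      Finset.sum_eq_zero (s := (Finset.univ : Finset H)) (fun y _ => if_pos (OneMemClass.coe_one P)),
      zero_add, add_comm]
    congr 1
    · exact Finset.sum_congr rfl fun y _ => by simp [pr]
    · refine Finset.sum_congr rfl fun x hx => Finset.sum_congr rfl fun y _ => ?_
      rw [if_neg fun e : (x : G) = 1 =>
        (Finset.mem_sdiff.1 hx).2 (Finset.mem_singleton.2 (Subtype.ext e))]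
      rfl
  obtain ⟨e, he⟩ := irr_degree_pos ψ.2
  set F : G → ℂ := fun g => (f : ℂ) * (ψ : G → ℂ) g + 1 with hF
  have hF1 : F 1 ≠ 0 := by
    simp only [hF, he.2]
    exact_mod_cast Nat.succ_ne_zero (f * e)
  have hFlt := mass_lt h hH (f := F)
    (fun a b => by simp only [hF, isClassFunction_irr ψ.2 a b]) hF1
  have hFn : (classInner F F).re = (f : ℝ) ^ 2 + 1 := by
    have e : F = (f : ℂ) • (ψ : G → ℂ) + (oneG : G → ℂ) := funext fun g => by simp [hF, oneG]
    rw [e, classInner_add_left, classInner_add_right, classInner_add_right, classInner_smul_left,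
      classInner_smul_left, classInner_smul_right, classInner_smul_right, classInner_irr_self ψ.2,
      classInner_irr_self oneG.2, classInner_irr_ne ψ.2 oneG.2 (fun q => hψne (Subtype.ext q)),
      classInner_irr_ne oneG.2 ψ.2 (fun q => hψne (Subtype.ext q).symm)]
    simp [sq]
  have hmass : mass P H F = (f : ℝ) ^ 2 * mass P H (ψ : G → ℂ) +
      2 * f * ((Nat.card (cen P) : ℂ) - k).re + ((q : ℝ) - 1) * Nat.card H := by
    have hcnt : ∑ x : P, ∑ _y : H, (if (x : G) = 1 then (0 : ℝ) else 1) =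
        ((q : ℝ) - 1) * Nat.card H := by
      rw [Finset.sum_congr rfl fun x _ => by rw [Finset.sum_const, Finset.card_univ, nsmul_eq_mul],
        ← Finset.mul_sum, Finset.sum_eq_add_sum_sdiff_singleton_of_mem (Finset.mem_univ (1 : P)),
        if_pos (OneMemClass.coe_one P), zero_add,
        Finset.sum_congr (s₁ := Finset.univ \ {1}) rfl fun (x : P) hx =>
          show (if (x : G) = 1 then (0 : ℝ) else 1) = 1 from if_neg fun e =>
            (Finset.mem_sdiff.1 hx).2 (Finset.mem_singleton.2 (Subtype.ext e)),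
        Finset.sum_const, nsmul_eq_mul, mul_one,
        Finset.card_sdiff_of_subset (Finset.subset_univ _), Finset.card_singleton, Finset.card_univ,
        hq, Nat.card_eq_fintype_card, Nat.card_eq_fintype_card,
        Nat.cast_sub (Fintype.card_pos), Nat.cast_one, mul_comm]
    rw [← hsing, ← hcnt]
    simp only [mass, Complex.re_sum, Finset.mul_sum, ← Finset.sum_add_distrib]
    refine Finset.sum_congr rfl fun x _ => Finset.sum_congr rfl fun y _ => ?_
    split_ifs
    · simp
    · simp only [hF, Complex.normSq_apply, Complex.add_re, Complex.add_im, Complex.mul_re,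
        Complex.mul_im, Complex.natCast_re, Complex.natCast_im, Complex.one_re, Complex.one_im]
      ring
  have hmψ := le_mass (nn ψ) h hH (hnn ψ) (hfnn ψ)
  rw [← hUdef, ← hAdef, hUR] at hmψ
  rw [hmass, hFn, Complex.sub_re, Complex.natCast_re, hcen] at hFlt
  have hk2 : (0 : ℝ) ≤ (q : ℝ) - ((f : ℝ) + 1) := by nlinarith
  have b1 : ((q : ℝ) - (f + 1)) * ((Nat.card H : ℝ) * (f + 1)) ≤ mass P H (ψ : G → ℂ) :=
    le_trans (mul_le_mul_of_nonneg_left (mul_le_mul_of_nonneg_left hAge hH0.le) hk2) hmψ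
  have b2 : (f : ℝ) ^ 2 * (((q : ℝ) - (f + 1)) * ((Nat.card H : ℝ) * (f + 1))) ≤
      (f : ℝ) ^ 2 * mass P H (ψ : G → ℂ) := mul_le_mul_of_nonneg_left b1 (sq_nonneg _)
  have b3 : 2 * (f : ℝ) * ((q : ℝ) * Nat.card H - (Nat.card H : ℝ) * (f + 1)) ≤
      2 * (f : ℝ) * ((q : ℝ) * Nat.card H - k.re) :=
    mul_le_mul_of_nonneg_left (by linarith) (by positivity)
  nlinarith [mul_nonneg (mul_nonneg hH0.le (show (0 : ℝ) ≤ f ^ 2 + f + 1 by positivity))
    (show (0 : ℝ) ≤ (q : ℝ) - (f ^ 2 + f + 1) by linarith)]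

end CfsgLib.CharTheory.SmallDegree
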