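import Cfsg.Agent.Lib.CharTheory.ExtCriteria
import Cfsg.Agent.Lib.CharTheory.PowerMap
import Cfsg.Agent.Lib.Glauberman.Cyclic

/-!
# Galois fixed extensions
-/

namespace CfsgLib.CharTheory

open Cfsg

set_option linter.unusedVariables false
set_option linter.style.haveILetI false
set_option linter.unusedSectionVars false

universe u

variable {G : Type u} [Group G] [Fintype G]

/-- The determinant of a Galois conjugate. -/
theorem detChar_pow {χ : G → ℂ} (hχ : IsIrrCharacter G χ) {k : ℕ} (hk : k.Coprime (Nat.card G)) (g : G) :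
    detChar (fun g => χ (g ^ k)) g = detChar χ (g ^ k) := by
  classical
  let Y := Subgroup.zpowers g
  let pw : Y →* Y := { toFun := fun a => a ^ k, map_one' := one_pow k,
                       map_mul' := fun a b => (Commute.mul_pow (mul_comm' a b) k) }
  have h1 := Glauberman.Cyclic.detChar_comp (isCharacter_of_irr (isIrrCharacter_pow hχ hk)) Y.subtype
    ⟨g, Subgroup.mem_zpowers g⟩
  have h2 := Glauberman.Cyclic.detChar_comp (isCharacter_of_irr hχ) (Y.subtype.comp pw)
    ⟨g, Subgroup.mem_zpowers g⟩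
  exact h1.symm.trans h2

/-- A fixed invariant character has a fixed extension, in the coprime situation. -/
theorem exists_fixed_extension {N : Subgroup G} [hN : N.Normal] {θ : N → ℂ}
    (hθ : IsIrrCharacter N θ) (hinv : ∀ g : G, conjNormFun N g θ = θ) {d : ℕ} (hd : θ 1 = d)
    (hcop : N.index.Coprime d) (hdet : N.index.Coprime (detOrder θ)) {k : ℕ}
    (hk : k.Coprime (Nat.card G)) (hfix : ∀ n : N, θ (n ^ k) = θ n) :
    ∃ χ : G → ℂ, IsIrrCharacter G χ ∧ (∀ n : N, χ n = θ n) ∧ ∀ g : G, χ (g ^ k) = χ g := by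
  classical
  haveI := Fintype.ofFinite N
  have hkN : k.Coprime (Nat.card N) := hk.coprime_dvd_right (Subgroup.card_subgroup_dvd_card N)
  obtain ⟨m, ρ, hρ, hρθ⟩ := id hθ
  set δ : N →* ℂˣ := detHom ρ with hδ
  have hδv : detChar θ = fun n => ((δ n : ℂˣ) : ℂ) := by rw [← hρθ, detChar_eq]
  have hδo : detOrder θ = orderOf δ := by rw [← hρθ, detOrder_eq]
  have hδinv : ∀ (g : G) (n : N), δ (MulAut.conjNormal g n) = δ n := by
    intro g n
    have h := Glauberman.Cyclic.detChar_comp (isCharacter_of_irr hθ) (MulAut.conjNormal g).toMonoidHom n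
    have e : (fun x => θ ((MulAut.conjNormal g).toMonoidHom x)) = θ := by
      have h2 := hinv g
      rw [conjNormFun_eq] at h2
      exact h2
    rw [e, hδv] at h
    exact Units.ext h.symm
  obtain ⟨M0, hM0, hM0o, hM0u⟩ := exists_hom_extending_coprime δ hδinv (hδo ▸ hdet)
  obtain ⟨χ, hχ, hχN, hχd⟩ := exists_extension_det hθ (fun g n => congrFun (hinv g) n) hd hcop M0
    (fun n => by rw [hδv, hM0])
  refine ⟨χ, hχ, hχN, fun g => congrFun (extension_det_unique hθ hd hcop hχ hχN (isIrrCharacter_pow hχ hk)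
    (fun n => ?_) ?_) g⟩
  · show χ ((n : G) ^ k) = θ n
    rw [← Subgroup.coe_pow, hχN, hfix]
  let pk : ℂˣ →* ℂˣ := powMonoidHom k
  have hM1 : pk.comp M0 = M0 := by
    refine hM0u _ (fun n => ?_) ?_
    · show (M0 (n : G)) ^ k = δ n
      rw [hM0]
      have h := detChar_pow (G := N) hθ hkN n
      rw [show (fun g : N => θ (g ^ k)) = θ from funext hfix, hδv] at h
      rw [← map_pow]
      exact Units.ext h.symm
    · refine Nat.Coprime.coprime_dvd_right ?_ (hδo ▸ hdet)
      rw [← hM0o]
      refine orderOf_dvd_of_pow_eq_one (MonoidHom.ext fun g => ?_)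
      show ((M0 g) ^ k) ^ orderOf M0 = 1
      rw [← pow_mul, mul_comm, pow_mul, ← MonoidHom.pow_apply, pow_orderOf_eq_one, MonoidHom.one_apply,
        one_pow]
  funext g
  rw [detChar_pow hχ hk, hχd]
  have h : (M0 g) ^ k = M0 g := congrFun (congrArg DFunLike.coe hM1) g
  show ((M0 (g ^ k) : ℂˣ) : ℂ) = _
  rw [map_pow, h]

end CfsgLib.CharTheory
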