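import Cfsg.Agent.Lib.CharTheory.Galois

/-!
# Character values in a smaller cyclotomic field
-/

namespace CfsgLib.CharTheory

open Cfsg Polynomial

set_option linter.unusedVariables false
set_option linter.style.haveILetI false
set_option linter.unusedSectionVars false

universe u

variable {G : Type u} [Group G] [Fintype G]

theorem rootField_mono {n m : ℕ} (hn : n ≠ 0) (hm : m ≠ 0) (h : n ∣ m) :
    rootField n ≤ rootField m := by
  refine IntermediateField.adjoin_simple_le_iff.2 (mem_rootField hm ?_)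
  obtain ⟨c, rfl⟩ := h
  rw [pow_mul, (isPrimitiveRoot_exp' hn).pow_eq_one, one_pow]

/-- A character value in `rootField n` is fixed by the exponents congruent to one modulo `n`. -/
theorem pow_eq_of_mem_rootField {χ : G → ℂ} (hχ : IsCharacter G χ) {g : G} {R n m : ℕ}
    (hR : R ≠ 0) (hGR : Nat.card G ∣ R) (hnR : n ∣ R) (hn : n ≠ 0) (hmem : χ g ∈ rootField n)
    (hm : m.Coprime R) (hm1 : m ≡ 1 [MOD n]) : χ (g ^ m) = χ g := by
  classical
  obtain ⟨σ, hσ⟩ := exists_galois_hom hR hm
  obtain ⟨s, hs, hpow⟩ := exists_roots_pow hχ g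
  have hsR : ∀ x ∈ s, x ^ R = 1 := fun x hx => by
    obtain ⟨c, rfl⟩ := hGR
    rw [pow_mul, hs x hx, one_pow]
  let t : Multiset (rootField R) := s.attach.map fun x => ⟨x.1, mem_rootField hR (hsR x.1 x.2)⟩
  have ht : ((t.sum : rootField R) : ℂ) = χ g := by
    show algebraMap (rootField R) ℂ t.sum = χ g
    rw [map_multiset_sum, Multiset.map_map]
    have h1 := hpow 1
    simp only [pow_one, Multiset.map_id'] at h1
    rw [h1]
    exact congrArg Multiset.sum (Multiset.attach_map_val s)
  have hσt : σ t.sum = χ (g ^ m) := by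
    rw [map_multiset_sum, Multiset.map_map, hpow m]
    refine congrArg Multiset.sum ?_
    conv_rhs => rw [← Multiset.attach_map_val s, Multiset.map_map]
    exact Multiset.map_congr rfl fun x _ => hσ _ (hsR x.1 x.2)
  have hle := rootField_mono hn hR hnR
  let τ : rootField n →ₐ[ℚ] ℂ := σ.comp (IntermediateField.inclusion hle)
  have hτ : τ = (rootField n).val := by
    refine IntermediateField.adjoin.powerBasis (isIntegral_exp hn) |>.algHom_ext ?_
    rw [IntermediateField.adjoin.powerBasis_gen]
    set ζ := Complex.exp (2 * Real.pi * Complex.I / n) with hζ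
    have hζn : ζ ^ n = 1 := (isPrimitiveRoot_exp' hn).pow_eq_one
    have hζR : ζ ^ R = 1 := by
      obtain ⟨c, rfl⟩ := hnR
      rw [pow_mul, hζn, one_pow]
    refine (hσ _ hζR).trans ?_
    show ζ ^ m = ζ
    rw [(isPrimitiveRoot_exp' hn).eq_orderOf] at hm1
    rw [← pow_mod_orderOf, show m % orderOf ζ = 1 % orderOf ζ from hm1, pow_mod_orderOf, pow_one]
  rw [← hσt, ← ht]
  have h2 := congrFun (congrArg DFunLike.coe hτ) ⟨χ g, hmem⟩
  have e : IntermediateField.inclusion hle ⟨χ g, hmem⟩ = t.sum := Subtype.ext (by rw [ht]; rfl)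
  rw [show τ ⟨χ g, hmem⟩ = σ t.sum by rw [← e]; rfl] at h2
  rw [h2, ht]
  rfl

/-- A character value fixed by the exponents congruent to one modulo `n` lies in `rootField n`. -/
theorem mem_rootField_of_fixed {χ : G → ℂ} (hχ : IsCharacter G χ) (g : G) {n : ℕ}
    (hn : n ∣ Nat.card G)
    (h : ∀ m : ℕ, m.Coprime (Nat.card G) → m ≡ 1 [MOD n] → χ (g ^ m) = χ g) :
    χ g ∈ rootField n := by
  classical
  have hR : Nat.card G ≠ 0 := Nat.card_pos.ne'
  have hn0 : n ≠ 0 := ne_zero_of_dvd_ne_zero hR hn
  set R := Nat.card G with hRdef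
  set F := rootField n with hF
  set ζ := Complex.exp (2 * Real.pi * Complex.I / R) with hζ
  set L : IntermediateField F ℂ := IntermediateField.adjoin F {ζ} with hL
  have hle : rootField R ≤ L.restrictScalars ℚ := by
    refine IntermediateField.adjoin_simple_le_iff.2 ?_
    exact IntermediateField.mem_adjoin_simple_self F ζ
  have hint : IsIntegral F ζ := (isIntegral_exp hR).tower_top
  haveI hfd : FiniteDimensional F L := IntermediateField.adjoin.finiteDimensional hint
  have hK : Algebra.IsAlgebraic F L := Algebra.IsAlgebraic.of_finite _ _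
  let a : L := ⟨χ g, hle (char_mem_rootField hχ g)⟩
  have hfix : ∀ σ : L →ₐ[F] ℂ, σ a = χ g := by
    intro σ
    let σ' : rootField R →ₐ[ℚ] ℂ :=
      (σ.restrictScalars ℚ).comp (IntermediateField.inclusion hle)
    obtain ⟨m, hm, hσ'⟩ := exists_pow_of_galois_hom hR σ'
    have hm1 : m ≡ 1 [MOD n] := by
      set z := Complex.exp (2 * Real.pi * Complex.I / n) with hz
      have hzn : z ^ n = 1 := (isPrimitiveRoot_exp' hn0).pow_eq_one
      have hzR : z ^ R = 1 := by
        obtain ⟨c, hc⟩ := hn
        rw [hc, pow_mul, hzn, one_pow]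
      have e := hσ' ⟨z, mem_rootField hR hzR⟩ hzR
      have hzF : z ∈ F := IntermediateField.mem_adjoin_simple_self ℚ z
      have e2 : σ' ⟨z, mem_rootField hR hzR⟩ = z := σ.commutes ⟨z, hzF⟩
      rw [e2] at e
      refine (isPrimitiveRoot_exp' hn0).pow_inj (Nat.mod_lt _ (Nat.pos_of_ne_zero hn0))
        (Nat.mod_lt _ (Nat.pos_of_ne_zero hn0)) ?_
      show z ^ (m % n) = z ^ (1 % n)
      rw [← pow_eq_pow_mod m hzn, ← pow_eq_pow_mod 1 hzn, pow_one]
      exact e.symm
    exact (galois_apply_char hχ g σ' hσ').trans (h m hm hm1)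
  have hrange := hK.range_eval_eq_rootSet_minpoly ℂ a
  have hsub : (minpoly F a).rootSet ℂ ⊆ {χ g} := by
    rw [← hrange]
    rintro _ ⟨σ, rfl⟩
    exact hfix σ
  have hinta : IsIntegral F a := (hK.isAlgebraic a).isIntegral
  have hsep : (minpoly F a).Separable := (minpoly.irreducible hinta).separable
  have hdeg : (minpoly F a).natDegree ≤ 1 := by
    rw [← card_rootSet_eq_natDegree hsep
      (IsAlgClosed.splits ((minpoly F a).map (algebraMap F ℂ)))]
    refine Fintype.card_le_one_iff.mpr fun x y => Subtype.ext ?_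
    rw [hsub x.2, hsub y.2]
  have hd1 : (minpoly F a).natDegree = 1 := le_antisymm hdeg (minpoly.natDegree_pos hinta)
  obtain ⟨q, hq⟩ := minpoly.mem_range_of_degree_eq_one F a
    (by rw [degree_eq_natDegree (minpoly.ne_zero hinta), hd1]; rfl)
  have : ((algebraMap F L q : L) : ℂ) = χ g := by rw [hq]
  rw [← this]
  exact q.2

end CfsgLib.CharTheory
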