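/-
Ordinary character theory, part 20: invariant characters and elementary subgroups (Dade).
-/
import Cfsg.Agent.Lib.CharTheory.Brauer

namespace CfsgLib.CharTheory

open Cfsg
open scoped ComplexConjugate

universe u

/-- An invariant function summed over a set with `p`-power orbits. -/
theorem dvd_sum_of_fixed {Γ X : Type*} [Group Γ] [MulAction Γ X] [Fintype X] {p k : ℕ}
    (hp : p.Prime) (hstab : ∀ x : X, (MulAction.stabilizer Γ x).index ∣ p ^ k) (f : X → ℕ)
    (hf : ∀ (g : Γ) (x : X), f (g • x) = f x)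
    (hfix : ∀ x : X, (∀ g : Γ, g • x = x) → p ∣ f x) : p ∣ ∑ x, f x := by
  classical
  rw [← Finset.sum_fiberwise Finset.univ (fun x : X => MulAction.orbit Γ x) f]
  refine Finset.dvd_sum fun S _ => ?_
  by_cases hS : ∃ x : X, MulAction.orbit Γ x = S
  · obtain ⟨x, rfl⟩ := hS
    have hfil : Finset.univ.filter (fun y : X => MulAction.orbit Γ y = MulAction.orbit Γ x) =
        (MulAction.orbit Γ x).toFinset := by
      ext y
      simp [MulAction.orbit_eq_iff]
    rw [hfil, Finset.sum_eq_card_nsmul (b := f x) (fun y hy => by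
      obtain ⟨g, rfl⟩ := MulAction.mem_orbit_iff.mp (Set.mem_toFinset.mp hy)
      exact hf g x), smul_eq_mul, Set.toFinset_card, ← Nat.card_eq_fintype_card, Nat.card_coe_set_eq,
      ← MulAction.index_stabilizer]
    obtain ⟨i, -, hi⟩ := (Nat.dvd_prime_pow hp).mp (hstab x)
    rcases Nat.eq_zero_or_pos i with rfl | hi0
    · refine Dvd.dvd.mul_left (hfix x fun g => ?_) _
      have : MulAction.stabilizer Γ x = ⊤ := Subgroup.index_eq_one.mp (by simpa using hi)
      exact MulAction.mem_stabilizer_iff.mp (this ▸ Subgroup.mem_top g)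
    · rw [hi]; exact Dvd.dvd.mul_right (dvd_pow_self p hi0.ne') _
  · push Not at hS
    rw [Finset.filter_false_of_mem fun x _ => hS x, Finset.sum_empty]
    exact dvd_zero p

variable {G : Type u} [Group G]

/-- Conjugation of a subgroup of the form `E ⊓ N` by elements of `E`. -/
def interConj (E N : Subgroup G) [hN : N.Normal] (g : E) : ↥(E ⊓ N) →* ↥(E ⊓ N) where
  toFun x := ⟨(g : G) * x * (g : G)⁻¹,
    ⟨E.mul_mem (E.mul_mem g.2 x.2.1) (E.inv_mem g.2), hN.conj_mem (x : G) x.2.2 g⟩⟩
  map_one' := Subtype.ext (by simp)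
  map_mul' x y := Subtype.ext (by simp [mul_assoc])

theorem interConj_apply (E N : Subgroup G) [N.Normal] (g : E) (x : ↥(E ⊓ N)) :
    (interConj E N g x : G) = (g : G) * x * (g : G)⁻¹ := rfl

theorem interConj_bijective (E N : Subgroup G) [N.Normal] (g : E) :
    Function.Bijective (interConj E N g) :=
  ⟨fun x y h => Subtype.ext (by
      simpa [interConj_apply] using congrArg (fun z : ↥(E ⊓ N) => (z : G)) h),
    fun x => ⟨interConj E N g⁻¹ x, Subtype.ext (by simp [interConj_apply, mul_assoc])⟩⟩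

/-- Dade's lemma: an invariant character is detected on an elementary subgroup. -/
theorem dade_elementary [Fintype G] {p : ℕ} (hp : p.Prime) (N : Subgroup G) [hN : N.Normal]
    {k : ℕ} (hind : N.index = p ^ k) {ϑ : N → ℂ} (hϑ : IsIrrCharacter N ϑ)
    (hinv : ∀ (g : G) (n : N), ϑ ⟨g * n * g⁻¹, hN.conj_mem (n : G) n.2 g⟩ = ϑ n) :
    ∃ (E : Subgroup G) (φ : ↥(E ⊓ N) → ℂ), IsElementary p E ∧ E ⊔ N = ⊤ ∧
      IsIrrCharacter ↥(E ⊓ N) φ ∧ (∀ g : E, φ ∘ interConj E N g = φ) ∧
      ∃ m : ℕ, ¬ p ∣ m ∧ (Nat.card ↥(E ⊓ N) : ℂ)⁻¹ *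
        ∑ᶠ x : ↥(E ⊓ N), ϑ ⟨(x : G), x.2.2⟩ * conj (φ x) = (m : ℂ) := by
  classical
  by_contra hcon
  have := Fintype.ofFinite N
  let I : (G → ℂ) → ℂ := fun f => classInner (fun n : N => ϑ n * f n) ϑ
  have key : ∀ (E : Subgroup G) (ψ : E → ℂ), IsElementary p E → IsCharacter E ψ →
      ∃ z : ℤ, I (indFun E ψ) = z ∧ (p : ℤ) ∣ z := by
    intro E ψ hE hψ
    have := Fintype.ofFinite ↥(E ⊓ N)
    let j : ↥(E ⊓ N) →* N := Subgroup.inclusion inf_le_right
    let i : ↥(E ⊓ N) →* E := Subgroup.inclusion inf_le_left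
    have hA := isCharacter_mul (isCharacter_comp (isCharacter_of_irr hϑ) j) (isCharacter_comp hψ i)
    have hB := isCharacter_comp (isCharacter_of_irr hϑ) j
    obtain ⟨J, hJ⟩ := classInner_char_nat hA hB
    have hI : I (indFun E ψ) = ((E ⊔ N).index : ℂ) * (J : ℂ) := by
      rw [← hJ]
      simp only [I, classInner]
      have hterm : ∀ x : G, ∑ n : N, ϑ n * extendByZero E ψ (x⁻¹ * (n : G) * x) * conj (ϑ n) =
          ∑ m : ↥(E ⊓ N), ϑ (j m) * ψ (i m) * conj (ϑ (j m)) := by
        intro x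
        rw [← Equiv.sum_comp (MulAut.conjNormal x : N ≃* N).toEquiv]
        have e : ∀ n : N, ϑ ((MulAut.conjNormal x : N ≃* N).toEquiv n) *
            extendByZero E ψ (x⁻¹ * ((MulAut.conjNormal x : N ≃* N).toEquiv n : G) * x) *
              conj (ϑ ((MulAut.conjNormal x : N ≃* N).toEquiv n)) =
            if h : (n : G) ∈ E then ϑ n * ψ ⟨n, h⟩ * conj (ϑ n) else 0 := by
          intro n
          have e1 : ((MulAut.conjNormal x : N ≃* N).toEquiv n) =
              ⟨x * n * x⁻¹, hN.conj_mem (n : G) n.2 x⟩ := Subtype.ext (MulAut.conjNormal_apply x n)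
          rw [e1, hinv x n, show x⁻¹ * (x * (n : G) * x⁻¹) * x = (n : G) by group]
          split_ifs with h
          · rw [extendByZero_of_mem _ _ h]
          · rw [extendByZero_of_not_mem _ _ h]; simp
        rw [Finset.sum_congr rfl fun n _ => e n]
        refine Eq.symm (Fintype.sum_of_injective j (Subgroup.inclusion_injective _) _ _ ?_ ?_)
        · intro n hn
          exact dif_neg fun h => hn ⟨⟨(n : G), h, n.2⟩, rfl⟩
        · intro m
          rw [dif_pos (show ((j m : N) : G) ∈ E from m.2.1)]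
          rfl
      have hcomb : ∑ n : N, ϑ n * indFun E ψ (n : G) * conj (ϑ n) =
          (Nat.card E : ℂ)⁻¹ * ((Nat.card G : ℂ) *
            ∑ m : ↥(E ⊓ N), ϑ (j m) * ψ (i m) * conj (ϑ (j m))) := by
        have e : ∀ n : N, ϑ n * indFun E ψ (n : G) * conj (ϑ n) =
            (Nat.card E : ℂ)⁻¹ * ∑ x : G, ϑ n * extendByZero E ψ (x⁻¹ * (n : G) * x) * conj (ϑ n) :=
          fun n => by
            simp only [indFun, Finset.mul_sum, Finset.sum_mul]
            exact Finset.sum_congr rfl fun x _ => by ring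
        rw [Finset.sum_congr rfl fun n _ => e n, ← Finset.mul_sum, Finset.sum_comm,
          Finset.sum_congr rfl fun x _ => hterm x, Finset.sum_const, Finset.card_univ,
          ← Nat.card_eq_fintype_card, nsmul_eq_mul]
      rw [hcomb]
      simp only [Pi.mul_apply, Function.comp_apply]
      have hcard : (Nat.card G : ℂ) * Nat.card ↥(E ⊓ N) =
          ((E ⊔ N).index : ℂ) * (Nat.card N * Nat.card E) := by
        have h1 : Nat.card G = (E ⊔ N).index * Nat.card ↥(E ⊔ N) :=
          (Subgroup.index_mul_card _).symm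
        have h2 : N.relIndex (E ⊔ N) = N.relIndex E := by rw [Subgroup.relIndex_sup_right]
        have h3 : N.relIndex (E ⊔ N) * Nat.card N = Nat.card ↥(E ⊔ N) := by
          rw [mul_comm, ← Subgroup.relIndex_bot_left, ← Subgroup.relIndex_bot_left]
          exact Subgroup.relIndex_mul_relIndex ⊥ N (E ⊔ N) bot_le le_sup_right
        have h4 : (E ⊓ N).relIndex E * Nat.card ↥(E ⊓ N) = Nat.card E := by
          rw [mul_comm, ← Subgroup.relIndex_bot_left, ← Subgroup.relIndex_bot_left]
          exact Subgroup.relIndex_mul_relIndex ⊥ (E ⊓ N) E bot_le inf_le_left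
        rw [Subgroup.inf_relIndex_left] at h4
        rw [← Nat.cast_mul, ← Nat.cast_mul, ← Nat.cast_mul, Nat.cast_inj, h1, ← h3, h2, ← h4]
        ring
      have hN0 : (Nat.card N : ℂ) ≠ 0 := Nat.cast_ne_zero.mpr Nat.card_pos.ne'
      have hE0 : (Nat.card E : ℂ) ≠ 0 := Nat.cast_ne_zero.mpr Nat.card_pos.ne'
      have hM0 : (Nat.card ↥(E ⊓ N) : ℂ) ≠ 0 := Nat.cast_ne_zero.mpr Nat.card_pos.ne'
      field_simp
      linear_combination (∑ m : ↥(E ⊓ N), ϑ (j m) * ψ (i m) * conj (ϑ (j m))) * hcard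
    refine ⟨(((E ⊔ N).index * J : ℕ) : ℤ), by rw [hI]; push_cast; rfl, ?_⟩
    rw [Int.natCast_dvd_natCast]
    by_cases htop : E ⊔ N = ⊤
    swap
    · refine Dvd.dvd.mul_right ?_ _
      obtain ⟨i, -, hi⟩ := (Nat.dvd_prime_pow hp).mp
        (hind ▸ Subgroup.index_dvd_of_le (le_sup_right : N ≤ E ⊔ N))
      rcases Nat.eq_zero_or_pos i with rfl | hi0
      · exact absurd (Subgroup.index_eq_one.mp (by simpa using hi)) htop
      · rw [hi]; exact dvd_pow_self p hi0.ne'
    refine Dvd.dvd.mul_left ?_ _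
    -- expand over the irreducible characters of `E ⊓ N`
    have : Fintype (IrrCharacter ↥(E ⊓ N)) := Fintype.ofFinite _
    choose a ha using fun φ : IrrCharacter ↥(E ⊓ N) =>
      classInner_char_nat hA (isCharacter_of_irr φ.2)
    choose b hb using fun φ : IrrCharacter ↥(E ⊓ N) =>
      classInner_char_nat hB (isCharacter_of_irr φ.2)
    have hJ' : J = ∑ φ, a φ * b φ := by
      apply Nat.cast_injective (R := ℂ)
      rw [← hJ, classInner_eq_sum_irr (isClassFunction_char hA)]
      push_cast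
      refine Finset.sum_congr (by ext; simp) fun φ _ => ?_
      rw [ha, ← classInner_comm, hb, Complex.conj_natCast]
    rw [hJ']
    let act : MulAction E (IrrCharacter ↥(E ⊓ N)) :=
      { smul := fun g φ => ⟨(φ : ↥(E ⊓ N) → ℂ) ∘ interConj E N g⁻¹,
          isIrrCharacter_comp_surjective φ.2 _ (interConj_bijective E N g⁻¹).2⟩
        one_smul := fun φ => Subtype.ext (funext fun x => by
          show (φ : ↥(E ⊓ N) → ℂ) (interConj E N (1 : E)⁻¹ x) = _
          exact congrArg _ (Subtype.ext (by simp [interConj_apply])))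
        mul_smul := fun g h φ => Subtype.ext (funext fun x => by
          show (φ : ↥(E ⊓ N) → ℂ) (interConj E N (g * h)⁻¹ x) =
            (φ : ↥(E ⊓ N) → ℂ) (interConj E N h⁻¹ (interConj E N g⁻¹ x))
          exact congrArg _ (Subtype.ext (by simp [interConj_apply, mul_assoc]))) }
    have hact : ∀ (g : E) (φ : IrrCharacter ↥(E ⊓ N)),
        ((g • φ : IrrCharacter ↥(E ⊓ N)) : ↥(E ⊓ N) → ℂ) = (φ : ↥(E ⊓ N) → ℂ) ∘ interConj E N g⁻¹ :=
      fun g φ => rfl
    have hAinv : ∀ (g : E) (x : ↥(E ⊓ N)),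
        ϑ (j (interConj E N g x)) = ϑ (j x) ∧ ψ (i (interConj E N g x)) = ψ (i x) := fun g x =>
      ⟨hinv g (j x), by
        rw [show i (interConj E N g x) = g * i x * g⁻¹ from Subtype.ext rfl]
        exact isClassFunction_char hψ (i x) g⟩
    have hinner : ∀ (F : ↥(E ⊓ N) → ℂ), (∀ g x, F (interConj E N g x) = F x) →
        ∀ (g : E) (φ : IrrCharacter ↥(E ⊓ N)),
          classInner F ((g • φ : IrrCharacter ↥(E ⊓ N)) : ↥(E ⊓ N) → ℂ) =
            classInner F (φ : ↥(E ⊓ N) → ℂ) := by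
      intro F hF g φ
      rw [hact]
      simp only [classInner, Function.comp_apply]
      congr 1
      exact Fintype.sum_bijective _ (interConj_bijective E N g⁻¹) _ _ fun x => by rw [hF]
    refine dvd_sum_of_fixed (Γ := E) hp (k := k) (fun φ => ?_) _ (fun g φ => ?_) (fun φ hfix => ?_)
    · refine dvd_trans (Subgroup.index_dvd_of_le (H := N.subgroupOf E) ?_) ?_
      · intro g hg
        rw [MulAction.mem_stabilizer_iff]
        refine Subtype.ext (funext fun x => ?_)
        rw [hact, Function.comp_apply]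
        rw [show interConj E N g⁻¹ x =
            (⟨(g : G), g.2, hg⟩ : ↥(E ⊓ N))⁻¹ * x * (⟨(g : G), g.2, hg⟩ : ↥(E ⊓ N))⁻¹⁻¹ from
          Subtype.ext (by simp [interConj_apply])]
        exact isClassFunction_irr φ.2 x _
      · exact hind ▸ Subgroup.relIndex_dvd_index_of_normal N E
    · have e1 : a (g • φ) = a φ := by
        apply Nat.cast_injective (R := ℂ)
        rw [← ha, ← ha]
        exact hinner _ (fun g x => by simp [hAinv g x]) g φ
      have e2 : b (g • φ) = b φ := by
        apply Nat.cast_injective (R := ℂ)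
        rw [← hb, ← hb]
        exact hinner _ (fun g x => by simp [hAinv g x]) g φ
      simp only [e1, e2]
    · refine Dvd.dvd.mul_left ?_ _
      by_contra hnd
      refine hcon ⟨E, φ, hE, htop, φ.2, fun g => ?_, b φ, hnd, ?_⟩
      · have h := congrArg (fun z : IrrCharacter ↥(E ⊓ N) => (z : ↥(E ⊓ N) → ℂ)) (hfix g⁻¹)
        simpa [hact] using h
      · rw [← hb φ, finsum_eq_sum_of_fintype]
        rfl
  obtain ⟨m0, hm0, hmem⟩ := const_mem_elemSpan (G := G) hp
  suffices ∀ f ∈ elemSpan p G, ∃ z : ℤ, I f = z ∧ (p : ℤ) ∣ z by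
    obtain ⟨z, hz, hdvd⟩ := this _ hmem
    refine hm0 ?_
    have h1 : I (fun _ : G => (m0 : ℂ)) = m0 := by
      simp only [I]
      rw [show (fun n : N => ϑ n * (m0 : ℂ)) = (m0 : ℂ) • ϑ from
        funext fun n => by simp [mul_comm], classInner_smul_left, classInner_irr_self hϑ, mul_one]
    rw [h1] at hz
    exact (Int.cast_inj.mp hz) ▸ hdvd
  intro f hf
  induction hf using AddSubgroup.closure_induction with
  | mem f hf =>
    obtain ⟨E, ψ, hE, hψ, rfl⟩ := hf
    exact key E ψ hE hψ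
  | zero =>
    refine ⟨0, ?_, dvd_zero _⟩
    simp [I, classInner]
  | add f g _ _ h h' =>
    obtain ⟨z, hz, hd⟩ := h
    obtain ⟨z', hz', hd'⟩ := h'
    refine ⟨z + z', ?_, dvd_add hd hd'⟩
    rw [Int.cast_add, ← hz, ← hz']
    simp only [I, ← classInner_add_left]
    congr 1
    funext n
    simp [mul_add]
  | neg f _ h =>
    obtain ⟨z, hz, hd⟩ := h
    refine ⟨-z, ?_, hd.neg_right⟩
    rw [Int.cast_neg, ← hz]
    simp only [I, ← classInner_neg_left]
    congr 1
    funext n
    simp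

end CfsgLib.CharTheory
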