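/-
Ordinary character theory, part 23: degrees and normal `p`-complements (Thompson).
-/
import Cfsg.Agent.Lib.CharTheory.Dade
import Cfsg.Agent.Lib.CharTheory.ExtCriteria
import Cfsg.Agent.Lib.PComplement

namespace CfsgLib.CharTheory

open Cfsg
open scoped ComplexConjugate

universe u

variable {G : Type u} [Group G]

theorem exists_irr_above [Fintype G] {N : Subgroup G} [Fintype N] {θ : N → ℂ}
    (hθ : IsIrrCharacter N θ) :
    ∃ χ : G → ℂ, IsIrrCharacter G χ ∧ classInner (fun n : N => χ n) θ ≠ 0 := by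
  have hne : indFun N θ ≠ 0 := fun h => by
    have h1 := congrFun h 1
    rw [indFun_apply_one, Pi.zero_apply, mul_eq_zero] at h1
    exact h1.elim (Nat.cast_ne_zero.mpr Subgroup.index_ne_zero_of_finite) (irr_ne_zero hθ)
  obtain ⟨χ, hχ, hc⟩ := exists_constituent (isCharacter_indFun N (isCharacter_of_irr hθ)) hne
  refine ⟨χ, hχ, fun h => hc ?_⟩
  rw [frobenius_reciprocity N θ (isClassFunction_irr hχ), ← classInner_comm, h, map_zero]

/-- Thompson: if `p` divides every nonlinear degree, there is a normal `p`-complement. -/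
theorem pResidual_coprime_of_degrees [Finite G] {p : ℕ} [Fact p.Prime]
    (h : ∀ (χ : G → ℂ) (d : ℕ), IsIrrCharacter G χ → χ 1 = d → 1 < d → p ∣ d) :
    (Nat.card (pResidual p G)).Coprime p := by
  classical
  have hp : p.Prime := Fact.out
  have := Fintype.ofFinite G
  set K := pResidual p G with hK
  have := Fintype.ofFinite K
  refine (hp.coprime_iff_not_dvd.mpr fun hdvd => ?_).symm
  have hA : ¬ p ∣ (commutator K).index := by
    intro hpA
    have hcard : p ∣ Nat.card (Abelianization K) := hpA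
    obtain ⟨m, hm, hm'⟩ : ∃ m, Nat.card (Abelianization K) =
        p ^ (Nat.card (Abelianization K)).factorization p * m ∧ ¬ p ∣ m :=
      ⟨_, (Nat.ordProj_mul_ordCompl_eq_self _ p).symm, Nat.not_dvd_ordCompl hp Nat.card_pos.ne'⟩
    let π : K →* Abelianization K := (powMonoidHom m).comp Abelianization.of
    have htop : pResidual p K ≤ π.ker := pResidual_le fun g hg => by
      have h1 : orderOf (Abelianization.of g) ∣ p ^ (Nat.card (Abelianization K)).factorization p * m :=
        hm ▸ orderOf_dvd_natCard _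
      have h2 : Nat.Coprime (orderOf (Abelianization.of g)) p :=
        hg.coprime_dvd_left (orderOf_map_dvd _ _)
      exact orderOf_dvd_iff_pow_eq_one.mp ((h2.pow_right _).dvd_of_dvd_mul_left h1)
    have htop2 : (⊤ : Subgroup K) ≤ π.ker := (pResidual_idem (p := p) (G := G)).ge.trans htop
    obtain ⟨a, ha⟩ := exists_prime_orderOf_dvd_card' (G := Abelianization K) p hcard
    obtain ⟨g, rfl⟩ : ∃ g, Abelianization.of g = a := QuotientGroup.mk'_surjective _ a
    have h1 : Abelianization.of g ^ m = 1 := htop2 (Subgroup.mem_top g)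
    exact hm' (ha ▸ orderOf_dvd_of_pow_eq_one h1)
  obtain ⟨k, hk⟩ : ∃ k, K.index = p ^ k := by
    have hq : IsPGroup p (G ⧸ K) := isPGroup_quotient_of_pResidual_le le_rfl
    obtain ⟨k, hk⟩ := hq.exists_card_eq
    exact ⟨k, hk⟩
  let act : MulAction G (IrrCharacter K) :=
    { smul := fun g θ => ⟨(θ : K → ℂ) ∘ (MulAut.conjNormal g⁻¹ : K ≃* K),
        isIrrCharacter_comp_surjective θ.2 (MulAut.conjNormal g⁻¹ : K ≃* K).toMonoidHom
          (MulAut.conjNormal g⁻¹ : K ≃* K).surjective⟩
      one_smul := fun θ => Subtype.ext (funext fun x => by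
        show (θ : K → ℂ) ((MulAut.conjNormal (1 : G)⁻¹ : K ≃* K) x) = _
        simp)
      mul_smul := fun g h θ => Subtype.ext (funext fun x => by
        show (θ : K → ℂ) ((MulAut.conjNormal (g * h)⁻¹ : K ≃* K) x) =
          (θ : K → ℂ) ((MulAut.conjNormal h⁻¹ : K ≃* K) ((MulAut.conjNormal g⁻¹ : K ≃* K) x))
        rw [mul_inv_rev, map_mul]; rfl) }
  have hact : ∀ (g : G) (θ : IrrCharacter K) (x : K),
      ((g • θ : IrrCharacter K) : K → ℂ) x = (θ : K → ℂ) ((MulAut.conjNormal g⁻¹ : K ≃* K) x) :=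
    fun _ _ _ => rfl
  choose d hd using fun θ : IrrCharacter K => char_one_eq_natCast (isCharacter_of_irr θ.2)
  let f : IrrCharacter K → ℕ := fun θ => if d θ = 1 then 0 else d θ ^ 2
  have hsum : Nat.card K = (∑ θ, f θ) + (commutator K).index := by
    rw [← card_linear, Nat.card_eq_fintype_card (α := {χ : IrrCharacter K // _}), Fintype.card_subtype,
      Finset.card_filter, ← Finset.sum_add_distrib]
    apply Nat.cast_injective (R := ℂ)
    rw [← sum_irr_degree_sq]
    push_cast
    refine Finset.sum_congr (by ext; simp) fun θ _ => ?_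
    have hiff : ((θ : K → ℂ) 1 = 1) ↔ d θ = 1 := by rw [hd]; exact Nat.cast_eq_one
    simp only [f, hiff]
    by_cases h1 : d θ = 1
    · simp [h1, hd]
    · simp [h1, hd]
  obtain ⟨θ, hfix, hθp⟩ : ∃ θ : IrrCharacter K, (∀ g : G, g • θ = θ) ∧ ¬ p ∣ f θ := by
    by_contra hcon
    push Not at hcon
    refine hA ((Nat.dvd_add_right (dvd_sum_of_fixed (Γ := G) hp (k := k) (fun θ => ?_) f (fun g θ => ?_)
      hcon)).mp (hsum ▸ hdvd))
    · refine dvd_trans (Subgroup.index_dvd_of_le (H := K) fun g hg => ?_) (hk ▸ dvd_rfl)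
      rw [MulAction.mem_stabilizer_iff]
      refine Subtype.ext (funext fun x => ?_)
      rw [hact, show (MulAut.conjNormal g⁻¹ : K ≃* K) x = (⟨g, hg⟩ : K)⁻¹ * x * (⟨g, hg⟩ : K)⁻¹⁻¹ from
        Subtype.ext (by rw [MulAut.conjNormal_apply]; simp)]
      exact isClassFunction_irr θ.2 x _
    · have : d (g • θ) = d θ := by
        apply Nat.cast_injective (R := ℂ)
        rw [← hd, ← hd, hact, map_one]
      simp only [f, this]
  have hd1 : d θ ≠ 1 := fun e => hθp (by simp [f, e])
  have hdp : ¬ p ∣ d θ := fun e => hθp (by simp [f, hd1]; exact dvd_pow e two_ne_zero)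
  have hinv : ∀ (g : G) (x : K), (θ : K → ℂ) ⟨g * x * g⁻¹,
      (inferInstance : K.Normal).conj_mem (x : G) x.2 g⟩ = (θ : K → ℂ) x := by
    intro g x
    have := congrFun (congrArg Subtype.val (hfix g⁻¹)) x
    rw [hact, inv_inv] at this
    rw [← this]
    exact congrArg _ (Subtype.ext (MulAut.conjNormal_apply g x).symm)
  obtain ⟨n, ρ, hρ, hρc⟩ := θ.2
  have hdet : ∀ (g : G) (x : K), detHom ρ (MulAut.conjNormal g x) = detHom ρ x := by
    intro g x
    apply Units.ext
    have h1 := congrFun (detChar_eq ρ) (MulAut.conjNormal g x)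
    have h2 := congrFun (detChar_eq ρ) x
    rw [hρc] at h1 h2
    rw [← h1, ← h2]
    let c : K ≃* K := MulAut.conjNormal g
    have h3 : detChar (θ : K → ℂ) = fun y => (detHom (ρ.comp c.toMonoidHom) y : ℂ) := by
      rw [← detChar_eq]
      congr 1
      funext y
      show _ = ρ.character (c y)
      rw [hρc]
      exact (hinv g y).symm.trans (congrArg _ (Subtype.ext (MulAut.conjNormal_apply g y).symm))
    have h4 := congrFun h3 x
    rw [h4]
    show (detChar (θ : K → ℂ)) (c x) = _
    rw [← hρc, detChar_eq]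
    simp only [coe_detHom]
    rfl
  have hcop : K.index.Coprime (orderOf (detHom ρ)) := by
    rw [hk]
    refine Nat.Coprime.pow_left k (hp.coprime_iff_not_dvd.mpr fun hpo => hA (hpo.trans ?_))
    refine orderOf_dvd_of_pow_eq_one (MonoidHom.ext fun x => ?_)
    rw [MonoidHom.pow_apply, MonoidHom.one_apply, ← Abelianization.lift_apply_of (f := detHom ρ) x,
      ← map_pow, show (Abelianization.of x) ^ (commutator K).index = 1 from pow_card_eq_one', map_one]
  obtain ⟨μ, hμ, -, -⟩ := exists_hom_extending_coprime (detHom ρ) hdet hcop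
  have hμd : ∀ x : K, (μ x : ℂ) = detChar (θ : K → ℂ) x := fun x => by
    rw [hμ, ← hρc, detChar_eq]
  obtain ⟨χ, hχ, hχK, -⟩ := exists_extension_det θ.2 hinv (hd θ)
    (hk ▸ (hp.coprime_iff_not_dvd.mpr hdp).pow_left k) μ hμd
  have hχ1 : χ 1 = (d θ : ℂ) := by
    have := hχK 1
    rw [OneMemClass.coe_one, hd] at this
    exact this
  have hd0 : d θ ≠ 0 := fun e => irr_ne_zero θ.2 (by rw [hd, e, Nat.cast_zero])
  exact hdp (h χ (d θ) hχ hχ1 (by omega))

/-- Degrees are all powers of `p` exactly when there is an abelian normal `p`-complement. -/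
theorem degrees_pow_iff [Finite G] {p : ℕ} (hp : p.Prime) :
    (∀ χ : IrrCharacter G, ∃ k : ℕ, (χ : G → ℂ) 1 = (p : ℂ) ^ k) ↔
      ∃ A : Subgroup G, A.Normal ∧ (∀ a ∈ A, ∀ b ∈ A, a * b = b * a) ∧
        Nat.Coprime (Nat.card A) p ∧ ∃ k : ℕ, A.index = p ^ k := by
  classical
  have := Fintype.ofFinite G
  have := Fact.mk hp
  constructor
  · intro h
    have hcop := pResidual_coprime_of_degrees (G := G) (p := p) fun χ d hχ hd h1 => by
      obtain ⟨k, hk⟩ := h ⟨χ, hχ⟩
      have e : d = p ^ k := by exact_mod_cast hd.symm.trans hk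
      subst e
      exact dvd_pow_self p fun h0 => by simp [h0] at h1
    refine ⟨pResidual p G, inferInstance, ?_, hcop, ?_⟩
    · have := Fintype.ofFinite (pResidual p G)
      suffices ∀ a b : pResidual p G, a * b = b * a from
        fun a ha b hb => congrArg Subtype.val (this ⟨a, ha⟩ ⟨b, hb⟩)
      refine commutative_iff_degree_one.mpr fun θ => ?_
      obtain ⟨χ, hχ, hc⟩ := exists_irr_above θ.2
      obtain ⟨k, hk⟩ := h ⟨χ, hχ⟩
      obtain ⟨e, he, -⟩ := degree_ratio_dvd hχ θ.2 hc
      obtain ⟨d, hd⟩ := char_one_eq_natCast (isCharacter_of_irr θ.2)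
      have hdk : d ∣ p ^ k := by
        have h2 : p ^ k = e * d := by
          rw [hd] at he
          exact_mod_cast hk.symm.trans he
        exact h2 ▸ dvd_mul_left d e
      obtain ⟨m, ρ, hρ, hρc⟩ := θ.2
      have hdc : d ∣ Nat.card (pResidual p G) := by
        have h3 := finrank_dvd_card ρ
        have h4 : d = Module.finrank ℂ (Fin m → ℂ) := by
          apply Nat.cast_injective (R := ℂ)
          rw [← hd, ← hρc, ρ.char_one]
        rwa [h4]
      have : d = 1 := Nat.eq_one_of_dvd_coprimes (hcop.pow_right k) hdc hdk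
      rw [hd, this, Nat.cast_one]
    · obtain ⟨k, hk⟩ := (isPGroup_quotient_of_pResidual_le (p := p) (G := G) le_rfl).exists_card_eq
      exact ⟨k, hk⟩
  · rintro ⟨A, hA, hab, -, k, hk⟩ χ
    obtain ⟨m, ρ, hρ, hρc⟩ := χ.2
    obtain ⟨i, -, hi⟩ := (Nat.dvd_prime_pow hp).mp (hk ▸ degree_dvd_index_of_abelian_normal ρ A hab)
    exact ⟨i, by rw [← hρc, ρ.char_one, hi, Nat.cast_pow]⟩

end CfsgLib.CharTheory
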