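import Cfsg.Agent.Lib.CharTheory.PrimeSeparationAux
import Cfsg.Agent.Lib.NormalizerExtension.TwoPrimes
import Cfsg.Agent.Lib.CharTheory.FeitNilpotent

/-!
# Commuting Sylow subgroups and the degrees in two principal blocks

For a `p`- and `q`-solvable group, the characters of `p'`-degree in the principal `p`-block have
degree prime to `q`, and symmetrically, exactly when some Sylow `p`- and `q`-subgroups commute.
-/

namespace CfsgLib.CharTheory.PrimeSep

open Cfsg CfsgLib CfsgLib.CharTheory CfsgLib.Blocks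
open scoped Pointwise commutatorElement

set_option autoImplicit false
set_option linter.unusedSectionVars false
set_option linter.style.haveILetI false

universe u

variable {G : Type u} [Group G] [Finite G] {p q : ℕ} [Fact p.Prime] [Fact q.Prime]

/-- Every character of `p'`-degree has `q'`-degree. -/
def DegSep (G : Type u) [Group G] (p q : ℕ) : Prop :=
  ∀ χ : IrrCharacter G, ¬ p ∣ charDegree (χ : G → ℂ) → ¬ q ∣ charDegree (χ : G → ℂ)

theorem charDegree_comp {H : Type u} [Group H] (f : G →* H) (χ : H → ℂ) :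
    charDegree (fun g => χ (f g)) = charDegree χ := by
  show ⌊(χ (f 1)).re⌋₊ = _
  rw [map_one]; rfl

theorem DegSep.of_surjective {H : Type u} [Group H] (h : DegSep G p q) {f : G →* H}
    (hf : Function.Surjective f) : DegSep H p q := fun χ hχ => by
  have e := charDegree_comp f (χ : H → ℂ)
  exact e ▸ h ⟨fun g => (χ : H → ℂ) (f g), isIrrCharacter_comp_surjective χ.2 f hf⟩ (e.symm ▸ hχ)

/-- Extension of an invariant character in the coprime case. -/
theorem exists_extension_coprime (K : Subgroup G) [hK : K.Normal] [Fintype K]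
    (hcop : (Nat.card K).Coprime K.index) (θ : IrrCharacter K)
    (hinv : ∀ g : G, conjNormFun K g (θ : K → ℂ) = (θ : K → ℂ)) :
    ∃ χ : G → ℂ, IsIrrCharacter G χ ∧ ∀ n : K, χ n = (θ : K → ℂ) n := by
  haveI := Fintype.ofFinite G
  obtain ⟨m, ρ, hρ, hρθ⟩ := id θ.2
  have hinv' : ∀ (g : G) (x : K), (θ : K → ℂ) ⟨g * x * g⁻¹, hK.conj_mem (x : G) x.2 g⟩ =
      (θ : K → ℂ) x := fun g x => congrFun (hinv g) x
  have hd : (θ : K → ℂ) 1 = (Module.finrank ℂ (Fin m → ℂ) : ℕ) := by
    rw [← hρθ, ρ.char_one]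
  have hcopd : K.index.Coprime (Module.finrank ℂ (Fin m → ℂ)) :=
    hcop.symm.coprime_dvd_right (finrank_dvd_card ρ)
  have hcopo : K.index.Coprime (orderOf (detHom ρ)) := by
    refine hcop.symm.coprime_dvd_right (orderOf_dvd_of_pow_eq_one (MonoidHom.ext fun x => ?_))
    rw [MonoidHom.pow_apply, MonoidHom.one_apply, ← map_pow, pow_card_eq_one', map_one]
  have hinvφ : ∀ (g : G) (x : K), detHom ρ (MulAut.conjNormal g x) = detHom ρ x := by
    intro g x
    apply Units.ext
    have h := detChar_eq (ρ.comp (MulAut.conjNormal g : K ≃* K).toMonoidHom :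
      Representation ℂ K (Fin m → ℂ))
    have e : Representation.character
        (ρ.comp (MulAut.conjNormal g : K ≃* K).toMonoidHom : Representation ℂ K (Fin m → ℂ)) =
        ρ.character := funext fun y => invariant_of_rep hρθ hinv' g y
    rw [e, detChar_eq ρ] at h
    exact (congrFun h x).symm
  obtain ⟨μ, hμ, -, -⟩ := exists_hom_extending_coprime (detHom ρ) hinvφ hcopo
  obtain ⟨χ, hχ, hχK, -⟩ := exists_extension_det θ.2 hinv' hd hcopd μ fun n => by
    rw [hμ, ← hρθ, detChar_eq]
  exact ⟨χ, hχ, hχK⟩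

/-- The hypothesis on the degrees passes to invariant characters of a normal `p'`-subgroup. -/
theorem not_dvd_of_invariant (hG : DegSep G p q) (O : Subgroup G) [O.Normal]
    (hO : ¬ p ∣ Nat.card O) (P : Sylow p G) (θ : IrrCharacter O)
    (hP : (P : Subgroup G) ≤ inertia O (θ : O → ℂ)) : ¬ q ∣ charDegree (θ : O → ℂ) := by
  classical
  haveI := Fintype.ofFinite G
  haveI := Fintype.ofFinite O
  have hp : p.Prime := Fact.out
  set S := O ⊔ (P : Subgroup G) with hS
  haveI := Fintype.ofFinite S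
  have hSI : S ≤ inertia O (θ : O → ℂ) := sup_le (le_inertia O (isClassFunction_irr θ.2)) hP
  set O' := O.subgroupOf S with hO'
  haveI : O'.Normal := Subgroup.normal_subgroupOf
  haveI := Fintype.ofFinite O'
  let e : O' ≃* O := Subgroup.subgroupOfEquivOfLe le_sup_left
  let θ' : IrrCharacter O' := ⟨fun x => (θ : O → ℂ) (e x),
    isIrrCharacter_comp_surjective θ.2 e.toMonoidHom e.surjective⟩
  have hcop : (Nat.card O').Coprime O'.index := by
    rw [hO', Nat.card_congr (Subgroup.subgroupOfEquivOfLe (le_sup_left : O ≤ S)).toEquiv]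
    obtain ⟨k, hk⟩ := IsPGroup.iff_card.1 P.2
    refine Nat.Coprime.coprime_dvd_right ?_ ((hp.coprime_iff_not_dvd.2 hO).symm.pow_right k)
    show O.relIndex S ∣ _
    rw [hS, sup_comm, Subgroup.relIndex_sup_right, ← hk]
    exact Subgroup.relIndex_dvd_card O (P : Subgroup G)
  obtain ⟨ξ, hξ, hξθ⟩ := exists_extension_coprime O' hcop θ' fun g => funext fun x =>
    congrFun ((mem_inertia O).1 (hSI g.2)) (e x)
  obtain ⟨d, -, hd⟩ := irr_degree_pos θ.2
  have hdθ : charDegree (θ : O → ℂ) = d := by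
    have := irr_charDegree_cast θ
    rw [hd] at this
    exact_mod_cast this
  have hξ1 : ξ 1 = (d : ℂ) := by
    rw [show ξ 1 = ξ ((1 : O') : S) from rfl, hξθ, ← hd]
    exact congrArg (θ : O → ℂ) (map_one e)
  have hind := isCharacter_indFun S (isCharacter_of_irr hξ)
  choose c hc using fun χ : IrrCharacter G => classInner_char_nat hind (isCharacter_of_irr χ.2)
  have hsum : S.index * d = ∑ χ : IrrCharacter G, c χ * charDegree (χ : G → ℂ) := by
    have h1 := congrFun (eq_sum_irr (indFun_isClassFunction S ξ)) 1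
    simp only [Finset.sum_apply, Pi.smul_apply, smul_eq_mul, hc, ← irr_charDegree_cast,
      indFun_apply_one, hξ1] at h1
    exact_mod_cast h1
  obtain ⟨χ, hχc, hχp⟩ : ∃ χ, c χ ≠ 0 ∧ ¬ p ∣ charDegree (χ : G → ℂ) := by
    by_contra hno
    push Not at hno
    have h2 : p ∣ S.index * d := hsum ▸ Finset.dvd_sum fun χ _ => by
      rcases eq_or_ne (c χ) 0 with h0 | h0
      · rw [h0, zero_mul]; exact dvd_zero p
      · exact dvd_mul_of_dvd_right (hno χ h0) _
    rcases hp.dvd_mul.1 h2 with h3 | h3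
    · exact P.not_dvd_index (h3.trans (Subgroup.index_dvd_of_le le_sup_right))
    · obtain ⟨m, ρ, hρ, hρθ⟩ := id θ.2
      have : d = Module.finrank ℂ (Fin m → ℂ) := by
        rw [← hρθ, ρ.char_one] at hd; exact_mod_cast hd.symm
      exact hO (h3.trans (this ▸ finrank_dvd_card ρ))
  have hres : classInner (fun x : S => (χ : G → ℂ) x) ξ ≠ 0 := by
    intro h0
    have h1 := hc χ
    rw [frobenius_reciprocity _ _ (isClassFunction_irr χ.2), ← classInner_comm, h0, map_zero] at h1
    exact hχc (by exact_mod_cast h1.symm)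
  have hR := isCharacter_sub_irr (isCharacter_restrict (isCharacter_of_irr χ.2) S) hξ hres
  have hne : classInner (fun x : O => (χ : G → ℂ) x) (θ : O → ℂ) ≠ 0 := by
    obtain ⟨n, hn⟩ := classInner_char_nat (isCharacter_restrict hR O') (isCharacter_of_irr θ'.2)
    have h2 : classInner (fun x : O' => (χ : G → ℂ) ((x : S) : G)) (θ' : O' → ℂ) = (n : ℂ) + 1 := by
      rw [show (fun x : O' => (χ : G → ℂ) ((x : S) : G)) =
        (fun x : O' => ((fun y : S => (χ : G → ℂ) y) - ξ) x) + (θ' : O' → ℂ) from funext fun x => by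
          simp [← hξθ x]]
      rw [classInner_add_left, hn, classInner_irr_self θ'.2]
    rw [← classInner_subgroupOf O le_sup_left (fun y : S => (χ : G → ℂ) y) (θ : O → ℂ)]
    refine fun h0 => ?_
    rw [show (fun x : O' => (θ : O → ℂ) ⟨((x : S) : G), Subgroup.mem_subgroupOf.mp x.2⟩) =
      (θ' : O' → ℂ) from rfl] at h0
    rw [h0] at h2
    exact Nat.succ_ne_zero n (by exact_mod_cast h2.symm)
  intro hq
  apply hG χ hχp
  obtain ⟨k, hk⟩ := classInner_char_nat (isCharacter_restrict (isCharacter_of_irr χ.2) O)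
    (isCharacter_of_irr θ.2)
  have h1 := clifford_degree O χ.2 θ.2 hne
  rw [hk, hd, ← irr_charDegree_cast] at h1
  have h2 : charDegree (χ : G → ℂ) = k * (inertia O (θ : O → ℂ)).index * d := by exact_mod_cast h1
  rw [h2]
  exact dvd_mul_of_dvd_right (hdθ ▸ hq) _

/-- In a nilpotent group a normal subgroup is not generated by a smaller one and its commutators. -/
theorem eq_of_le_sup_commutator {P : Type u} [Group P] [Group.IsNilpotent P] (U N : Subgroup P)
    [U.Normal] [N.Normal] (hUN : U ≤ N) (h : N ≤ U ⊔ ⁅N, (⊤ : Subgroup P)⁆) : N = U := by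
  have key : ∀ k, N ≤ U ⊔ (⊤ : Subgroup P).lowerCentralSeries k := by
    intro k
    induction k with
    | zero => simp
    | succ k ih =>
      haveI : ((⊤ : Subgroup P).lowerCentralSeries (k + 1)).Normal := inferInstance
      refine h.trans (sup_le le_sup_left ?_)
      rw [Subgroup.commutator_le]
      intro n hn x _
      obtain ⟨a, ha, b, hb, rfl⟩ := Subgroup.mem_sup_of_normal_right.1 (ih hn)
      rw [show ⁅a * b, x⁆ = a * ⁅b, x⁆ * a⁻¹ * ⁅a, x⁆ by simp only [commutatorElement_def]; group]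
      refine mul_mem (Subgroup.mem_sup_right ((inferInstance :
        ((⊤ : Subgroup P).lowerCentralSeries (k + 1)).Normal).conj_mem _ ?_ a)) (Subgroup.mem_sup_left ?_)
      · exact Subgroup.commutator_mem_commutator hb (Subgroup.mem_top x)
      · rw [commutatorElement_def, mul_assoc, mul_assoc]
        refine mul_mem ha ?_
        rw [← mul_assoc]
        exact (inferInstance : U.Normal).conj_mem _ (inv_mem ha) x
  obtain ⟨k, hk⟩ := (Subgroup.nilpotent_iff_lowerCentralSeries).1 (inferInstance : Group.IsNilpotent P)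
  refine le_antisymm ?_ hUN
  have := key k
  rwa [hk, sup_bot_eq] at this

/-- A linear character of a normal subgroup of a `p`-group, fixed by the group and trivial on a
given proper normal subgroup. -/
theorem exists_fixed_linear (P N U : Subgroup G) (hP : IsPGroup p P) (hNP : N ≤ P)
    [N.Normal] (hUN : U ≤ N) (hUP : P ≤ Subgroup.normalizer (U : Set G)) (hne : U ≠ N)
    (hab : ∀ a ∈ N, ∀ b ∈ N, a * b = b * a) :
    ∃ lam : N →* ℂˣ, lam ≠ 1 ∧ (∀ u : N, (u : G) ∈ U → lam u = 1) ∧
      ∀ x ∈ P, ∀ n n' : N, (n' : G) = x * n * x⁻¹ → lam n' = lam n := by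
  classical
  haveI : Group.IsNilpotent P := hP.isNilpotent
  set U' := U.subgroupOf P
  set N' := N.subgroupOf P
  haveI : N'.Normal := Subgroup.normal_subgroupOf
  haveI : U'.Normal := (Subgroup.normal_subgroupOf_iff_le_normalizer (hUN.trans hNP)).2 hUP
  set D' := U' ⊔ ⁅N', (⊤ : Subgroup P)⁆ with hD'
  set D := (D'.map P.subtype).subgroupOf N with hD
  have hD'N : D' ≤ N' := sup_le (fun x hx => hUN hx) (Subgroup.commutator_le_left N' ⊤)
  have hDtop : D ≠ ⊤ := by
    intro ht
    refine hne (le_antisymm hUN fun x hx => ?_)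
    have h1 : N' ≤ D' := fun y hy => by
      have h2 : (⟨(y : G), hy⟩ : N) ∈ D := ht ▸ Subgroup.mem_top _
      obtain ⟨z, hz, hze⟩ := h2
      exact (Subtype.ext hze : z = y) ▸ hz
    have h3 := eq_of_le_sup_commutator U' N' (fun y hy => hUN hy) h1
    have h4 : (⟨x, hNP hx⟩ : P) ∈ N' := hx
    rw [h3] at h4
    exact h4
  haveI hDn : D.Normal := ⟨fun a ha b => by
    rwa [show b * a * b⁻¹ = a from Subtype.ext (by
      show (b : G) * a * (b : G)⁻¹ = a
      rw [hab b b.2 a a.2, mul_inv_cancel_right])]⟩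
  obtain ⟨g, hg⟩ := not_forall.1 fun hall : ∀ g, g ∈ D => hDtop (eq_top_iff.2 fun g _ => hall g)
  haveI := Fintype.ofFinite N
  obtain ⟨θ, hθD, hθg, hθdeg⟩ := CfsgLib.NormalizerExtension.exists_detect D ⊤
    (fun a _ b _ => by
      rw [show a * b * a⁻¹ * b⁻¹ = 1 from Subtype.ext (by
        show (a : G) * b * (a : G)⁻¹ * (b : G)⁻¹ = 1
        rw [hab a a.2 b b.2]; group)]
      exact one_mem D) hg
  rw [Subgroup.index_top, Nat.dvd_one] at hθdeg
  have h1 : (θ : N → ℂ) 1 = 1 := by rw [← irr_charDegree_cast, hθdeg, Nat.cast_one]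
  obtain ⟨lam, hlam⟩ := exists_hom_of_degree_one (isCharacter_of_irr θ.2) h1
  have hker : ∀ d ∈ D, lam d = 1 := fun d hd => Units.ext (by
    have := hθD d hd
    rw [hlam] at this
    simpa using this)
  refine ⟨lam, fun h => hθg (by rw [hlam, h]; simp), fun u hu => hker u ?_, fun x hx n n' e => ?_⟩
  · exact ⟨⟨u, hNP u.2⟩, Subgroup.mem_sup_left hu, rfl⟩
  · have hd : n⁻¹ * n' ∈ D := by
      refine ⟨(⟨n, hNP n.2⟩ : P)⁻¹ * (⟨x, hx⟩ * ⟨n, hNP n.2⟩ * (⟨x, hx⟩ : P)⁻¹), ?_, ?_⟩
      · refine Subgroup.mem_sup_right ?_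
        rw [show (⟨n, hNP n.2⟩ : P)⁻¹ * (⟨x, hx⟩ * ⟨n, hNP n.2⟩ * (⟨x, hx⟩ : P)⁻¹) =
          ⁅(⟨n, hNP n.2⟩ : P)⁻¹, ⟨x, hx⟩⁆ by simp only [commutatorElement_def]; group]
        exact Subgroup.commutator_mem_commutator (inv_mem (show (⟨n, hNP n.2⟩ : P) ∈ N' from n.2))
          (Subgroup.mem_top _)
      · show (n : G)⁻¹ * (x * n * x⁻¹) = (n : G)⁻¹ * (n' : G)
        rw [e]
    have := hker _ hd
    rwa [map_mul, map_inv, inv_mul_eq_one, eq_comm] at this

/-- A linear character of an abelian normal subgroup with a complement, fixed by a Sylow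
`p`-subgroup, has stabiliser of `q'`-index. -/
theorem not_dvd_index_inertia (hG : DegSep G p q) (N H : Subgroup G) [N.Normal]
    (hsup : N ⊔ H = ⊤) (hinf : N ⊓ H = ⊥) (hab : ∀ a ∈ N, ∀ b ∈ N, a * b = b * a) (lam : N →* ℂˣ)
    (P : Sylow p G) (hPfix : (P : Subgroup G) ≤ inertia N (fun n : N => (lam n : ℂ))) :
    ¬ q ∣ (inertia N (fun n : N => (lam n : ℂ))).index := by
  classical
  haveI := Fintype.ofFinite G
  haveI := Fintype.ofFinite N
  set θ : N → ℂ := fun n => (lam n : ℂ) with hθ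
  have hirr : IsIrrCharacter N θ := isIrrCharacter_linear lam
  set T := inertia N θ with hT
  haveI := Fintype.ofFinite T
  have hNT : N ≤ T := le_inertia N (isClassFunction_irr hirr)
  have hdec : ∀ t : G, ∃ n : N, (n : G)⁻¹ * t ∈ H := by
    intro t
    have ht : t ∈ N ⊔ H := hsup ▸ Subgroup.mem_top t
    obtain ⟨n, hn, h, hh, rfl⟩ := Subgroup.mem_sup_of_normal_left.1 ht
    exact ⟨⟨n, hn⟩, by simpa using hh⟩
  choose f hf using hdec
  have huniq : ∀ (t : G) (n : N), (n : G)⁻¹ * t ∈ H → f t = n := fun t n hn => by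
    have h1 : (f t : G)⁻¹ * n ∈ N ⊓ H :=
      Subgroup.mem_inf.2 ⟨mul_mem (inv_mem (f t).2) n.2, by simpa [mul_assoc] using mul_mem (hf t) (inv_mem hn)⟩
    rw [hinf, Subgroup.mem_bot, inv_mul_eq_one] at h1
    exact Subtype.ext h1
  let μ : T →* ℂˣ :=
    { toFun := fun t => lam (f (t : G))
      map_one' := by
        rw [huniq ((1 : T) : G) 1 (by simp)]
        exact map_one lam
      map_mul' := fun a b => by
        set c : N := ⟨((f a : G)⁻¹ * a) * f b * ((f a : G)⁻¹ * a)⁻¹,
          (inferInstance : N.Normal).conj_mem _ (f b).2 _⟩ with hc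
        have hab' : f ((a * b : T) : G) = f a * c := huniq _ _ (by
          have := mul_mem (hf a) (hf b)
          convert this using 1
          simp only [hc, Subgroup.coe_mul]
          group)
        rw [hab', map_mul]
        congr 1
        have hh : (f a : G)⁻¹ * a ∈ T := mul_mem (inv_mem (hNT (f a).2)) a.2
        exact Units.ext (congrFun ((mem_inertia N).1 hh) (f b)) }
  have hψ : IsIrrCharacter T (fun t : T => (μ t : ℂ)) := isIrrCharacter_linear μ
  have hres : classInner (fun n : N => ((μ ⟨n, hNT n.2⟩ : ℂˣ) : ℂ)) θ ≠ 0 := by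
    rw [show (fun n : N => ((μ ⟨n, hNT n.2⟩ : ℂˣ) : ℂ)) = θ from funext fun n => by
      show ((lam (f (n : G)) : ℂˣ) : ℂ) = _
      rw [huniq (n : G) n (by simp)], classInner_irr_self hirr]
    exact one_ne_zero
  have hX := (clifford_correspondence N hirr hNT hT hψ hres).1
  have hdeg : charDegree (indFun T (fun t : T => (μ t : ℂ))) = T.index := by
    show ⌊(indFun T (fun t : T => (μ t : ℂ)) 1).re⌋₊ = _
    rw [indFun_apply_one]
    simp
  intro hq
  exact hG ⟨_, hX⟩
    (fun hd => P.not_dvd_index ((hdeg ▸ hd).trans (Subgroup.index_dvd_of_le hPfix))) (hdeg.symm ▸ hq)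

/-- The core of the argument. -/
theorem not_dvd_card (hpq : p ≠ q) : ∀ (n : ℕ) (G : Type u) [Group G] [Finite G],
    Nat.card G ≤ n → IsPSolvable p G → IsPSolvable q G → pPrimeCore p G = ⊥ → DegSep G p q →
    ¬ q ∣ Nat.card G := by
  intro n
  induction n using Nat.strong_induction_on with
  | _ n ih =>
  intro G _ _ hn hps hqs hcore hG hqG
  classical
  haveI := Fintype.ofFinite G
  have hp : p.Prime := Fact.out
  have hq : q.Prime := Fact.out
  have hpn : pCore p G ≠ ⊥ := by
    intro h0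
    have hhh := hall_higman hps hcore
    rw [h0] at hhh
    have h1 : (⊤ : Subgroup G) ≤ ⊥ := fun x _ => hhh fun z hz => by
      obtain rfl : z = 1 := hz
      rw [one_mul, mul_one]
    have h2 : Nat.card G = 1 := by
      rw [← Subgroup.card_top (G := G), le_bot_iff.1 h1, Subgroup.card_bot]
    exact hq.not_dvd_one (h2 ▸ hqG)
  haveI := pCore_normal' (G := G) (p := p)
  obtain ⟨N, hNn, hNle, hN0, hmin⟩ := exists_minimal_normal hpn
  haveI := hNn
  haveI := Fintype.ofFinite N
  have hNp : IsPGroup p N := (CfsgLib.isPGroup_pCore p).to_le hNle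
  have hab : ∀ a ∈ N, ∀ b ∈ N, a * b = b * a := by
    haveI : Nontrivial N := N.nontrivial_iff_ne_bot.2 hN0
    haveI := hNp.center_nontrivial
    have hZ : ((Subgroup.center N).map N.subtype).Normal := inferInstance
    rcases hmin _ hZ (Subgroup.map_subtype_le _) with h | h
    · exact absurd ((Subgroup.map_eq_bot_iff_of_injective _ N.subtype_injective).1 h)
        ((Subgroup.nontrivial_iff_ne_bot _).1 inferInstance)
    · intro a ha b hb
      rw [← h] at ha
      obtain ⟨z, hz, rfl⟩ := ha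
      exact congrArg (fun w : N => (w : G)) (Subgroup.mem_center_iff.1 hz ⟨b, hb⟩).symm
  set π := QuotientGroup.mk' N with hπ
  have hsurj := QuotientGroup.mk'_surjective N
  obtain ⟨eN, heN⟩ := IsPGroup.iff_card.1 hNp
  have hNq : (Nat.card N).Coprime q := by
    rw [heN]; exact ((Nat.coprime_primes hp hq).2 hpq).pow_left _
  set O := pPrimeCore p (G ⧸ N) with hO
  have hcardG : Nat.card G = Nat.card N * (Nat.card O * O.index) := by
    rw [Subgroup.card_mul_index, mul_comm, ← Subgroup.card_eq_card_quotient_mul_card_subgroup]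
  have hGbar : DegSep (G ⧸ N) p q := hG.of_surjective hsurj
  have hidx : ¬ q ∣ O.index := by
    refine ih (Nat.card ((G ⧸ N) ⧸ O)) ?_ ((G ⧸ N) ⧸ O) le_rfl
      (Cfsg.Agent.S3744.isPSolvable_quotient (Cfsg.Agent.S3744.isPSolvable_quotient hps N) O)
      (Cfsg.Agent.S3744.isPSolvable_quotient (Cfsg.Agent.S3744.isPSolvable_quotient hqs N) O)
      (CfsgLib.pPrimeCore_quotient_eq_bot p) (hGbar.of_surjective (QuotientGroup.mk'_surjective O))
    refine lt_of_lt_of_le ?_ hn
    calc Nat.card ((G ⧸ N) ⧸ O) ≤ Nat.card (G ⧸ N) := by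
          rw [Subgroup.card_eq_card_quotient_mul_card_subgroup O]
          exact Nat.le_mul_of_pos_right _ Nat.card_pos
      _ < Nat.card G := by
          rw [Subgroup.card_eq_card_quotient_mul_card_subgroup N]
          exact lt_mul_of_one_lt_right Nat.card_pos (N.one_lt_card_iff_ne_bot.2 hN0)
  have hqO : q ∣ Nat.card O := by
    rcases hq.dvd_mul.1 (hcardG ▸ hqG) with h | h
    · exact absurd h (hq.coprime_iff_not_dvd.1 hNq.symm)
    · rcases hq.dvd_mul.1 h with h | h
      · exact h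
      · exact absurd h hidx
  -- a complement `R` of `N` in the preimage `L`
  set L := O.comap π with hL
  haveI : L.Normal := Subgroup.Normal.comap inferInstance _
  have hNL : N ≤ L := fun x hx => by
    show π x ∈ O
    rw [hπ, QuotientGroup.mk'_apply, (QuotientGroup.eq_one_iff x).2 hx]
    exact one_mem _
  have hcardL : Nat.card L = Nat.card N * Nat.card O := CfsgLib.card_comap_mk N O
  set N' := N.subgroupOf L with hN'
  haveI : N'.Normal := Subgroup.normal_subgroupOf
  have hcN' : Nat.card N' = Nat.card N := Nat.card_congr (Subgroup.subgroupOfEquivOfLe hNL).toEquiv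
  have hOp : ¬ p ∣ Nat.card O := hp.coprime_iff_not_dvd.1 (card_pPrimeCore_coprime p).symm
  have hcopL : (Nat.card N').Coprime N'.index := by
    have h1 : N'.index = Nat.card O := by
      have := Subgroup.card_mul_index N'
      rw [hcN', hcardL] at this
      exact Nat.eq_of_mul_eq_mul_left Nat.card_pos this
    rw [h1, hcN', heN]
    exact (hp.coprime_iff_not_dvd.2 hOp).pow_left _
  have hN'sol : Group.IsSolvable N' := by
    haveI : Group.IsNilpotent N := hNp.isNilpotent
    exact Group.isSolvable_of_isSolvable_injective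
      (f := (Subgroup.subgroupOfEquivOfLe hNL).toMonoidHom) (Subgroup.subgroupOfEquivOfLe _).injective
  obtain ⟨R', hR'⟩ := Subgroup.exists_right_complement'_of_coprime hcopL
  set R := R'.map L.subtype with hR
  have hRL : R ≤ L := Subgroup.map_subtype_le _
  have hcR : Nat.card R = Nat.card O := by
    rw [hR, Subgroup.card_map_of_injective L.subtype_injective]
    have := hR'.card_mul
    rw [hcN', hcardL] at this
    exact Nat.eq_of_mul_eq_mul_left Nat.card_pos this
  have hNR : ∀ x ∈ N, x ∈ R → x = 1 := fun x hxN hxR => by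
    rw [← orderOf_eq_one_iff]
    exact Nat.eq_one_of_dvd_coprimes (k := orderOf x)
      (show (Nat.card N).Coprime (Nat.card R) by
        rw [hcR, heN]; exact (hp.coprime_iff_not_dvd.2 hOp).pow_left _)
      (Subgroup.orderOf_dvd_natCard _ hxN) (Subgroup.orderOf_dvd_natCard _ hxR)
  set H := Subgroup.normalizer (R : Set G) with hH
  have hsup : N ⊔ H = ⊤ := by
    rw [eq_top_iff]
    intro g _
    -- the conjugate of `R` is another complement
    set R'' := R'.map (MulAut.conjNormal g : L ≃* L).toMonoidHom with hR''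
    have hc'' : Subgroup.IsComplement' N' R'' := by
      refine CfsgLib.isComplement'_of_card hcopL ?_
      rw [hR'', Subgroup.card_map_of_injective (f := (MulAut.conjNormal g : L ≃* L).toMonoidHom) (MulAut.conjNormal g : L ≃* L).injective, hR'.symm.index_eq_card]
    obtain ⟨m, hm, hmR⟩ := complements_conj_mem hcopL (Or.inl hN'sol) hR' hc''
    have key : ∀ x ∈ R, ((m : L) : G)⁻¹ * g * x * (((m : L) : G)⁻¹ * g)⁻¹ ∈ R := by
      intro x hx
      obtain ⟨r, hr, rfl⟩ := hx
      have h1 : (MulAut.conjNormal g : L ≃* L) r ∈ MulAut.conj m • R' := hmR.symm ▸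
        Subgroup.mem_map_of_mem _ hr
      rw [mem_conj_smul_iff] at h1
      refine ⟨_, h1, ?_⟩
      simp only [Subgroup.coe_subtype, Subgroup.coe_mul, Subgroup.coe_inv, MulAut.conjNormal_apply]
      group
    have hmem : ((m : L) : G)⁻¹ * g ∈ H := by
      rw [hH, Subgroup.mem_normalizer_iff_map_conj_eq]
      refine Subgroup.eq_of_le_of_card_ge ?_ (le_of_eq ?_)
      · rintro _ ⟨x, hx, rfl⟩; exact key x hx
      · exact (Subgroup.card_map_of_injective (K := R) (MulEquiv.injective _)).symm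
    have := Subgroup.mul_mem_sup (show ((m : L) : G) ∈ N from hm) hmem
    simpa [mul_assoc] using this
  have hnormal : ∀ K : Subgroup G, (∀ x ∈ H, ∀ k ∈ K, x * k * x⁻¹ ∈ K) →
      (∀ x ∈ N, ∀ k ∈ K, x * k * x⁻¹ ∈ K) → K.Normal := fun K h1 h2 => ⟨fun k hk g => by
    have hg : g ∈ N ⊔ H := hsup ▸ Subgroup.mem_top g
    obtain ⟨a, ha, b, hb, rfl⟩ := Subgroup.mem_sup_of_normal_left.1 hg
    rw [show a * b * k * (a * b)⁻¹ = a * (b * k * b⁻¹) * a⁻¹ by group]
    exact h2 a ha _ (h1 b hb k hk)⟩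
  have hcentR : ∀ x ∈ N, x ∈ H → ∀ r ∈ R, x * r * x⁻¹ = r := fun x hx hxH r hr => by
    have h1 : x * r * x⁻¹ * r⁻¹ ∈ R := mul_mem ((Subgroup.mem_normalizer_iff.1 hxH r).1 hr) (inv_mem hr)
    have h2 : x * r * x⁻¹ * r⁻¹ ∈ N := by
      have := mul_mem hx (hNn.conj_mem x⁻¹ (inv_mem hx) r)
      simpa [mul_assoc] using this
    exact mul_inv_eq_one.1 (hNR _ h2 h1)
  have hinf : N ⊓ H = ⊥ := by
    haveI : (N ⊓ H).Normal := hnormal _
      (fun x hx k hk => Subgroup.mem_inf.2 ⟨hNn.conj_mem k hk.1 x, mul_mem (mul_mem hx hk.2) (inv_mem hx)⟩)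
      (fun x hx k hk => by rw [hab x hx k hk.1, mul_inv_cancel_right]; exact hk)
    rcases hmin (N ⊓ H) inferInstance inf_le_left with h | h
    · exact h
    · exfalso
      have hNH : N ≤ H := inf_eq_left.1 h
      haveI : R.Normal := hnormal R (fun x hx k hk => (Subgroup.mem_normalizer_iff.1 hx k).1 hk)
        (fun x hx k hk => by rw [hcentR x hx (hNH hx) k hk]; exact hk)
      have h3 : R ≤ pPrimeCore p G := le_pPrimeCore (by
        rw [hcR]; exact card_pPrimeCore_coprime p)
      rw [hcore, le_bot_iff] at h3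
      rw [h3, Subgroup.card_bot] at hcR
      exact hq.not_dvd_one (hcR ▸ hqO)
  have hCR : R ⊓ Subgroup.centralizer (N : Set G) = ⊥ := by
    haveI : (R ⊓ Subgroup.centralizer (N : Set G)).Normal := hnormal _
      (fun x hx k hk => ⟨(Subgroup.mem_normalizer_iff.1 hx k).1 hk.1,
        (inferInstance : (Subgroup.centralizer (N : Set G)).Normal).conj_mem k hk.2 x⟩)
      (fun x hx k hk => by rw [hk.2 x hx, mul_inv_cancel_right]; exact hk)
    have h3 : R ⊓ Subgroup.centralizer (N : Set G) ≤ pPrimeCore p G := le_pPrimeCore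
      ((card_pPrimeCore_coprime (G := G ⧸ N) p).coprime_dvd_left
        (hcR ▸ Subgroup.card_dvd_of_le inf_le_left))
    rwa [hcore, le_bot_iff] at h3
  -- Sylow subgroups
  obtain ⟨P⟩ : Nonempty (Sylow p G) := inferInstance
  have hNP : N ≤ (P : Subgroup G) := hNp.le_sylow_of_normal P
  set PH := (P : Subgroup G) ⊓ H with hPH
  have hPdec : ∀ x ∈ (P : Subgroup G), ∃ a ∈ N, ∃ b ∈ PH, a * b = x := fun x hx => by
    have hg : x ∈ N ⊔ H := hsup ▸ Subgroup.mem_top x
    obtain ⟨a, ha, b, hb, rfl⟩ := Subgroup.mem_sup_of_normal_left.1 hg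
    exact ⟨a, ha, b, Subgroup.mem_inf.2 ⟨by simpa using mul_mem (inv_mem (hNP ha)) hx, hb⟩, rfl⟩
  have hPHR : PH ≤ Subgroup.normalizer (R : Set G) := inf_le_right
  have hPHp : IsPGroup p PH := P.2.to_le inf_le_left
  have hPHsol : Group.IsSolvable PH := by
    haveI : Group.IsNilpotent PH := hPHp.isNilpotent
    infer_instance
  have hpR : ¬ p ∣ Nat.card R := hcR ▸ hOp
  have hcopR : (Nat.card PH).Coprime (Nat.card R) := by
    obtain ⟨k, hk⟩ := IsPGroup.iff_card.1 hPHp
    rw [hk]; exact (hp.coprime_iff_not_dvd.2 hpR).pow_left k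
  obtain ⟨Q0, hQ0⟩ := coprime_exists_invariant_sylow hPHR hcopR (Or.inl hPHsol) q
  set Q := (Q0 : Subgroup R).map R.subtype with hQ
  have hQs : IsSylowIn q R Q := isSylowIn_map Q0
  have hQ1 : Q ≠ ⊥ := fun h0 => by
    have h1 := hQs.2
    rw [h0, Subgroup.card_bot] at h1
    exact absurd h1.symm
      (Nat.one_lt_pow (hq.factorization_pos_of_dvd Nat.card_pos.ne' (hcR ▸ hqO)).ne' hq.one_lt).ne'
  -- the invariant Sylow subgroup is unique
  have hRmap : R.map π ≤ O := by
    rintro _ ⟨x, hx, rfl⟩; exact hRL hx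
  have huniq : ∀ S : Subgroup G, IsSylowIn q R S → PH ≤ Subgroup.normalizer (S : Set G) → S = Q := by
    intro S hS hPS
    haveI : Fintype (G ⧸ N) := Fintype.ofFinite _
    set Pb := P.mapSurjective hsurj
    have hPb : (Pb : Subgroup (G ⧸ N)) ≤ PH.map π := by
      rintro _ ⟨x, hx, rfl⟩
      obtain ⟨a, ha, b, hb, rfl⟩ := hPdec x hx
      refine ⟨b, hb, ?_⟩
      rw [map_mul, show π a = 1 from (QuotientGroup.eq_one_iff a).2 ha, one_mul]
    have hinj : ∀ x ∈ R, ∀ y ∈ R, π x = π y → x = y := fun x hx y hy e =>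
      inv_mul_eq_one.1 (hNR _ (QuotientGroup.eq.1 e) (mul_mem (inv_mem hx) hy))
    have hRO : R.map π = O := by
      refine Subgroup.eq_of_le_of_card_ge hRmap (le_of_eq ?_)
      rw [← hcR]
      exact Nat.card_congr (Equiv.ofBijective (fun x : R => (⟨π x, Subgroup.mem_map_of_mem π x.2⟩ : R.map π))
        ⟨fun x y e => Subtype.ext (hinj _ x.2 _ y.2 (congrArg Subtype.val e)), fun y => by
          obtain ⟨x, hx, hxy⟩ := y.2
          exact ⟨⟨x, hx⟩, Subtype.ext hxy⟩⟩)
    have e := invariant_sylow_unique hpq _ (G ⧸ N) le_rfl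
      (Cfsg.Agent.S3744.isPSolvable_quotient hqs N) O (Pb : Subgroup (G ⧸ N)) Pb.2 hOp
      (fun θ hθ => not_dvd_of_invariant hGbar O hOp Pb θ hθ) (S.map π) (Q.map π)
      (hRO ▸ hS.map) (hRO ▸ hQs.map)
      (hPb.trans ((Subgroup.map_mono hPS).trans (Subgroup.le_normalizer_map π)))
      (hPb.trans ((Subgroup.map_mono hQ0).trans (Subgroup.le_normalizer_map π)))
    ext x
    constructor
    · intro hx
      obtain ⟨y, hy, he⟩ := (e ▸ Subgroup.mem_map_of_mem π hx : π x ∈ Q.map π)
      exact hinj _ (hQs.1 hy) _ (hS.1 hx) he ▸ hy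
    · intro hx
      obtain ⟨y, hy, he⟩ := (e.symm ▸ Subgroup.mem_map_of_mem π hx : π x ∈ S.map π)
      exact hinj _ (hS.1 hy) _ (hQs.1 hx) he ▸ hy
  -- `Q` fixes every linear character fixed by `P`
  have hfix : ∀ lam : N →* ℂˣ, (P : Subgroup G) ≤ inertia N (fun n : N => (lam n : ℂ)) →
      Q ≤ inertia N (fun n : N => (lam n : ℂ)) := by
    intro lam hPl
    have hTq := not_dvd_index_inertia hG N H hsup hinf hab lam P hPl
    set T := inertia N (fun n : N => (lam n : ℂ)) with hT
    have hNT : N ≤ T := le_inertia N (isClassFunction_irr (isIrrCharacter_linear lam))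
    have hfG : (Nat.card G).factorization q = (Nat.card R).factorization q := by
      rw [hcardG, ← hcR, Nat.factorization_mul Nat.card_pos.ne'
        (mul_ne_zero Nat.card_pos.ne' Subgroup.index_ne_zero_of_finite), Finsupp.add_apply,
        Nat.factorization_mul Nat.card_pos.ne' Subgroup.index_ne_zero_of_finite, Finsupp.add_apply,
        Nat.factorization_eq_zero_of_not_dvd hidx,
        Nat.factorization_eq_zero_of_not_dvd (hq.coprime_iff_not_dvd.1 hNq.symm), zero_add, add_zero]
    have hfT : (Nat.card T).factorization q = (Nat.card G).factorization q := by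
      rw [← T.card_mul_index, Nat.factorization_mul Nat.card_pos.ne' Subgroup.index_ne_zero_of_finite,
        Finsupp.add_apply, Nat.factorization_eq_zero_of_not_dvd hTq, add_zero]
    obtain ⟨S⟩ : Nonempty (Sylow q T) := inferInstance
    let S' : Sylow q G := Sylow.ofCard ((S : Subgroup T).map T.subtype) (by
      rw [(isSylowIn_map S).2, hfT])
    let Q' : Sylow q G := Sylow.ofCard Q (by rw [hQs.2, hfG])
    obtain ⟨g, hg⟩ := MulAction.exists_smul_eq G Q' S'
    have hgQ : ∀ y ∈ Q, g * y * g⁻¹ ∈ T := fun y hy => by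
      have h1 : g * y * g⁻¹ ∈ MulAut.conj g • Q := by
        rw [mem_conj_smul_iff]; simpa [mul_assoc] using hy
      have h2 : ((g • Q' : Sylow q G) : Subgroup G) = MulAut.conj g • Q := rfl
      rw [← h2, hg] at h1
      exact Subgroup.map_subtype_le (S : Subgroup T) h1
    obtain ⟨a, ha, b, hb, rfl⟩ := Subgroup.mem_sup_of_normal_left.1
      (show g ∈ N ⊔ H from hsup ▸ Subgroup.mem_top g)
    set Qb := Q.map (MulAut.conj b).toMonoidHom with hQb
    have hQbR : Qb ≤ R := by
      rintro _ ⟨y, hy, rfl⟩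
      exact (Subgroup.mem_normalizer_iff.1 hb y).1 (hQs.1 hy)
    have hQbT : Qb ≤ T ⊓ R := le_inf (by
      rintro _ ⟨y, hy, rfl⟩
      have h1 := mul_mem (mul_mem (inv_mem (hNT ha)) (hgQ y hy)) (hNT ha)
      simpa [mul_assoc] using h1) hQbR
    have hQbs : IsSylowIn q R Qb :=
      ⟨hQbR, by rw [hQb, Subgroup.card_map_of_injective (MulEquiv.injective _)]; exact hQs.2⟩
    have hPT : PH ≤ Subgroup.normalizer ((T ⊓ R : Subgroup G) : Set G) := fun x hx => by
      rw [Subgroup.mem_normalizer_iff]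
      intro y
      have hxT : x ∈ T := hPl hx.1
      rw [Subgroup.mem_inf, Subgroup.mem_inf]
      refine and_congr ⟨fun hy => mul_mem (mul_mem hxT hy) (inv_mem hxT), fun hy => ?_⟩
        (Subgroup.mem_normalizer_iff.1 (hPHR hx) y)
      have := mul_mem (mul_mem (inv_mem hxT) hy) hxT
      simpa [mul_assoc] using this
    obtain ⟨S1, hS1⟩ := coprime_exists_invariant_sylow hPT
      (hcopR.coprime_dvd_right (Subgroup.card_dvd_of_le inf_le_right)) (Or.inl hPHsol) q
    have hS1R : IsSylowIn q R ((S1 : Subgroup ↥(T ⊓ R)).map (T ⊓ R).subtype) :=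
      ⟨(Subgroup.map_subtype_le _).trans inf_le_right, by
        rw [← factorization_eq_of_between hQbs hQbT inf_le_right]; exact (isSylowIn_map S1).2⟩
    exact (huniq _ hS1R hS1) ▸ (Subgroup.map_subtype_le _).trans inf_le_left
  -- the image of the norm map of `Q`
  letI : CommGroup N := { (inferInstance : Group N) with mul_comm := fun a b => Subtype.ext (hab a a.2 b b.2) }
  haveI := Fintype.ofFinite Q
  let ν : N →* N :=
    { toFun := fun m => ∏ y : Q, MulAut.conjNormal (y : G) m
      map_one' := by simp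
      map_mul' := fun a b => by simp [Finset.prod_mul_distrib] }
  have hνfix : ∀ (m : N) (y : Q), MulAut.conjNormal (y : G) (ν m) = ν m := fun m y => by
    show MulAut.conjNormal (y : G) (∏ z : Q, MulAut.conjNormal (z : G) m) = _
    rw [map_prod]
    refine Fintype.prod_equiv (Equiv.mulLeft y) _ _ fun z => ?_
    rw [Equiv.coe_mulLeft, Subgroup.coe_mul, map_mul, MulAut.mul_apply]
  set U := ν.range.map N.subtype with hU
  have hUN : U ≤ N := Subgroup.map_subtype_le _
  have hPHU : ∀ x ∈ PH, ∀ u ∈ U, x * u * x⁻¹ ∈ U := by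
    intro x hx u hu
    obtain ⟨_, ⟨m, rfl⟩, rfl⟩ := hu
    refine ⟨MulAut.conjNormal x (ν m), ⟨MulAut.conjNormal x m, ?_⟩, by simp⟩
    show ∏ y : Q, MulAut.conjNormal (y : G) (MulAut.conjNormal x m) =
      MulAut.conjNormal x (∏ y : Q, MulAut.conjNormal (y : G) m)
    rw [map_prod]
    let e : Q ≃ Q :=
      { toFun := fun y => ⟨x⁻¹ * y * x, by
          simpa using (Subgroup.mem_normalizer_iff.1 (hQ0 (inv_mem hx)) y).1 y.2⟩
        invFun := fun y => ⟨x * y * x⁻¹, (Subgroup.mem_normalizer_iff.1 (hQ0 hx) y).1 y.2⟩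
        left_inv := fun y => Subtype.ext (by simp [mul_assoc])
        right_inv := fun y => Subtype.ext (by simp [mul_assoc]) }
    refine Fintype.prod_equiv e _ _ fun y => ?_
    rw [← MulAut.mul_apply, ← map_mul, ← MulAut.mul_apply, ← map_mul]
    congr 2
    show (y : G) * x = x * (x⁻¹ * y * x)
    group
  have hPU : (P : Subgroup G) ≤ Subgroup.normalizer (U : Set G) := by
    have key : ∀ x ∈ (P : Subgroup G), ∀ u ∈ U, x * u * x⁻¹ ∈ U := by
      intro x hx u hu
      obtain ⟨a, ha, b, hb, rfl⟩ := hPdec x hx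
      have h1 := hPHU b hb u hu
      rw [show a * b * u * (a * b)⁻¹ = a * (b * u * b⁻¹) * a⁻¹ by group,
        hab a ha _ (hUN h1), mul_inv_cancel_right]
      exact h1
    intro x hx
    rw [Subgroup.mem_normalizer_iff]
    intro u
    refine ⟨key x hx u, fun hu => ?_⟩
    have := key x⁻¹ (inv_mem hx) _ hu
    simpa [mul_assoc] using this
  have hUne : U ≠ N := by
    intro he
    apply hQ1
    rw [eq_bot_iff, ← hCR]
    refine le_inf hQs.1 fun y hy => ?_
    intro z hz
    rw [SetLike.mem_coe, ← he] at hz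
    obtain ⟨_, ⟨m, rfl⟩, rfl⟩ := hz
    have h1 := congrArg (fun w : N => (w : G)) (hνfix m ⟨y, hy⟩)
    simp only [MulAut.conjNormal_apply] at h1
    exact (mul_inv_eq_iff_eq_mul.1 h1).symm
  obtain ⟨lam, hlam1, hlamU, hlamP⟩ :=
    exists_fixed_linear (P : Subgroup G) N U P.2 hNP hUN hPU hUne hab
  have hQl := hfix lam fun x hx => (mem_inertia N).2 (funext fun m =>
    congrArg (fun u : ℂˣ => (u : ℂ)) (hlamP x hx m ⟨x * m * x⁻¹, hNn.conj_mem m m.2 x⟩ rfl))
  refine hlam1 (MonoidHom.ext fun m => ?_)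
  have h1 : lam (ν m) = 1 := hlamU _ ⟨ν m, ⟨m, rfl⟩, rfl⟩
  have h2 : lam (ν m) = lam m ^ Nat.card Q := by
    show lam (∏ y : Q, MulAut.conjNormal (y : G) m) = _
    rw [map_prod, Finset.prod_congr rfl (fun (y : Q) _ => (Units.ext (congrFun
      (show (fun n : N => (lam (MulAut.conjNormal (y : G) n) : ℂ)) = fun n : N => (lam n : ℂ) by
        have h3 := (mem_inertia N).1 (hQl y.2)
        rwa [conjNormFun_eq] at h3) m) : lam (MulAut.conjNormal (y : G) m) = lam m)),
      Finset.prod_const, Finset.card_univ, Nat.card_eq_fintype_card]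
  have h4 : lam m ^ Nat.card N = 1 := by rw [← map_pow, pow_card_eq_one', map_one]
  have hcop : (Nat.card Q).Coprime (Nat.card N) := by
    rw [hQs.2, heN]
    exact (((Nat.coprime_primes hq hp).2 hpq.symm).pow_left _).pow_right _
  rw [MonoidHom.one_apply, ← orderOf_eq_one_iff]
  exact Nat.eq_one_of_dvd_coprimes hcop (orderOf_dvd_of_pow_eq_one (h2.symm.trans h1))
    (orderOf_dvd_of_pow_eq_one h4)

/-- A Sylow `q`-subgroup lies in the `p'`-core. -/
theorem sylow_le_core (hpq : p ≠ q) {M : Ideal AlgInt} (hM : IsPModular p M) (hps : IsPSolvable p G)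
    (hqs : IsPSolvable q G)
    (h : ∀ χ : IrrCharacter G, χ ∈ principalBlock M G → ¬ p ∣ charDegree (χ : G → ℂ) →
      ¬ q ∣ charDegree (χ : G → ℂ)) (Q : Sylow q G) : (Q : Subgroup G) ≤ pPrimeCore p G := by
  classical
  haveI := Fintype.ofFinite G
  set B := pPrimeCore p G
  have hsep : DegSep (G ⧸ B) p q := fun χ hχ => by
    have e := charDegree_comp (QuotientGroup.mk' B) (χ : G ⧸ B → ℂ)
    refine e ▸ h ⟨fun g => (χ : G ⧸ B → ℂ) (QuotientGroup.mk' B g),
      isIrrCharacter_comp_surjective χ.2 _ (QuotientGroup.mk'_surjective B)⟩ ?_ (e.symm ▸ hχ)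
    refine CfsgLib.NormalizerExtension.mem_principal_of_trivial hM hps _ fun n hn => ?_
    show (χ : G ⧸ B → ℂ) (QuotientGroup.mk' B n) = (χ : G ⧸ B → ℂ) (QuotientGroup.mk' B 1)
    rw [QuotientGroup.mk'_apply, (QuotientGroup.eq_one_iff n).2 hn, map_one]
  have h1 := not_dvd_card hpq _ (G ⧸ B) le_rfl (Cfsg.Agent.S3744.isPSolvable_quotient hps B)
    (Cfsg.Agent.S3744.isPSolvable_quotient hqs B) (CfsgLib.pPrimeCore_quotient_eq_bot p) hsep
  intro x hx
  obtain ⟨k, hk⟩ := IsPGroup.iff_card.1 Q.2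
  rw [← QuotientGroup.eq_one_iff, ← orderOf_eq_one_iff]
  exact Nat.eq_one_of_dvd_coprimes (((Fact.out : q.Prime).coprime_iff_not_dvd.2 h1).pow_left k)
    (hk ▸ (orderOf_map_dvd (QuotientGroup.mk' B) x).trans (Subgroup.orderOf_dvd_natCard _ hx))
    (orderOf_dvd_natCard _)

/-- Commuting Sylow subgroups bound the degrees. -/
theorem degree_of_commute (hpq : p ≠ q) {M : Ideal AlgInt} (hM : IsPModular p M)
    (hps : IsPSolvable p G) (P : Sylow p G) (Q : Sylow q G)
    (hc : ∀ x ∈ (P : Subgroup G), ∀ y ∈ (Q : Subgroup G), x * y = y * x) (χ : IrrCharacter G)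
    (hχ : χ ∈ principalBlock M G) : ¬ q ∣ charDegree (χ : G → ℂ) := by
  classical
  haveI := Fintype.ofFinite G
  set B := pPrimeCore p G
  have hQB : (Q : Subgroup G) ≤ B := by
    set π := QuotientGroup.mk' B with hπ
    set Pb := P.mapSurjective (QuotientGroup.mk'_surjective B)
    have hhh := hall_higman (Cfsg.Agent.S3744.isPSolvable_quotient hps B)
      (CfsgLib.pPrimeCore_quotient_eq_bot (G := G) p)
    haveI := pCore_normal' (G := G ⧸ B) (p := p)
    intro y hy
    have h1 : π y ∈ Subgroup.centralizer (pCore p (G ⧸ B) : Set (G ⧸ B)) := fun z hz => by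
      obtain ⟨x, hx, rfl⟩ := (CfsgLib.isPGroup_pCore (G := G ⧸ B) p).le_sylow_of_normal Pb hz
      rw [← map_mul, ← map_mul, hc x hx y hy]
    obtain ⟨k, hk⟩ := IsPGroup.iff_card.1 (CfsgLib.isPGroup_pCore (G := G ⧸ B) p)
    obtain ⟨j, hj⟩ := IsPGroup.iff_card.1 Q.2
    rw [← QuotientGroup.eq_one_iff, ← orderOf_eq_one_iff]
    exact Nat.eq_one_of_dvd_coprimes
      ((((Nat.coprime_primes (Fact.out : p.Prime) Fact.out).2 hpq).pow_left k).pow_right j)
      (hk ▸ Subgroup.orderOf_dvd_natCard _ (hhh h1))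
      (hj ▸ (orderOf_map_dvd π y).trans (Subgroup.orderOf_dvd_natCard _ hy))
  intro hd
  have h2 : charDegree (χ : G → ℂ) ∣ B.index := irr_degree_dvd_index B χ.2
    (fun n hn => principal_kernel hM (not_dvd_card_pPrimeCore Fact.out) hχ hn)
    (irr_charDegree_cast χ).symm
  exact Q.not_dvd_index ((hd.trans h2).trans (Subgroup.index_dvd_of_le hQB))

/-- The criterion. -/
theorem commuting_iff (hpq : p ≠ q) {Mp Mq : Ideal AlgInt} (hMp : IsPModular p Mp)
    (hMq : IsPModular q Mq) (hps : IsPSolvable p G) (hqs : IsPSolvable q G) :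
    ((∀ χ : IrrCharacter G, χ ∈ principalBlock Mp G → ¬ p ∣ charDegree (χ : G → ℂ) →
        ¬ q ∣ charDegree (χ : G → ℂ)) ∧
      (∀ χ : IrrCharacter G, χ ∈ principalBlock Mq G → ¬ q ∣ charDegree (χ : G → ℂ) →
        ¬ p ∣ charDegree (χ : G → ℂ))) ↔
      ∃ (P : Sylow p G) (Q : Sylow q G), ∀ x ∈ (P : Subgroup G), ∀ y ∈ (Q : Subgroup G),
        x * y = y * x := by
  classical
  constructor
  · rintro ⟨h1, h2⟩
    obtain ⟨P⟩ : Nonempty (Sylow p G) := inferInstance
    obtain ⟨Q₁⟩ : Nonempty (Sylow q G) := inferInstance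
    have hQB := sylow_le_core hpq hMp hps hqs h1 Q₁
    have hPA := sylow_le_core hpq.symm hMq hqs hps h2 P
    set B := pPrimeCore p G
    set A := pPrimeCore q G
    have hPB : (P : Subgroup G) ≤ Subgroup.normalizer (B : Set G) := fun x _ => by
      rw [Subgroup.normalizer_eq_top (H := B)]; trivial
    obtain ⟨k, hk⟩ := IsPGroup.iff_card.1 P.2
    have hsolP : Group.IsSolvable (P : Subgroup G) := by
      haveI : Group.IsNilpotent (P : Subgroup G) := P.2.isNilpotent
      infer_instance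
    obtain ⟨Q₂, hQ₂⟩ := coprime_exists_invariant_sylow hPB
      (by rw [hk]; exact (card_pPrimeCore_coprime p).symm.pow_left k) (Or.inl hsolP) q
    have hQ₁ : IsSylowIn q ⊤ (Q₁ : Subgroup G) :=
      ⟨le_top, by rw [Subgroup.card_top]; exact Q₁.card_eq_multiplicity⟩
    let Q : Sylow q G := Sylow.ofCard ((Q₂ : Subgroup B).map B.subtype) (by
      rw [(isSylowIn_map Q₂).2, factorization_eq_of_between hQ₁ hQB le_top, Subgroup.card_top])
    refine ⟨P, Q, fun x hx y hy => ?_⟩
    have h3 : x * y * x⁻¹ * y⁻¹ ∈ A := by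
      have hxA := hPA hx
      have := mul_mem hxA ((inferInstance : A.Normal).conj_mem x⁻¹ (inv_mem hxA) y)
      simpa [mul_assoc] using this
    have h4 : x * y * x⁻¹ * y⁻¹ ∈ (Q : Subgroup G) :=
      mul_mem ((Subgroup.mem_normalizer_iff.1 (hQ₂ hx) y).1 hy) (inv_mem hy)
    obtain ⟨j, hj⟩ := IsPGroup.iff_card.1 Q.2
    have h5 : x * y * x⁻¹ * y⁻¹ = 1 := orderOf_eq_one_iff.1 (Nat.eq_one_of_dvd_coprimes
      ((card_pPrimeCore_coprime (G := G) q).pow_right j)
      (Subgroup.orderOf_dvd_natCard _ h3) (hj ▸ Subgroup.orderOf_dvd_natCard _ h4))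
    rw [mul_inv_eq_one, mul_inv_eq_iff_eq_mul] at h5
    exact h5
  · rintro ⟨P, Q, hc⟩
    exact ⟨fun χ hχ _ => degree_of_commute hpq hMp hps P Q hc χ hχ,
      fun χ hχ _ => degree_of_commute hpq.symm hMq hqs Q P (fun x hx y hy => (hc y hy x hx).symm) χ hχ⟩

end CfsgLib.CharTheory.PrimeSep
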