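/-
Averages over the conjugates of algebraic integers in the fields of 2-power roots of unity.
-/
import Cfsg.Agent.Lib.CharTheory.GaloisBound
import Mathlib.NumberTheory.NumberField.Cyclotomic.Basic

namespace CfsgLib.CharTheory

open Polynomial
open scoped IntermediateField ComplexConjugate

/-- The standard generator of the field of `2^(k+1)`-th roots of unity. -/
noncomputable def twoGen (k : ℕ) : rootField (2 ^ (k + 1)) :=
  ⟨Complex.exp (2 * Real.pi * Complex.I / (2 ^ (k + 1) : ℕ)),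
    IntermediateField.mem_adjoin_simple_self ℚ _⟩

theorem twoGen_primitive (k : ℕ) : IsPrimitiveRoot ((twoGen k : rootField (2 ^ (k + 1))) : ℂ) (2 ^ (k + 1)) :=
  isPrimitiveRoot_exp' (pow_ne_zero _ two_ne_zero)

theorem pow_half_of_primitive {x : ℂ} {k : ℕ} (h : IsPrimitiveRoot x (2 ^ (k + 1))) :
    x ^ 2 ^ k = -1 := by
  have h1 : (x ^ 2 ^ k) ^ 2 = 1 := by rw [← pow_mul, ← pow_succ]; exact h.pow_eq_one
  rcases sq_eq_one_iff.1 h1 with h2 | h2
  · exact absurd h2 (h.pow_ne_one_of_pos_of_lt (pow_ne_zero _ two_ne_zero)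
      (Nat.pow_lt_pow_right one_lt_two (Nat.lt_succ_self k)))
  · exact h2

theorem twoGen_pow_half (k : ℕ) : twoGen k ^ 2 ^ k = -1 :=
  (rootField (2 ^ (k + 1))).val.injective (by
    rw [map_pow, map_neg, map_one]
    exact pow_half_of_primitive (twoGen_primitive k))

theorem hom_ext_twoGen {k : ℕ} {σ τ : rootField (2 ^ (k + 1)) →ₐ[ℚ] ℂ}
    (h : σ (twoGen k) = τ (twoGen k)) : σ = τ := by
  refine AlgHom.ext fun ⟨x, hx⟩ => ?_
  induction hx using IntermediateField.adjoin_induction with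
  | mem y hy =>
    rw [Set.mem_singleton_iff] at hy
    subst hy
    exact h
  | algebraMap r =>
    exact (AlgHom.commutes σ r).trans (AlgHom.commutes τ r).symm
  | add y z hy hz ihy ihz =>
    show σ (⟨y, hy⟩ + ⟨z, hz⟩) = τ (⟨y, hy⟩ + ⟨z, hz⟩)
    rw [map_add, map_add, ihy, ihz]
  | inv y hy ihy =>
    show σ (⟨y, hy⟩)⁻¹ = τ (⟨y, hy⟩)⁻¹
    rw [map_inv₀, map_inv₀, ihy]
  | mul y z hy hz ihy ihz =>
    show σ (⟨y, hy⟩ * ⟨z, hz⟩) = τ (⟨y, hy⟩ * ⟨z, hz⟩)
    rw [map_mul, map_mul, ihy, ihz]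

/-- The conjugates of a power `< 2^k` of the generator add up to zero. -/
theorem sum_hom_pow (k : ℕ) {i : ℕ} (hi0 : i ≠ 0) (hik : i < 2 ^ k) :
    ∑ σ : rootField (2 ^ (k + 1)) →ₐ[ℚ] ℂ, σ (twoGen k ^ i) = 0 := by
  classical
  have hn : (2 : ℕ) ^ (k + 1) ≠ 0 := pow_ne_zero _ two_ne_zero
  set m := 2 ^ (k + 1) with hm
  have himg : ∀ σ : rootField m →ₐ[ℚ] ℂ, σ (twoGen k) ∈ primitiveRoots m ℂ := by
    intro σ
    rw [mem_primitiveRoots (Nat.pos_of_ne_zero hn)]
    exact (IsPrimitiveRoot.of_map_of_injective (f := (rootField m).val)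
      (twoGen_primitive k) (rootField m).val.injective).map_of_injective σ.injective
  have hsurj : ∀ x ∈ primitiveRoots m ℂ, ∃ σ : rootField m →ₐ[ℚ] ℂ, σ (twoGen k) = x := by
    intro x hx
    rw [mem_primitiveRoots (Nat.pos_of_ne_zero hn)] at hx
    obtain ⟨j, -, hj, hjx⟩ := (twoGen_primitive k).isPrimitiveRoot_iff.1 hx
    obtain ⟨σ, hσ⟩ := exists_galois_hom hn hj
    exact ⟨σ, (hσ _ (twoGen_primitive k).pow_eq_one).trans hjx⟩
  have hS : ∑ σ : rootField m →ₐ[ℚ] ℂ, σ (twoGen k ^ i) = ∑ x ∈ primitiveRoots m ℂ, x ^ i := by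
    refine Finset.sum_bij (fun σ _ => σ (twoGen k)) (fun σ _ => himg σ)
      (fun σ _ τ _ h => hom_ext_twoGen h) (fun x hx => ?_) fun σ _ => map_pow σ _ i
    obtain ⟨σ, hσ⟩ := hsurj x hx
    exact ⟨σ, Finset.mem_univ _, hσ⟩
  rw [hS]
  obtain ⟨a, o, ho, hio⟩ := Nat.exists_eq_pow_mul_and_not_dvd hi0 2 (by norm_num)
  have ho' : Odd o := Nat.odd_iff.2 (by omega)
  have hak : a < k := by
    have h1 : 2 ^ a ≤ i := hio ▸ Nat.le_mul_of_pos_right _ ho'.pos
    exact (Nat.pow_lt_pow_iff_right one_lt_two).1 (h1.trans_lt hik)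
  set ζ : ℂ := ((twoGen k : rootField m) : ℂ)
  set η : ℂ := ζ ^ 2 ^ (k - a) with hη
  have hηi : η ^ i = -1 := by
    rw [hη, ← pow_mul, hio, ← mul_assoc, ← pow_add, Nat.sub_add_cancel hak.le, pow_mul,
      pow_half_of_primitive (twoGen_primitive k), ho'.neg_one_pow]
  have heven : Even (2 ^ (k - a)) := Nat.even_pow.2 ⟨even_two, by omega⟩
  have hmul : ∀ x ∈ primitiveRoots m ℂ, x * η ∈ primitiveRoots m ℂ := by
    intro x hx
    rw [mem_primitiveRoots (Nat.pos_of_ne_zero hn)] at hx ⊢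
    obtain ⟨j, -, hj, rfl⟩ := (twoGen_primitive k).isPrimitiveRoot_iff.1 hx
    rw [hη, ← pow_add]
    refine (twoGen_primitive k).pow_of_coprime _ ?_
    rw [Nat.coprime_pow_right_iff (Nat.succ_pos k), Nat.coprime_two_right] at hj ⊢
    exact hj.add_even heven
  have hη0 : η ≠ 0 := fun h => by rw [h, zero_pow hi0] at hηi; norm_num at hηi
  have hinj : Set.InjOn (· * η) (primitiveRoots m ℂ : Set ℂ) := fun x _ y _ h =>
    mul_right_cancel₀ hη0 h
  have h2 : ∑ x ∈ primitiveRoots m ℂ, (x * η) ^ i = ∑ x ∈ primitiveRoots m ℂ, x ^ i := by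
    conv_rhs => rw [← Finset.eq_of_subset_of_card_le (Finset.image_subset_iff.2 hmul)
      (le_of_eq (Finset.card_image_of_injOn hinj).symm), Finset.sum_image hinj]
  simp only [mul_pow, hηi, mul_neg, mul_one, Finset.sum_neg_distrib] at h2
  exact neg_eq_self.1 h2

/-- Sum over the conjugates. -/
theorem sum_hom_coeff (k : ℕ) (c : ℕ → ℤ) {j : ℕ} (hj : j < 2 ^ k) :
    ∑ σ : rootField (2 ^ (k + 1)) →ₐ[ℚ] ℂ,
        σ ((∑ r ∈ Finset.range (2 ^ k), (c r : rootField (2 ^ (k + 1))) * twoGen k ^ r) *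
          twoGen k ^ (2 ^ k - j)) =
      (Fintype.card (rootField (2 ^ (k + 1)) →ₐ[ℚ] ℂ) : ℂ) * -(c j : ℂ) := by
  classical
  simp only [Finset.sum_mul, map_sum, map_mul, map_intCast, mul_assoc, ← map_mul, ← pow_add]
  rw [Finset.sum_comm]
  rw [Finset.sum_eq_single j]
  · rw [Nat.add_sub_cancel' hj.le]
    simp only [twoGen_pow_half, map_neg, map_one, map_mul, map_intCast, mul_neg, mul_one,
      Finset.sum_const, Finset.card_univ, nsmul_eq_mul, mul_comm]
  · intro r hr hne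
    simp only [map_mul, map_intCast, ← Finset.mul_sum]
    rcases Nat.lt_or_ge (r + (2 ^ k - j)) (2 ^ k) with h | h
    · rw [sum_hom_pow k (by omega) h, mul_zero]
    · have hlt : r < 2 ^ k := Finset.mem_range.1 hr
      obtain ⟨e, he⟩ := Nat.exists_eq_add_of_le h
      rw [he, Finset.sum_congr rfl fun (σ : rootField (2 ^ (k + 1)) →ₐ[ℚ] ℂ) _ => show σ (twoGen k ^ (2 ^ k + e)) = -σ (twoGen k ^ e) by
        rw [pow_add (twoGen k), twoGen_pow_half, neg_one_mul, map_neg],
        Finset.sum_neg_distrib, sum_hom_pow k (by omega) (by omega), neg_zero, mul_zero]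
  · intro h; exact absurd (Finset.mem_range.2 hj) h

/-- Algebraic integers are integral combinations of the powers below `2^k`. -/
theorem exists_coeff (k : ℕ) (w : rootField (2 ^ (k + 1))) (hint : IsIntegral ℤ (w : ℂ)) :
    ∃ c : ℕ → ℤ, w = ∑ r ∈ Finset.range (2 ^ k),
      (c r : rootField (2 ^ (k + 1))) * twoGen k ^ r := by
  classical
  haveI : Algebra.IsIntegral ℚ (rootField (2 ^ (k + 1))) := Algebra.IsIntegral.of_finite _ _
  have hg : IsPrimitiveRoot (twoGen k) (2 ^ (k + 1)) :=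
    IsPrimitiveRoot.of_map_of_injective (f := (rootField (2 ^ (k + 1))).val)
      (twoGen_primitive k) (rootField (2 ^ (k + 1))).val.injective
  haveI : IsCyclotomicExtension {2 ^ (k + 1)} ℚ (rootField (2 ^ (k + 1))) := by
    haveI : NeZero (2 ^ (k + 1)) := ⟨pow_ne_zero _ two_ne_zero⟩
    refine ⟨fun {n} hn _ => ?_, fun x => ?_⟩
    · rw [Set.mem_singleton_iff] at hn
      subst hn
      exact ⟨twoGen k, hg⟩
    · obtain ⟨x, hx⟩ := x
      induction hx using IntermediateField.adjoin_induction with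
      | mem y hy =>
        refine Algebra.subset_adjoin ⟨_, rfl, Nat.pos_iff_ne_zero.1 (pow_pos two_pos _), ?_⟩
        rw [Set.mem_singleton_iff] at hy
        subst hy
        exact hg.pow_eq_one
      | algebraMap r => exact Subalgebra.algebraMap_mem _ r
      | add y z hy hz ihy ihz => exact Subalgebra.add_mem _ ihy ihz
      | inv y hy ihy =>
        exact Subalgebra.inv_mem_of_algebraic _ (x := ⟨_, ihy⟩)
          (Algebra.IsAlgebraic.isAlgebraic _)
      | mul y z hy hz ihy ihz => exact Subalgebra.mul_mem _ ihy ihz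
  haveI : Fact (Nat.Prime 2) := ⟨Nat.prime_two⟩
  have hwi : IsIntegral ℤ w :=
    (isIntegral_algHom_iff ((rootField (2 ^ (k + 1))).val.restrictScalars ℤ)
      Subtype.val_injective).1 hint
  obtain ⟨y, rfl⟩ := (IsCyclotomicExtension.Rat.isIntegralClosure_adjoin_singleton_of_prime_pow
    (p := 2) (k := k + 1) hg).isIntegral_iff.1 hwi
  obtain ⟨f, hf⟩ : ∃ f : ℤ[X], aeval (twoGen k) f = (y : rootField (2 ^ (k + 1))) := by
    exact (Algebra.adjoin_singleton_eq_range_aeval ℤ (twoGen k)).le y.2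
  set g : ℤ[X] := X ^ 2 ^ k + 1 with hgdef
  have hmonic : g.Monic := by
    rw [hgdef, ← map_one C]; exact monic_X_pow_add_C 1 (pow_ne_zero _ two_ne_zero)
  have hroot : aeval (twoGen k) g = 0 := by simp [hgdef, twoGen_pow_half]
  have hdeg : (f %ₘ g).natDegree < 2 ^ k := by
    have h1 : g.natDegree = 2 ^ k := by
      rw [hgdef, ← map_one C, natDegree_X_pow_add_C]
    have h2 : g ≠ 1 := fun h => by
      rw [h, natDegree_one] at h1
      exact (pow_pos two_pos k).ne h1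
    exact h1 ▸ natDegree_modByMonic_lt f hmonic h2
  refine ⟨fun r => (f %ₘ g).coeff r, ?_⟩
  show (y : rootField (2 ^ (k + 1))) = _
  rw [← hf, ← aeval_modByMonic_eq_self_of_root hroot, aeval_eq_sum_range' hdeg]
  exact Finset.sum_congr rfl fun r _ => by rw [zsmul_eq_mul]

/-- The average conjugate of an algebraic integer is its constant coefficient. -/
theorem sum_hom_const (k : ℕ) (c : ℕ → ℤ) :
    ∑ σ : rootField (2 ^ (k + 1)) →ₐ[ℚ] ℂ,
        σ (∑ r ∈ Finset.range (2 ^ k), (c r : rootField (2 ^ (k + 1))) * twoGen k ^ r) =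
      (Fintype.card (rootField (2 ^ (k + 1)) →ₐ[ℚ] ℂ) : ℂ) * (c 0 : ℂ) := by
  have h := sum_hom_coeff k c (pow_pos two_pos k)
  simp only [Nat.sub_zero, twoGen_pow_half, mul_neg, mul_one, map_neg, Finset.sum_neg_distrib,
    neg_inj] at h
  exact h

/-- For a real algebraic integer the coefficients above the constant one add up to zero. -/
theorem exists_real_coeff (k : ℕ) (w : rootField (2 ^ (k + 1))) (hint : IsIntegral ℤ (w : ℂ))
    (hreal : conj (w : ℂ) = (w : ℂ)) :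
    ∃ c : ℕ → ℤ, w = ∑ r ∈ Finset.range (2 ^ k),
        (c r : rootField (2 ^ (k + 1))) * twoGen k ^ r ∧
      ∑ σ : rootField (2 ^ (k + 1)) →ₐ[ℚ] ℂ, σ w =
        (Fintype.card (rootField (2 ^ (k + 1)) →ₐ[ℚ] ℂ) : ℂ) * (c 0 : ℂ) ∧
      ∑ r ∈ Finset.range (2 ^ k), c r = c 0 := by
  classical
  obtain ⟨c, hc⟩ := exists_coeff k w hint
  refine ⟨c, hc, by rw [hc]; exact sum_hom_const k c, ?_⟩
  have hn : (2 : ℕ) ^ (k + 1) ≠ 0 := pow_ne_zero _ two_ne_zero
  have hN : (Fintype.card (rootField (2 ^ (k + 1)) →ₐ[ℚ] ℂ) : ℂ) ≠ 0 :=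
    Nat.cast_ne_zero.2 (Fintype.card_pos_iff.2 ⟨(rootField (2 ^ (k + 1))).val⟩).ne'
  have hanti : ∀ i, i ≠ 0 → i < 2 ^ k → c i + c (2 ^ k - i) = 0 := by
    intro i hi0 hik
    have h1 := sum_hom_coeff k c hik
    have h2 := sum_hom_coeff k c (j := 2 ^ k - i) (by omega)
    rw [← hc] at h1 h2
    rw [Nat.sub_sub_self hik.le] at h2
    have hconj : ∀ σ : rootField (2 ^ (k + 1)) →ₐ[ℚ] ℂ,
        conj (σ (w * twoGen k ^ (2 ^ k - i))) = -σ (w * twoGen k ^ i) := by
      intro σ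
      obtain ⟨hm, he⟩ := conj_galois hn σ (w * twoGen k ^ (2 ^ k - i)).2
      rw [← he, ← map_neg]
      congr 1
      apply Subtype.ext
      set ζ : ℂ := ((twoGen k : rootField (2 ^ (k + 1))) : ℂ) with hζ
      show conj ((w : ℂ) * ζ ^ (2 ^ k - i)) = -((w : ℂ) * ζ ^ i)
      rw [map_mul, hreal, map_pow,
        ← Complex.inv_eq_conj (Complex.norm_eq_one_of_pow_eq_one (twoGen_primitive k).pow_eq_one hn),
        inv_pow, ← mul_neg]
      congr 1
      refine inv_eq_of_mul_eq_one_right ?_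
      rw [mul_neg, ← pow_add, Nat.sub_add_cancel hik.le,
        pow_half_of_primitive (twoGen_primitive k), neg_neg]
    have h3 := congrArg conj h1
    rw [map_sum, Finset.sum_congr rfl fun σ _ => hconj σ, Finset.sum_neg_distrib, h2, map_mul,
      map_natCast, map_neg, map_intCast] at h3
    have h4 : ((c i : ℤ) : ℂ) + ((c (2 ^ k - i) : ℤ) : ℂ) = 0 := by
      refine mul_left_cancel₀ hN ?_
      linear_combination h3
    exact_mod_cast h4
  have hzero : ∑ r ∈ (Finset.range (2 ^ k)).erase 0, c r = 0 := by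
    have hb : ∑ r ∈ (Finset.range (2 ^ k)).erase 0, c r =
        ∑ r ∈ (Finset.range (2 ^ k)).erase 0, c (2 ^ k - r) := by
      refine Finset.sum_nbij' (fun r => 2 ^ k - r) (fun r => 2 ^ k - r) ?_ ?_ ?_ ?_ ?_ <;>
        intro r hr <;> (try simp only [Finset.mem_erase, Finset.mem_range, Finset.mem_coe] at hr ⊢)
      · omega
      · omega
      · omega
      · omega
      · rw [Nat.sub_sub_self hr.2.le]
    have hs : ∑ r ∈ (Finset.range (2 ^ k)).erase 0, (c r + c (2 ^ k - r)) = 0 :=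
      Finset.sum_eq_zero fun r hr => hanti r (Finset.ne_of_mem_erase hr)
        (Finset.mem_range.1 (Finset.mem_of_mem_erase hr))
    rw [Finset.sum_add_distrib, ← hb] at hs
    omega
  rw [← Finset.add_sum_erase _ _ (Finset.mem_range.2 (pow_pos two_pos k)), hzero, add_zero]

end CfsgLib.CharTheory
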