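import Mathlib
import Cfsg.Agent.Lib.CharTheory.ExtCriteria
import Cfsg.Agent.Lib.CharTheory.More
import Cfsg.Agent.Lib.Transfer
import Cfsg.Agent.S0867

/-! `#O^p(G)` modulo `p` from the degrees prime to `p`. -/

namespace CfsgLib.CharTheory

open Cfsg

universe u

variable {G : Type u} [Group G] [Finite G] {p : ℕ} [hp : Fact p.Prime]

theorem not_dvd_detOrder_residual {θ : Cfsg.pResidual p G → ℂ} (hθ : IsIrrCharacter (Cfsg.pResidual p G) θ) :
    ¬ p ∣ detOrder θ := by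
  obtain ⟨m, ρ, hρ, rfl⟩ := hθ
  rw [detOrder_eq]
  intro hdvd
  set φ := detHom ρ
  have hpos := orderOf_hom_pos φ
  set k := orderOf φ / p
  have hk : orderOf φ = p * k := (Nat.mul_div_cancel' hdvd).symm
  have h1 : orderOf (φ ^ k) = p := by
    have hk0 : k ≠ 0 := fun e => by rw [hk, e, mul_zero] at hpos; exact lt_irrefl _ hpos
    rw [orderOf_pow' _ hk0, hk, Nat.gcd_eq_right (dvd_mul_left k p), Nat.mul_div_cancel _ (Nat.pos_of_ne_zero hk0)]
  have hker : (φ ^ k).ker = ⊤ := by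
    refine top_le_iff.1 ((CfsgLib.Transfer.pResidual_pResidual (G := G) (p := p)).ge.trans ?_)
    rw [← MonoidHom.ker_rangeRestrict]
    refine CfsgLib.Transfer.le_ker_of_isPGroup (fun x => ⟨1, ?_⟩) _
    obtain ⟨y, hy⟩ := x.2
    refine Subtype.ext ?_
    have hp1 : (φ ^ k) ^ p = 1 := by
      have := pow_orderOf_eq_one (φ ^ k)
      rwa [h1] at this
    rw [SubmonoidClass.coe_pow, pow_one, OneMemClass.coe_one, ← hy, ← MonoidHom.pow_apply, hp1]
    rfl
  rw [MonoidHom.ker_eq_top_iff.1 hker, orderOf_one] at h1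
  exact hp.out.one_lt.ne h1

theorem card_residual_modEq :
    (Nat.card (Cfsg.pResidual p G) : ℤ) ≡
      (∑ᶠ χ ∈ {χ : IrrCharacter G | ¬ p ∣ charDegree (χ : G → ℂ) ∧ ¬ p ∣ detOrder (χ : G → ℂ)},
        (charDegree (χ : G → ℂ) : ℤ) ^ 2) [ZMOD p] := by
  classical
  have := Fintype.ofFinite G
  set N := Cfsg.pResidual p G with hN
  have := Fintype.ofFinite N
  obtain ⟨k, hk⟩ : ∃ k, N.index = p ^ k :=
    IsPGroup.iff_card.1 (CfsgLib.Transfer.isPGroup_quotient_pResidual (G := G) (p := p))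
  have hcop : ∀ a : ℕ, ¬ p ∣ a → N.index.Coprime a := fun a ha =>
    hk ▸ Nat.Coprime.pow_left k ((Nat.Prime.coprime_iff_not_dvd hp.out).2 ha)
  have hdeg : ∀ χ : IrrCharacter G, (χ : G → ℂ) 1 = ((charDegree (χ : G → ℂ) : ℕ) : ℂ) :=
    fun χ => (charDegree_spec' χ.2).1
  have hdegN : ∀ θ : IrrCharacter N, (θ : N → ℂ) 1 = ((charDegree (θ : N → ℂ) : ℕ) : ℂ) :=
    fun χ => (charDegree_spec' χ.2).1
  let A : Finset (IrrCharacter G) :=
    Finset.univ.filter fun χ => ¬ p ∣ charDegree (χ : G → ℂ) ∧ ¬ p ∣ detOrder (χ : G → ℂ)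
  let Inv : IrrCharacter N → Prop := fun θ => ∀ g : G, conjNormFun N g (θ : N → ℂ) = θ
  let B : Finset (IrrCharacter N) :=
    Finset.univ.filter fun θ => ¬ p ∣ charDegree (θ : N → ℂ) ∧ Inv θ
  have hfin : (∑ᶠ χ ∈ {χ : IrrCharacter G | ¬ p ∣ charDegree (χ : G → ℂ) ∧ ¬ p ∣ detOrder (χ : G → ℂ)},
      (charDegree (χ : G → ℂ) : ℤ) ^ 2) = ∑ χ ∈ A, (charDegree (χ : G → ℂ) : ℤ) ^ 2 := by
    rw [← finsum_mem_coe_finset]
    congr 1
    funext χ
    simp [A]
  -- restriction is a bijection `A → B`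
  have hres : ∀ χ ∈ A, IsIrrCharacter N (fun n : N => (χ : G → ℂ) n) := by
    intro χ hχ
    obtain ⟨θ, hθ, hc⟩ := exists_constituent (isCharacter_restrict (isCharacter_of_irr χ.2) N)
      (fun e => irr_ne_zero χ.2 (congrFun e 1))
    obtain ⟨e, he, hdvd⟩ := degree_ratio_dvd χ.2 hθ hc
    obtain ⟨j, -, rfl⟩ := (Nat.dvd_prime_pow hp.out).1 (hk ▸ hdvd)
    rw [hdeg, (charDegree_spec' hθ).1, ← Nat.cast_mul, Nat.cast_inj] at he
    have hj : j = 0 := by
      by_contra hj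
      exact (Finset.mem_filter.1 hχ).2.1 (he ▸ dvd_mul_of_dvd_left (dvd_pow_self p hj) _)
    rw [hj, pow_zero, one_mul] at he
    have hs := isCharacter_sub_irr (isCharacter_restrict (isCharacter_of_irr χ.2) N) hθ hc
    have hz := eq_zero_of_degree_zero hs (by
      show (χ : G → ℂ) ((1 : N) : G) - θ 1 = 0
      rw [OneMemClass.coe_one, hdeg, (charDegree_spec' hθ).1, he, sub_self])
    rwa [sub_eq_zero.1 hz]
  let r : ∀ χ ∈ A, IrrCharacter N := fun χ hχ => ⟨fun n : N => (χ : G → ℂ) n, hres χ hχ⟩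
  have hrdeg : ∀ χ (h : χ ∈ A), charDegree (r χ h : N → ℂ) = charDegree (χ : G → ℂ) := fun χ h => by
    simp [charDegree, r]
  have hAB : ∑ χ ∈ A, (charDegree (χ : G → ℂ) : ℤ) ^ 2 = ∑ θ ∈ B, (charDegree (θ : N → ℂ) : ℤ) ^ 2 := by
    have hinv' : ∀ χ (h : χ ∈ A), ∀ (g : G) (n : N),
        (χ : G → ℂ) (g * n * g⁻¹) = (χ : G → ℂ) n := fun χ _ g n => isClassFunction_irr χ.2 n g
    refine Finset.sum_bij r (fun χ h => ?_) (fun χ₁ h₁ χ₂ h₂ e => ?_) (fun θ hθ => ?_) (fun χ h => by rw [hrdeg χ h])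
    · refine Finset.mem_filter.2 ⟨Finset.mem_univ _, by rw [hrdeg χ h]; exact (Finset.mem_filter.1 h).2.1, fun g => ?_⟩
      rw [conjNormFun_eq]
      funext n
      exact hinv' χ h g n
    · have h1 := (Finset.mem_filter.1 h₁).2
      have h2 := (Finset.mem_filter.1 h₂).2
      have hd : (r χ₁ h₁ : N → ℂ) 1 = ((charDegree (χ₁ : G → ℂ) : ℕ) : ℂ) := hdeg χ₁
      obtain ⟨χ, -, huniq⟩ := Cfsg.Agent.S0867.result N (r χ₁ h₁ : N → ℂ) (r χ₁ h₁).2
        (fun g n => hinv' χ₁ h₁ g n) _ hd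
        (Nat.Coprime.mul_right (hcop _ (not_dvd_detOrder_residual (r χ₁ h₁).2)) (hcop _ h1.1))
      exact Subtype.ext ((huniq χ₁ χ₁.2 (fun _ => rfl) (hcop _ h1.2)).trans
        (huniq χ₂ χ₂.2 (fun n => (congrFun (congrArg Subtype.val e) n).symm) (hcop _ h2.2)).symm)
    · obtain ⟨hθd, hθi⟩ := (Finset.mem_filter.1 hθ).2
      obtain ⟨χ, ⟨hχ, hχN, hdet⟩, -⟩ := Cfsg.Agent.S0867.result N (θ : N → ℂ) θ.2
        (fun g n => by
          have := congrFun (hθi g) n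
          rwa [conjNormFun_eq] at this) _ (hdegN θ)
        (Nat.Coprime.mul_right (hcop _ (not_dvd_detOrder_residual θ.2)) (hcop _ hθd))
      have hd : charDegree χ = charDegree (θ : N → ℂ) := by
        have := hχN 1
        simp [charDegree, ← this]
      exact ⟨⟨χ, hχ⟩, Finset.mem_filter.2 ⟨Finset.mem_univ _, by rw [hd]; exact hθd,
        by rw [hdet]; exact not_dvd_detOrder_residual θ.2⟩, Subtype.ext (funext hχN)⟩
  -- everything else vanishes modulo `p`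
  have hall : (∑ θ : IrrCharacter N, (charDegree (θ : N → ℂ) : ℤ) ^ 2) = Nat.card N := by
    have h := sum_irr_degree_sq (G := N)
    simp only [hdegN] at h
    exact_mod_cast h
  rw [← ZMod.intCast_eq_intCast_iff, hfin, hAB, ← hall,
    ← Finset.sum_filter_add_sum_filter_not (Finset.univ : Finset (IrrCharacter N)) (fun θ : IrrCharacter N => ¬ p ∣ charDegree (θ : N → ℂ) ∧ Inv θ),
    Int.cast_add]
  refine add_eq_left.2 ?_
  rw [Int.cast_sum]
  push_cast
  set R := Finset.univ.filter fun θ : IrrCharacter N => ¬ (¬ p ∣ charDegree (θ : N → ℂ) ∧ Inv θ)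
  rw [← Finset.sum_fiberwise_of_maps_to (g := fun θ : IrrCharacter N => conjOrbit N (θ : N → ℂ))
    (t := R.image fun θ : IrrCharacter N => conjOrbit N (θ : N → ℂ)) (fun θ hθ => Finset.mem_image_of_mem _ hθ)]
  refine Finset.sum_eq_zero fun O hO => ?_
  obtain ⟨θ, hθR, rfl⟩ := Finset.mem_image.1 hO
  have horb : ∀ ψ : IrrCharacter N, conjOrbit N (ψ : N → ℂ) = conjOrbit N (θ : N → ℂ) →
      ∃ g : G, conjNormFun N g (θ : N → ℂ) = ψ := fun ψ h =>
    (mem_conjOrbit N).1 (h ▸ (mem_conjOrbit N).2 ⟨1, conjNormFun_one N _⟩)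
  have hsame : ∀ ψ ∈ R.filter fun ψ : IrrCharacter N => conjOrbit N (ψ : N → ℂ) = conjOrbit N (θ : N → ℂ),
      charDegree (ψ : N → ℂ) = charDegree (θ : N → ℂ) := by
    intro ψ hψ
    obtain ⟨g, hg⟩ := horb ψ (Finset.mem_filter.1 hψ).2
    rw [charDegree, charDegree, ← hg, conjNormFun_apply_one]
  rw [Finset.sum_congr rfl fun ψ hψ => by rw [hsame ψ hψ], Finset.sum_const, nsmul_eq_mul]
  by_cases hpd : p ∣ charDegree (θ : N → ℂ)
  · rw [(ZMod.natCast_eq_zero_iff _ p).2 hpd]; simp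
  · have hni : ¬ Inv θ := fun h => (Finset.mem_filter.1 hθR).2 ⟨hpd, h⟩
    have hcard : (R.filter fun ψ : IrrCharacter N => conjOrbit N (ψ : N → ℂ) = conjOrbit N (θ : N → ℂ)).card =
        (conjOrbit N (θ : N → ℂ)).card := by
      refine Finset.card_bij (fun ψ _ => (ψ : N → ℂ)) (fun ψ hψ => (mem_conjOrbit N).2 (horb ψ (Finset.mem_filter.1 hψ).2))
        (fun _ _ _ _ e => Subtype.ext e) fun f hf => ?_
      obtain ⟨g, rfl⟩ := (mem_conjOrbit N).1 hf
      have ho : conjOrbit N (conjNormFun N g (θ : N → ℂ)) = conjOrbit N (θ : N → ℂ) := by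
        ext f
        rw [mem_conjOrbit, mem_conjOrbit]
        constructor
        · rintro ⟨k, rfl⟩; exact ⟨g * k, conjNormFun_mul N g k _⟩
        · rintro ⟨k, rfl⟩
          exact ⟨g⁻¹ * k, by rw [← conjNormFun_mul, mul_inv_cancel_left]⟩
      refine ⟨⟨_, isIrr_conjNormFun N g θ.2⟩, Finset.mem_filter.2 ⟨Finset.mem_filter.2 ⟨Finset.mem_univ _, ?_⟩, ho⟩, rfl⟩
      rintro ⟨-, hi⟩
      refine hni fun k => ?_
      have h1 : (θ : N → ℂ) = conjNormFun N g (θ : N → ℂ) := by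
        have := hi g⁻¹
        rwa [← conjNormFun_mul, mul_inv_cancel, conjNormFun_one] at this
      rw [h1]
      exact hi k
    rw [hcard, card_conjOrbit]
    have hI : N ≤ inertia N (θ : N → ℂ) := le_inertia N (isClassFunction_irr θ.2)
    obtain ⟨j, -, hj⟩ := (Nat.dvd_prime_pow hp.out).1 (hk ▸ Subgroup.index_dvd_of_le hI)
    have hj0 : j ≠ 0 := fun e => hni fun g => (mem_inertia N).1
      ((Subgroup.index_eq_one.1 (by rw [hj, e, pow_zero])).ge (Subgroup.mem_top g))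
    rw [hj, Nat.cast_pow, ZMod.natCast_self, zero_pow hj0, zero_mul]

end CfsgLib.CharTheory
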