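/-
Linear characters of a cyclic TI subgroup `W₁ ⊔ W₂`.
-/
import Cfsg.Agent.Lib.CharTheory.TI
import Cfsg.Agent.Lib.CharTheory.Linear
import Cfsg.Prelude.Def_OddOrderLocal

set_option autoImplicit false

namespace CfsgLib.CharTheory

open Cfsg
open scoped ComplexConjugate Pointwise

universe u

variable {G : Type u} [Group G] {W₁ W₂ : Subgroup G}

/-- `(1 - φ)(1 - ψ)`. -/
noncomputable def cycBeta (φ ψ : ↥(W₁ ⊔ W₂) →* ℂˣ) : ↥(W₁ ⊔ W₂) → ℂ :=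
  fun w => 1 - (φ w : ℂ) - (ψ w : ℂ) + (φ w : ℂ) * (ψ w : ℂ)

theorem cycBeta_eq_zero (φ ψ : ↥(W₁ ⊔ W₂) →* ℂˣ) (hφ : ∀ w : ↥(W₁ ⊔ W₂), (w : G) ∈ W₂ → φ w = 1)
    (hψ : ∀ w : ↥(W₁ ⊔ W₂), (w : G) ∈ W₁ → ψ w = 1) (w : ↥(W₁ ⊔ W₂)) (h : (w : G) ∈ W₁ ∨ (w : G) ∈ W₂) :
    cycBeta φ ψ w = 0 := by
  rcases h with h | h
  · simp [cycBeta, hψ w h]
  · simp [cycBeta, hφ w h]

theorem cyc_hom_ext (hcomm : ∀ a ∈ W₁, ∀ b ∈ W₂, a * b = b * a) {M : Type*} [MulOneClass M]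
    (f g : ↥(W₁ ⊔ W₂) →* M) (h : ∀ w : ↥(W₁ ⊔ W₂), (w : G) ∈ W₁ ∨ (w : G) ∈ W₂ → f w = g w) : f = g := by
  ext ⟨w, hw⟩
  have hn : W₁ ≤ Subgroup.normalizer (W₂ : Set G) := fun a ha => Subgroup.mem_normalizer_iff.mpr fun b => by
    constructor
    · intro hb; rw [hcomm a ha b hb]; simpa using hb
    · intro hb
      have := hcomm a⁻¹ (W₁.inv_mem ha) _ hb
      have e : b = a * b * a⁻¹ := by
        calc b = a⁻¹ * (a * b * a⁻¹) * a := by group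
          _ = a * b * a⁻¹ := by rw [this]; group
      rw [e]; exact hb
  have hw' := hw
  rw [← SetLike.mem_coe, Subgroup.coe_mul_of_left_le_normalizer_right _ _ hn] at hw'
  obtain ⟨a, ha, b, hb, rfl⟩ := hw'
  have e : (⟨a * b, hw⟩ : ↥(W₁ ⊔ W₂)) = ⟨a, Subgroup.mem_sup_left ha⟩ * ⟨b, Subgroup.mem_sup_right hb⟩ := rfl
  show f ⟨a * b, hw⟩ = g ⟨a * b, hw⟩
  rw [e, map_mul, map_mul, h _ (Or.inl ha), h _ (Or.inr hb)]

section Inner
variable [Fintype ↥(W₁ ⊔ W₂)]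

open Classical in
theorem classInner_linear {H : Type u} [Group H] [Fintype H] (a b : H →* ℂˣ) :
    classInner (fun h => (a h : ℂ)) (fun h => (b h : ℂ)) = if a = b then 1 else 0 := by
  rw [classInner_irr (isIrrCharacter_linear a) (isIrrCharacter_linear b)]
  refine if_congr ⟨fun e => MonoidHom.ext fun h => Units.ext (congrFun e h), fun e => by rw [e]⟩ rfl rfl

theorem cycBeta_eq (φ ψ : ↥(W₁ ⊔ W₂) →* ℂˣ) : cycBeta φ ψ =
    (fun w => ((1 : ↥(W₁ ⊔ W₂) →* ℂˣ) w : ℂ)) - (fun w => (φ w : ℂ)) - (fun w => (ψ w : ℂ)) + (fun w => ((φ * ψ) w : ℂ)) := by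
  funext w; simp [cycBeta]

open Classical in
theorem classInner_cycBeta_linear (φ ψ a : ↥(W₁ ⊔ W₂) →* ℂˣ) :
    classInner (cycBeta φ ψ) (fun w => (a w : ℂ)) =
      (if 1 = a then 1 else 0) - (if φ = a then 1 else 0) - (if ψ = a then 1 else 0) + (if φ * ψ = a then 1 else 0) := by
  rw [cycBeta_eq, classInner_add_left, classInner_sub_left, classInner_sub_left, classInner_linear, classInner_linear,
    classInner_linear, classInner_linear]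

theorem cyc_prod_facts (hcomm : ∀ a ∈ W₁, ∀ b ∈ W₂, a * b = b * a) {φ φ' ψ ψ' : ↥(W₁ ⊔ W₂) →* ℂˣ}
    (hφ' : φ' ≠ 1) (hψ' : ψ' ≠ 1) (hφ₂ : ∀ w : ↥(W₁ ⊔ W₂), (w : G) ∈ W₂ → φ w = 1)
    (hφ₂' : ∀ w : ↥(W₁ ⊔ W₂), (w : G) ∈ W₂ → φ' w = 1) (hψ₁ : ∀ w : ↥(W₁ ⊔ W₂), (w : G) ∈ W₁ → ψ w = 1)
    (hψ₁' : ∀ w : ↥(W₁ ⊔ W₂), (w : G) ∈ W₁ → ψ' w = 1) :
    φ' * ψ' ≠ 1 ∧ φ ≠ φ' * ψ' ∧ ψ ≠ φ' * ψ' ∧ (φ * ψ = φ' * ψ' ↔ φ = φ' ∧ ψ = ψ') ∧ φ' ≠ ψ ∧ ψ' ≠ φ := by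
  have split : ∀ {a a' b b' : ↥(W₁ ⊔ W₂) →* ℂˣ}, (∀ w : ↥(W₁ ⊔ W₂), (w : G) ∈ W₂ → a w = 1) →
      (∀ w : ↥(W₁ ⊔ W₂), (w : G) ∈ W₂ → a' w = 1) → (∀ w : ↥(W₁ ⊔ W₂), (w : G) ∈ W₁ → b w = 1) →
      (∀ w : ↥(W₁ ⊔ W₂), (w : G) ∈ W₁ → b' w = 1) → a * b = a' * b' → a = a' ∧ b = b' := by
    intro a a' b b' ha ha' hb hb' e
    constructor <;> refine cyc_hom_ext hcomm _ _ fun w hw => ?_ <;> have := DFunLike.congr_fun e w <;>
      simp only [MonoidHom.mul_apply] at this <;> rcases hw with h | h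
    · rwa [hb w h, hb' w h, mul_one, mul_one] at this
    · rw [ha w h, ha' w h]
    · rw [hb w h, hb' w h]
    · rwa [ha w h, ha' w h, one_mul, one_mul] at this
  have one₁ : ∀ w : ↥(W₁ ⊔ W₂), (w : G) ∈ W₁ → (1 : ↥(W₁ ⊔ W₂) →* ℂˣ) w = 1 := fun _ _ => rfl
  have one₂ : ∀ w : ↥(W₁ ⊔ W₂), (w : G) ∈ W₂ → (1 : ↥(W₁ ⊔ W₂) →* ℂˣ) w = 1 := fun _ _ => rfl
  refine ⟨fun e => hφ' (split hφ₂' one₂ hψ₁' one₁ (e.trans (mul_one (1 : ↥(W₁ ⊔ W₂) →* ℂˣ)).symm)).1,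
    fun e => hψ' (split hφ₂ hφ₂' one₁ hψ₁' ((mul_one φ).trans e)).2.symm,
    fun e => hφ' (split one₂ hφ₂' hψ₁ hψ₁' ((one_mul ψ).trans e)).1.symm,
    ⟨split hφ₂ hφ₂' hψ₁ hψ₁', fun e => by rw [e.1, e.2]⟩,
    fun e => hφ' (split hφ₂' one₂ one₁ hψ₁ ((mul_one φ').trans (e.trans (one_mul ψ).symm))).1,
    fun e => hψ' (split one₂ hφ₂ hψ₁' one₁ ((one_mul ψ').trans (e.trans (mul_one φ).symm))).2⟩

end Inner

theorem cyclic_subgroup_ext {A : Type*} [Group A] [Finite A] [IsCyclic A] {H K : Subgroup A}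
    (h : Nat.card H = Nat.card K) : H = K := by
  classical
  have := Fintype.ofFinite A
  have key : ∀ L : Subgroup A, Nat.card L = Nat.card H →
      Finset.univ.filter (fun x => x ∈ L) = Finset.univ.filter (fun x : A => x ^ Nat.card H = 1) := by
    intro L hL
    refine Finset.eq_of_subset_of_card_le (fun x hx => ?_) ?_
    · refine Finset.mem_filter.mpr ⟨Finset.mem_univ _, ?_⟩
      exact orderOf_dvd_iff_pow_eq_one.mp (hL ▸ L.orderOf_dvd_natCard (Finset.mem_filter.mp hx).2)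
    · refine (IsCyclic.card_pow_eq_one_le Nat.card_pos).trans ?_
      rw [← Fintype.card_subtype, ← Nat.card_eq_fintype_card, ← hL]
  ext x
  simpa using Finset.ext_iff.mp ((key H rfl).trans (key K h.symm).symm) x

theorem cyclicTI_isTI [Finite G] (hW : IsSelfNormalizingCyclic W₁ W₂) :
    ∀ g : G, g ∉ W₁ ⊔ W₂ → ∀ s ∈ ((↑(W₁ ⊔ W₂) : Set G) \ (↑W₁ ∪ ↑W₂)),
      g * s * g⁻¹ ∈ ((↑(W₁ ⊔ W₂) : Set G) \ (↑W₁ ∪ ↑W₂)) → s = 1 := by
  intro g hg s hs hgs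
  exfalso
  obtain ⟨-, -, -, -, hcyc, hN⟩ := hW
  haveI := hcyc
  set W := W₁ ⊔ W₂ with hWdef
  have h1 : Subgroup.normalizer ({s} : Set G) = W := hN {s} (Set.singleton_subset_iff.mpr hs) (Set.singleton_nonempty s)
  have h2 : Subgroup.normalizer ({g * s * g⁻¹} : Set G) = W :=
    hN _ (Set.singleton_subset_iff.mpr hgs) (Set.singleton_nonempty _)
  have hgW : ∀ w ∈ W, g * w * g⁻¹ ∈ W := fun w hw => by
    rw [← h1] at hw
    rw [← h2, Subgroup.mem_set_normalizer_iff]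
    intro n
    have e := Subgroup.mem_set_normalizer_iff.mp hw (g⁻¹ * n * g)
    simp only [Set.mem_singleton_iff] at e ⊢
    constructor
    · intro h; subst h
      have := e.mp (by group)
      calc g * w * g⁻¹ * (g * s * g⁻¹) * (g * w * g⁻¹)⁻¹ = g * (w * (g⁻¹ * (g * s * g⁻¹) * g) * w⁻¹) * g⁻¹ := by group
        _ = g * s * g⁻¹ := by rw [this]
    · intro h
      have h' : w * (g⁻¹ * n * g) * w⁻¹ = s := by
        calc w * (g⁻¹ * n * g) * w⁻¹ = g⁻¹ * (g * w * g⁻¹ * n * (g * w * g⁻¹)⁻¹) * g := by group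
          _ = s := by rw [h]; group
      calc n = g * (g⁻¹ * n * g) * g⁻¹ := by group
        _ = g * s * g⁻¹ := by rw [e.mpr h']
  have key : ∀ V : Subgroup G, V ≤ W → ∀ v, v ∈ V ↔ g * v * g⁻¹ ∈ V := by
    intro V hV v
    have hmap : V.map (MulAut.conj g).toMonoidHom = V := by
      have hle : V.map (MulAut.conj g).toMonoidHom ≤ W := by
        rintro _ ⟨x, hx, rfl⟩; exact hgW x (hV hx)
      have h3 := cyclic_subgroup_ext (A := W) (H := (V.map (MulAut.conj g).toMonoidHom).subgroupOf W) (K := V.subgroupOf W)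
        (by rw [Nat.card_congr (Subgroup.subgroupOfEquivOfLe hle).toEquiv, Nat.card_congr (Subgroup.subgroupOfEquivOfLe hV).toEquiv,
          Subgroup.card_map_of_injective (MulAut.conj g).injective])
      have h4 := congrArg (Subgroup.map W.subtype) h3
      rwa [Subgroup.map_subgroupOf_eq_of_le hle, Subgroup.map_subgroupOf_eq_of_le hV] at h4
    constructor
    · intro hv; rw [← hmap]; exact ⟨v, hv, rfl⟩
    · intro hv; rw [← hmap] at hv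
      obtain ⟨x, hx, he⟩ := hv
      have : x = v := (MulAut.conj g).injective he
      exact this ▸ hx
  have h5 : g ∈ Subgroup.normalizer ((↑W : Set G) \ (↑W₁ ∪ ↑W₂)) := by
    rw [Subgroup.mem_set_normalizer_iff]
    intro v
    simp only [Set.mem_sdiff, Set.mem_union, SetLike.mem_coe]
    rw [key W le_rfl v, key W₁ le_sup_left v, key W₂ le_sup_right v]
  rw [hN _ subset_rfl ⟨s, hs⟩] at h5
  exact hg h5

end CfsgLib.CharTheory
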