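/-
Exceptional characters from the linear characters of a Frobenius kernel, and the impossibility of a
partition of a group of odd order by the conjugates of coprime Frobenius kernels.
-/
import Cfsg.Agent.Lib.CharTheory.PowerMap
import Cfsg.Agent.Lib.CharTheory.TI
import Cfsg.Agent.Lib.CharTheory.Linear
import Cfsg.Agent.Lib.CharTheory.PSection
import Cfsg.Agent.Lib.Frobenius.FixedPointFree
import Cfsg.Agent.S0161

set_option autoImplicit false

namespace CfsgLib.CharTheory.Partition

open Cfsg CfsgLib.CharTheory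
open scoped ComplexConjugate

universe u

/-! ### Sums over the nonidentity elements of a subgroup -/

open Classical in
/-- The nonidentity elements of a subgroup, as a finite set. -/
noncomputable def punct {G : Type u} [Group G] [Fintype G] (H : Subgroup G) : Finset G :=
  Finset.univ.filter fun x => x ∈ H ∧ x ≠ 1

theorem mem_punct {G : Type u} [Group G] [Fintype G] {H : Subgroup G} {x : G} :
    x ∈ punct H ↔ x ∈ H ∧ x ≠ 1 := by
  classical
  simp [punct]

theorem card_punct {G : Type u} [Group G] [Fintype G] (H : Subgroup G) :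
    ((punct H).card : ℝ) = (Nat.card H : ℝ) - 1 := by
  classical
  have h1 : punct H = (Finset.univ.filter (· ∈ H)).erase 1 := by
    ext x; simp [mem_punct, and_comm]
  have h2 : (Finset.univ.filter (· ∈ H)).card = Nat.card H := by
    rw [Nat.card_eq_fintype_card, Fintype.card_subtype]
  rw [h1, Finset.card_erase_of_mem (by simp [H.one_mem]), h2, Nat.cast_sub Nat.card_pos, Nat.cast_one]

/-- `∑ |F|²` over the nonidentity elements. -/
noncomputable def weight {G : Type u} [Group G] [Fintype G] (H : Subgroup G) (F : G → ℂ) : ℝ :=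
  ∑ x ∈ punct H, Complex.normSq (F x)

theorem weight_nonneg {G : Type u} [Group G] [Fintype G] (H : Subgroup G) (F : G → ℂ) :
    0 ≤ weight H F := Finset.sum_nonneg fun _ _ => Complex.normSq_nonneg _

/-! ### The key inequality on a nilpotent group -/

theorem exists_pdecomp {K : Type u} [Group K] [Finite K] {p : ℕ} [hp : Fact p.Prime] (x : K) :
    ∃ y z : K, y * z = x ∧ Commute y z ∧ (∃ k, y ^ p ^ k = 1) ∧ (orderOf z).Coprime p := by
  obtain ⟨k, r, hr, hm⟩ := Nat.exists_eq_pow_mul_and_not_dvd (orderOf_pos x).ne' p hp.out.ne_one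
  have hco : (p ^ k).Coprime r := (hp.out.coprime_iff_not_dvd.mpr hr).pow_left k
  have hb : (1 : ℤ) = (p ^ k : ℕ) * Nat.gcdA (p ^ k) r + (r : ℕ) * Nat.gcdB (p ^ k) r := by
    rw [← Nat.gcd_eq_gcd_ab, hco.gcd_eq_one, Nat.cast_one]
  refine ⟨x ^ ((r : ℤ) * Nat.gcdB (p ^ k) r), x ^ (((p ^ k : ℕ) : ℤ) * Nat.gcdA (p ^ k) r), ?_,
    (Commute.refl x).zpow_zpow _ _, ⟨k, ?_⟩, ?_⟩
  · rw [← zpow_add, add_comm, ← hb, zpow_one]
  · rw [← zpow_natCast, ← zpow_mul, mul_comm, ← mul_assoc, ← Nat.cast_mul, ← hm, zpow_mul,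
      zpow_natCast, pow_orderOf_eq_one, one_zpow]
  · refine Nat.Coprime.coprime_dvd_left (orderOf_dvd_of_pow_eq_one (n := r) ?_)
      (hp.out.coprime_iff_not_dvd.mpr hr).symm
    rw [← zpow_natCast, ← zpow_mul, mul_comm, ← mul_assoc, ← Nat.cast_mul, mul_comm r, ← hm, zpow_mul,
      zpow_natCast, pow_orderOf_eq_one, one_zpow]

theorem normSq_sum_lower {K : Type u} [Group K] [Fintype K] [DecidableEq K] [Group.IsNilpotent K] {F : K → ℂ}
    (hF : IsGeneralizedCharacter K F) (f : K → ℤ) (hf : ∀ x, F x = f x)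
    (hlt : commutator K ≠ ⊤) {c : ℤ} (hc : c ≠ 0) [DecidablePred (· ∈ commutator K)]
    (hsum : ∑ x ∈ Finset.univ.filter (fun x => x ∉ commutator K), f x =
      c * ((Finset.univ.filter (fun x => x ∉ commutator K)).card : ℤ)) :
    (Nat.card K : ℤ) - 1 ≤ ∑ x ∈ Finset.univ.filter (fun x : K => x ≠ 1), f x ^ 2 := by
  classical
  set U := Finset.univ.filter (fun x : K => x ∉ commutator K) with hU
  set T := Finset.univ.filter (fun x : K => x ∈ commutator K ∧ x ≠ 1) with hT
  obtain ⟨p, hp, hpd⟩ := Nat.exists_prime_and_dvd (n := (commutator K).index)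
    (fun e => hlt (Subgroup.index_eq_one.mp e))
  haveI : Fact p.Prime := ⟨hp⟩
  obtain ⟨P⟩ : Nonempty (Sylow p K) := inferInstance
  haveI : (P : Subgroup K).Normal := inferInstance
  obtain ⟨y₀, hy₀P, hy₀⟩ := SetLike.not_le_iff_exists.mp
    (fun hle : (P : Subgroup K) ≤ commutator K =>
      P.not_dvd_index (hpd.trans (Subgroup.index_dvd_of_le hle)))
  -- zeros inside the derived subgroup give values divisible by `p` outside it
  have hzero : ∀ x ∈ T.filter (fun x => f x = 0), y₀ * x ∈ U.filter (fun x => f x ≠ 1 ∧ f x ≠ -1) := by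
    intro x hx
    simp only [hT, Finset.mem_filter, Finset.mem_univ, true_and] at hx
    refine Finset.mem_filter.mpr ⟨?_, ?_⟩
    · simp only [hU, Finset.mem_filter, Finset.mem_univ, true_and]
      exact fun h => hy₀ (by simpa using mul_mem h (inv_mem hx.1.1))
    · obtain ⟨y, z, rfl, hyz, ⟨k, hk⟩, hz⟩ := exists_pdecomp (p := p) x
      have hyP : y ∈ (P : Subgroup K) := by
        obtain ⟨Q, hQ⟩ := (IsPGroup.of_card (n := Nat.log p (Nat.card (Subgroup.zpowers y))) (by
          obtain ⟨i, -, hi⟩ := (Nat.dvd_prime_pow hp).mp (orderOf_dvd_of_pow_eq_one hk)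
          rw [Nat.card_zpowers, hi, Nat.log_pow hp.one_lt]) : IsPGroup p (Subgroup.zpowers y)).exists_le_sylow
        haveI : Unique (Sylow p K) := Sylow.unique_of_normal P inferInstance
        rw [Subsingleton.elim P Q]
        exact hQ (Subgroup.mem_zpowers y)
      obtain ⟨U', -, -, hcomm⟩ := exists_coprime_part (E := K) inferInstance p
      have key : ∀ w ∈ (P : Subgroup K), f (w * z) ≡ f z [ZMOD p] := by
        intro w hw
        obtain ⟨j, hj⟩ := P.2 ⟨w, hw⟩
        have hj' : w ^ p ^ j = 1 := by simpa using congrArg Subtype.val hj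
        have hwz : Commute w z := hcomm w z
          ((Nat.Coprime.pow_left j hz.symm).coprime_dvd_left (orderOf_dvd_of_pow_eq_one hj'))
        exact genChar_modEq_mul hF hj' hwz (hf _) (hf _) (hf _)
      have h3 := (key _ (mul_mem hy₀P hyP)).trans (key y hyP).symm
      rw [hx.2, mul_assoc, Int.modEq_zero_iff_dvd] at h3
      have hp' : ¬ (p : ℤ) ∣ 1 := fun h => hp.ne_one (Nat.dvd_one.mp (Int.natCast_dvd_natCast.mp h))
      exact ⟨fun e => hp' (e ▸ h3), fun e => hp' (dvd_neg.mp (e ▸ h3))⟩
  have hcard : (T.filter (fun x => f x = 0)).card ≤ (U.filter (fun x => f x ≠ 1 ∧ f x ≠ -1)).card :=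
    Finset.card_le_card_of_injOn (y₀ * ·) (fun x hx => hzero x hx)
      (fun a _ b _ e => mul_left_cancel e)
  have hUb : 2 * |c| * (U.card : ℤ) - U.card + (U.filter (fun x => f x ≠ 1 ∧ f x ≠ -1)).card ≤
      ∑ x ∈ U, f x ^ 2 := by
    have h1 : |c| * (U.card : ℤ) ≤ ∑ x ∈ U, |f x| := by
      rw [← Nat.abs_cast U.card, ← abs_mul, ← hsum]
      exact Finset.abs_sum_le_sum_abs _ _
    have h2 : ∀ x ∈ U, 2 * |f x| - 1 + (if f x ≠ 1 ∧ f x ≠ -1 then 1 else 0) ≤ f x ^ 2 := by
      intro x _
      split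
      · rename_i h
        have : |f x| ≠ 1 := fun e => by rcases (abs_eq (zero_le_one' ℤ)).mp e with e | e <;> tauto
        have : |f x| = 0 ∨ 2 ≤ |f x| := by have := abs_nonneg (f x); omega
        rw [← sq_abs (f x)]
        rcases this with e | e
        · rw [e]; norm_num
        · nlinarith
      · rw [← sq_abs (f x)]; nlinarith [sq_nonneg (|f x| - 1)]
    refine le_trans ?_ (Finset.sum_le_sum h2)
    rw [Finset.sum_add_distrib, Finset.sum_sub_distrib, ← Finset.mul_sum, Finset.sum_boole]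
    simp only [Finset.sum_const, nsmul_eq_mul, mul_one]
    linarith
  have hTb : (T.card : ℤ) - (T.filter (fun x => f x = 0)).card ≤ ∑ x ∈ T, f x ^ 2 := by
    have h2 : ∀ x ∈ T, (1 : ℤ) - (if f x = 0 then 1 else 0) ≤ f x ^ 2 := by
      intro x _
      split
      · rename_i h; rw [h]; norm_num
      · rename_i h; have := mul_self_pos.mpr h; rw [sq]; omega
    refine le_trans ?_ (Finset.sum_le_sum h2)
    rw [Finset.sum_sub_distrib, Finset.sum_boole]
    simp
  have hsplit : Finset.univ.filter (fun x : K => x ≠ 1) = U ∪ T := by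
    ext x
    simp only [hU, hT, Finset.mem_union, Finset.mem_filter, Finset.mem_univ, true_and]
    constructor
    · intro hx
      by_cases h : x ∈ commutator K
      · exact Or.inr ⟨h, hx⟩
      · exact Or.inl h
    · rintro (h | h)
      · exact fun e => h (e ▸ one_mem _)
      · exact h.2
  have hdisj : Disjoint U T := Finset.disjoint_left.mpr fun x h1 h2 => by
    simp only [hU, hT, Finset.mem_filter, Finset.mem_univ, true_and] at h1 h2
    exact h1 h2.1
  have htot : (Nat.card K : ℤ) - 1 = (U.card : ℤ) + T.card := by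
    have h1 : (Finset.univ.filter (fun x : K => x ≠ 1)).card = Nat.card K - 1 := by
      rw [Finset.filter_ne' , Finset.card_erase_of_mem (Finset.mem_univ _), Finset.card_univ,
        Nat.card_eq_fintype_card]
    rw [hsplit, Finset.card_union_of_disjoint hdisj] at h1
    have := Nat.card_pos (α := K)
    omega
  rw [htot, hsplit, Finset.sum_union hdisj]
  have : (U.card : ℤ) ≤ |c| * U.card := le_mul_of_one_le_left (Nat.cast_nonneg _) (Int.one_le_abs hc)
  have : ((T.filter (fun x => f x = 0)).card : ℤ) ≤ ((U.filter (fun x => f x ≠ 1 ∧ f x ≠ -1)).card : ℤ) := by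
    exact_mod_cast hcard
  linarith

theorem natCard_hom {K : Type u} [Group K] [Finite K] :
    Nat.card (K →* ℂˣ) = (commutator K).index := by
  rw [← card_linear (G := K), Nat.card_congr linearEquivHom]

/-- Column orthogonality for the linear characters. -/
theorem sum_hom_apply {K : Type u} [Group K] [Finite K] [Fintype (K →* ℂˣ)]
    [DecidablePred (· ∈ commutator K)] (x : K) :
    ∑ φ : K →* ℂˣ, ((φ x : ℂˣ) : ℂ) =
      if x ∈ commutator K then ((commutator K).index : ℂ) else 0 := by
  classical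
  split
  · rename_i h
    rw [Finset.sum_congr rfl fun φ _ => by
      rw [MonoidHom.mem_ker.mp (Abelianization.commutator_subset_ker φ h), Units.val_one]]
    rw [Finset.sum_const, Finset.card_univ, nsmul_eq_mul, mul_one, ← natCard_hom,
      Nat.card_eq_fintype_card]
  · rename_i h
    obtain ⟨ψ, hψ⟩ := CommGroup.exists_apply_ne_one_of_hasEnoughRootsOfUnity (Abelianization K) ℂ
      (a := Abelianization.of x) (fun e => h (by rwa [← Abelianization.ker_of, MonoidHom.mem_ker]))
    set φ₀ : K →* ℂˣ := ψ.comp Abelianization.of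
    have h1 : ((φ₀ x : ℂˣ) : ℂ) * ∑ φ : K →* ℂˣ, ((φ x : ℂˣ) : ℂ) =
        ∑ φ : K →* ℂˣ, ((φ x : ℂˣ) : ℂ) := by
      rw [Finset.mul_sum]
      exact Fintype.sum_equiv (Equiv.mulLeft φ₀) _ _ fun φ => by simp
    by_contra hne
    exact hψ (Units.ext ((mul_eq_right₀ hne).mp h1))

/-! ### The family of exceptional characters of one Frobenius subgroup -/

/-- The data attached to a Frobenius subgroup `L` with kernel `H`. -/
structure Family {G : Type u} [Group G] [Fintype G] (L H : Subgroup G) where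
  e : ℕ
  a : ℕ
  n : ℕ
  k₀ : Fin n
  μ : Fin n → G → ℂ
  A : G → ℂ
  ε : ℤ
  c : ℤ
  e_spec : Nat.card L = e * Nat.card H
  e_odd : Odd e
  three_le_e : 3 ≤ e
  a_spec : n * e + 1 = a
  a_dvd : a ∣ Nat.card H
  n_even : Even n
  two_le_n : 2 ≤ n
  eps_sq : ε * ε = 1
  irr : ∀ k, IsIrrCharacter G (μ k)
  inj : Function.Injective μ
  ne_one : ∀ k, μ k ≠ fun _ => 1
  pow_perm : ∀ m : ℕ, m.Coprime (Nat.card G) →
    ∃ π : Equiv.Perm (Fin n), ∀ k g, μ k (g ^ m) = μ (π k) g
  genA : IsGeneralizedCharacter G A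
  A_one : classInner A (fun _ => 1) = 1
  A_norm : classInner A A = (e : ℂ) + 1
  A_own : ∀ k, classInner A (μ k) = ((c - if k = k₀ then ε else 0 : ℤ) : ℂ)
  A_symm : ∀ m : ℕ, m.Coprime (Nat.card G) → ∀ ψ : G → ℂ, IsIrrCharacter G ψ →
    (∀ k, (fun g => ψ (g ^ m)) ≠ μ k) → classInner A (fun g => ψ (g ^ m)) = classInner A ψ
  A_supp : ∀ x, A x ≠ 0 → ∃ h ∈ H, h ≠ 1 ∧ IsConj h x
  diff_supp : ∀ k l x, μ k x ≠ μ l x → ∃ h ∈ H, h ≠ 1 ∧ IsConj h x
  bound : ∀ F : G → ℂ, IsGeneralizedCharacter G F → (∀ k l, classInner F (μ k) = classInner F (μ l)) →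
    (∀ x ∈ H, ∃ z : ℤ, F x = z) → classInner A F ≠ 0 → (Nat.card H : ℝ) - 1 ≤ weight H F
  own : ((n : ℝ) - 1) * Nat.card L + ((Nat.card H : ℝ) - 1) / n ≤ ∑ k, weight H (μ k)

theorem sum_punct {G : Type u} [Group G] [Fintype G] {H S : Subgroup G} (hHS : H ≤ S) [Fintype S]
    (K : Subgroup S) [Fintype K] [DecidableEq K] (hK : K = H.subgroupOf S) {M : Type*} [AddCommMonoid M]
    (f : G → M) :
    ∑ x ∈ Finset.univ.filter (fun x : K => x ≠ 1), f ((x : S) : G) = ∑ g ∈ punct H, f g := by
  classical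
  subst hK
  refine Finset.sum_bij (fun x _ => ((x : S) : G)) (fun x hx => ?_) (fun a _ b _ e => ?_)
    (fun g hg => ?_) (fun x _ => rfl)
  · refine mem_punct.mpr ⟨x.2, fun e => (Finset.mem_filter.mp hx).2 ?_⟩
    exact Subtype.ext (Subtype.ext e)
  · exact Subtype.ext (Subtype.ext e)
  · obtain ⟨h1, h2⟩ := mem_punct.mp hg
    refine ⟨⟨⟨g, hHS h1⟩, h1⟩, Finset.mem_filter.mpr ⟨Finset.mem_univ _, fun e => h2 ?_⟩, rfl⟩
    exact congrArg (fun y : H.subgroupOf S => ((y : S) : G)) e

theorem exists_family {G : Type u} [Group G] [Fintype G] (hodd : Odd (Nat.card G)) (L H : Subgroup G)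
    (hHL : H < L) (hH1 : H ≠ ⊥) (hHn : ∀ x ∈ L, ∀ h ∈ H, x * h * x⁻¹ ∈ H)
    (hfrob : ∀ h ∈ H, h ≠ 1 → L ⊓ Subgroup.centralizer ({h} : Set G) ≤ H)
    (hTI : ∀ g : G, g ∉ L → ∀ h ∈ H, g * h * g⁻¹ ∈ H → h = 1) :
    Nonempty (Family L H) := by
  classical
  have := Fintype.ofFinite L
  set K : Subgroup L := H.subgroupOf L with hKdef
  have := Fintype.ofFinite K
  haveI hKn : K.Normal := ⟨fun x hx g => hHn g g.2 x hx⟩
  have hKcard : Nat.card K = Nat.card H := Nat.card_congr (Subgroup.subgroupOfEquivOfLe hHL.le).toEquiv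
  have hmemK : ∀ x : L, x ∈ K ↔ (x : G) ∈ H := fun x => Iff.rfl
  have hC : ∀ k ∈ K, k ≠ 1 → Subgroup.centralizer ({k} : Set L) ≤ K := by
    intro k hk hk1 x hx
    exact (hmemK x).mpr (hfrob k hk (fun h => hk1 (Subtype.ext h)) ⟨x.2, Subgroup.mem_centralizer_singleton_iff.mpr
      (congrArg Subtype.val (Subgroup.mem_centralizer_singleton_iff.mp hx))⟩)
  have hoddL : Odd (Nat.card L) := hodd.of_dvd_nat L.card_subgroup_dvd_card
  set e := K.index with he
  have he_spec : Nat.card L = e * Nat.card H := by rw [← hKcard, mul_comm, he, K.card_mul_index]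
  have he_odd : Odd e := hoddL.of_dvd_nat ⟨_, he_spec⟩
  have he3 : 3 ≤ e := by
    have h1 : e ≠ 1 := fun h => hHL.not_ge (Subgroup.subgroupOf_eq_top.mp (Subgroup.index_eq_one.mp h))
    obtain ⟨r, hr⟩ := he_odd
    omega
  -- the kernel is nilpotent
  haveI hnil : Group.IsNilpotent K := by
    obtain ⟨r, hr, hrd⟩ := Nat.exists_prime_and_dvd (n := e) (by omega)
    haveI : Fact r.Prime := ⟨hr⟩
    have hrh : ¬ r ∣ Nat.card K := by
      intro hd
      obtain ⟨R⟩ : Nonempty (Sylow r K) := inferInstance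
      obtain ⟨S, hS⟩ := (R.2.map K.subtype).exists_le_sylow
      haveI : Nontrivial (S : Subgroup L) := by
        rw [Subgroup.nontrivial_iff_ne_bot]
        exact S.ne_bot_of_dvd_card (hrd.trans (he ▸ K.index_dvd_card))
      haveI : (K.subgroupOf (S : Subgroup L)).Normal := hKn.subgroupOf _
      have hne : K.subgroupOf (S : Subgroup L) ≠ ⊥ := by
        intro e0
        refine R.ne_bot_of_dvd_card hd (le_bot_iff.mp fun x hx => ?_)
        have h1 : (⟨(x : L), hS ⟨x, hx, rfl⟩⟩ : (S : Subgroup L)) ∈ K.subgroupOf (S : Subgroup L) := x.2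
        rw [e0, Subgroup.mem_bot] at h1
        exact Subgroup.mem_bot.mpr (Subtype.ext (congrArg (fun y : (S : Subgroup L) => (y : L)) h1))
      haveI := S.2.isNilpotent
      obtain ⟨z, hz, hz1⟩ := (Subgroup.ne_bot_iff_exists_ne_one.mp
        (CfsgLib.inf_center_ne_bot_of_nilpotent hne)) |> fun ⟨z, hz1⟩ => (⟨z.1, z.2, fun e1 => hz1 (Subtype.ext e1)⟩ :
          ∃ z, z ∈ K.subgroupOf (S : Subgroup L) ⊓ Subgroup.center (S : Subgroup L) ∧ z ≠ 1)
      have hSK : (S : Subgroup L) ≤ K := fun s hs => hC z hz.1 (fun e1 => hz1 (Subtype.ext e1))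
        (Subgroup.mem_centralizer_singleton_iff.mpr
          (congrArg Subtype.val (Subgroup.mem_center_iff.mp hz.2 ⟨s, hs⟩)))
      exact S.not_dvd_index (hrd.trans (he ▸ Subgroup.index_dvd_of_le hSK))
    obtain ⟨x, hx⟩ := exists_prime_orderOf_dvd_card' (G := L) r (hrd.trans (he ▸ K.index_dvd_card))
    have hxK : x ∉ K := fun h => hrh (hx ▸ Subgroup.orderOf_dvd_natCard K h)
    have hfpf : MonoidHom.FixedPointFree ((MulAut.conjNormal x : MulAut K) : K →* K) := by
      intro k hk
      by_contra hk1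
      refine hxK (hC k k.2 (fun h => hk1 (Subtype.ext h)) (Subgroup.mem_centralizer_singleton_iff.mpr ?_))
      have h1 := congrArg Subtype.val hk
      simp only [MulEquiv.coe_toMonoidHom, MonoidHom.coe_coe, MulAut.conjNormal_apply] at h1
      exact mul_inv_eq_iff_eq_mul.mp h1
    refine CfsgLib.Frob.isNilpotent_of_fpf_prime _ hfpf hr ?_
    refine orderOf_eq_prime (by rw [← map_pow, ← hx, pow_orderOf_eq_one, map_one]) fun h => ?_
    obtain ⟨k, hk1⟩ := Subgroup.ne_bot_iff_exists_ne_one.mp (fun hb : K = ⊥ => hH1 (by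
      rw [← Subgroup.map_subgroupOf_eq_of_le hHL.le, ← hKdef, hb, Subgroup.map_bot]))
    refine hk1 (hfpf k ?_)
    rw [h]; rfl
  have hKntop : Nontrivial K := by
    refine Finite.one_lt_card_iff_nontrivial.mp ?_
    rw [hKcard]
    exact Subgroup.one_lt_card_iff_ne_bot H |>.mpr hH1
  have hlt : commutator K ≠ ⊤ := (Group.IsSolvable.commutator_lt_top_of_nontrivial K).ne
  set a := (commutator K).index with ha
  have ha_dvd : a ∣ Nat.card H := by rw [ha, ← hKcard]; exact Subgroup.index_dvd_card _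
  have ha1 : a ≠ 1 := fun h => hlt (Subgroup.index_eq_one.mp h)
  haveI : Finite (K →* ℂˣ) := Nat.finite_of_card_ne_zero (by rw [natCard_hom]; exact Subgroup.index_ne_zero_of_finite)
  have := Fintype.ofFinite (K →* ℂˣ)
  -- the linear characters and the characters induced from them
  let lin : (K →* ℂˣ) → (K → ℂ) := fun φ x => (φ x : ℂ)
  have hlin_irr : ∀ φ, IsIrrCharacter K (lin φ) := fun φ => isIrrCharacter_linear φ
  have hlin_inj : Function.Injective lin := fun φ ψ h => MonoidHom.ext fun x => Units.ext (congrFun h x)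
  have hlin_one : lin 1 = fun _ => 1 := rfl
  have hinert : ∀ φ : K →* ℂˣ, φ ≠ 1 → inertia K (lin φ) = K := fun φ hφ =>
    inertia_eq_of_centralizer_le K hC (hlin_irr φ) (fun h => hφ (hlin_inj (h.trans hlin_one.symm)))
  set θ : (K →* ℂˣ) → (L → ℂ) := fun φ => indFun K (lin φ) with hθ
  set one₁ : L → ℂ := indFun K (lin 1) with hone₁
  have hconjone : ∀ g : L, conjNormFun K g (lin 1) = lin 1 := fun g => rfl
  have horth : ∀ φ ψ : K →* ℂˣ, φ ≠ 1 → θ φ ≠ θ ψ → classInner (θ φ) (θ ψ) = 0 := by
    intro φ ψ _ hne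
    refine indFun_orthogonal_of_not_conj K (hlin_irr φ) (hlin_irr ψ) fun ⟨g, hg⟩ => hne ?_
    show indFun K (lin φ) = indFun K (lin ψ)
    rw [← hg, indFun_conjNormFun]
  have hθθ : ∀ φ : K →* ℂˣ, φ ≠ 1 → classInner (θ φ) (θ φ) = 1 := by
    intro φ hφ
    have h1 := classInner_indFun_self K (hlin_irr φ)
    rw [hinert φ hφ] at h1
    exact (mul_eq_left₀ (Nat.cast_ne_zero.mpr Nat.card_pos.ne')).mp h1
  have hone_θ : ∀ φ : K →* ℂˣ, φ ≠ 1 → classInner one₁ (θ φ) = 0 := by
    intro φ hφ
    refine indFun_orthogonal_of_not_conj K (hlin_irr 1) (hlin_irr φ) fun ⟨g, hg⟩ => hφ (hlin_inj ?_)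
    calc lin φ = conjNormFun K g⁻¹ (conjNormFun K g (lin φ)) := (conjNormFun_inv K g _).symm
      _ = lin 1 := by rw [hg, hconjone]
  have hone_self : classInner one₁ one₁ = e := by
    have h1 := classInner_indFun_self K (hlin_irr 1)
    have h2 : inertia K (lin 1) = ⊤ := top_le_iff.mp fun g _ => (mem_inertia K).mpr (hconjone g)
    rw [h2, Subgroup.card_top, he_spec, ← hKcard, Nat.cast_mul, mul_comm (e : ℂ)] at h1
    exact mul_left_cancel₀ (Nat.cast_ne_zero.mpr Nat.card_pos.ne') h1
  have hθone : ∀ φ : K →* ℂˣ, classInner (θ φ) (fun _ => 1) = if φ = 1 then 1 else 0 := by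
    intro φ
    rw [hθ, frobenius_reciprocity K (lin φ) isClassFunction_one]
    change classInner (lin φ) (lin 1) = _
    rw [classInner_irr (hlin_irr φ) (hlin_irr 1)]
    simp [hlin_inj.eq_iff]
  have hθ1 : ∀ φ : K →* ℂˣ, θ φ 1 = θ 1 1 := fun φ => by
    simp only [hθ, indFun_apply_one]
    simp [lin]
  have hθoff : ∀ φ : K →* ℂˣ, ∀ x : L, x ∉ K → θ φ x = 0 := fun φ x hx =>
    indFun_normal_apply_not_mem K _ hx
  have hcfθ : ∀ φ, IsClassFunction L (θ φ) := fun φ => indFun_isClassFunction _ _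
  -- enumeration of the distinct induced characters
  set Λ := (Finset.univ : Finset (K →* ℂˣ)).erase 1 with hΛ
  have hΛcard : Λ.card = a - 1 := by
    rw [hΛ, Finset.card_erase_of_mem (Finset.mem_univ _), Finset.card_univ, ha, ← natCard_hom,
      Nat.card_eq_fintype_card]
  set Θ := Λ.image θ with hΘ
  have hfib : ∀ φ ∈ Λ, (Λ.filter fun ψ => θ ψ = θ φ).card = e := by
    intro φ hφ
    have hφ1 := (Finset.mem_erase.mp hφ).1
    have horb : (conjOrbit K (lin φ)).card = e := by rw [card_conjOrbit, hinert φ hφ1]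
    rw [← horb]
    refine Finset.card_bij (fun ψ _ => lin ψ) (fun ψ hψ => ?_) (fun _ _ _ _ h => hlin_inj h) (fun f hf => ?_)
    · obtain ⟨hψΛ, hψe⟩ := Finset.mem_filter.mp hψ
      rw [mem_conjOrbit]
      by_contra hno
      have := indFun_orthogonal_of_not_conj K (hlin_irr ψ) (hlin_irr φ) hno
      change classInner (θ ψ) (θ φ) = 0 at this
      rw [hψe, hθθ φ hφ1] at this
      exact one_ne_zero this
    · obtain ⟨g, rfl⟩ := (mem_conjOrbit K).mp hf
      refine ⟨φ.comp (MulAut.conjNormal g : MulAut K).toMonoidHom, Finset.mem_filter.mpr ⟨?_, ?_⟩, ?_⟩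
      · refine Finset.mem_erase.mpr ⟨fun h => hφ1 (MonoidHom.ext fun x => ?_), Finset.mem_univ _⟩
        obtain ⟨y, rfl⟩ := (MulAut.conjNormal g : MulAut K).surjective x
        exact DFunLike.congr_fun h y
      · show indFun K _ = indFun K (lin φ)
        rw [← indFun_conjNormFun K g (lin φ)]
        congr 1
      · rw [conjNormFun_eq]
        rfl
  set n := Θ.card with hn
  have hn_spec : n * e + 1 = a := by
    have h1 : Λ.card = ∑ f ∈ Θ, (Λ.filter fun ψ => θ ψ = f).card :=
      Finset.card_eq_sum_card_image θ Λ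
    rw [Finset.sum_const_nat (m := e) (fun f hf => by
      obtain ⟨φ, hφ, rfl⟩ := Finset.mem_image.mp hf
      exact hfib φ hφ), hΛcard] at h1
    have h1' : a - 1 = n * e := h1
    have : 1 ≤ a := Nat.one_le_iff_ne_zero.mpr (ha ▸ Subgroup.index_ne_zero_of_finite)
    omega
  have ha_odd : Odd a := (hodd.of_dvd_nat (ha_dvd.trans H.card_subgroup_dvd_card))
  have hn_even : Even n := by
    have h1 : Even (n * e) := by
      rw [← hn_spec] at ha_odd
      exact Nat.not_odd_iff_even.mp fun h => (Nat.not_odd_iff_even.mpr (h.add_odd odd_one)) ha_odd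
    exact (Nat.even_mul.mp h1).resolve_right (Nat.not_even_iff_odd.mpr he_odd)
  have hn2 : 2 ≤ n := by
    rcases Nat.eq_zero_or_pos n with h | h
    · exfalso; rw [h, zero_mul, zero_add] at hn_spec; exact ha1 hn_spec.symm
    · obtain ⟨s, hs⟩ := hn_even; omega
  let enum : Fin n ≃ Θ := Θ.equivFin.symm
  have hrep : ∀ k : Fin n, ∃ φ : K →* ℂˣ, φ ≠ 1 ∧ θ φ = (enum k : L → ℂ) := fun k => by
    obtain ⟨φ, hφ, he'⟩ := Finset.mem_image.mp (enum k).2
    exact ⟨φ, (Finset.mem_erase.mp hφ).1, he'⟩
  choose rep hrep1 hrep2 using hrep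
  have hrep_inj : ∀ k l, θ (rep k) = θ (rep l) → k = l := fun k l h =>
    enum.injective (Subtype.ext ((hrep2 k).symm.trans (h.trans (hrep2 l))))
  have hrep_surj : ∀ φ : K →* ℂˣ, φ ≠ 1 → ∃ k, θ (rep k) = θ φ := fun φ hφ => by
    refine ⟨enum.symm ⟨θ φ, Finset.mem_image.mpr ⟨φ, Finset.mem_erase.mpr ⟨hφ, Finset.mem_univ _⟩, rfl⟩⟩, ?_⟩
    rw [hrep2, Equiv.apply_symm_apply]
  have hθkl : ∀ k l, classInner (θ (rep k)) (θ (rep l)) = if k = l then 1 else 0 := by
    intro k l
    split
    · rename_i h; subst h; exact hθθ _ (hrep1 k)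
    · rename_i h; exact horth _ _ (hrep1 k) fun h' => h (hrep_inj k l h')
  -- functions vanishing off the punctured kernel
  have hsuppL : ∀ φ ψ : K →* ℂˣ, ∀ x : L, (x : G) ∉ (H : Set G) → (θ φ - θ ψ) x = 0 := by
    intro φ ψ x hx
    simp [hθoff _ x hx]
  have hd1 : ∀ φ ψ : K →* ℂˣ, (θ φ - θ ψ) 1 = 0 := fun φ ψ => by
    simp [hθ1 φ, hθ1 ψ]
  have hisom : ∀ φ ψ φ' ψ' : K →* ℂˣ,
      classInner (indFun L (θ φ - θ ψ)) (indFun L (θ φ' - θ ψ')) = classInner (θ φ - θ ψ) (θ φ' - θ ψ') :=
    fun φ ψ φ' ψ' => classInner_indFun_of_TI L (H : Set G) (fun g hg s hs hs' => hTI g hg s hs hs')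
      (isClassFunction_sub (hcfθ _) (hcfθ _)) (hsuppL φ ψ) (hsuppL φ' ψ') (hd1 φ' ψ')
  have hgenθ : ∀ φ ψ : K →* ℂˣ, IsGeneralizedCharacter G (indFun L (θ φ - θ ψ)) := fun φ ψ =>
    isGenChar_indFun L ⟨_, _, isCharacter_indFun K (isCharacter_of_irr (hlin_irr φ)),
      isCharacter_indFun K (isCharacter_of_irr (hlin_irr ψ)), rfl⟩
  have hindsupp : ∀ φ ψ : K →* ℂˣ, ∀ x : G, indFun L (θ φ - θ ψ) x ≠ 0 → ∃ h ∈ H, h ≠ 1 ∧ IsConj h x := by
    intro φ ψ x hx
    by_contra hno
    refine hx ?_
    simp only [indFun]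
    rw [Finset.sum_eq_zero fun y _ => ?_, mul_zero]
    by_cases hy : y⁻¹ * x * y ∈ L
    · rw [extendByZero_of_mem _ _ hy]
      by_cases hyH : y⁻¹ * x * y ∈ H
      · by_cases hy1 : y⁻¹ * x * y = 1
        · rw [show (⟨y⁻¹ * x * y, hy⟩ : L) = 1 from Subtype.ext hy1]
          exact hd1 φ ψ
        · exact absurd ⟨_, hyH, hy1, isConj_iff.mpr ⟨y, by group⟩⟩ hno
      · exact hsuppL φ ψ ⟨_, hy⟩ hyH
    · exact extendByZero_of_not_mem _ _ hy
  let k₀ : Fin n := ⟨0, by omega⟩
  set τ : Fin n → G → ℂ := fun k => indFun L (θ (rep k) - θ (rep k₀)) with hτdef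
  obtain ⟨ε, hε, μ, hμirr, hμinj, hτ⟩ := exists_coherent_family (G := G) k₀ τ
    (by rw [hτdef]; simp [indFun_zero])
    (fun k => hgenθ _ _)
    (fun k => by rw [hτdef]; simp only [indFun_apply_one, hd1, mul_zero])
    (fun k l hk hl => by
      rw [hτdef]
      simp only [hisom, classInner_sub_left, classInner_sub_right, hθkl, if_pos, if_neg hk, if_neg (Ne.symm hl),
        if_neg (Ne.symm hk), if_neg hl]
      split <;> norm_num)
  obtain ⟨εz, rfl, hεz⟩ : ∃ z : ℤ, ε = z ∧ z * z = 1 := by
    rcases hε with rfl | rfl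
    · exact ⟨1, by simp, by norm_num⟩
    · exact ⟨-1, by simp, by norm_num⟩
  have hεne : (εz : ℂ) ≠ 0 := by
    intro h
    have : εz = 0 := by exact_mod_cast h
    rw [this] at hεz; norm_num at hεz
  have hτkl : ∀ k l, indFun L (θ (rep k) - θ (rep l)) = (εz : ℂ) • (μ k - μ l) := by
    intro k l
    have e1 : θ (rep k) - θ (rep l) = (θ (rep k) - θ (rep k₀)) - (θ (rep l) - θ (rep k₀)) := by abel
    rw [e1, indFun_sub]
    show τ k - τ l = _
    rw [hτ k, hτ l, ← smul_sub, sub_sub_sub_cancel_right]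
  -- the virtual character `A`
  set αL : L → ℂ := θ 1 - θ (rep k₀) with hαdef
  set A := indFun L αL with hAdef
  have hAgen : IsGeneralizedCharacter G A := hgenθ 1 _
  have hcfone : IsClassFunction G (fun _ : G => (1 : ℂ)) := isClassFunction_one
  have hA1 : classInner A (fun _ => 1) = 1 := by
    rw [hAdef, frobenius_reciprocity L αL hcfone, hαdef, classInner_sub_left, hθone, hθone,
      if_pos rfl, if_neg (hrep1 k₀), sub_zero]
  have hθ1θ : ∀ k, classInner (θ 1) (θ (rep k)) = 0 := fun k => hone_θ _ (hrep1 k)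
  have hθ1θ' : ∀ k, classInner (θ (rep k)) (θ 1) = 0 := fun k => by
    rw [← classInner_comm, hθ1θ, map_zero]
  have hAnorm : classInner A A = (e : ℂ) + 1 := by
    rw [hAdef, hαdef, hisom]
    simp only [classInner_sub_left, classInner_sub_right, hθ1θ, hθ1θ', hθkl, if_pos]
    rw [show classInner (θ 1) (θ 1) = e from hone_self]
    ring
  choose av hav using (isGenChar_iff_coeff_int.mp hAgen).2
  have hdiffA : ∀ k, k ≠ k₀ → av (μ k) (hμirr k) - av (μ k₀) (hμirr k₀) = εz := by
    intro k hk
    have h1 : classInner A (τ k) = 1 := by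
      rw [hAdef, hτdef, hαdef, hisom]
      simp only [classInner_sub_left, classInner_sub_right, hθ1θ, hθkl, if_pos, if_neg (Ne.symm hk)]
      norm_num
    rw [hτ k, classInner_smul_right, classInner_sub_right, hav _ (hμirr k), hav _ (hμirr k₀), map_intCast] at h1
    have h2 : εz * (av (μ k) (hμirr k) - av (μ k₀) (hμirr k₀)) = 1 := by exact_mod_cast h1
    calc _ = εz * εz * (av (μ k) (hμirr k) - av (μ k₀) (hμirr k₀)) := by rw [hεz, one_mul]
      _ = εz := by rw [mul_assoc, h2, mul_one]
  -- power maps permute everything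
  have hpow : ∀ m : ℕ, m.Coprime (Nat.card G) → ∃ π : Equiv.Perm (Fin n),
      (∀ k g, θ (rep k) (g ^ m) = θ (rep (π k)) g) ∧ (∀ k g, μ k (g ^ m) = μ (π k) g) := by
    intro m hm
    have hmL : m.Coprime (Nat.card L) := hm.coprime_dvd_right L.card_subgroup_dvd_card
    have hmK : m.Coprime (Nat.card K) := hmL.coprime_dvd_right K.card_subgroup_dvd_card
    have hθpow : ∀ φ : K →* ℂˣ, ∀ g, θ φ (g ^ m) = θ ((powMonoidHom m).comp φ) g := fun φ g => by
      simp only [hθ, indFun_pow K _ hmL]
      congr 1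
      funext x
      simp [lin, map_pow]
    have hne : ∀ φ : K →* ℂˣ, φ ≠ 1 → (powMonoidHom m).comp φ ≠ 1 := fun φ hφ h => hφ (MonoidHom.ext fun x => by
      obtain ⟨y, rfl⟩ := (powCoprime hmK.symm).surjective x
      have := DFunLike.congr_fun h y
      simpa [powCoprime, map_pow] using this)
    choose p hp using fun k => hrep_surj _ (hne _ (hrep1 k))
    have hθp : ∀ k g, θ (rep k) (g ^ m) = θ (rep (p k)) g := fun k g => by
      rw [hθpow, hp k]
    have hpinj : Function.Injective p := fun k l h => hrep_inj k l (funext fun g => by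
      obtain ⟨y, rfl⟩ := (powCoprime hmL.symm).surjective g
      show θ (rep k) (y ^ m) = θ (rep l) (y ^ m)
      rw [hθp, hθp, h])
    refine ⟨Equiv.ofBijective p ⟨hpinj, (Finite.injective_iff_surjective.mp hpinj)⟩, hθp, ?_⟩
    let μm : Fin n → G → ℂ := fun k g => μ k (g ^ m)
    have hμm : ∀ k, IsIrrCharacter G (μm k) := fun k => isIrrCharacter_pow (hμirr k) hm
    have hμm_inj : Function.Injective μm := fun k l h => hμinj (funext fun g => by
      obtain ⟨y, rfl⟩ := (powCoprime hm.symm).surjective g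
      exact congrFun h y)
    have heq : ∀ k l, μm k - μm l = μ (p k) - μ (p l) := by
      intro k l
      refine smul_right_injective (G → ℂ) hεne ?_
      show (εz : ℂ) • (μm k - μm l) = (εz : ℂ) • (μ (p k) - μ (p l))
      rw [← hτkl (p k) (p l)]
      funext g
      have h1 := congrFun (hτkl k l) (g ^ m)
      simp only [Pi.smul_apply, Pi.sub_apply] at h1
      simp only [Pi.smul_apply, Pi.sub_apply, μm]
      rw [← h1, indFun_pow L _ hm]
      congr 1
      funext x
      simp [hθp]
    intro k g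
    obtain ⟨l, hl⟩ : ∃ l, l ≠ k := by
      by_cases h : k = k₀
      · exact ⟨⟨1, by omega⟩, fun h' => by rw [h] at h'; simp [k₀, Fin.ext_iff] at h'⟩
      · exact ⟨k₀, Ne.symm h⟩
    have h1 := congrArg (fun f => classInner f (μm k)) (heq k l)
    simp only [classInner_sub_left, classInner_irr (hμm _) (hμm _), classInner_irr (hμirr _) (hμm _),
      if_pos, if_neg (hμm_inj.ne hl), sub_zero] at h1
    by_cases hh : μ (p k) = μm k
    · exact (congrFun hh g).symm
    · rw [if_neg hh] at h1
      split_ifs at h1 <;> norm_num at h1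
  -- the bound on `F`
  have hbound : ∀ F : G → ℂ, IsGeneralizedCharacter G F →
      (∀ k l, classInner F (μ k) = classInner F (μ l)) → (∀ x ∈ H, ∃ z : ℤ, F x = z) →
      classInner A F ≠ 0 → (Nat.card H : ℝ) - 1 ≤ weight H F := by
    intro F hF hconst hint hne
    set FK : K → ℂ := fun x => F ((x : L) : G) with hFK
    have hFKgen : IsGeneralizedCharacter K FK := by
      obtain ⟨a', b', ha', hb', hab⟩ := hF
      exact ⟨_, _, isCharacter_restrict (isCharacter_restrict ha' L) K,
        isCharacter_restrict (isCharacter_restrict hb' L) K, by funext x; simp [hFK, hab]⟩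
    choose f hf using fun x : K => hint ((x : L) : G) x.2
    obtain ⟨c', hc'⟩ := (isGenChar_iff_coeff_int.mp hAgen).1 |> fun _ => (⟨_, rfl⟩ :
      ∃ z : ℂ, classInner A F = z)
    have hcfF := (isGenChar_iff_coeff_int.mp hF).1
    have hcfFL : IsClassFunction L (fun x : L => F x) := fun x g => hcfF x g
    -- all linear characters give the same multiplicity
    have hc : ∀ φ ∈ Λ, classInner (fun _ : K => (1 : ℂ)) FK - classInner (lin φ) FK = classInner A F := by
      intro φ hφ
      obtain ⟨k, hk⟩ := hrep_surj φ (Finset.mem_erase.mp hφ).1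
      have h0 : classInner (indFun L (θ (rep k) - θ (rep k₀))) F = 0 := by
        rw [hτkl, classInner_smul_left, classInner_sub_left, ← classInner_comm F, ← classInner_comm F,
          hconst k k₀, sub_self, mul_zero]
      have h1 : classInner A F = classInner (θ 1) (fun x : L => F x) -
          classInner (θ (rep k₀)) (fun x : L => F x) := by
        rw [hAdef, frobenius_reciprocity L αL hcfF, hαdef, classInner_sub_left]
      rw [frobenius_reciprocity L _ hcfF, classInner_sub_left, sub_eq_zero] at h0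
      rw [h1, ← h0, hk]
      simp only [hθ, frobenius_reciprocity K _ hcfFL]
      rfl
    -- so the sum outside the derived subgroup is known
    obtain ⟨cz, hcz⟩ : ∃ z : ℤ, classInner A F = z := by
      obtain ⟨x, y, hx, hy, hxy⟩ := hF
      obtain ⟨u, v, hu, hv, huv⟩ := hAgen
      obtain ⟨n1, h1⟩ := classInner_char_nat hu hx
      obtain ⟨n2, h2⟩ := classInner_char_nat hu hy
      obtain ⟨n3, h3⟩ := classInner_char_nat hv hx
      obtain ⟨n4, h4⟩ := classInner_char_nat hv hy
      refine ⟨(n1 : ℤ) - n2 - (n3 - n4), ?_⟩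
      rw [huv, hxy]
      simp only [classInner_sub_left, classInner_sub_right, h1, h2, h3, h4]
      push_cast; ring
    set U := Finset.univ.filter (fun x : K => x ∉ commutator K) with hU
    have hsum : ∑ x ∈ U, f x = cz * (U.card : ℤ) := by
      have hh : (Nat.card K : ℂ) ≠ 0 := Nat.cast_ne_zero.mpr Nat.card_pos.ne'
      have h2 : ∑ φ ∈ Λ, ((Nat.card K : ℂ) *
          (classInner (fun _ : K => (1 : ℂ)) FK - classInner (lin φ) FK)) =
          (a : ℂ) * ∑ x ∈ U, (f x : ℂ) := by
        rw [Finset.mul_sum, Finset.sum_congr rfl fun φ _ => by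
          rw [mul_sub, classInner, classInner, mul_inv_cancel_left₀ hh, mul_inv_cancel_left₀ hh,
            ← Finset.sum_sub_distrib]]
        rw [Finset.sum_comm, hU, Finset.sum_filter]
        refine Finset.sum_congr rfl fun x _ => ?_
        have hfx : conj (FK x) = (f x : ℂ) := by rw [show FK x = f x from hf x, map_intCast]
        simp only [hfx, ← sub_mul]
        rw [← Finset.sum_mul, hΛ, Finset.sum_erase _ (by simp [lin]), Finset.sum_sub_distrib,
          sum_hom_apply, Finset.sum_const, Finset.card_univ, nsmul_eq_mul, mul_one,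
          ← Nat.card_eq_fintype_card, natCard_hom, ← ha]
        split <;> simp
      rw [Finset.sum_congr rfl fun φ hφ => by rw [hc φ hφ, hcz], Finset.sum_const, hΛcard,
        nsmul_eq_mul] at h2
      have h3 : U.card * a = Nat.card K * (a - 1) := by
        have e1 : U.card + Nat.card (commutator K) = Nat.card K := by
          rw [hU, Nat.card_eq_fintype_card (α := commutator K), Fintype.card_subtype, add_comm,
            Finset.card_filter_add_card_filter_not, Finset.card_univ, Nat.card_eq_fintype_card]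
        have e2 : Nat.card (commutator K) * a = Nat.card K := (commutator K).card_mul_index
        have e3 : U.card * a + Nat.card K = Nat.card K * a := by
          conv_rhs => rw [← e1]
          rw [add_mul, e2]
        rw [Nat.mul_sub, mul_one]
        omega
      have ha0 : (a : ℂ) ≠ 0 := Nat.cast_ne_zero.mpr (ha ▸ Subgroup.index_ne_zero_of_finite)
      have h4 : (U.card : ℂ) * (a : ℂ) = (Nat.card K : ℂ) * ((a - 1 : ℕ) : ℂ) := by exact_mod_cast h3
      have : (a : ℂ) * ∑ x ∈ U, (f x : ℂ) = (a : ℂ) * ((cz : ℂ) * (U.card : ℂ)) := by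
        rw [← h2]
        linear_combination (-(cz : ℂ)) * h4
      exact_mod_cast mul_left_cancel₀ ha0 this
    have hcz0 : cz ≠ 0 := fun h => hne (by rw [hcz, h, Int.cast_zero])
    have key := normSq_sum_lower hFKgen f hf hlt hcz0 hsum
    rw [hKcard] at key
    rw [weight, ← sum_punct hHL.le K rfl (fun g => Complex.normSq (F g))]
    have key' : ((Nat.card H : ℤ) : ℝ) - 1 ≤
        ∑ x ∈ Finset.univ.filter (fun x : K => x ≠ 1), ((f x : ℝ)) ^ 2 := by exact_mod_cast key
    refine le_trans (by simpa using key') (le_of_eq ?_)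
    refine Finset.sum_congr rfl fun x _ => ?_
    rw [hf x, Complex.normSq_intCast, sq]
  -- the own bound
  have hS : IsCharacter G (∑ k, μ k) := isCharacter_sum _ _ fun k _ => isCharacter_of_irr (hμirr k)
  set S := ∑ k, μ k with hSdef
  have hSμ : ∀ k, classInner S (μ k) = 1 := fun k => by
    rw [hSdef, classInner_sum_left, Finset.sum_eq_single k]
    · exact classInner_irr_self (hμirr k)
    · exact fun l _ hl => classInner_irr_ne (hμirr l) (hμirr k) (hμinj.ne hl)
    · simp
  have hSint : ∀ x : G, ∃ z : ℤ, S x = z := fun x => rational_int_of_invariant hS x fun m hm => by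
    obtain ⟨π, -, hπ⟩ := hpow m hm
    simp only [hSdef, Finset.sum_apply, hπ]
    exact Equiv.sum_comp π (fun k => μ k x)
  have hAμ : ∀ k, classInner A (μ k) =
      ((av (μ k₀) (hμirr k₀) + εz - if k = k₀ then εz else 0 : ℤ) : ℂ) := by
    intro k
    rw [hav _ (hμirr k)]
    congr 1
    split
    · rename_i h; subst h; ring
    · rename_i h; have := hdiffA k h; omega
  set c := av (μ k₀) (hμirr k₀) + εz with hcdef
  have hAS : classInner A S ≠ 0 := by
    have h1 : classInner A S = (((n : ℤ) * c - εz : ℤ) : ℂ) := by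
      rw [hSdef, classInner_sum_right]
      simp only [hAμ]
      rw [← Int.cast_sum]
      congr 1
      simp [Finset.sum_sub_distrib]
    rw [h1, Int.cast_ne_zero]
    intro h
    obtain ⟨s, hs⟩ := hn_even
    rw [hs] at h
    have h5 : εz = 2 * ((s : ℤ) * c) := by push_cast at h; linarith
    rw [h5] at hεz
    have h6 : (2 : ℤ) ∣ 1 := ⟨(s : ℤ) * c * (2 * ((s : ℤ) * c)), by rw [← hεz]; ring⟩
    norm_num at h6
  have hSb := hbound S (isGenChar_of_char hS) (fun k l => by rw [hSμ, hSμ]) (fun x _ => hSint x) hAS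
  have hown : ((n : ℝ) - 1) * Nat.card L + ((Nat.card H : ℝ) - 1) / n ≤ ∑ k, weight H (μ k) := by
    have hnR : (n : ℝ) ≠ 0 := Nat.cast_ne_zero.mpr (by omega)
    have hnC : (n : ℂ) ≠ 0 := Nat.cast_ne_zero.mpr (by omega)
    set v : Fin n → L → ℂ := fun k => θ (rep k) - (n : ℂ)⁻¹ • ∑ l, θ (rep l) with hv
    have hv0 : ∀ k, ∀ x : L, (x : G) ∉ H ∨ x = 1 → v k x = 0 := by
      intro k x hx
      simp only [hv, Pi.sub_apply, Pi.smul_apply, Finset.sum_apply, smul_eq_mul]
      rcases hx with hx | rfl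
      · simp [hθoff _ x hx]
      · simp only [hθ1, Finset.sum_const, Finset.card_univ, Fintype.card_fin, nsmul_eq_mul]
        field_simp
        ring
    have hvcf : ∀ k, IsClassFunction L (v k) := fun k => isClassFunction_sub (hcfθ _)
      (isClassFunction_smul _ (isClassFunction_sum _ _ fun l _ => hcfθ _))
    have hvind : ∀ k, indFun L (v k) = (εz : ℂ) • (μ k - (n : ℂ)⁻¹ • S) := by
      intro k
      have e1 : v k = (n : ℂ)⁻¹ • ∑ l, (θ (rep k) - θ (rep l)) := by
        rw [Finset.sum_sub_distrib, Finset.sum_const, Finset.card_univ, Fintype.card_fin,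
          ← Nat.cast_smul_eq_nsmul ℂ, smul_sub, smul_smul, inv_mul_cancel₀ hnC, one_smul]
      rw [e1, indFun_smul, indFun_sum, Finset.sum_congr rfl fun l _ => hτkl k l, ← Finset.smul_sum,
        Finset.sum_sub_distrib, Finset.sum_const, Finset.card_univ, Fintype.card_fin,
        ← Nat.cast_smul_eq_nsmul ℂ, smul_comm, smul_sub, smul_smul, inv_mul_cancel₀ hnC, one_smul]
    have hvμ : ∀ k, classInner (fun x : L => μ k x) (v k) = (εz : ℂ) * (1 - (n : ℂ)⁻¹) := by
      intro k
      rw [← frobenius_reciprocity' L (v k) (isClassFunction_irr (hμirr k)), hvind, classInner_smul_right,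
        classInner_sub_right, classInner_smul_right, classInner_irr_self (hμirr k), ← classInner_comm S,
        hSμ]
      simp [map_intCast]
    have hvv : ∀ k, classInner (v k) (v k) = 1 - (n : ℂ)⁻¹ := by
      intro k
      simp only [hv, classInner_sub_left, classInner_sub_right, classInner_smul_left,
        classInner_smul_right, classInner_sum_left, classInner_sum_right, hθkl]
      simp [Finset.sum_ite_eq', Finset.sum_ite_eq, Finset.filter_eq', Finset.filter_eq]
      exact Or.inr (by rw [mul_inv_cancel₀ hnC, sub_self])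
    have hvsum : ∀ x : L, ∑ k, v k x = 0 := by
      intro x
      simp only [hv, Pi.sub_apply, Pi.smul_apply, Finset.sum_apply, smul_eq_mul, Finset.sum_sub_distrib,
        Finset.sum_const, Finset.card_univ, Fintype.card_fin, nsmul_eq_mul]
      field_simp
      ring
    set P := Finset.univ.filter (fun x : L => (x : G) ∈ H ∧ x ≠ 1) with hP
    have hW : ∀ F : G → ℂ, weight H F = ∑ x ∈ P, Complex.normSq (F x) := by
      intro F
      refine Finset.sum_bij (fun g hg => (⟨g, hHL.le (mem_punct.mp hg).1⟩ : L)) (fun g hg => ?_)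
        (fun _ _ _ _ h => congrArg Subtype.val h) (fun x hx => ?_) (fun _ _ => rfl)
      · obtain ⟨h1, h2⟩ := mem_punct.mp hg
        exact Finset.mem_filter.mpr ⟨Finset.mem_univ _, h1, fun h => h2 (congrArg Subtype.val h)⟩
      · obtain ⟨-, h1, h2⟩ := Finset.mem_filter.mp hx
        exact ⟨(x : G), mem_punct.mpr ⟨h1, fun h => h2 (Subtype.ext h)⟩, rfl⟩
    have hlift : ∀ F : L → ℂ, ∀ k, ∑ x ∈ P, F x * conj (v k x) =
        (Nat.card L : ℂ) * classInner F (v k) := by
      intro F k
      rw [classInner, mul_inv_cancel_left₀ (Nat.cast_ne_zero.mpr Nat.card_pos.ne')]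
      refine Finset.sum_subset (Finset.subset_univ P) fun x _ hx => ?_
      rw [hv0 k x (by simpa [hP, or_iff_not_imp_left] using hx), map_zero, mul_zero]
    have hpoint : ∀ x : L, (∑ k, Complex.normSq (μ k x)) =
        (n : ℝ)⁻¹ * Complex.normSq (S x) + ∑ k, Complex.normSq (μ k x - (n : ℂ)⁻¹ * S x) := by
      intro x
      have hsumk : ∑ k, μ k x = S x := by simp [hSdef]
      simp only [Complex.normSq_sub, Finset.sum_add_distrib, Finset.sum_sub_distrib]
      rw [← Finset.mul_sum, ← Complex.re_sum, ← Finset.sum_mul, hsumk, Finset.sum_const, Finset.card_univ,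
        Fintype.card_fin, nsmul_eq_mul]
      simp only [map_mul, map_inv₀, Complex.normSq_natCast, Complex.conj_natCast]
      have : (S x * ((n : ℂ)⁻¹ * conj (S x))).re = (n : ℝ)⁻¹ * Complex.normSq (S x) := by
        rw [mul_left_comm, Complex.mul_conj, ← Complex.ofReal_natCast, ← Complex.ofReal_inv,
          ← Complex.ofReal_mul, Complex.ofReal_re]
      rw [this]
      field_simp
      ring
    have hsq : ((n : ℝ) - 1) * Nat.card L ≤
        ∑ k, ∑ x ∈ P, Complex.normSq (μ k x - (n : ℂ)⁻¹ * S x) := by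
      have hnn : (0 : ℝ) ≤ ∑ k, ∑ x ∈ P,
          Complex.normSq (μ k x - (n : ℂ)⁻¹ * S x - (εz : ℂ) * v k x) :=
        Finset.sum_nonneg fun _ _ => Finset.sum_nonneg fun _ _ => Complex.normSq_nonneg _
      have e1 : ∑ k, ∑ x ∈ P, (μ k x - (n : ℂ)⁻¹ * S x) * conj ((εz : ℂ) * v k x) =
          ((n : ℂ) - 1) * Nat.card L := by
        calc _ = ∑ k, (εz : ℂ) * ((∑ x ∈ P, μ k x * conj (v k x)) -
              ∑ x ∈ P, (n : ℂ)⁻¹ * S x * conj (v k x)) := by
              refine Finset.sum_congr rfl fun k _ => ?_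
              rw [mul_sub, Finset.mul_sum, Finset.mul_sum, ← Finset.sum_sub_distrib]
              refine Finset.sum_congr rfl fun x _ => ?_
              simp only [map_mul, map_intCast]; ring
          _ = (∑ k, (εz : ℂ) * ∑ x ∈ P, μ k x * conj (v k x)) -
              (εz : ℂ) * ∑ x ∈ P, (n : ℂ)⁻¹ * S x * conj (∑ k, v k x) := by
              simp only [mul_sub, Finset.sum_sub_distrib, map_sum, Finset.mul_sum]
              congr 1
              rw [Finset.sum_comm]
          _ = _ := by
              simp only [hvsum, map_zero, mul_zero, Finset.sum_const_zero, sub_zero]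
              rw [Finset.sum_congr rfl fun k _ => by
                rw [show (∑ x ∈ P, μ k x * conj (v k x)) = _ from hlift (fun x : L => μ k x) k, hvμ k]]
              rw [Finset.sum_const, Finset.card_univ, Fintype.card_fin, nsmul_eq_mul]
              have hεC : (εz : ℂ) * (εz : ℂ) = 1 := by exact_mod_cast hεz
              field_simp
              linear_combination ((n : ℂ) - 1) * hεC
      have e2 : ∑ k, ∑ x ∈ P, Complex.normSq ((εz : ℂ) * v k x) = ((n : ℝ) - 1) * Nat.card L := by
        have hεR : Complex.normSq (εz : ℂ) = 1 := by rw [Complex.normSq_intCast]; exact_mod_cast hεz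
        have : (((∑ k, ∑ x ∈ P, Complex.normSq ((εz : ℂ) * v k x)) : ℝ) : ℂ) =
            ((((n : ℝ) - 1) * Nat.card L : ℝ) : ℂ) := by
          push_cast
          rw [Finset.sum_congr rfl fun k _ => Finset.sum_congr rfl fun x _ => by
            rw [Complex.normSq_mul, hεR, one_mul, ← Complex.mul_conj]]
          rw [Finset.sum_congr rfl fun k _ => by rw [hlift (v k) k, hvv k], Finset.sum_const,
            Finset.card_univ, Fintype.card_fin, nsmul_eq_mul]
          field_simp
        exact_mod_cast this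
      have e3 : ∑ k, ∑ x ∈ P, ((μ k x - (n : ℂ)⁻¹ * S x) * conj ((εz : ℂ) * v k x)).re =
          ((n : ℝ) - 1) * Nat.card L := by
        have := congrArg Complex.re e1
        simp only [Complex.re_sum] at this
        rw [this]
        simp
      simp only [Complex.normSq_sub (_ - _), Finset.sum_add_distrib, Finset.sum_sub_distrib, ← Finset.mul_sum,
        e2, e3] at hnn
      linarith
    have hmain : ∑ k, weight H (μ k) = (n : ℝ)⁻¹ * weight H S +
        ∑ k, ∑ x ∈ P, Complex.normSq (μ k x - (n : ℂ)⁻¹ * S x) := by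
      simp only [hW]
      rw [Finset.sum_comm]
      conv_rhs => arg 2; rw [Finset.sum_comm]
      rw [Finset.mul_sum, ← Finset.sum_add_distrib]
      exact Finset.sum_congr rfl fun x _ => hpoint x
    rw [hmain, div_eq_inv_mul, add_comm]
    gcongr
  exact ⟨{
    e := e, a := a, n := n, k₀ := k₀, μ := μ, A := A, ε := εz, c := c
    e_spec := he_spec, e_odd := he_odd, three_le_e := he3, a_spec := hn_spec, a_dvd := ha_dvd
    n_even := hn_even, two_le_n := hn2, eps_sq := hεz, irr := hμirr, inj := hμinj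
    ne_one := fun k hk => by
      obtain ⟨l, hl⟩ : ∃ l, l ≠ k := by
        by_cases h : k = k₀
        · exact ⟨⟨1, by omega⟩, fun h' => by rw [h] at h'; simp [k₀, Fin.ext_iff] at h'⟩
        · exact ⟨k₀, Ne.symm h⟩
      have h1 := congrArg (fun f => classInner f (fun _ : G => (1 : ℂ))) (hτkl k l)
      simp only [frobenius_reciprocity L _ hcfone, classInner_smul_left, classInner_sub_left, hθone,
        if_neg (hrep1 _), sub_self] at h1
      rw [hk, classInner_irr_self isIrrCharacter_one,
        classInner_irr_ne (hμirr l) isIrrCharacter_one (fun h => hl (hμinj (h.trans hk.symm))),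
        sub_zero, mul_one] at h1
      exact hεne h1.symm
    pow_perm := fun m hm => (hpow m hm).imp fun _ h => h.2
    genA := hAgen, A_one := hA1, A_norm := hAnorm, A_own := hAμ
    A_symm := fun m hm ψ hψ hne => by
      obtain ⟨π, hπθ, hπ⟩ := hpow m hm
      have hθ1pow : ∀ x : L, θ 1 (x ^ m) = θ 1 x := fun x => by
        simp only [hθ, indFun_pow K _ (hm.coprime_dvd_right L.card_subgroup_dvd_card)]
        rfl
      have hAm : (fun g => A (g ^ m)) = A - (εz : ℂ) • (μ (π k₀) - μ k₀) := by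
        rw [← hτkl, hAdef, ← indFun_sub]
        funext g
        rw [indFun_pow L _ hm]
        congr 1
        funext x
        simp only [hαdef, Pi.sub_apply, hθ1pow, hπθ]
        ring
      have h2 := classInner_pow hm A ψ
      rw [hAm, classInner_sub_left, classInner_smul_left, classInner_sub_left,
        classInner_irr_ne (hμirr _) (isIrrCharacter_pow hψ hm) (hne _).symm,
        classInner_irr_ne (hμirr _) (isIrrCharacter_pow hψ hm) (hne _).symm, sub_self, mul_zero,
        sub_zero] at h2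
      exact h2
    A_supp := fun x hx => hindsupp 1 _ x hx
    diff_supp := fun k l x hx => hindsupp (rep k) (rep l) x (by
      rw [hτkl]
      simp only [Pi.smul_apply, Pi.sub_apply, smul_eq_mul, ne_eq, mul_eq_zero, hεne, false_or, sub_eq_zero]
      exact hx)
    bound := hbound, own := hown }⟩

end CfsgLib.CharTheory.Partition
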