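/-
Functions vanishing on `W₁ ∪ W₂` and the products `(1 - φ)(1 - ψ)`.
-/
import Cfsg.Agent.Lib.CharTheory.CyclicTI
import Cfsg.Agent.Lib.CharTheory.Partition
import Cfsg.Prelude.Def_OddOrderChar

set_option autoImplicit false

namespace CfsgLib.CharTheory

open Cfsg
open scoped ComplexConjugate Pointwise

universe u

variable {G : Type u} [Group G] {W₁ W₂ : Subgroup G}

open Classical in
theorem sum_hom_abelian {K : Type u} [Group K] [Finite K] [Fintype (K →* ℂˣ)] (hc : ∀ a b : K, a * b = b * a) (x : K) :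
    ∑ φ : K →* ℂˣ, ((φ x : ℂˣ) : ℂ) = if x = 1 then (Nat.card K : ℂ) else 0 := by
  rw [Partition.sum_hom_apply]
  have hb : commutator K = ⊥ := by
    rw [commutator_def, eq_bot_iff, Subgroup.commutator_le]
    intro a _ b _
    rw [Subgroup.mem_bot, commutatorElement_eq_one_iff_mul_comm, hc]
  simp [hb]

theorem conj_hom_apply {K : Type u} [Group K] [Finite K] (φ : K →* ℂˣ) (x : K) :
    conj ((φ x : ℂˣ) : ℂ) = ((φ x⁻¹ : ℂˣ) : ℂ) :=
  (char_apply_inv (isCharacter_of_irr (isIrrCharacter_linear φ)) x).symm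

/-- A function orthogonal to every `(1 - φ)(1 - ψ)` vanishes outside `W₁ ∪ W₂`. -/
theorem eq_zero_of_orthogonal_cycBeta [Finite G] [Fintype ↥(W₁ ⊔ W₂)] (hdisj : W₁ ⊓ W₂ = ⊥)
    (hcomm : ∀ a ∈ W₁, ∀ b ∈ W₂, a * b = b * a) (hab : ∀ u v : ↥(W₁ ⊔ W₂), u * v = v * u)
    {f : ↥(W₁ ⊔ W₂) → ℂ}
    (hf : ∀ φ ψ : ↥(W₁ ⊔ W₂) →* ℂˣ, (∀ w : ↥(W₁ ⊔ W₂), (w : G) ∈ W₂ → φ w = 1) →
      (∀ w : ↥(W₁ ⊔ W₂), (w : G) ∈ W₁ → ψ w = 1) → classInner f (cycBeta φ ψ) = 0)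
    {w : ↥(W₁ ⊔ W₂)} (h1 : (w : G) ∉ W₁) (h2 : (w : G) ∉ W₂) : f w = 0 := by
  classical
  let e₀ : W₁ × W₂ →* ↥(W₁ ⊔ W₂) := MonoidHom.noncommCoprod (Subgroup.inclusion le_sup_left)
    (Subgroup.inclusion le_sup_right) (fun a b => Subtype.ext (hcomm a a.2 b b.2))
  have he₀ : Function.Bijective e₀ := by
    refine ⟨(injective_iff_map_eq_one e₀).mpr ?_, ?_⟩
    · rintro ⟨a, b⟩ h
      have h' : (a : G) * b = 1 := congrArg Subtype.val h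
      have ha : (a : G) ∈ W₁ ⊓ W₂ := ⟨a.2, by rw [eq_inv_of_mul_eq_one_left h']; exact W₂.inv_mem b.2⟩
      rw [hdisj, Subgroup.mem_bot] at ha
      rw [ha, one_mul] at h'
      exact Prod.ext (Subtype.ext ha) (Subtype.ext h')
    · rintro ⟨z, hz⟩
      have hn : W₁ ≤ Subgroup.normalizer (W₂ : Set G) := fun a ha => Subgroup.mem_normalizer_iff.mpr fun b => by
        constructor
        · intro hb; rw [hcomm a ha b hb]; simpa using hb
        · intro hb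
          have := hcomm a⁻¹ (W₁.inv_mem ha) _ hb
          have e : b = a * b * a⁻¹ := by
            calc b = a⁻¹ * (a * b * a⁻¹) * a := by group
              _ = a * b * a⁻¹ := by rw [this]; group
          rw [e]; exact hb
      have hz' := hz
      rw [← SetLike.mem_coe, Subgroup.coe_mul_of_left_le_normalizer_right _ _ hn] at hz'
      obtain ⟨a, ha, b, hb, rfl⟩ := hz'
      exact ⟨(⟨a, ha⟩, ⟨b, hb⟩), rfl⟩
  let e := MulEquiv.ofBijective e₀ he₀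
  obtain ⟨⟨a, b⟩, rfl⟩ : ∃ p, e p = w := e.surjective w
  have hab' : (e (a, b) : G) = (a : G) * b := rfl
  have ha1 : a ≠ 1 := fun h => h2 (by rw [hab', h, Subgroup.coe_one, one_mul]; exact b.2)
  have hb1 : b ≠ 1 := fun h => h1 (by rw [hab', h, Subgroup.coe_one, mul_one]; exact a.2)
  have := Fintype.ofFinite W₁
  have := Fintype.ofFinite W₂
  have := Fintype.ofFinite (W₁ →* ℂˣ)
  have := Fintype.ofFinite (W₂ →* ℂˣ)
  have hc1 : ∀ x y : W₁, x * y = y * x := fun x y => Subtype.ext (congrArg Subtype.val (hab ⟨x, Subgroup.mem_sup_left x.2⟩ ⟨y, Subgroup.mem_sup_left y.2⟩) :)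
  have hc2 : ∀ x y : W₂, x * y = y * x := fun x y => Subtype.ext (congrArg Subtype.val (hab ⟨x, Subgroup.mem_sup_right x.2⟩ ⟨y, Subgroup.mem_sup_right y.2⟩) :)
  let P : (W₁ →* ℂˣ) → (↥(W₁ ⊔ W₂) →* ℂˣ) := fun α => α.comp ((MonoidHom.fst W₁ W₂).comp e.symm.toMonoidHom)
  let Q : (W₂ →* ℂˣ) → (↥(W₁ ⊔ W₂) →* ℂˣ) := fun β => β.comp ((MonoidHom.snd W₁ W₂).comp e.symm.toMonoidHom)
  have hz : ∀ α β, classInner f (cycBeta (P α) (Q β)) = 0 := fun α β => hf _ _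
    (fun z hz' => by
      have : e.symm z = (1, ⟨z, hz'⟩) := e.injective (by
        rw [MulEquiv.apply_symm_apply]; exact Subtype.ext (by simp [e, e₀, Subgroup.inclusion]))
      show α ((e.symm z).1) = 1
      rw [this, map_one])
    (fun z hz' => by
      have : e.symm z = (⟨z, hz'⟩, 1) := e.injective (by
        rw [MulEquiv.apply_symm_apply]; exact Subtype.ext (by simp [e, e₀, Subgroup.inclusion]))
      show β ((e.symm z).2) = 1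
      rw [this, map_one])
  have hsum : ∀ z : W₁ × W₂, ∑ α : W₁ →* ℂˣ, ∑ β : W₂ →* ℂˣ, ((α a : ℂˣ) : ℂ) * ((β b : ℂˣ) : ℂ) * conj (cycBeta (P α) (Q β) (e z)) =
      if z = (a, b) then (Nat.card W₁ : ℂ) * Nat.card W₂ else 0 := by
    rintro ⟨x, y⟩
    have hterm : ∀ α β, ((α a : ℂˣ) : ℂ) * ((β b : ℂˣ) : ℂ) * conj (cycBeta (P α) (Q β) (e (x, y))) =
        (((α a : ℂˣ) : ℂ) - ((α (a * x⁻¹) : ℂˣ) : ℂ)) * (((β b : ℂˣ) : ℂ) - ((β (b * y⁻¹) : ℂˣ) : ℂ)) := fun α β => by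
      simp only [cycBeta, P, Q, MonoidHom.comp_apply, MulEquiv.coe_toMonoidHom, MulEquiv.symm_apply_apply,
        MonoidHom.coe_fst, MonoidHom.coe_snd, map_add, map_sub, map_mul, map_one, conj_hom_apply, Units.val_mul]
      ring
    simp only [hterm, ← Finset.mul_sum, ← Finset.sum_mul, Finset.sum_sub_distrib]
    rw [sum_hom_abelian hc1, sum_hom_abelian hc1, sum_hom_abelian hc2, sum_hom_abelian hc2]
    simp only [mul_inv_eq_one, if_neg ha1, if_neg hb1, Prod.mk.injEq]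
    by_cases hx : a = x <;> by_cases hy : b = y <;> simp [hx, hy, eq_comm]
    all_goals simp [Ne.symm (show a ≠ x from hx)]
  have total : ∑ α : W₁ →* ℂˣ, ∑ β : W₂ →* ℂˣ, ((α a : ℂˣ) : ℂ) * ((β b : ℂˣ) : ℂ) * classInner f (cycBeta (P α) (Q β)) = 0 :=
    Finset.sum_eq_zero fun α _ => Finset.sum_eq_zero fun β _ => by rw [hz, mul_zero]
  have hswap : ∑ α : W₁ →* ℂˣ, ∑ β : W₂ →* ℂˣ, ((α a : ℂˣ) : ℂ) * ((β b : ℂˣ) : ℂ) * classInner f (cycBeta (P α) (Q β)) =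
      (Nat.card ↥(W₁ ⊔ W₂) : ℂ)⁻¹ * ∑ z : W₁ × W₂, f (e z) *
        (∑ α : W₁ →* ℂˣ, ∑ β : W₂ →* ℂˣ, ((α a : ℂˣ) : ℂ) * ((β b : ℂˣ) : ℂ) * conj (cycBeta (P α) (Q β) (e z))) := by
    simp only [classInner, Finset.mul_sum]
    conv_rhs => rw [Finset.sum_comm]
    refine Finset.sum_congr rfl fun α _ => ?_
    conv_rhs => rw [Finset.sum_comm]
    refine Finset.sum_congr rfl fun β _ => ?_
    rw [← Equiv.sum_comp e.toEquiv]
    refine Finset.sum_congr rfl fun z _ => ?_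
    rw [show e.toEquiv z = e z from rfl]
    ring
  rw [hswap] at total
  simp only [hsum, mul_ite, mul_zero, Finset.sum_ite_eq', Finset.mem_univ, if_true] at total
  have : (Nat.card W₁ : ℂ) ≠ 0 := Nat.cast_ne_zero.mpr Nat.card_pos.ne'
  have : (Nat.card W₂ : ℂ) ≠ 0 := Nat.cast_ne_zero.mpr Nat.card_pos.ne'
  have : (Nat.card ↥(W₁ ⊔ W₂) : ℂ)⁻¹ ≠ 0 := inv_ne_zero (Nat.cast_ne_zero.mpr Nat.card_pos.ne')
  simpa [*] using total

theorem family_relation [Fintype G] [Fintype ↥(W₁ ⊔ W₂)] {χ : (↥(W₁ ⊔ W₂) →* ℂˣ) → (G → ℂ)}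
    (hχ : IsCyclicTIFamily W₁ W₂ χ) {θ : G → ℂ} (hθ : IsClassFunction G θ) (φ ψ : ↥(W₁ ⊔ W₂) →* ℂˣ)
    (hφ₂ : ∀ w : ↥(W₁ ⊔ W₂), (w : G) ∈ W₂ → φ w = 1) (hψ₁ : ∀ w : ↥(W₁ ⊔ W₂), (w : G) ∈ W₁ → ψ w = 1) :
    classInner (fun w : ↥(W₁ ⊔ W₂) => θ w) (cycBeta φ ψ) =
      classInner θ (χ 1) - classInner θ (χ φ) - classInner θ (χ ψ) + classInner θ (χ (φ * ψ)) := by
  by_cases hφ : φ = 1
  · subst hφ
    have : cycBeta (1 : ↥(W₁ ⊔ W₂) →* ℂˣ) ψ = 0 := by funext w; simp [cycBeta]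
    rw [this, classInner_zero_right, show ((1 : ↥(W₁ ⊔ W₂) →* ℂˣ) * ψ) = ψ from one_mul ψ]
    ring
  by_cases hψ : ψ = 1
  · subst hψ
    have : cycBeta φ (1 : ↥(W₁ ⊔ W₂) →* ℂˣ) = 0 := by funext w; simp [cycBeta]
    rw [this, classInner_zero_right, show (φ * (1 : ↥(W₁ ⊔ W₂) →* ℂˣ)) = φ from mul_one φ]
    ring
  rw [← frobenius_reciprocity' (W₁ ⊔ W₂) (cycBeta φ ψ) hθ]
  show classInner θ (indFun (W₁ ⊔ W₂) (fun w => 1 - (φ w : ℂ) - (ψ w : ℂ) + (φ w : ℂ) * (ψ w : ℂ))) = _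
  rw [hχ.induced_eq φ ψ hφ hψ hφ₂ hψ₁]
  rw [show (fun g => 1 - χ φ g - χ ψ g + χ (φ * ψ) g) = χ 1 - χ φ - χ ψ + χ (φ * ψ) by
    funext g; simp [hχ.map_one]]
  simp only [classInner_add_right, classInner_sub_right]

end CfsgLib.CharTheory
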