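import Cfsg.Agent.Lib.CharTheory.MultFree
import Cfsg.Agent.Lib.CharTheory.Irr
import Mathlib.GroupTheory.SpecificGroups.Alternating
import Mathlib.GroupTheory.Perm.Cycle.PossibleTypes
import Mathlib.GroupTheory.GroupAction.Quotient

/-!
The irreducible characters of the symmetric and alternating groups for the partitions `(n-1,1)`,
`(n-2,2)` and `(n-2,1,1)`, from the permutation characters on points, ordered pairs and 2-sets.
-/

set_option autoImplicit false

namespace CfsgLib.SmallPartitionChars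

open Cfsg CfsgLib.CharTheory

universe u

variable {G : Type u} [Group G] {n : ℕ}

/-- The permutation character. -/
noncomputable def fixChar (G : Type u) [Group G] (X : Type*) [MulAction G X] : G → ℂ :=
  fun g => (Nat.card (MulAction.fixedBy X g) : ℂ)

theorem isCharacter_fixChar [Finite G] (X : Type*) [Fintype X] [MulAction G X] :
    IsCharacter G (fixChar G X) := by
  have := Fintype.ofFinite G
  have h := permRep_character (G := G) (Ω := X)
  rw [show fixChar G X = (Cfsg.permRep ℂ G X).character from h.symm]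
  exact isCharacter_character _

theorem classInner_fixChar [Fintype G] (X Y : Type*) [Finite X] [Finite Y] [MulAction G X] [MulAction G Y] :
    classInner (fixChar G X) (fixChar G Y) = (Nat.card (MulAction.orbitRel.Quotient G (X × Y)) : ℂ) := by
  classical
  have := Fintype.ofFinite X
  have := Fintype.ofFinite Y
  have hb := MulAction.sum_card_fixedBy_eq_card_orbits_mul_card_group G (X × Y)
  have he : ∀ g : G, Fintype.card (MulAction.fixedBy (X × Y) g) =
      Nat.card (MulAction.fixedBy X g) * Nat.card (MulAction.fixedBy Y g) := by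
    intro g
    rw [← Nat.card_prod, ← Nat.card_eq_fintype_card]
    exact Nat.card_congr
      { toFun := fun p => (⟨p.1.1, congrArg Prod.fst p.2⟩, ⟨p.1.2, congrArg Prod.snd p.2⟩)
        invFun := fun p => ⟨(p.1.1, p.2.1), Prod.ext p.1.2 p.2.2⟩
        left_inv := fun p => rfl
        right_inv := fun p => rfl }
  simp only [he] at hb
  simp only [classInner, fixChar, map_natCast, ← Nat.cast_mul]
  rw [← Nat.cast_sum, hb, Nat.cast_mul, Nat.card_eq_fintype_card (α := G),
    Nat.card_eq_fintype_card (α := MulAction.orbitRel.Quotient G (X × Y))]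
  have hG : (Fintype.card G : ℂ) ≠ 0 := Nat.cast_ne_zero.mpr Fintype.card_ne_zero
  field_simp

theorem card_orbits {Z : Type*} [MulAction G Z] {k : ℕ} (t : Z → Fin k)
    (hinv : ∀ (g : G) z, t (g • z) = t z) (hsurj : Function.Surjective t)
    (htr : ∀ z z', t z = t z' → ∃ g : G, g • z = z') :
    Nat.card (MulAction.orbitRel.Quotient G Z) = k := by
  conv_rhs => rw [← Nat.card_fin k]
  let f : MulAction.orbitRel.Quotient G Z → Fin k := Quotient.lift t fun a b h => by
    obtain ⟨g, rfl⟩ := MulAction.orbitRel_apply.mp h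
    exact hinv g b
  refine Nat.card_congr (Equiv.ofBijective f ⟨fun a b h => ?_, fun i => ?_⟩)
  · induction a using Quotient.inductionOn with
    | _ x =>
      induction b using Quotient.inductionOn with
      | _ y =>
        obtain ⟨g, hg⟩ := htr y x h.symm
        exact Quotient.sound (MulAction.orbitRel_apply.mpr ⟨g, hg⟩)
  · obtain ⟨z, rfl⟩ := hsurj i
    exact ⟨⟦z⟧, rfl⟩

/-- An ordered pair of distinct points. -/
def OPair (n : ℕ) : Type := {p : Fin n × Fin n // p.1 ≠ p.2}

/-- A 2-element set of points. -/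
def SPair (n : ℕ) : Type := {s : Finset (Fin n) // s.card = 2}

noncomputable instance : Fintype (OPair n) := inferInstanceAs (Fintype {p : Fin n × Fin n // p.1 ≠ p.2})
noncomputable instance : Fintype (SPair n) := inferInstanceAs (Fintype {s : Finset (Fin n) // s.card = 2})

variable [MulAction G (Fin n)]

instance : MulAction G (OPair n) where
  smul g p := ⟨(g • p.1.1, g • p.1.2), fun h => p.2 (smul_left_cancel g h)⟩
  one_smul p := Subtype.ext (Prod.ext (one_smul G p.1.1) (one_smul G p.1.2))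
  mul_smul g h p := Subtype.ext (Prod.ext (mul_smul g h p.1.1) (mul_smul g h p.1.2))

instance : MulAction G (SPair n) where
  smul g s := ⟨s.1.image (g • ·),
    (Finset.card_image_of_injective s.1 (fun _ _ h => smul_left_cancel g h)).trans s.2⟩
  one_smul s := Subtype.ext (show s.1.image ((1 : G) • ·) = s.1 by simp)
  mul_smul g h s := Subtype.ext (show s.1.image ((g * h) • ·) = (s.1.image (h • ·)).image (g • ·) by
    rw [Finset.image_image]; simp [Function.comp_def, mul_smul])

theorem smul_opair (g : G) (p : OPair n) : (g • p).1 = (g • p.1.1, g • p.1.2) := rfl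

theorem smul_spair (g : G) (s : SPair n) : (g • s).1 = s.1.image (g • ·) := rfl

theorem mem_smul_spair (g : G) (x : Fin n) (s : SPair n) : g • x ∈ (g • s).1 ↔ x ∈ s.1 := by
  rw [smul_spair, Finset.mem_image]
  exact ⟨fun ⟨y, hy, e⟩ => smul_left_cancel g e ▸ hy, fun h => ⟨x, h, rfl⟩⟩

/-- Tuples of length at most four with the same pattern of equalities are conjugate. -/
def HasExt (G : Type u) [Group G] (n : ℕ) [MulAction G (Fin n)] : Prop :=
  ∀ k ≤ 4, ∀ v w : Fin k → Fin n, (∀ i j, v i = v j ↔ w i = w j) → ∃ g : G, ∀ i, g • v i = w i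

theorem spair_eq {s : SPair n} {a b : Fin n} (ha : a ∈ s.1) (hb : b ∈ s.1) (hab : a ≠ b) :
    s.1 = {a, b} :=
  (Finset.eq_of_subset_of_card_le (by simp [Finset.insert_subset_iff, ha, hb])
    (by rw [s.2, Finset.card_pair hab])).symm

theorem exists_other {s : SPair n} {a : Fin n} (ha : a ∈ s.1) :
    ∃ b, b ∈ s.1 ∧ a ≠ b ∧ s.1 = {a, b} := by
  obtain ⟨x, y, hxy, e⟩ := Finset.card_eq_two.mp s.2
  rw [e] at ha
  rcases Finset.mem_insert.mp ha with rfl | h
  · exact ⟨y, by simp [e], hxy, e⟩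
  · rw [Finset.mem_singleton] at h
    subst h
    exact ⟨x, by simp [e], hxy.symm, e.trans (Finset.pair_comm _ _)⟩

variable (hext : HasExt G n) (hn : 4 ≤ n)
include hext

theorem ext2 {a b a' b' : Fin n} (h : a ≠ b) (h' : a' ≠ b') :
    ∃ g : G, g • a = a' ∧ g • b = b' := by
  obtain ⟨g, hg⟩ := hext 2 (by norm_num) ![a, b] ![a', b'] (fun i j => by
    fin_cases i <;> fin_cases j <;> simp [h, h', Ne.symm h, Ne.symm h'])
  exact ⟨g, hg 0, hg 1⟩

theorem ext3 {a b c a' b' c' : Fin n} (h1 : a ≠ b) (h2 : a ≠ c) (h3 : b ≠ c) (h1' : a' ≠ b')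
    (h2' : a' ≠ c') (h3' : b' ≠ c') : ∃ g : G, g • a = a' ∧ g • b = b' ∧ g • c = c' := by
  obtain ⟨g, hg⟩ := hext 3 (by norm_num) ![a, b, c] ![a', b', c'] (fun i j => by
    fin_cases i <;> fin_cases j <;>
      simp [h1, h2, h3, h1', h2', h3', Ne.symm h1, Ne.symm h2, Ne.symm h3, Ne.symm h1', Ne.symm h2', Ne.symm h3'])
  exact ⟨g, hg 0, hg 1, hg 2⟩

theorem ext4 {a b c d a' b' c' d' : Fin n} (h1 : a ≠ b) (h2 : a ≠ c) (h3 : a ≠ d) (h4 : b ≠ c)
    (h5 : b ≠ d) (h6 : c ≠ d) (h1' : a' ≠ b') (h2' : a' ≠ c') (h3' : a' ≠ d') (h4' : b' ≠ c')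
    (h5' : b' ≠ d') (h6' : c' ≠ d') :
    ∃ g : G, g • a = a' ∧ g • b = b' ∧ g • c = c' ∧ g • d = d' := by
  obtain ⟨g, hg⟩ := hext 4 le_rfl ![a, b, c, d] ![a', b', c', d'] (fun i j => by
    fin_cases i <;> fin_cases j <;>
      simp [h1, h2, h3, h4, h5, h6, h1', h2', h3', h4', h5', h6', Ne.symm h1, Ne.symm h2, Ne.symm h3,
        Ne.symm h4, Ne.symm h5, Ne.symm h6, Ne.symm h1', Ne.symm h2', Ne.symm h3', Ne.symm h4',
        Ne.symm h5', Ne.symm h6'])
  exact ⟨g, hg 0, hg 1, hg 2, hg 3⟩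

include hn

theorem orbits_P : Nat.card (MulAction.orbitRel.Quotient G (Fin n × Unit)) = 1 := by
  refine card_orbits (fun _ => 0) (fun _ _ => rfl) (fun i => ⟨(⟨0, by omega⟩, ()), by omega⟩)
    fun z z' _ => ?_
  obtain ⟨g, hg⟩ := hext 1 (by norm_num) ![z.1] ![z'.1] (fun i j => by fin_cases i; fin_cases j; simp)
  exact ⟨g, Prod.ext (hg 0) rfl⟩

theorem orbits_O : Nat.card (MulAction.orbitRel.Quotient G (OPair n × Unit)) = 1 := by
  refine card_orbits (fun _ => 0) (fun _ _ => rfl)
    (fun i => ⟨(⟨((⟨0, by omega⟩ : Fin n), (⟨1, by omega⟩ : Fin n)), Fin.ne_of_val_ne (by norm_num)⟩, ()), by omega⟩) fun z z' _ => ?_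
  obtain ⟨g, h1, h2⟩ := ext2 hext z.1.2 z'.1.2
  exact ⟨g, Prod.ext (Subtype.ext (Prod.ext h1 h2)) rfl⟩

theorem orbits_S : Nat.card (MulAction.orbitRel.Quotient G (SPair n × Unit)) = 1 := by
  refine card_orbits (fun _ => 0) (fun _ _ => rfl)
    (fun i => ⟨(⟨{(⟨0, by omega⟩ : Fin n), (⟨1, by omega⟩ : Fin n)}, Finset.card_pair (Fin.ne_of_val_ne (by norm_num))⟩, ()), by omega⟩)
    fun z z' _ => ?_
  obtain ⟨a, b, hab, e⟩ := Finset.card_eq_two.mp z.1.2
  obtain ⟨a', b', hab', e'⟩ := Finset.card_eq_two.mp z'.1.2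
  obtain ⟨g, h1, h2⟩ := ext2 hext hab hab'
  refine ⟨g, Prod.ext (Subtype.ext ?_) rfl⟩
  show (z.1).1.image (g • ·) = (z'.1).1
  rw [e, e', Finset.image_insert, Finset.image_singleton, h1, h2]

theorem orbits_PP : Nat.card (MulAction.orbitRel.Quotient G (Fin n × Fin n)) = 2 := by
  refine card_orbits (fun z => if z.1 = z.2 then 0 else 1) (fun g z => ?_) (fun i => ?_) fun z z' h => ?_
  · simp [smul_left_cancel_iff]
  · fin_cases i
    · exact ⟨(⟨0, by omega⟩, ⟨0, by omega⟩), by simp⟩
    · exact ⟨(⟨0, by omega⟩, ⟨1, by omega⟩), by simp⟩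
  · obtain ⟨g, hg⟩ := hext 2 (by norm_num) ![z.1, z.2] ![z'.1, z'.2] (fun i j => by
      by_cases e : z.1 = z.2 <;> by_cases e' : z'.1 = z'.2 <;>
        first
        | (simp [e, e'] at h; done)
        | (fin_cases i <;> fin_cases j <;> simp [e, e', eq_comm]))
    exact ⟨g, Prod.ext (hg 0) (hg 1)⟩

theorem orbits_PO : Nat.card (MulAction.orbitRel.Quotient G (Fin n × OPair n)) = 3 := by
  refine card_orbits (fun z => if z.1 = z.2.1.1 then 0 else if z.1 = z.2.1.2 then 1 else 2)
    (fun g z => ?_) (fun i => ?_) fun z z' h => ?_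
  · simp [smul_opair, smul_left_cancel_iff]
  · fin_cases i
    · exact ⟨(⟨0, by omega⟩, ⟨(⟨0, by omega⟩, ⟨1, by omega⟩), by simp⟩), by simp⟩
    · exact ⟨(⟨1, by omega⟩, ⟨(⟨0, by omega⟩, ⟨1, by omega⟩), by simp⟩), by simp⟩
    · exact ⟨(⟨2, by omega⟩, ⟨(⟨0, by omega⟩, ⟨1, by omega⟩), by simp⟩), by simp⟩
  · obtain ⟨x, ⟨⟨a, b⟩, hab⟩⟩ := z
    obtain ⟨x', ⟨⟨a', b'⟩, hab'⟩⟩ := z'
    change a ≠ b at hab
    change a' ≠ b' at hab'
    change (if x = a then (0 : Fin 3) else if x = b then 1 else 2) =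
      if x' = a' then (0 : Fin 3) else if x' = b' then 1 else 2 at h
    have key : (x = a ↔ x' = a') ∧ (x = b ↔ x' = b') := by
      split_ifs at h <;> simp_all
    obtain ⟨g, hg⟩ := hext 3 (by norm_num) ![x, a, b] ![x', a', b'] (fun i j => by
      fin_cases i <;> fin_cases j <;> simp [key.1, key.2, hab, hab', Ne.symm hab, Ne.symm hab', eq_comm (b := x), eq_comm (b := x')])
    exact ⟨g, Prod.ext (hg 0) (Subtype.ext (Prod.ext (hg 1) (hg 2)))⟩

theorem orbits_OO : Nat.card (MulAction.orbitRel.Quotient G (OPair n × OPair n)) = 7 := by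
  refine card_orbits (fun z =>
      if z.1.1.1 = z.2.1.1 ∧ z.1.1.2 = z.2.1.2 then 0
      else if z.1.1.1 = z.2.1.2 ∧ z.1.1.2 = z.2.1.1 then 1
      else if z.1.1.1 = z.2.1.1 then 2 else if z.1.1.1 = z.2.1.2 then 3
      else if z.1.1.2 = z.2.1.1 then 4 else if z.1.1.2 = z.2.1.2 then 5 else 6)
    (fun g z => ?_) (fun i => ?_) fun z z' h => ?_
  · simp [smul_opair, smul_left_cancel_iff]
  · let q : Fin n := ⟨0, by omega⟩
    let r : Fin n := ⟨1, by omega⟩
    let s : Fin n := ⟨2, by omega⟩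
    let t : Fin n := ⟨3, by omega⟩
    fin_cases i
    · exact ⟨(⟨(q, r), by simp [q, r]⟩, ⟨(q, r), by simp [q, r]⟩), by simp [q, r]⟩
    · exact ⟨(⟨(q, r), by simp [q, r]⟩, ⟨(r, q), by simp [q, r]⟩), by simp [q, r]⟩
    · exact ⟨(⟨(q, r), by simp [q, r]⟩, ⟨(q, s), by simp [q, s]⟩), by simp [q, r, s]⟩
    · exact ⟨(⟨(q, r), by simp [q, r]⟩, ⟨(s, q), by simp [q, s]⟩), by simp [q, r, s]⟩
    · exact ⟨(⟨(q, r), by simp [q, r]⟩, ⟨(r, s), by simp [r, s]⟩), by simp [q, r, s]⟩
    · exact ⟨(⟨(q, r), by simp [q, r]⟩, ⟨(s, r), by simp [r, s]⟩), by simp [q, r, s]⟩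
    · exact ⟨(⟨(q, r), by simp [q, r]⟩, ⟨(s, t), by simp [s, t]⟩), by simp [q, r, s, t]⟩
  · obtain ⟨⟨⟨a, b⟩, hab⟩, ⟨⟨c, d⟩, hcd⟩⟩ := z
    obtain ⟨⟨⟨a', b'⟩, hab'⟩, ⟨⟨c', d'⟩, hcd'⟩⟩ := z'
    simp only at h hab hcd hab' hcd'
    have key : (a = c ↔ a' = c') ∧ (a = d ↔ a' = d') ∧ (b = c ↔ b' = c') ∧ (b = d ↔ b' = d') := by
      split_ifs at h <;> grind
    obtain ⟨k1, k2, k3, k4⟩ := key
    obtain ⟨g, hg⟩ := hext 4 le_rfl ![a, b, c, d] ![a', b', c', d'] (fun i j => by
      fin_cases i <;> fin_cases j <;>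
        simp [k1, k2, k3, k4, hab, hab', hcd, hcd', Ne.symm hab, Ne.symm hab', Ne.symm hcd, Ne.symm hcd',
          eq_comm (a := c) (b := a), eq_comm (a := c') (b := a'), eq_comm (a := d) (b := a),
          eq_comm (a := d') (b := a'), eq_comm (a := c) (b := b), eq_comm (a := c') (b := b'),
          eq_comm (a := d) (b := b), eq_comm (a := d') (b := b')])
    exact ⟨g, Prod.ext (Subtype.ext (Prod.ext (hg 0) (hg 1))) (Subtype.ext (Prod.ext (hg 2) (hg 3)))⟩

theorem orbits_PS : Nat.card (MulAction.orbitRel.Quotient G (Fin n × SPair n)) = 2 := by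
  refine card_orbits (fun z => if z.1 ∈ z.2.1 then 0 else 1) (fun g z => ?_) (fun i => ?_) fun z z' h => ?_
  · simp [mem_smul_spair]
  · fin_cases i
    · exact ⟨((⟨0, by omega⟩ : Fin n), ⟨{(⟨0, by omega⟩ : Fin n), (⟨1, by omega⟩ : Fin n)}, Finset.card_pair (Fin.ne_of_val_ne (by norm_num))⟩), by simp⟩
    · exact ⟨((⟨2, by omega⟩ : Fin n), ⟨{(⟨0, by omega⟩ : Fin n), (⟨1, by omega⟩ : Fin n)}, Finset.card_pair (Fin.ne_of_val_ne (by norm_num))⟩), by simp⟩
  · obtain ⟨x, s⟩ := z
    obtain ⟨x', s'⟩ := z'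
    simp only at h
    by_cases hx : x ∈ s.1 <;> by_cases hx' : x' ∈ s'.1 <;> simp [hx, hx'] at h
    · obtain ⟨b, -, hb, e⟩ := exists_other hx
      obtain ⟨b', -, hb', e'⟩ := exists_other hx'
      obtain ⟨g, h1, h2⟩ := ext2 hext hb hb'
      refine ⟨g, Prod.ext h1 (Subtype.ext ?_)⟩
      show s.1.image (g • ·) = s'.1
      rw [e, e', Finset.image_insert, Finset.image_singleton, h1, h2]
    · obtain ⟨a, b, hab, e⟩ := Finset.card_eq_two.mp s.2
      obtain ⟨a', b', hab', e'⟩ := Finset.card_eq_two.mp s'.2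
      simp only [e, e', Finset.mem_insert, Finset.mem_singleton, not_or] at hx hx'
      obtain ⟨g, h1, h2, h3⟩ := ext3 hext hx.1 hx.2 hab hx'.1 hx'.2 hab'
      refine ⟨g, Prod.ext h1 (Subtype.ext ?_)⟩
      show s.1.image (g • ·) = s'.1
      rw [e, e', Finset.image_insert, Finset.image_singleton, h2, h3]

theorem orbits_OS : Nat.card (MulAction.orbitRel.Quotient G (OPair n × SPair n)) = 4 := by
  refine card_orbits (fun z => if z.1.1.1 ∈ z.2.1 then (if z.1.1.2 ∈ z.2.1 then 0 else 1)
      else (if z.1.1.2 ∈ z.2.1 then 2 else 3))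
    (fun g z => ?_) (fun i => ?_) fun z z' h => ?_
  · simp [smul_opair, mem_smul_spair]
  · let q : Fin n := ⟨0, by omega⟩
    let r : Fin n := ⟨1, by omega⟩
    let s : Fin n := ⟨2, by omega⟩
    let t : Fin n := ⟨3, by omega⟩
    fin_cases i
    · exact ⟨(⟨(q, r), by simp [q, r]⟩, ⟨{q, r}, Finset.card_pair (by simp [q, r])⟩), by simp [q, r]⟩
    · exact ⟨(⟨(q, r), by simp [q, r]⟩, ⟨{q, s}, Finset.card_pair (by simp [q, s])⟩), by simp [q, r, s]⟩
    · exact ⟨(⟨(q, r), by simp [q, r]⟩, ⟨{r, s}, Finset.card_pair (by simp [r, s])⟩), by simp [q, r, s]⟩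
    · exact ⟨(⟨(q, r), by simp [q, r]⟩, ⟨{s, t}, Finset.card_pair (by simp [s, t])⟩), by simp [q, r, s, t]⟩
  · obtain ⟨⟨⟨a, b⟩, hab⟩, s⟩ := z
    obtain ⟨⟨⟨a', b'⟩, hab'⟩, s'⟩ := z'
    simp only at h hab hab'
    by_cases ha : a ∈ s.1 <;> by_cases ha' : a' ∈ s'.1 <;> by_cases hb : b ∈ s.1 <;>
      by_cases hb' : b' ∈ s'.1 <;> simp [ha, ha', hb, hb'] at h
    · obtain ⟨g, h1, h2⟩ := ext2 hext hab hab'
      refine ⟨g, Prod.ext (Subtype.ext (Prod.ext h1 h2)) (Subtype.ext ?_)⟩
      show s.1.image (g • ·) = s'.1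
      rw [spair_eq ha hb hab, spair_eq ha' hb' hab', Finset.image_insert, Finset.image_singleton, h1, h2]
    · obtain ⟨c, hc, hac, e⟩ := exists_other ha
      obtain ⟨c', hc', hac', e'⟩ := exists_other ha'
      obtain ⟨g, h1, h2, h3⟩ := ext3 hext hab hac (fun q => hb (q ▸ hc)) hab' hac' (fun q => hb' (q ▸ hc'))
      refine ⟨g, Prod.ext (Subtype.ext (Prod.ext h1 h2)) (Subtype.ext ?_)⟩
      show s.1.image (g • ·) = s'.1
      rw [e, e', Finset.image_insert, Finset.image_singleton, h1, h3]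
    · obtain ⟨c, hc, hbc, e⟩ := exists_other hb
      obtain ⟨c', hc', hbc', e'⟩ := exists_other hb'
      obtain ⟨g, h1, h2, h3⟩ := ext3 hext hab (fun q => ha (q ▸ hc)) hbc hab' (fun q => ha' (q ▸ hc')) hbc'
      refine ⟨g, Prod.ext (Subtype.ext (Prod.ext h1 h2)) (Subtype.ext ?_)⟩
      show s.1.image (g • ·) = s'.1
      rw [e, e', Finset.image_insert, Finset.image_singleton, h2, h3]
    · obtain ⟨c, d, hcd, e⟩ := Finset.card_eq_two.mp s.2
      obtain ⟨c', d', hcd', e'⟩ := Finset.card_eq_two.mp s'.2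
      simp only [e, e', Finset.mem_insert, Finset.mem_singleton, not_or] at ha ha' hb hb'
      obtain ⟨g, h1, h2, h3, h4⟩ := ext4 hext hab ha.1 ha.2 hb.1 hb.2 hcd hab' ha'.1 ha'.2 hb'.1 hb'.2 hcd'
      refine ⟨g, Prod.ext (Subtype.ext (Prod.ext h1 h2)) (Subtype.ext ?_)⟩
      show s.1.image (g • ·) = s'.1
      rw [e, e', Finset.image_insert, Finset.image_singleton, h3, h4]

theorem orbits_SS : Nat.card (MulAction.orbitRel.Quotient G (SPair n × SPair n)) = 3 := by
  have hle : ∀ z : SPair n × SPair n, (z.1.1 ∩ z.2.1).card < 3 := fun z =>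
    lt_of_le_of_lt (Finset.card_le_card Finset.inter_subset_left) (by rw [z.1.2]; norm_num)
  refine card_orbits (fun z => ⟨(z.1.1 ∩ z.2.1).card, hle z⟩) (fun g z => Fin.ext ?_) (fun i => ?_)
    fun z z' h => ?_
  · show ((g • z.1).1 ∩ (g • z.2).1).card = _
    rw [smul_spair, smul_spair, ← Finset.image_inter _ _ (fun _ _ h => smul_left_cancel g h),
      Finset.card_image_of_injective _ (fun _ _ h => smul_left_cancel g h)]
  · let q : Fin n := ⟨0, by omega⟩
    let r : Fin n := ⟨1, by omega⟩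
    let s : Fin n := ⟨2, by omega⟩
    let t : Fin n := ⟨3, by omega⟩
    fin_cases i
    · exact ⟨(⟨{q, r}, Finset.card_pair (by simp [q, r])⟩, ⟨{s, t}, Finset.card_pair (by simp [s, t])⟩),
        Fin.ext (by simp [q, r, s, t])⟩
    · exact ⟨(⟨{q, r}, Finset.card_pair (by simp [q, r])⟩, ⟨{q, s}, Finset.card_pair (by simp [q, s])⟩),
        Fin.ext (by simp [q, r, s])⟩
    · exact ⟨(⟨{q, r}, Finset.card_pair (by simp [q, r])⟩, ⟨{q, r}, Finset.card_pair (by simp [q, r])⟩),
        Fin.ext (by simp [q, r])⟩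
  · obtain ⟨s, t⟩ := z
    obtain ⟨s', t'⟩ := z'
    have h' : (s.1 ∩ t.1).card = (s'.1 ∩ t'.1).card := congrArg Fin.val h
    obtain ⟨k, hk⟩ : ∃ k, (s.1 ∩ t.1).card = k := ⟨_, rfl⟩
    have hk3 := hk ▸ hle (s, t)
    rw [hk] at h'
    interval_cases k
    · -- disjoint
      obtain ⟨a, b, hab, e⟩ := Finset.card_eq_two.mp s.2
      obtain ⟨c, d, hcd, f⟩ := Finset.card_eq_two.mp t.2
      obtain ⟨a', b', hab', e'⟩ := Finset.card_eq_two.mp s'.2
      obtain ⟨c', d', hcd', f'⟩ := Finset.card_eq_two.mp t'.2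
      rw [Finset.card_eq_zero, ← Finset.disjoint_iff_inter_eq_empty, e, f] at hk
      have hk' := h'.symm
      rw [Finset.card_eq_zero, ← Finset.disjoint_iff_inter_eq_empty, e', f'] at hk'
      simp only [Finset.disjoint_insert_left, Finset.disjoint_singleton_left, Finset.mem_insert,
        Finset.mem_singleton, not_or] at hk hk'
      obtain ⟨g, h1, h2, h3, h4⟩ := ext4 hext hab hk.1.1 hk.1.2 hk.2.1 hk.2.2 hcd hab' hk'.1.1 hk'.1.2
        hk'.2.1 hk'.2.2 hcd'
      refine ⟨g, Prod.ext (Subtype.ext ?_) (Subtype.ext ?_)⟩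
      · show s.1.image (g • ·) = s'.1
        rw [e, e', Finset.image_insert, Finset.image_singleton, h1, h2]
      · show t.1.image (g • ·) = t'.1
        rw [f, f', Finset.image_insert, Finset.image_singleton, h3, h4]
    · obtain ⟨c, hc⟩ := Finset.card_eq_one.mp hk
      obtain ⟨c', hc'⟩ := Finset.card_eq_one.mp h'.symm
      have hcm := Finset.mem_inter.mp (hc.ge (Finset.mem_singleton_self c))
      have hcm' := Finset.mem_inter.mp (hc'.ge (Finset.mem_singleton_self c'))
      obtain ⟨a, ha, hca, e⟩ := exists_other hcm.1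
      obtain ⟨b, hb, hcb, f⟩ := exists_other hcm.2
      obtain ⟨a', ha', hca', e'⟩ := exists_other hcm'.1
      obtain ⟨b', hb', hcb', f'⟩ := exists_other hcm'.2
      have hab : a ≠ b := fun q => hca (Finset.mem_singleton.mp (hc.le (Finset.mem_inter.mpr ⟨ha, q ▸ hb⟩))).symm
      have hab' : a' ≠ b' := fun q =>
        hca' (Finset.mem_singleton.mp (hc'.le (Finset.mem_inter.mpr ⟨ha', q ▸ hb'⟩))).symm
      obtain ⟨g, h1, h2, h3⟩ := ext3 hext hca hcb hab hca' hcb' hab'
      refine ⟨g, Prod.ext (Subtype.ext ?_) (Subtype.ext ?_)⟩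
      · show s.1.image (g • ·) = s'.1
        rw [e, e', Finset.image_insert, Finset.image_singleton, h1, h2]
      · show t.1.image (g • ·) = t'.1
        rw [f, f', Finset.image_insert, Finset.image_singleton, h1, h3]
    · have hst : s.1 = t.1 := (Finset.eq_of_subset_of_card_le Finset.inter_subset_left (by rw [hk, s.2])).symm.trans
        (Finset.eq_of_subset_of_card_le Finset.inter_subset_right (by rw [hk, t.2]))
      have hst' : s'.1 = t'.1 := (Finset.eq_of_subset_of_card_le Finset.inter_subset_left (by rw [← h', s'.2])).symm.trans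
        (Finset.eq_of_subset_of_card_le Finset.inter_subset_right (by rw [← h', t'.2]))
      obtain ⟨a, b, hab, e⟩ := Finset.card_eq_two.mp s.2
      obtain ⟨a', b', hab', e'⟩ := Finset.card_eq_two.mp s'.2
      obtain ⟨g, h1, h2⟩ := ext2 hext hab hab'
      refine ⟨g, Prod.ext (Subtype.ext ?_) (Subtype.ext ?_)⟩
      · show s.1.image (g • ·) = s'.1
        rw [e, e', Finset.image_insert, Finset.image_singleton, h1, h2]
      · show t.1.image (g • ·) = t'.1
        rw [← hst, ← hst', e, e', Finset.image_insert, Finset.image_singleton, h1, h2]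

omit hext hn

theorem fixChar_unit [Fintype G] : fixChar G Unit = fun _ => (1 : ℂ) := by
  funext g
  have : MulAction.fixedBy Unit g = Set.univ := Set.eq_univ_of_forall fun u => Subsingleton.elim _ _
  simp [fixChar, this]

/-- The character of the partition `(n-1,1)`. -/
noncomputable def std (G : Type u) [Group G] (n : ℕ) [MulAction G (Fin n)] : G → ℂ :=
  fixChar G (Fin n) - fun _ => 1

/-- The character of the partition `(n-2,2)`. -/
noncomputable def two (G : Type u) [Group G] (n : ℕ) [MulAction G (Fin n)] : G → ℂ :=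
  fixChar G (SPair n) - fixChar G (Fin n)

/-- The character of the partition `(n-2,1,1)`. -/
noncomputable def hook (G : Type u) [Group G] (n : ℕ) [MulAction G (Fin n)] : G → ℂ :=
  (fixChar G (OPair n) - fixChar G (SPair n)) - (fixChar G (Fin n) - fun _ => 1)

variable (g : G)

theorem fix_P : Nat.card (MulAction.fixedBy (Fin n) g) = (Finset.univ.filter fun x : Fin n => g • x = x).card := by
  classical
  rw [Nat.card_eq_fintype_card, ← Set.toFinset_card]
  congr 1
  ext x
  simp [MulAction.mem_fixedBy]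

theorem fix_O : Nat.card (MulAction.fixedBy (OPair n) g) =
    Nat.card (MulAction.fixedBy (Fin n) g) * Nat.card (MulAction.fixedBy (Fin n) g) -
      Nat.card (MulAction.fixedBy (Fin n) g) := by
  classical
  rw [fix_P, ← Finset.offDiag_card, ← Nat.card_eq_finsetCard]
  exact Nat.card_congr
    { toFun := fun p => ⟨p.1.1, Finset.mem_offDiag.mpr
        ⟨Finset.mem_filter.mpr ⟨Finset.mem_univ _, congrArg (fun q : OPair n => q.1.1) p.2⟩,
          Finset.mem_filter.mpr ⟨Finset.mem_univ _, congrArg (fun q : OPair n => q.1.2) p.2⟩, p.1.2⟩⟩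
      invFun := fun p => ⟨⟨p.1, (Finset.mem_offDiag.mp p.2).2.2⟩, Subtype.ext (Prod.ext
        (Finset.mem_filter.mp (Finset.mem_offDiag.mp p.2).1).2
        (Finset.mem_filter.mp (Finset.mem_offDiag.mp p.2).2.1).2)⟩
      left_inv := fun p => rfl
      right_inv := fun p => rfl }

/-- Without points in 2-cycles, a fixed 2-set consists of fixed points. -/
theorem fix_S (hsq : ∀ x : Fin n, g • g • x = x → g • x = x) :
    Nat.card (MulAction.fixedBy (SPair n) g) = (Nat.card (MulAction.fixedBy (Fin n) g)).choose 2 := by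
  classical
  rw [fix_P, ← Finset.card_powersetCard, ← Nat.card_eq_finsetCard]
  exact Nat.card_congr
    { toFun := fun p => ⟨p.1.1, Finset.mem_powersetCard.mpr ⟨fun x hx => by
          refine Finset.mem_filter.mpr ⟨Finset.mem_univ _, hsq x ?_⟩
          obtain ⟨y, hy, hxy, e⟩ := exists_other hx
          have him : p.1.1.image (g • ·) = p.1.1 := congrArg (fun q : SPair n => q.1) p.2
          rw [e, Finset.image_insert, Finset.image_singleton] at him
          have hx' : g • x ∈ ({x, y} : Finset (Fin n)) := him ▸ Finset.mem_insert_self _ _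
          rcases Finset.mem_insert.mp hx' with h | h
          · rw [h, h]
          · rw [Finset.mem_singleton] at h
            rw [h]
            have hy' : g • y ∈ ({x, y} : Finset (Fin n)) :=
              him ▸ Finset.mem_insert_of_mem (Finset.mem_singleton_self _)
            rcases Finset.mem_insert.mp hy' with h2 | h2
            · exact h2
            · rw [Finset.mem_singleton] at h2
              exact absurd (smul_left_cancel g (h.trans h2.symm)) hxy, p.1.2⟩⟩
      invFun := fun p => ⟨⟨p.1, (Finset.mem_powersetCard.mp p.2).2⟩, Subtype.ext (by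
        show (p.1 : Finset (Fin n)).image (g • ·) = p.1
        conv_rhs => rw [← Finset.image_id (s := p.1)]
        exact Finset.image_congr fun x hx =>
          (Finset.mem_filter.mp ((Finset.mem_powersetCard.mp p.2).1 hx)).2)⟩
      left_inv := fun p => rfl
      right_inv := fun p => rfl }

theorem fix_one : Nat.card (MulAction.fixedBy (Fin n) (1 : G)) = n := by
  rw [show MulAction.fixedBy (Fin n) (1 : G) = Set.univ from Set.eq_univ_of_forall fun x => one_smul G x]
  simp

omit g

include hext hn in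
/-- The three characters are irreducible. -/
theorem isIrr_all [Fintype G] (hn5 : 5 ≤ n) :
    IsIrrCharacter G (std G n) ∧ IsIrrCharacter G (two G n) ∧ IsIrrCharacter G (hook G n) := by
  have hP := isGenChar_of_char (isCharacter_fixChar (G := G) (Fin n))
  have hO := isGenChar_of_char (isCharacter_fixChar (G := G) (OPair n))
  have hS := isGenChar_of_char (isCharacter_fixChar (G := G) (SPair n))
  have h1 : IsGeneralizedCharacter G (fun _ => (1 : ℂ)) :=
    isGenChar_of_char (isCharacter_of_irr isIrrCharacter_one)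
  have e1 := fixChar_unit (G := G)
  have P1 : classInner (fixChar G (Fin n)) (fun _ => 1) = 1 := by
    rw [← e1, classInner_fixChar, orbits_P hext hn, Nat.cast_one]
  have O1 : classInner (fixChar G (OPair n)) (fun _ => 1) = 1 := by
    rw [← e1, classInner_fixChar, orbits_O hext hn, Nat.cast_one]
  have S1 : classInner (fixChar G (SPair n)) (fun _ => 1) = 1 := by
    rw [← e1, classInner_fixChar, orbits_S hext hn, Nat.cast_one]
  have U1 : classInner (fun _ : G => (1 : ℂ)) (fun _ => 1) = 1 := classInner_irr_self isIrrCharacter_one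
  have PP : classInner (fixChar G (Fin n)) (fixChar G (Fin n)) = 2 := by
    rw [classInner_fixChar, orbits_PP hext hn]; norm_num
  have PO : classInner (fixChar G (Fin n)) (fixChar G (OPair n)) = 3 := by
    rw [classInner_fixChar, orbits_PO hext hn]; norm_num
  have PS : classInner (fixChar G (Fin n)) (fixChar G (SPair n)) = 2 := by
    rw [classInner_fixChar, orbits_PS hext hn]; norm_num
  have OO : classInner (fixChar G (OPair n)) (fixChar G (OPair n)) = 7 := by
    rw [classInner_fixChar, orbits_OO hext hn]; norm_num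
  have OS : classInner (fixChar G (OPair n)) (fixChar G (SPair n)) = 4 := by
    rw [classInner_fixChar, orbits_OS hext hn]; norm_num
  have SS : classInner (fixChar G (SPair n)) (fixChar G (SPair n)) = 3 := by
    rw [classInner_fixChar, orbits_SS hext hn]; norm_num
  have OP : classInner (fixChar G (OPair n)) (fixChar G (Fin n)) = 3 := by
    rw [← classInner_comm, PO, map_ofNat]
  have SP : classInner (fixChar G (SPair n)) (fixChar G (Fin n)) = 2 := by
    rw [← classInner_comm, PS, map_ofNat]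
  have SO : classInner (fixChar G (SPair n)) (fixChar G (OPair n)) = 4 := by
    rw [← classInner_comm, OS, map_ofNat]
  have oneP : classInner (fun _ : G => (1 : ℂ)) (fixChar G (Fin n)) = 1 := by rw [← classInner_comm, P1, map_one]
  have oneO : classInner (fun _ : G => (1 : ℂ)) (fixChar G (OPair n)) = 1 := by rw [← classInner_comm, O1, map_one]
  have oneS : classInner (fun _ : G => (1 : ℂ)) (fixChar G (SPair n)) = 1 := by rw [← classInner_comm, S1, map_one]
  have vP : fixChar G (Fin n) 1 = (n : ℂ) := by simp [fixChar, fix_one]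
  have vO : fixChar G (OPair n) 1 = ((n * n - n : ℕ) : ℂ) := by
    show ((Nat.card (MulAction.fixedBy (OPair n) (1 : G)) : ℕ) : ℂ) = _
    rw [fix_O, fix_one]
  have vS : fixChar G (SPair n) 1 = ((n.choose 2 : ℕ) : ℂ) := by
    show ((Nat.card (MulAction.fixedBy (SPair n) (1 : G)) : ℕ) : ℂ) = _
    rw [fix_S (1 : G) (fun x _ => one_smul G x), fix_one]
  have hc2 : n.choose 2 * 2 = n * (n - 1) := by
    rw [Nat.choose_two_right]
    exact Nat.div_mul_cancel (Nat.even_mul_pred_self n).two_dvd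
  have hnn : n * (n - 1) = n * n - n := by rw [Nat.mul_sub, mul_one]
  refine ⟨irr_of_norm_one (isGenChar_sub hP h1) ?_ ?_, irr_of_norm_one (isGenChar_sub hS hP) ?_ ?_,
    irr_of_norm_one (isGenChar_sub (isGenChar_sub hO hS) (isGenChar_sub hP h1)) ?_ ?_⟩
  · simp only [std, two, hook, classInner_sub_left, classInner_sub_right, PP, P1, oneP, U1]; norm_num
  · show 0 < (fixChar G (Fin n) 1 - 1).re
    rw [vP]
    simp only [Complex.sub_re, Complex.natCast_re, Complex.one_re, sub_pos]
    exact_mod_cast (by omega : 1 < n)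
  · simp only [std, two, hook, classInner_sub_left, classInner_sub_right, PP, SS, PS, SP]; norm_num
  · show 0 < (fixChar G (SPair n) 1 - fixChar G (Fin n) 1).re
    rw [vP, vS]
    simp only [Complex.sub_re, Complex.natCast_re, sub_pos]
    have : n * 4 ≤ n * (n - 1) := Nat.mul_le_mul_left n (by omega)
    exact_mod_cast (by omega : n < n.choose 2)
  · simp only [std, two, hook, classInner_sub_left, classInner_sub_right, PP, PO, PS, OO, OS, SS, OP, SP, SO, P1, O1, S1,
      oneP, oneO, oneS, U1]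
    norm_num
  · show 0 < (fixChar G (OPair n) 1 - fixChar G (SPair n) 1 - (fixChar G (Fin n) 1 - 1)).re
    rw [vP, vO, vS]
    simp only [Complex.sub_re, Complex.natCast_re, Complex.one_re]
    have : n * 4 ≤ n * (n - 1) := Nat.mul_le_mul_left n (by omega)
    have h' : n + n.choose 2 < n * n - n + 1 := by omega
    have h'' : (n : ℝ) + (n.choose 2 : ℕ) < ((n * n - n : ℕ) : ℝ) + 1 := by exact_mod_cast h'
    linarith

/-- The alternating group has the extension property. -/
theorem hasExt_alternating (hn : 6 ≤ n) : HasExt (alternatingGroup (Fin n)) n := by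
  classical
  intro k hk v w hpat
  let e : {x // ∃ i, v i = x} ≃ {x // ∃ i, w i = x} :=
    { toFun := fun x => ⟨w x.2.choose, _, rfl⟩
      invFun := fun y => ⟨v y.2.choose, _, rfl⟩
      left_inv := fun x => Subtype.ext ((hpat _ _).mpr
        (⟨x.2.choose, rfl⟩ : ∃ i, w i = w x.2.choose).choose_spec |>.trans x.2.choose_spec)
      right_inv := fun y => Subtype.ext ((hpat _ _).mp
        (⟨y.2.choose, rfl⟩ : ∃ i, v i = v y.2.choose).choose_spec |>.trans y.2.choose_spec) }
  let σ : Equiv.Perm (Fin n) := e.extendSubtype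
  have hσ : ∀ i, σ (v i) = w i := fun i => by
    show e.extendSubtype (v i) = w i
    rw [e.extendSubtype_apply_of_mem (v i) ⟨i, rfl⟩]
    exact (hpat _ _).mp (⟨i, rfl⟩ : ∃ j, v j = v i).choose_spec
  rcases Int.units_eq_one_or (Equiv.Perm.sign σ) with hs | hs
  · exact ⟨⟨σ, Equiv.Perm.mem_alternatingGroup.mpr hs⟩, hσ⟩
  · obtain ⟨a, ha, b, hb, hab⟩ : ∃ a, a ∉ Finset.univ.image w ∧ ∃ b, b ∉ Finset.univ.image w ∧ a ≠ b := by
      have hcard : 1 < ((Finset.univ.image w)ᶜ : Finset (Fin n)).card := by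
        have h1 : (Finset.univ.image w).card ≤ k := Finset.card_image_le.trans (by simp)
        rw [Finset.card_compl, Fintype.card_fin]
        omega
      obtain ⟨a, ha, b, hb, hab⟩ := Finset.one_lt_card.mp hcard
      exact ⟨a, Finset.mem_compl.mp ha, b, Finset.mem_compl.mp hb, hab⟩
    refine ⟨⟨Equiv.swap a b * σ, Equiv.Perm.mem_alternatingGroup.mpr (by
      rw [map_mul, hs, Equiv.Perm.sign_swap hab]; rfl)⟩, fun i => ?_⟩
    show Equiv.swap a b (σ (v i)) = w i
    rw [hσ, Equiv.swap_apply_of_ne_of_ne]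
    · exact fun q => ha (Finset.mem_image.mpr ⟨i, Finset.mem_univ _, q⟩)
    · exact fun q => hb (Finset.mem_image.mpr ⟨i, Finset.mem_univ _, q⟩)

/-- So does the symmetric group. -/
theorem hasExt_perm (hn : 6 ≤ n) : HasExt (Equiv.Perm (Fin n)) n := fun k hk v w h => by
  obtain ⟨g, hg⟩ := hasExt_alternating hn k hk v w h
  exact ⟨g.1, hg⟩

/-- A permutation with prescribed cycle type, with the relevant invariants. -/
theorem exists_elem (m : Multiset ℕ) (hsum : m.sum ≤ n) (h2 : ∀ a ∈ m, 2 ≤ a)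
    (hpar : Even (m.sum + Multiset.card m)) :
    ∃ x : alternatingGroup (Fin n), orderOf x = m.lcm ∧
      Nat.card (MulAction.fixedBy (Fin n) x) = n - m.sum ∧
      (2 ∉ m → ∀ i : Fin n, x • x • i = i → x • i = i) := by
  classical
  obtain ⟨σ, hσ⟩ := (Equiv.Perm.exists_with_cycleType_iff (Fin n)).mpr
    ⟨by rwa [Fintype.card_fin], h2⟩
  have hmem : σ ∈ alternatingGroup (Fin n) := Equiv.Perm.mem_alternatingGroup.mpr (by
    rw [Equiv.Perm.sign_of_cycleType, hσ]; exact hpar.neg_one_pow)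
  refine ⟨⟨σ, hmem⟩, ?_, ?_, fun h i hi => ?_⟩
  · rw [← hσ, Equiv.Perm.lcm_cycleType, Subgroup.orderOf_mk]
  · rw [← hσ]
    rw [show MulAction.fixedBy (Fin n) (⟨σ, hmem⟩ : alternatingGroup (Fin n)) = Function.fixedPoints σ from rfl,
      Nat.card_eq_fintype_card, Equiv.Perm.card_fixedPoints, Fintype.card_fin]
  · by_contra hne
    change σ (σ i) = i at hi
    change ¬ σ i = i at hne
    refine h ?_
    have hc := Equiv.Perm.isCycle_cycleOf σ hne
    have h1 : σ.cycleOf i i ≠ i := by rwa [Equiv.Perm.cycleOf_apply_self]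
    have h2 : (σ.cycleOf i ^ 2) i = i := by
      rw [Equiv.Perm.cycleOf_pow_apply_self, pow_two]
      exact hi
    have h3 : σ.cycleOf i ^ 2 = 1 := (hc.pow_eq_one_iff' h1).mpr h2
    have h4 : (σ.cycleOf i).support.card = 2 := by
      rw [← hc.orderOf]
      exact orderOf_eq_prime h3 hc.ne_one
    rw [← hσ, ← h4, Equiv.Perm.cycleType_def, Multiset.mem_map]
    exact ⟨σ.cycleOf i, Finset.mem_val.mpr (Equiv.Perm.cycleOf_mem_cycleFactorsFinset_iff.mpr (Equiv.Perm.mem_support.mpr hne)), rfl⟩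

end CfsgLib.SmallPartitionChars
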