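/-
No group of odd order is partitioned by the conjugates of coprime Frobenius kernels.
-/
import Cfsg.Agent.Lib.CharTheory.Partition

set_option autoImplicit false

namespace CfsgLib.CharTheory.Partition

open Cfsg CfsgLib.CharTheory
open scoped ComplexConjugate

universe u

theorem sum_class_fun_cover {G : Type u} [Group G] [Fintype G] {ι : Type*} [Fintype ι]
    (L H : ι → Subgroup G) (hLn : ∀ i x, x ∈ L i → ∀ h ∈ H i, x * h * x⁻¹ ∈ H i)
    (hTI : ∀ i, ∀ g : G, g ∉ L i → ∀ h ∈ H i, g * h * g⁻¹ ∈ H i → h = 1)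
    (hcop : ∀ i j, i ≠ j → Nat.Coprime (Nat.card (H i)) (Nat.card (H j)))
    (hcover : ∀ g : G, g ≠ 1 → ∃ i, ∃ x : G, x * g * x⁻¹ ∈ H i)
    (f : G → ℝ) (hf : ∀ g x : G, f (x * g * x⁻¹) = f g) :
    ∑ g : G, f g = f 1 + ∑ i, (Nat.card G : ℝ) / Nat.card (L i) * ∑ x ∈ punct (H i), f x := by
  classical
  let cnt : ι → G → ℝ := fun i g => ((Finset.univ.filter fun x : G => x⁻¹ * g * x ∈ punct (H i)).card : ℝ)
  have h1 : ∀ i, (Nat.card G : ℝ) * ∑ x ∈ punct (H i), f x = ∑ g : G, f g * cnt i g := by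
    intro i
    calc (Nat.card G : ℝ) * ∑ x ∈ punct (H i), f x
        = ∑ y : G, ∑ x ∈ punct (H i), f (y * x * y⁻¹) := by
          simp only [hf, Finset.sum_const, Finset.card_univ, nsmul_eq_mul, Nat.card_eq_fintype_card]
      _ = ∑ y : G, ∑ g : G, (if y⁻¹ * g * y ∈ punct (H i) then f g else 0) := by
          refine Finset.sum_congr rfl fun y _ => ?_
          rw [← Finset.sum_filter]
          exact Finset.sum_bij (fun x _ => y * x * y⁻¹)
            (fun x hx => Finset.mem_filter.mpr ⟨Finset.mem_univ _, by rwa [show y⁻¹ * (y * x * y⁻¹) * y = x by group]⟩)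
            (fun a _ b _ e => mul_left_cancel (mul_right_cancel e))
            (fun g hg => ⟨y⁻¹ * g * y, (Finset.mem_filter.mp hg).2, by group⟩) (fun x _ => rfl)
      _ = ∑ g : G, f g * cnt i g := by
          rw [Finset.sum_comm]
          refine Finset.sum_congr rfl fun g _ => ?_
          rw [← Finset.sum_filter, Finset.sum_const, nsmul_eq_mul, mul_comm]
  have h2 : ∀ g : G, g ≠ 1 → ∑ i, cnt i g / Nat.card (L i) = 1 := by
    intro g hg
    obtain ⟨i, x, hx⟩ := hcover g hg
    rw [Finset.sum_eq_single i]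
    · rw [div_eq_one_iff_eq (Nat.cast_ne_zero.mpr Nat.card_pos.ne')]
      simp only [cnt, Nat.cast_inj]
      rw [Nat.card_eq_fintype_card, ← Finset.card_univ]
      refine Finset.card_bij (fun y hy => (⟨x * y, ?_⟩ : L i)) (fun _ _ => Finset.mem_univ _)
        (fun a _ b _ e => mul_left_cancel (congrArg Subtype.val e)) (fun l _ => ?_)
      · obtain ⟨hy1, hy2⟩ := mem_punct.mp (Finset.mem_filter.mp hy).2
        by_contra hno
        refine hy2 (hTI i (x * y) hno _ hy1 ?_)
        rwa [show x * y * (y⁻¹ * g * y) * (x * y)⁻¹ = x * g * x⁻¹ by group]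
      · refine ⟨x⁻¹ * l, Finset.mem_filter.mpr ⟨Finset.mem_univ _, mem_punct.mpr ⟨?_, fun e => hg ?_⟩⟩,
          Subtype.ext (by simp)⟩
        · have := hLn i _ ((L i).inv_mem l.2) _ hx
          rwa [show (l : G)⁻¹ * (x * g * x⁻¹) * (l : G)⁻¹⁻¹ = (x⁻¹ * l)⁻¹ * g * (x⁻¹ * l) by group] at this
        · calc g = (x⁻¹ * l) * ((x⁻¹ * l)⁻¹ * g * (x⁻¹ * l)) * (x⁻¹ * l)⁻¹ := by group
            _ = 1 := by rw [e]; group
    · intro j _ hj
      simp only [cnt]
      rw [Finset.card_eq_zero.mpr (Finset.filter_eq_empty_iff.mpr fun y _ hy => ?_)]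
      · simp
      · have e1 : orderOf g ∣ Nat.card (H i) := by
          have h0 : orderOf (x * g * x⁻¹) = orderOf g := MulEquiv.orderOf_eq (MulAut.conj x) g
          rw [← h0]; exact Subgroup.orderOf_dvd_natCard _ hx
        have e2 : orderOf g ∣ Nat.card (H j) := by
          have h0 : orderOf (y⁻¹ * g * y) = orderOf g := by
            have := MulEquiv.orderOf_eq (MulAut.conj y⁻¹) g
            simpa using this
          rw [← h0]; exact Subgroup.orderOf_dvd_natCard _ (mem_punct.mp hy).1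
        exact hg (orderOf_eq_one_iff.mp (Nat.eq_one_of_dvd_coprimes (hcop i j (Ne.symm hj)) e1 e2))
    · simp
  have h3 : ∀ i, cnt i 1 = 0 := fun i => by
    simp only [cnt]
    rw [Finset.card_eq_zero.mpr (Finset.filter_eq_empty_iff.mpr fun y _ hy => ?_)]
    · simp
    · exact (mem_punct.mp hy).2 (by group)
  calc ∑ g : G, f g = f 1 + ∑ g : G, f g * ∑ i, cnt i g / Nat.card (L i) := by
        rw [← Finset.add_sum_erase _ _ (Finset.mem_univ (1 : G))]
        congr 1
        rw [← Finset.add_sum_erase _ (fun g => f g * ∑ i, cnt i g / Nat.card (L i)) (Finset.mem_univ (1 : G))]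
        simp only [h3, zero_div, Finset.sum_const_zero, mul_zero, zero_add]
        refine Finset.sum_congr rfl fun g hg => ?_
        rw [h2 g (Finset.mem_erase.mp hg).1, mul_one]
    _ = _ := by
        congr 1
        simp only [Finset.mul_sum]
        rw [Finset.sum_comm]
        refine Finset.sum_congr rfl fun i _ => ?_
        rw [← Finset.mul_sum, div_mul_eq_mul_div, h1 i, Finset.sum_div]
        exact Finset.sum_congr rfl fun g _ => by rw [mul_div_assoc]

theorem classInner_eq_zero_of_disjoint {G : Type u} [Group G] [Fintype G] {a b : G → ℂ}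
    (h : ∀ x, a x = 0 ∨ b x = 0) : classInner a b = 0 := by
  simp only [classInner]
  rw [Finset.sum_eq_zero fun x _ => ?_, mul_zero]
  rcases h x with e | e <;> simp [e]

theorem no_partition {G : Type u} [Group G] [Fintype G] (hodd : Odd (Nat.card G)) {ι : Type*}
    [Fintype ι] [Nonempty ι] (L H : ι → Subgroup G) (hHL : ∀ i, H i < L i) (hH1 : ∀ i, H i ≠ ⊥)
    (hHn : ∀ i, ∀ x ∈ L i, ∀ h ∈ H i, x * h * x⁻¹ ∈ H i)
    (hfrob : ∀ i, ∀ h ∈ H i, h ≠ 1 → L i ⊓ Subgroup.centralizer ({h} : Set G) ≤ H i)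
    (hTI : ∀ i, ∀ g : G, g ∉ L i → ∀ h ∈ H i, g * h * g⁻¹ ∈ H i → h = 1)
    (hcop : ∀ i j, i ≠ j → Nat.Coprime (Nat.card (H i)) (Nat.card (H j)))
    (hcover : ∀ g : G, g ≠ 1 → ∃ i, ∃ x : G, x * g * x⁻¹ ∈ H i) : False := by
  classical
  have Φ : ∀ i, Family (L i) (H i) := fun i =>
    (exists_family hodd (L i) (H i) (hHL i) (hH1 i) (hHn i) (hfrob i) (hTI i)).some
  -- supports of different families are disjoint
  have hdis : ∀ i j, i ≠ j → ∀ x, (∃ h ∈ H i, h ≠ 1 ∧ IsConj h x) → (∃ h ∈ H j, h ≠ 1 ∧ IsConj h x) → False := by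
    rintro i j hij x ⟨h, hh, h1, hc⟩ ⟨h', hh', -, hc'⟩
    refine h1 (orderOf_eq_one_iff.mp (Nat.eq_one_of_dvd_coprimes (hcop i j hij)
      (Subgroup.orderOf_dvd_natCard _ hh) ?_))
    obtain ⟨c, hcc⟩ := isConj_iff.mp (hc.trans hc'.symm)
    rw [show orderOf h = orderOf h' by rw [← hcc]; exact (MulEquiv.orderOf_eq (MulAut.conj c) h).symm]
    exact Subgroup.orderOf_dvd_natCard _ hh'
  have hAA : ∀ i j, i ≠ j → classInner (Φ i).A (Φ j).A = 0 := fun i j hij =>
    classInner_eq_zero_of_disjoint fun x => by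
      by_contra hno
      push Not at hno
      exact hdis i j hij x ((Φ i).A_supp x hno.1) ((Φ j).A_supp x hno.2)
  have hAconst : ∀ i j, i ≠ j → ∀ k l, classInner (Φ i).A ((Φ j).μ k) = classInner (Φ i).A ((Φ j).μ l) := by
    intro i j hij k l
    rw [← sub_eq_zero, ← classInner_sub_right]
    refine classInner_eq_zero_of_disjoint fun x => ?_
    by_contra hno
    push Not at hno
    exact hdis i j hij x ((Φ i).A_supp x hno.1) ((Φ j).diff_supp k l x (sub_ne_zero.mp hno.2))
  have hμne : ∀ i j, i ≠ j → ∀ k l, (Φ i).μ k ≠ (Φ j).μ l := by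
    intro i j hij k l heq
    obtain ⟨k', hk'⟩ : ∃ k', k' ≠ k := by
      haveI : Nontrivial (Fin (Φ i).n) := Fin.nontrivial_iff_two_le.mpr (Φ i).two_le_n
      exact exists_ne k
    obtain ⟨l', hl'⟩ : ∃ l', l' ≠ l := by
      haveI : Nontrivial (Fin (Φ j).n) := Fin.nontrivial_iff_two_le.mpr (Φ j).two_le_n
      exact exists_ne l
    have h0 : classInner ((Φ i).μ k - (Φ i).μ k') ((Φ j).μ l - (Φ j).μ l') = 0 :=
      classInner_eq_zero_of_disjoint fun x => by
        by_contra hno
        push Not at hno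
        exact hdis i j hij x ((Φ i).diff_supp k k' x (sub_ne_zero.mp hno.1))
          ((Φ j).diff_supp l l' x (sub_ne_zero.mp hno.2))
    rw [classInner_sub_left, classInner_sub_right, classInner_sub_right, heq,
      classInner_irr_self ((Φ j).irr l), classInner_irr_ne ((Φ j).irr l) ((Φ j).irr l') ((Φ j).inj.ne hl'.symm),
      classInner_irr_ne ((Φ i).irr k') ((Φ j).irr l) (fun h => hk' ((Φ i).inj (h.trans heq.symm))),
      classInner_irr ((Φ i).irr k') ((Φ j).irr l')] at h0
    split_ifs at h0 <;> norm_num at h0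
  -- coefficients of the virtual characters
  choose a ha using fun i => fun χ : IrrCharacter G => (isGenChar_iff_coeff_int.mp (Φ i).genA).2 χ χ.2
  have hinner : ∀ i j, classInner (Φ i).A (Φ j).A = ((∑ χ, a i χ * a j χ : ℤ) : ℂ) := by
    intro i j
    rw [classInner_eq_sum_irr (isGenChar_iff_coeff_int.mp (Φ i).genA).1]
    push_cast
    refine Finset.sum_congr rfl fun χ _ => ?_
    rw [ha i χ, ← classInner_comm (Φ j).A, ha j χ, map_intCast]
  let triv : IrrCharacter G := ⟨fun _ => 1, isIrrCharacter_one⟩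
  have hatriv : ∀ i, a i triv = 1 := fun i => by
    have h1 := ha i triv
    rw [show classInner (Φ i).A (triv : G → ℂ) = 1 from (Φ i).A_one] at h1
    exact_mod_cast h1.symm
  let X : ι → Finset (IrrCharacter G) := fun i =>
    Finset.univ.image fun k : Fin (Φ i).n => (⟨(Φ i).μ k, (Φ i).irr k⟩ : IrrCharacter G)
  have hXinj : ∀ i, Function.Injective fun k : Fin (Φ i).n => (⟨(Φ i).μ k, (Φ i).irr k⟩ : IrrCharacter G) :=
    fun i k l h => (Φ i).inj (congrArg Subtype.val h)
  have hXmem : ∀ i χ, χ ∈ X i ↔ ∃ k, (χ : G → ℂ) = (Φ i).μ k := by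
    intro i χ
    simp [X, Subtype.ext_iff, eq_comm]
  have hXdisj : ∀ i j, i ≠ j → Disjoint (X i) (X j) := fun i j hij => Finset.disjoint_left.mpr fun χ h1 h2 => by
    obtain ⟨k, hk⟩ := (hXmem i χ).mp h1
    obtain ⟨l, hl⟩ := (hXmem j χ).mp h2
    exact hμne i j hij k l (hk.symm.trans hl)
  have htrivX : ∀ i, triv ∉ X i := fun i h => by
    obtain ⟨k, hk⟩ := (hXmem i triv).mp h
    exact (Φ i).ne_one k hk.symm
  have hown : ∀ i k, a i ⟨(Φ i).μ k, (Φ i).irr k⟩ = (Φ i).c - if k = (Φ i).k₀ then (Φ i).ε else 0 := by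
    intro i k
    have h1 := ha i ⟨(Φ i).μ k, (Φ i).irr k⟩
    rw [show classInner (Φ i).A ((⟨(Φ i).μ k, (Φ i).irr k⟩ : IrrCharacter G) : G → ℂ) = _ from (Φ i).A_own k] at h1
    exact_mod_cast h1.symm
  have hoff : ∀ i j, i ≠ j → ∃ z : ℤ, ∀ χ ∈ X j, a i χ = z := by
    intro i j hij
    refine ⟨a i ⟨(Φ j).μ (Φ j).k₀, (Φ j).irr _⟩, fun χ hχ => ?_⟩
    obtain ⟨k, hk⟩ := (hXmem j χ).mp hχ
    have h1 := ha i χ
    rw [hk, hAconst i j hij k (Φ j).k₀] at h1
    rw [show classInner (Φ i).A ((Φ j).μ (Φ j).k₀) = _ from ha i ⟨(Φ j).μ (Φ j).k₀, (Φ j).irr _⟩] at h1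
    exact_mod_cast h1.symm
  choose! co hco using hoff
  -- the parity relation
  have hm := coprime_card_sub_one (G := G)
  let σ : IrrCharacter G → IrrCharacter G := powIrr hm
  have hσσ : ∀ χ, σ (σ χ) = χ := fun χ => Subtype.ext (funext fun g => by
    show (χ : G → ℂ) ((g ^ (Nat.card G - 1)) ^ (Nat.card G - 1)) = _
    rw [pow_card_sub_one, pow_card_sub_one, inv_inv])
  have hσfix : ∀ χ, σ χ = χ → χ = triv := fun χ h => Subtype.ext (by
    refine Cfsg.Agent.S0161.result hodd χ fun g => ?_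
    have h1 := congrFun (congrArg Subtype.val h) g
    change (χ : G → ℂ) (g ^ (Nat.card G - 1)) = (χ : G → ℂ) g at h1
    rw [pow_card_sub_one, char_apply_inv (isCharacter_of_irr χ.2)] at h1
    exact Complex.conj_eq_iff_im.mp h1)
  have hσX : ∀ i χ, σ χ ∈ X i → χ ∈ X i := by
    intro i χ h
    obtain ⟨k, hk⟩ := (hXmem i _).mp h
    obtain ⟨π, hπ⟩ := (Φ i).pow_perm _ hm
    refine (hXmem i χ).mpr ⟨π k, ?_⟩
    rw [← hσσ χ]
    funext g
    show (σ χ : G → ℂ) (g ^ (Nat.card G - 1)) = _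
    rw [hk, hπ]
  have hσa : ∀ i χ, χ ∉ X i → a i (σ χ) = a i χ := by
    intro i χ h
    have h1 := (Φ i).A_symm _ hm χ χ.2 fun k hk => h (hσX i χ ((hXmem i _).mpr ⟨k, hk⟩))
    change classInner (Φ i).A (σ χ : G → ℂ) = classInner (Φ i).A (χ : G → ℂ) at h1
    rw [ha, ha] at h1
    exact_mod_cast h1
  have hneven : ∀ i, ((Φ i).n : ZMod 2) = 0 := fun i =>
    (ZMod.natCast_eq_zero_iff_even).mpr (Φ i).n_even
  have heps : ∀ i, ((Φ i).ε : ZMod 2) = 1 := fun i => by
    have h1 := congrArg (fun z : ℤ => (z : ZMod 2)) (Φ i).eps_sq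
    simp only [Int.cast_mul, Int.cast_one] at h1
    generalize ((Φ i).ε : ZMod 2) = v at h1 ⊢
    revert v
    decide
  have hpar : ∀ i j, i ≠ j → (co i j : ZMod 2) + (co j i : ZMod 2) = 1 := by
    intro i j hij
    have h0 : ((∑ χ, a i χ * a j χ : ℤ) : ZMod 2) = 0 := by
      have := hAA i j hij
      rw [hinner] at this
      rw [Int.cast_eq_zero.mp this, Int.cast_zero]
    push_cast at h0
    have hXsum : ∀ i j, i ≠ j → ∑ χ ∈ X i, (a i χ : ZMod 2) * (a j χ : ZMod 2) = (co j i : ZMod 2) := by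
      intro i j hij
      rw [Finset.sum_congr rfl fun χ hχ => by rw [hco j i (Ne.symm hij) χ hχ]]
      rw [← Finset.sum_mul, Finset.sum_image fun x _ y _ h => hXinj i h]
      simp only [hown, Int.cast_sub, Finset.sum_sub_distrib, Finset.sum_const, Finset.card_univ,
        Fintype.card_fin, nsmul_eq_mul, hneven, zero_mul, Int.cast_ite, Int.cast_zero, Finset.sum_ite_eq',
        Finset.mem_univ, if_true, heps, zero_sub]
      rw [show (-1 : ZMod 2) = 1 by decide, one_mul]
    set T := (Finset.univ.erase triv) \ (X i ∪ X j) with hT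
    have hT0 : ∑ χ ∈ T, (a i χ : ZMod 2) * (a j χ : ZMod 2) = 0 := by
      refine Finset.sum_involution (fun χ _ => σ χ) ?_ ?_ ?_ fun χ _ => hσσ χ
      · intro χ hχ
        simp only [hT, Finset.mem_sdiff, Finset.mem_union, Finset.mem_erase, Finset.mem_univ, and_true,
          not_or] at hχ
        rw [hσa i χ hχ.2.1, hσa j χ hχ.2.2]
        exact CharTwo.add_self_eq_zero _
      · intro χ hχ _ h
        simp only [hT, Finset.mem_sdiff, Finset.mem_erase] at hχ
        exact hχ.1.1 (hσfix χ h)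
      · intro χ hχ
        simp only [hT, Finset.mem_sdiff, Finset.mem_union, Finset.mem_erase, Finset.mem_univ, and_true,
          not_or] at hχ ⊢
        refine ⟨fun h => hχ.1 ?_, fun h => hχ.2.1 (hσX i χ h), fun h => hχ.2.2 (hσX j χ h)⟩
        rw [← hσσ χ, h]
        exact Subtype.ext (funext fun g => rfl)
    rw [← Finset.add_sum_erase _ _ (Finset.mem_univ triv),
      ← Finset.sum_sdiff (show X i ∪ X j ⊆ Finset.univ.erase triv from fun χ hχ =>
        Finset.mem_erase.mpr ⟨fun h => by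
          rcases Finset.mem_union.mp (h ▸ hχ) with h' | h'
          · exact htrivX i h'
          · exact htrivX j h', Finset.mem_univ _⟩), ← hT, hT0,
      Finset.sum_union (hXdisj i j hij), hXsum i j hij,
      Finset.sum_congr rfl (fun χ _ => mul_comm (a i χ : ZMod 2) (a j χ : ZMod 2)) (s₁ := X j),
      hXsum j i (Ne.symm hij), hatriv, hatriv] at h0
    simp only [Int.cast_one, one_mul, zero_add] at h0
    generalize (co i j : ZMod 2) = u at h0 ⊢
    generalize (co j i : ZMod 2) = v at h0 ⊢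
    revert u v
    decide
  -- the family with the smallest abelian quotient
  obtain ⟨j, -, hj⟩ := Finset.exists_min_image (Finset.univ : Finset ι) (fun i => (Φ i).a) Finset.univ_nonempty
  have ha_odd : ∀ i, Odd (Φ i).a := fun i =>
    hodd.of_dvd_nat ((Φ i).a_dvd.trans (H i).card_subgroup_dvd_card)
  have hgap : ∀ i, i ≠ j → (Φ j).a + 2 ≤ (Φ i).a := by
    intro i hij
    have h1 : (Φ i).a ≠ (Φ j).a := fun h => by
      have h2 := Nat.eq_one_of_dvd_coprimes (hcop i j hij) (Φ i).a_dvd (h ▸ (Φ j).a_dvd)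
      have := (Φ i).a_spec
      have := (Φ i).two_le_n
      have := (Φ i).three_le_e
      nlinarith
    have h3 := hj i (Finset.mem_univ i)
    obtain ⟨r, hr⟩ := ha_odd i
    obtain ⟨s, hs⟩ := ha_odd j
    omega
  let w : ι → ℝ := fun i => ((Nat.card (H i) : ℝ) - 1) / Nat.card (L i)
  set g : ℝ := (Nat.card G : ℝ) with hgdef
  have hgpos : 0 < g := Nat.cast_pos.mpr Nat.card_pos
  -- the covering identity
  have hcov := fun f hf => sum_class_fun_cover L H (fun i x hx => hHn i x hx) hTI hcop hcover f hf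
  have hid : ∑ i, w i = 1 - 1 / g := by
    have h1 := hcov (fun _ => 1) (fun _ _ => rfl)
    simp only [Finset.sum_const, Finset.card_univ, nsmul_eq_mul, mul_one, card_punct,
      ← Nat.card_eq_fintype_card, ← hgdef] at h1
    have h2 : ∑ i, g / Nat.card (L i) * ((Nat.card (H i) : ℝ) - 1) = g * ∑ i, w i := by
      rw [Finset.mul_sum]; exact Finset.sum_congr rfl fun i _ => by simp only [w]; ring
    rw [h2] at h1
    field_simp
    linarith
  have hnorm : ∀ k, Complex.normSq ((Φ j).μ k 1) + ∑ i, g / Nat.card (L i) * weight (H i) ((Φ j).μ k) = g := by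
    intro k
    have h1 := hcov (fun x => Complex.normSq ((Φ j).μ k x)) (fun x y => by
      rw [isClassFunction_irr ((Φ j).irr k) x y])
    have h2 := classInner_irr_self ((Φ j).irr k)
    simp only [classInner, Complex.mul_conj] at h2
    rw [inv_mul_eq_one₀ (Nat.cast_ne_zero.mpr Nat.card_pos.ne'), ← Complex.ofReal_sum,
      ← Complex.ofReal_natCast, Complex.ofReal_inj] at h2
    rw [← h2] at h1
    exact h1.symm
  set inS := Finset.univ.filter (fun i => i ≠ j ∧ co i j ≠ 0) with hinS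
  set outS := Finset.univ.filter (fun i => i ≠ j ∧ co i j = 0) with houtS
  have hint : ∀ i, i ≠ j → ∀ k, ∀ x ∈ H i, ∃ z : ℤ, (Φ j).μ k x = z := by
    intro i hij k x hx
    by_cases hx1 : x = 1
    · subst hx1
      obtain ⟨d, -, hd⟩ := irr_degree_pos ((Φ j).irr k)
      exact ⟨d, by rw [hd]; norm_cast⟩
    refine rational_int_of_invariant (isCharacter_of_irr ((Φ j).irr k)) x fun m hm => ?_
    obtain ⟨π, hπ⟩ := (Φ j).pow_perm m hm
    rw [hπ]
    by_contra hne
    exact hdis i j hij x ⟨x, hx, hx1, IsConj.refl x⟩ ((Φ j).diff_supp _ _ x hne)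
  have hin : ∀ i ∈ inS, ∀ k, (Nat.card (H i) : ℝ) - 1 ≤ weight (H i) ((Φ j).μ k) := by
    intro i hi k
    obtain ⟨hij, hc⟩ := (Finset.mem_filter.mp hi).2
    refine (Φ i).bound _ (isGenChar_of_char (isCharacter_of_irr ((Φ j).irr k))) (fun l l' => ?_)
      (hint i hij k) ?_
    · rw [classInner_irr_ne ((Φ j).irr k) ((Φ i).irr l) (hμne j i (Ne.symm hij) k l),
        classInner_irr_ne ((Φ j).irr k) ((Φ i).irr l') (hμne j i (Ne.symm hij) k l')]
    · rw [show classInner (Φ i).A ((Φ j).μ k) = _ from ha i ⟨(Φ j).μ k, (Φ j).irr k⟩,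
        hco i j hij _ ((hXmem j _).mpr ⟨k, rfl⟩), Int.cast_ne_zero]
      exact hc
  -- the inner members
  have hrow : ((Φ j).n : ℝ) * ∑ i ∈ inS, w i + w j / (Φ j).n + ((Φ j).n : ℝ) / g ≤ 1 := by
    have hk : ∀ k, 1 / g + ∑ i ∈ inS, w i + weight (H j) ((Φ j).μ k) / Nat.card (L j) ≤ 1 := by
      intro k
      have h1 := hnorm k
      have hd : 1 ≤ Complex.normSq ((Φ j).μ k 1) := by
        obtain ⟨d, hd, hd'⟩ := irr_degree_pos ((Φ j).irr k)
        rw [hd', Complex.normSq_natCast]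
        exact_mod_cast Nat.one_le_iff_ne_zero.mpr (Nat.mul_ne_zero hd.ne' hd.ne')
      have hjin : j ∉ inS := fun h => (Finset.mem_filter.mp h).2.1 rfl
      have h2 : g * (∑ i ∈ inS, w i + weight (H j) ((Φ j).μ k) / Nat.card (L j)) ≤
          ∑ i, g / Nat.card (L i) * weight (H i) ((Φ j).μ k) := by
        refine le_trans ?_ (Finset.sum_le_sum_of_subset_of_nonneg (Finset.subset_univ (insert j inS))
          fun i _ _ => mul_nonneg (div_nonneg hgpos.le (Nat.cast_nonneg _)) (weight_nonneg _ _))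
        rw [Finset.sum_insert hjin, mul_add, add_comm, Finset.mul_sum]
        refine add_le_add (le_of_eq (by ring)) (Finset.sum_le_sum fun i hi => ?_)
        simp only [w]
        rw [← mul_div_assoc, div_mul_eq_mul_div]
        exact div_le_div_of_nonneg_right (mul_le_mul_of_nonneg_left (hin i hi k) hgpos.le) (Nat.cast_nonneg _)
      have h3 : g * (1 / g + ∑ i ∈ inS, w i + weight (H j) ((Φ j).μ k) / Nat.card (L j)) ≤ g * 1 := by
        rw [add_assoc, mul_add, mul_one_div_cancel hgpos.ne']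
        linarith
      exact le_of_mul_le_mul_left h3 hgpos
    have h4 := Finset.sum_le_sum (s := (Finset.univ : Finset (Fin (Φ j).n))) fun k _ => hk k
    simp only [Finset.sum_add_distrib, Finset.sum_const, Finset.card_univ, Fintype.card_fin,
      nsmul_eq_mul, mul_one, ← Finset.sum_div] at h4
    have hLpos : (0 : ℝ) < Nat.card (L j) := Nat.cast_pos.mpr Nat.card_pos
    have h5 := div_le_div_of_nonneg_right (Φ j).own hLpos.le
    have h6 : (((Φ j).n : ℝ) - 1) * (Nat.card (L j) : ℝ) / Nat.card (L j) +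
        ((Nat.card (H j) : ℝ) - 1) / (Φ j).n / Nat.card (L j) = ((Φ j).n : ℝ) - 1 + w j / (Φ j).n := by
      rw [mul_div_cancel_right₀ _ hLpos.ne', div_right_comm]
    rw [add_div, h6] at h5
    rw [mul_one_div] at h4
    linarith
  -- the outer members
  have hout : ∑ i ∈ outS, ((Φ i).n : ℝ) ≤ ((Φ j).e : ℝ) - 1 := by
    have h1 : ((∑ χ, a j χ * a j χ : ℤ) : ℂ) = (((Φ j).e + 1 : ℕ) : ℂ) := by
      rw [← hinner, (Φ j).A_norm, Nat.cast_add, Nat.cast_one]
    have h1' : ∑ χ, a j χ * a j χ = ((Φ j).e : ℤ) + 1 := by exact_mod_cast h1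
    set Y := outS.biUnion X with hY
    have hYj : Disjoint Y (X j) := Finset.disjoint_left.mpr fun χ hχ => by
      obtain ⟨i, hi, hi'⟩ := Finset.mem_biUnion.mp hχ
      exact Finset.disjoint_left.mp (hXdisj i j (Finset.mem_filter.mp hi).2.1) hi'
    have htrivY : triv ∉ Y ∪ X j := fun h => by
      rcases Finset.mem_union.mp h with h | h
      · obtain ⟨i, -, hi'⟩ := Finset.mem_biUnion.mp h; exact htrivX i hi'
      · exact htrivX j h
    have h2 := Finset.sum_le_sum_of_subset_of_nonneg (Finset.subset_univ (insert triv (Y ∪ X j)))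
      (f := fun χ => a j χ * a j χ) fun χ _ _ => mul_self_nonneg _
    rw [h1', Finset.sum_insert htrivY, Finset.sum_union hYj, hatriv, one_mul,
      hY, Finset.sum_biUnion (fun i _ i' _ h => hXdisj i i' h)] at h2
    have h3 : ∀ i ∈ outS, ((Φ i).n : ℤ) ≤ ∑ χ ∈ X i, a j χ * a j χ := by
      intro i hi
      obtain ⟨hij, hc⟩ := (Finset.mem_filter.mp hi).2
      have hne : co j i ≠ 0 := fun h => by
        have := hpar i j hij
        rw [hc, h] at this
        simp at this
      rw [Finset.sum_congr rfl fun χ hχ => by rw [hco j i (Ne.symm hij) χ hχ], Finset.sum_const,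
        nsmul_eq_mul, Finset.card_image_of_injective _ (hXinj i), Finset.card_univ, Fintype.card_fin]
      exact le_mul_of_one_le_right (Nat.cast_nonneg _) (mul_self_pos.mpr hne)
    have h4 : 1 ≤ ∑ χ ∈ X j, a j χ * a j χ := by
      obtain ⟨k, hk⟩ : ∃ k, k ≠ (Φ j).k₀ := by
        haveI : Nontrivial (Fin (Φ j).n) := Fin.nontrivial_iff_two_le.mpr (Φ j).two_le_n
        exact exists_ne _
      rw [Finset.sum_image fun x _ y _ h => hXinj j h]
      simp only [hown]
      have hsub := Finset.sum_le_sum_of_subset_of_nonneg (Finset.subset_univ ({(Φ j).k₀, k} : Finset (Fin (Φ j).n)))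
        (f := fun l => ((Φ j).c - if l = (Φ j).k₀ then (Φ j).ε else 0) * ((Φ j).c - if l = (Φ j).k₀ then (Φ j).ε else 0))
        fun l _ _ => mul_self_nonneg _
      rw [Finset.sum_pair (Ne.symm hk), if_pos rfl, if_neg hk, sub_zero] at hsub
      refine le_trans ?_ hsub
      by_cases hc : (Φ j).c = 0
      · rw [hc]; nlinarith [(Φ j).eps_sq]
      · nlinarith [mul_self_pos.mpr hc, mul_self_nonneg ((Φ j).c - (Φ j).ε)]
    have h5 := Finset.sum_le_sum h3
    have h6 : (∑ i ∈ outS, ((Φ i).n : ℤ)) ≤ ((Φ j).e : ℤ) - 1 := by linarith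
    have h7 := Int.cast_le (R := ℝ).mpr h6
    push_cast at h7
    exact h7
  have hw : ∀ i, w i < 1 / ((Φ i).e : ℝ) := by
    intro i
    have hh : (0 : ℝ) < Nat.card (H i) := Nat.cast_pos.mpr Nat.card_pos
    have he : (0 : ℝ) < (Φ i).e := Nat.cast_pos.mpr (by have := (Φ i).three_le_e; omega)
    simp only [w]
    rw [(Φ i).e_spec, Nat.cast_mul, div_lt_div_iff₀ (by positivity) he]
    nlinarith
  set e : ℝ := ((Φ j).e : ℝ) with hedef
  set n : ℝ := ((Φ j).n : ℝ) with hndef
  have he3 : (3 : ℝ) ≤ e := by rw [hedef]; exact_mod_cast (Φ j).three_le_e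
  have hn2 : (2 : ℝ) ≤ n := by rw [hndef]; exact_mod_cast (Φ j).two_le_n
  have hout' : ∑ i ∈ outS, w i ≤ (e - 1) / (n * e + 2) := by
    have hb : ∀ i ∈ outS, w i ≤ ((Φ i).n : ℝ) / (n * e + 2) := by
      intro i hi
      have he : (0 : ℝ) < (Φ i).e := Nat.cast_pos.mpr (by have := (Φ i).three_le_e; omega)
      refine (hw i).le.trans ?_
      rw [div_le_div_iff₀ he (by positivity), one_mul]
      have h1 := hgap i (Finset.mem_filter.mp hi).2.1
      rw [← (Φ i).a_spec, ← (Φ j).a_spec] at h1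
      have h2 : (Φ j).n * (Φ j).e + 2 ≤ (Φ i).n * (Φ i).e := by omega
      rw [hndef, hedef]
      exact_mod_cast h2
    refine (Finset.sum_le_sum hb).trans ?_
    rw [← Finset.sum_div]
    exact div_le_div_of_nonneg_right hout (by positivity)
  have hsplit : ∑ i, w i = w j + ∑ i ∈ inS, w i + ∑ i ∈ outS, w i := by
    rw [← Finset.add_sum_erase _ _ (Finset.mem_univ j), add_assoc,
      ← Finset.sum_union (Finset.disjoint_left.mpr fun x h1 h2 => (Finset.mem_filter.mp h1).2.2 (Finset.mem_filter.mp h2).2.2)]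
    refine congrArg (w j + ·) (Finset.sum_congr ?_ fun _ _ => rfl)
    ext i
    simp only [hinS, houtS, Finset.mem_union, Finset.mem_filter, Finset.mem_univ, true_and, Finset.mem_erase]
    tauto
  have hn0 : (0 : ℝ) < n := by linarith
  have hin' : ∑ i ∈ inS, w i ≤ 1 / n - w j / (n * n) - 1 / g := by
    have h1 : n * ∑ i ∈ inS, w i ≤ n * (1 / n - w j / (n * n) - 1 / g) := by
      have : n * (1 / n - w j / (n * n) - 1 / g) = 1 - w j / n - n / g := by field_simp
      rw [this]
      linarith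
    exact le_of_mul_le_mul_left h1 hn0
  have hwj := hw j
  -- the final numerical contradiction
  have h1 : 1 ≤ w j - w j / (n * n) + 1 / n + (e - 1) / (n * e + 2) := by
    rw [hsplit] at hid
    linarith
  have h2 : w j - w j / (n * n) < 1 / e - (1 / e) / (n * n) := by
    have : 0 < 1 - 1 / (n * n) := by rw [sub_pos, div_lt_one (by positivity)]; nlinarith
    have := mul_lt_mul_of_pos_right hwj this
    have e1 : w j * (1 - 1 / (n * n)) = w j - w j / (n * n) := by ring
    have e2 : (1 / ((Φ j).e : ℝ)) * (1 - 1 / (n * n)) = 1 / e - (1 / e) / (n * n) := by rw [← hedef]; ring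
    linarith
  rcases eq_or_lt_of_le hn2 with hn | hn
  · rw [← hn] at h1 h2
    have h3 : (1 / e - (1 / e) / (2 * 2)) + 1 / 2 + (e - 1) / (2 * e + 2) ≤ 1 := by
      have : (0 : ℝ) < e := by linarith
      rw [show (1 / e - (1 / e) / (2 * 2)) + 1 / 2 + (e - 1) / (2 * e + 2) =
        (3 * (e + 1) + 2 * e * (e + 1) + 2 * e * (e - 1)) / (4 * e * (e + 1)) by field_simp; ring,
        div_le_one (by positivity)]
      nlinarith
    linarith
  · have hn4 : (4 : ℝ) ≤ n := by
      have h' : 2 < (Φ j).n := by rw [hndef] at hn; exact_mod_cast hn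
      obtain ⟨s, hs⟩ := (Φ j).n_even
      rw [hndef]
      exact_mod_cast (by omega : 4 ≤ (Φ j).n)
    have e1 : 1 / e ≤ 1 / 3 := one_div_le_one_div_of_le (by norm_num) he3
    have e2 : 1 / n ≤ 1 / 4 := one_div_le_one_div_of_le (by norm_num) hn4
    have e3 : (e - 1) / (n * e + 2) ≤ 1 / 4 := by
      rw [div_le_iff₀ (by positivity)]; nlinarith
    have e4 : 0 ≤ (1 / e) / (n * n) := by positivity
    linarith

end CfsgLib.CharTheory.Partition
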