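/-
Representations with homogeneous character, and blocks of imprimitivity.
-/
import Mathlib
import Cfsg.Agent.Lib.CharTheory.Clifford
import Cfsg.Agent.Lib.CharTheory.ProjExt
import Cfsg.Agent.Lib.CharTheory.Induced

set_option autoImplicit false

namespace CfsgLib.CharTheory.Homogeneous

open Cfsg CfsgLib.CharTheory

universe u v w

variable {G : Type u} [Group G] [Fintype G]

/-- A summand of a multiple of an irreducible character is such a multiple. -/
theorem eq_smul_of_add_eq_smul {a b φ : G → ℂ} {c : ℂ} (ha : IsCharacter G a) (hb : IsCharacter G b)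
    (hφ : IsIrrCharacter G φ) (h : a + b = c • φ) : ∃ n : ℕ, a = (n : ℂ) • φ := by
  obtain ⟨n, hn⟩ := classInner_char_nat ha (isCharacter_of_irr hφ)
  refine ⟨n, classFun_ext (isClassFunction_char ha) (isClassFunction_smul _ (isClassFunction_irr hφ)) fun χ hχ => ?_⟩
  rw [classInner_smul_left, classInner_irr hφ hχ]
  by_cases hs : φ = χ
  · subst hs
    rw [hn, if_pos rfl, mul_one]
  · rw [if_neg hs, mul_zero]
    have h1 := congrArg (fun f => classInner f χ) h
    rw [classInner_add_left, classInner_smul_left, classInner_irr hφ hχ, if_neg hs, mul_zero] at h1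
    obtain ⟨i, hi⟩ := classInner_char_nat ha (isCharacter_of_irr hχ)
    obtain ⟨j, hj⟩ := classInner_char_nat hb (isCharacter_of_irr hχ)
    rw [hi, hj] at h1
    have h2 : i + j = 0 := by exact_mod_cast h1
    rw [hi, show i = 0 by omega, Nat.cast_zero]

variable {V : Type v} [AddCommGroup V] [Module ℂ V] [FiniteDimensional ℂ V]
  {W : Type w} [AddCommGroup W] [Module ℂ W] [FiniteDimensional ℂ W]

/-- A nonzero multiplicity gives a nonzero intertwining map. -/
theorem exists_intertwiner_ne_zero (σ : Representation ℂ G V) (ρ : Representation ℂ G W)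
    (h : classInner ρ.character σ.character ≠ 0) :
    ∃ f : Representation.IntertwiningMap σ ρ, f.toLinearMap ≠ 0 := by
  rw [classInner_character ρ σ, Nat.cast_ne_zero] at h
  have : Nontrivial (Representation.IntertwiningMap σ ρ) := Module.nontrivial_of_finrank_pos (R := ℂ) (Nat.pos_of_ne_zero h)
  obtain ⟨f, hf⟩ := exists_ne (0 : Representation.IntertwiningMap σ ρ)
  exact ⟨f, fun h0 => hf (Representation.IntertwiningMap.toLinearMap_injective σ ρ h0)⟩

theorem intertwiner_apply {σ : Representation ℂ G V} {ρ : Representation ℂ G W}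
    (f : Representation.IntertwiningMap σ ρ) (g : G) (x : V) :
    f.toLinearMap (σ g x) = ρ g (f.toLinearMap x) := f.isIntertwining σ ρ g x

omit [Fintype G] in
theorem nontrivial_of_irreducible (σ : Representation ℂ G V) [σ.IsIrreducible] : Nontrivial V := by
  by_contra h
  rw [not_nontrivial_iff_subsingleton] at h
  exact bot_ne_top (α := Subrepresentation σ) (Subrepresentation.toSubmodule_injective (Subsingleton.elim _ _))

omit [Fintype G] [FiniteDimensional ℂ W] in
/-- The projection onto a subrepresentation along another one intertwines. -/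
theorem projectionOnto_equivariant {ρ : Representation ℂ G W} (p q : Subrepresentation ρ)
    (h : IsCompl p.toSubmodule q.toSubmodule) (g : G) (x : W) :
    p.toSubmodule.projectionOnto q.toSubmodule h (ρ g x) =
      p.toRepresentation g (p.toSubmodule.projectionOnto q.toSubmodule h x) := by
  obtain ⟨a, ha, b, hb, rfl⟩ := Submodule.mem_sup.1 (show x ∈ p.toSubmodule ⊔ q.toSubmodule by
    rw [h.sup_eq_top]; exact Submodule.mem_top)
  simp only [map_add]
  rw [Submodule.projectionOnto_apply_left h ⟨_, p.apply_mem_toSubmodule g ha⟩,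
    Submodule.projectionOnto_apply_right h ⟨_, q.apply_mem_toSubmodule g hb⟩,
    Submodule.projectionOnto_apply_left h ⟨a, ha⟩, Submodule.projectionOnto_apply_right h ⟨b, hb⟩,
    map_zero, add_zero, add_zero]
  rfl

/-- The images of the irreducible constituent fill the space. -/
theorem iSup_range_eq_top (σ : Representation ℂ G V) [σ.IsIrreducible] (ρ : Representation ℂ G W)
    {c : ℂ} (h : ρ.character = c • σ.character) :
    (⨆ f : Representation.IntertwiningMap σ ρ, LinearMap.range f.toLinearMap) = ⊤ := by
  set P := ⨆ f : Representation.IntertwiningMap σ ρ, LinearMap.range f.toLinearMap with hP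
  have hstab : ∀ (g : G) ⦃x : W⦄, x ∈ P → ρ g x ∈ P := by
    intro g x hx
    refine Submodule.iSup_induction _ (motive := fun y => ρ g y ∈ P) hx (fun f y hy => ?_) (by simp)
      (fun y z hy hz => by rw [map_add]; exact add_mem hy hz)
    obtain ⟨v, rfl⟩ := hy
    exact Submodule.mem_iSup_of_mem f ⟨σ g v, intertwiner_apply f g v⟩
  obtain ⟨q, hq⟩ := exists_isCompl_subrep ρ ⟨P, hstab⟩
  by_contra hne
  have hq0 : q.toSubmodule ≠ ⊥ := fun h0 => hne (by
    have := hq.sup_eq_top
    rwa [h0, sup_bot_eq] at this)
  have hsum := character_eq_add_of_isCompl ρ ⟨P, hstab⟩ q hq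
  rw [h] at hsum
  obtain ⟨n, hn⟩ := eq_smul_of_add_eq_smul (isCharacter_character q.toRepresentation)
    (isCharacter_character (⟨P, hstab⟩ : Subrepresentation ρ).toRepresentation)
    (isIrrCharacter_character σ) (c := c) (by rw [hsum, add_comm])
  have hdim : 0 < Module.finrank ℂ q.toSubmodule :=
    Nat.pos_of_ne_zero fun h0 => hq0 (Submodule.finrank_eq_zero.1 h0)
  have hn0 : n ≠ 0 := by
    intro h0
    have h1 := congrFun hn 1
    rw [Representation.char_one, h0, Nat.cast_zero, zero_smul, Pi.zero_apply, Nat.cast_eq_zero] at h1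
    omega
  obtain ⟨f, hf⟩ := exists_intertwiner_ne_zero σ q.toRepresentation (by
    rw [hn, classInner_smul_left, classInner_irr_self (isIrrCharacter_character σ), mul_one]
    exact Nat.cast_ne_zero.2 hn0)
  let f' : Representation.IntertwiningMap σ ρ := ⟨q.toSubmodule.subtype ∘ₗ f.toLinearMap, fun g => by
    ext x
    exact congrArg Subtype.val (intertwiner_apply f g x)⟩
  refine hf (LinearMap.ext fun x => Subtype.ext ?_)
  have h1 : f'.toLinearMap x ∈ P := Submodule.mem_iSup_of_mem f' ⟨x, rfl⟩
  have h2 : f'.toLinearMap x ∈ q.toSubmodule := (f.toLinearMap x).2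
  exact Submodule.disjoint_def.1 hq.disjoint _ h1 h2

/-- The operators of an irreducible representation span all endomorphisms. -/
theorem span_range_eq_top (σ : Representation ℂ G V) [σ.IsIrreducible] :
    Submodule.span ℂ (Set.range fun g => σ g) = ⊤ := by
  classical
  have : Nontrivial V := nontrivial_of_irreducible σ
  set S := Submodule.span ℂ (Set.range fun g => σ g) with hS
  have hd : (Module.finrank ℂ V : ℂ) ≠ 0 := Nat.cast_ne_zero.mpr Module.finrank_pos.ne'
  have hone : ∀ (l : V →ₗ[ℂ] ℂ) (a : V), LinearMap.smulRight l a ∈ S := by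
    intro l a
    set B : Module.End ℂ V := ∑ g : G, l (σ g⁻¹ a) • σ g with hB
    have hBS : B ∈ S := Submodule.sum_mem _ fun g _ => S.smul_mem _ (Submodule.subset_span ⟨g, rfl⟩)
    have hkey : ∀ x : V, B x = ((Nat.card G : ℂ) * l x / Module.finrank ℂ V) • a := by
      intro x
      have h := eq_smul_id_of_commute σ (∑ g : G, σ g * LinearMap.smulRight l x * σ g⁻¹) fun k => by
        rw [Finset.sum_mul, Finset.mul_sum]
        refine Fintype.sum_equiv (Equiv.mulLeft k⁻¹) _ _ fun g => ?_
        simp only [Equiv.coe_mulLeft, mul_inv_rev, inv_inv, ← mul_assoc, ← map_mul, mul_inv_cancel, one_mul]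
        simp only [mul_assoc, ← map_mul]
      rw [map_sum] at h
      have htr : ∀ g : G, LinearMap.trace ℂ V (σ g * LinearMap.smulRight l x * σ g⁻¹) = l x := by
        intro g
        rw [LinearMap.trace_mul_comm, ← mul_assoc, ← map_mul, inv_mul_cancel, map_one, one_mul,
          LinearMap.trace_smulRight]
      simp only [htr, Finset.sum_const, Finset.card_univ, nsmul_eq_mul, ← Nat.card_eq_fintype_card] at h
      have h2 := LinearMap.congr_fun h a
      simp only [LinearMap.smul_apply, LinearMap.sum_apply, Module.End.mul_apply, LinearMap.smulRight_apply,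
        map_smul, Module.End.one_apply] at h2
      rw [hB, ← h2]
      simp [LinearMap.sum_apply]
    have hBeq : B = ((Nat.card G : ℂ) / Module.finrank ℂ V) • LinearMap.smulRight l a := by
      refine LinearMap.ext fun x => ?_
      rw [hkey, LinearMap.smul_apply, LinearMap.smulRight_apply, smul_smul, mul_div_right_comm]
    rw [hBeq] at hBS
    exact (S.smul_mem_iff (div_ne_zero (Nat.cast_ne_zero.mpr Nat.card_pos.ne') hd)).1 hBS
  refine eq_top_iff.2 fun A _ => ?_
  let b := Module.finBasis ℂ V
  have hA : A = ∑ i, LinearMap.smulRight ((b.coord i) ∘ₗ A) (b i) := by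
    ext x
    simp only [LinearMap.sum_apply, LinearMap.smulRight_apply, LinearMap.coe_comp, Function.comp_apply,
      Module.Basis.coord_apply]
    exact (b.sum_repr (A x)).symm
  rw [hA]
  exact Submodule.sum_mem _ fun i _ => hone _ _

theorem asAlgebraHom_surjective (σ : Representation ℂ G V) [σ.IsIrreducible] :
    Function.Surjective σ.asAlgebraHom := by
  intro A
  have h : (⊤ : Submodule ℂ (Module.End ℂ V)) ≤ LinearMap.range σ.asAlgebraHom.toLinearMap := by
    rw [← span_range_eq_top σ, Submodule.span_le]
    rintro _ ⟨g, rfl⟩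
    exact ⟨MonoidAlgebra.single g 1, σ.asAlgebraHom_single_one g⟩
  exact h (Submodule.mem_top (x := A))

theorem intertwiner_asAlgebraHom {σ : Representation ℂ G V} {ρ : Representation ℂ G W}
    (f : Representation.IntertwiningMap σ ρ) (a : MonoidAlgebra ℂ G) (x : V) :
    ρ.asAlgebraHom a (f.toLinearMap x) = f.toLinearMap (σ.asAlgebraHom a x) :=
  ((Representation.IntertwiningMap.equivLinearMapAsModule σ ρ f).map_smul a x).symm

/-- A homogeneous representation factors through the endomorphism algebra. -/
theorem exists_algHom (σ : Representation ℂ G V) [σ.IsIrreducible] (ρ : Representation ℂ G W)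
    {c : ℂ} (h : ρ.character = c • σ.character) (hc : c ≠ 0) :
    ∃ ι : Module.End ℂ V →ₐ[ℂ] Module.End ℂ W, Function.Injective ι ∧ ∀ g, ι (σ g) = ρ g := by
  set L := σ.asAlgebraHom
  set L' := ρ.asAlgebraHom
  have hker : ∀ a, L a = 0 → L' a = 0 := by
    intro a ha
    refine LinearMap.ext fun x => ?_
    have hx : x ∈ (⨆ f : Representation.IntertwiningMap σ ρ, LinearMap.range f.toLinearMap) := by
      rw [iSup_range_eq_top σ ρ h]; exact Submodule.mem_top
    refine Submodule.iSup_induction _ (motive := fun y => L' a y = (0 : Module.End ℂ W) y) hx (fun f y hy => ?_)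
      (by simp) (fun y z hy hz => by rw [map_add, hy, hz, map_add])
    obtain ⟨v, rfl⟩ := hy
    rw [intertwiner_asAlgebraHom, ha]; simp
  have hwd : ∀ a b, L a = L b → L' a = L' b := fun a b hab => by
    rw [← sub_eq_zero, ← map_sub]; exact hker _ (by rw [map_sub, hab, sub_self])
  obtain ⟨s, hs⟩ := L.toLinearMap.exists_rightInverse_of_surjective
    (LinearMap.range_eq_top.2 (asAlgebraHom_surjective σ))
  have hs' : ∀ A, L (s A) = A := fun A => LinearMap.congr_fun hs A
  let ι : Module.End ℂ V →ₐ[ℂ] Module.End ℂ W := AlgHom.ofLinearMap (L'.toLinearMap ∘ₗ s)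
    ((hwd _ 1 (by rw [hs', map_one])).trans (map_one L'))
    (fun A B => (hwd _ (s A * s B) (by rw [hs', map_mul, hs', hs'])).trans (map_mul L' _ _))
  refine ⟨ι, (injective_iff_map_eq_zero ι).2 fun A hA => ?_, fun g => ?_⟩
  · have hinj : ∃ f : Representation.IntertwiningMap σ ρ, f.toLinearMap ≠ 0 :=
      exists_intertwiner_ne_zero σ ρ (by
        rw [h, classInner_smul_left, classInner_irr_self (isIrrCharacter_character σ), mul_one]; exact hc)
    obtain ⟨f, hf⟩ := hinj
    have hfi : Function.Injective f.toLinearMap :=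
      (Representation.IsIrreducible.injective_or_eq_zero f).resolve_right fun h0 => hf (by rw [h0]; rfl)
    refine LinearMap.ext fun v => hfi ?_
    have h1 := intertwiner_asAlgebraHom f (s A) v
    rw [hs'] at h1
    rw [← h1, show L' (s A) = 0 from hA]; simp
  · have : L' (s (σ g)) = L' (MonoidAlgebra.single g 1) :=
      hwd _ _ (by rw [hs']; exact (σ.asAlgebraHom_single_one g).symm)
    exact this.trans (ρ.asAlgebraHom_single_one g)

/-- An irreducible representation with a block is induced from the stabiliser of the block. -/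
theorem exists_indFun_eq_of_block (ρ : Representation ℂ G V) [ρ.IsIrreducible] {ι : Type*} (B : ι → Submodule ℂ V)
    (hB : iSupIndep B) (i₀ : ι) (h0 : B i₀ ≠ ⊥) (hperm : ∀ g : G, ∀ i, ∃ j, (B i).map (ρ g) ≤ B j)
    (htop : B i₀ ≠ ⊤) :
    ∃ T : Subgroup G, T ≠ ⊤ ∧ (∀ g : G, g ∈ T ↔ (B i₀).map (ρ g) ≤ B i₀) ∧
      ∃ ψ : T → ℂ, IsCharacter T ψ ∧ indFun T ψ = ρ.character := by
  classical
  set U := B i₀ with hU
  have hmap_inj : ∀ g : G, Function.Injective (ρ g) := fun g x y hxy => by
    simpa [← Module.End.mul_apply, ← map_mul] using congrArg (ρ g⁻¹) hxy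
  have hfin : ∀ g : G, Module.finrank ℂ (U.map (ρ g)) = Module.finrank ℂ U := fun g =>
    (Submodule.equivMapOfInjective _ (hmap_inj g) U).finrank_eq.symm
  have heq : ∀ g : G, U.map (ρ g) ≤ U → U.map (ρ g) = U := fun g hg =>
    Submodule.eq_of_le_of_finrank_le hg (hfin g).ge
  have hmm : ∀ a b : G, U.map (ρ (a * b)) = (U.map (ρ b)).map (ρ a) := fun a b => by
    rw [map_mul, Module.End.mul_eq_comp, Submodule.map_comp]
  let T : Subgroup G :=
    { carrier := {g | U.map (ρ g) ≤ U}
      one_mem' := by simp [Module.End.one_eq_id]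
      mul_mem' := fun {a b} ha hb => by
        simp only [Set.mem_ofPred_eq] at ha hb ⊢
        rw [hmm, heq b hb]; exact ha
      inv_mem' := fun {a} ha => by
        simp only [Set.mem_ofPred_eq] at ha ⊢
        conv_lhs => rw [← heq a ha]
        rw [← hmm, inv_mul_cancel, map_one, Module.End.one_eq_id, Submodule.map_id] }
  have hTmem : ∀ g : G, g ∈ T ↔ U.map (ρ g) ≤ U := fun g => Iff.rfl
  -- the translates fill the space
  have hspan : ⨆ g : G, U.map (ρ g) = ⊤ := by
    set S := ⨆ g : G, U.map (ρ g)
    have hst : ∀ (a : G) ⦃x : V⦄, x ∈ S → ρ a x ∈ S := by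
      intro a x hx
      have : (S.map (ρ a)) ≤ S := by
        rw [Submodule.map_iSup]
        exact iSup_le fun g => by rw [← hmm]; exact le_iSup (fun g : G => U.map (ρ g)) (a * g)
      exact this (Submodule.mem_map_of_mem hx)
    rcases IsSimpleOrder.eq_bot_or_eq_top (⟨S, hst⟩ : Subrepresentation ρ) with h | h
    · refine absurd (eq_bot_iff.2 ?_) h0
      have h1 : U.map (ρ 1) ≤ S := le_iSup (fun g : G => U.map (ρ g)) 1
      rw [map_one, Module.End.one_eq_id, Submodule.map_id, show S = ⊥ from congrArg Subrepresentation.toSubmodule h] at h1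
      exact h1
    · exact congrArg Subrepresentation.toSubmodule h
  have hTtop : T ≠ ⊤ := fun h => htop (top_le_iff.1 (hspan ▸ iSup_le fun g =>
    (hTmem g).1 (h ▸ Subgroup.mem_top g)))
  refine ⟨T, hTtop, hTmem, ?_⟩
  -- the distinct translates are independent
  choose π hπ using hperm
  have hπmem : ∀ g, U.map (ρ g) ≤ B (π g i₀) := fun g => hπ g i₀
  haveI : Fintype (G ⧸ T) := Fintype.ofFinite _
  haveI : Fintype T := Fintype.ofFinite _
  have hinj : Function.Injective fun q : G ⧸ T => π q.out i₀ := by
    intro q q' hqq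
    simp only at hqq
    have h1 : U ≤ (B (π q'.out i₀)).map (ρ q'.out⁻¹) := by
      refine le_trans ?_ (Submodule.map_mono (hπmem q'.out))
      rw [← hmm, inv_mul_cancel, map_one, Module.End.one_eq_id, Submodule.map_id]
    have h2 : π q'.out⁻¹ (π q'.out i₀) = i₀ := by
      by_contra hne
      exact h0 (eq_bot_iff.2 fun x hx => (Submodule.mem_bot ℂ).2
        (Submodule.disjoint_def.1 (hB.pairwiseDisjoint hne) x (hπ _ _ (h1 hx)) hx))
    have h3 : U.map (ρ (q'.out⁻¹ * q.out)) ≤ U := by
      rw [hmm]
      refine le_trans (Submodule.map_mono (hπmem q.out)) ?_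
      rw [hqq]
      exact (hπ _ _).trans (le_of_eq (by rw [h2]))
    rw [← Quotient.out_eq q, ← Quotient.out_eq q']
    exact (QuotientGroup.eq.2 h3).symm
  let D : G ⧸ T → Submodule ℂ V := fun q => U.map (ρ q.out)
  have hD : iSupIndep D := (hB.comp hinj).mono fun q => hπmem q.out
  have hDtop : iSup D = ⊤ := by
    refine top_le_iff.1 (hspan ▸ iSup_le fun g => ?_)
    refine le_trans (le_of_eq ?_) (le_iSup D (QuotientGroup.mk g))
    have hg : ((QuotientGroup.mk g : G ⧸ T).out)⁻¹ * g ∈ T := QuotientGroup.eq.1 (Quotient.out_eq _)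
    conv_lhs => rw [show g = (QuotientGroup.mk g : G ⧸ T).out * (((QuotientGroup.mk g : G ⧸ T).out)⁻¹ * g) by group]
    rw [hmm, heq _ hg]
  have hdim : Module.finrank ℂ V = T.index * Module.finrank ℂ U := by
    have hint : DirectSum.IsInternal D := DirectSum.isInternal_submodule_of_iSupIndep_of_iSup_eq_top hD hDtop
    rw [← (LinearEquiv.ofBijective (DirectSum.coeLinearMap D) hint).finrank_eq, Module.finrank_directSum,
      Finset.sum_congr rfl fun q _ => hfin q.out, Finset.sum_const, Finset.card_univ, smul_eq_mul,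
      Subgroup.index_eq_card, Nat.card_eq_fintype_card]
  -- the character on the block
  let ρT : Representation ℂ T V := ρ.comp T.subtype
  let p : Subrepresentation ρT := ⟨U, fun t x hx => t.2 (Submodule.mem_map_of_mem hx)⟩
  set ψ := p.toRepresentation.character with hψ
  have hψc : IsCharacter T ψ := isCharacter_character _
  refine ⟨ψ, hψc, ?_⟩
  have hirr : IsIrrCharacter G ρ.character := isIrrCharacter_character ρ
  have hcl : classInner (indFun T ψ) ρ.character ≠ 0 := by
    rw [frobenius_reciprocity T ψ (isClassFunction_irr hirr)]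
    show classInner p.toRepresentation.character ρT.character ≠ 0
    obtain ⟨q, hq⟩ := exists_isCompl_subrep ρT p
    rw [classInner_character]
    let f : Representation.IntertwiningMap ρT p.toRepresentation :=
      ⟨p.toSubmodule.projectionOnto q.toSubmodule hq, fun t =>
        LinearMap.ext fun x => projectionOnto_equivariant p q hq t x⟩
    rw [Nat.cast_ne_zero]
    intro h
    have : Subsingleton (Representation.IntertwiningMap ρT p.toRepresentation) := Module.finrank_zero_iff.1 h
    obtain ⟨x, hx, hx0⟩ := (Submodule.ne_bot_iff _).1 h0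
    have h1 : f.toLinearMap x = 0 := by rw [Subsingleton.elim f 0]; rfl
    exact hx0 (congrArg Subtype.val ((Submodule.projectionOnto_apply_left hq ⟨x, hx⟩).symm.trans h1))
  have hdiff := isCharacter_sub_irr (isCharacter_indFun T hψc) hirr hcl
  refine sub_eq_zero.1 (eq_zero_of_degree_zero hdiff ?_)
  rw [Pi.sub_apply, indFun_apply_one, hψ, Representation.char_one, Representation.char_one, hdim,
    show Module.finrank ℂ p.toSubmodule = Module.finrank ℂ U from rfl]
  push_cast
  ring

end CfsgLib.CharTheory.Homogeneous
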