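/-
A homogeneous induced representation has blocks of imprimitivity above a chief factor.
-/
import Mathlib
import Cfsg.Agent.Lib.CharTheory.Homogeneous

set_option autoImplicit false

namespace CfsgLib.CharTheory.BergerBlock

open Cfsg CfsgLib.CharTheory CfsgLib.CharTheory.Homogeneous

universe u v

/-- The scalars among the units. -/
noncomputable def scalars (V : Type v) [AddCommGroup V] [Module ℂ V] : Subgroup (Module.End ℂ V)ˣ :=
  (scalarUnit V).range

instance scalars_normal (V : Type v) [AddCommGroup V] [Module ℂ V] [FiniteDimensional ℂ V] : (scalars V).Normal :=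
  ⟨fun x hx g => by
    obtain ⟨c, rfl⟩ := hx
    exact ⟨c, by rw [← scalarUnit_comm c g, mul_inv_cancel_right]⟩⟩

theorem quot_eq_iff {V : Type v} [AddCommGroup V] [Module ℂ V] [FiniteDimensional ℂ V] (a b : (Module.End ℂ V)ˣ) :
    (QuotientGroup.mk a : (Module.End ℂ V)ˣ ⧸ scalars V) = QuotientGroup.mk b ↔ ∃ c : ℂˣ, b = scalarUnit V c * a := by
  rw [QuotientGroup.eq]
  constructor
  · rintro ⟨c, hc⟩
    exact ⟨c, by rw [scalarUnit_comm, hc, mul_inv_cancel_left]⟩
  · rintro ⟨c, rfl⟩
    exact ⟨c, by rw [scalarUnit_comm, inv_mul_cancel_left]⟩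

theorem coe_scalarUnit_mul {V : Type v} [AddCommGroup V] [Module ℂ V] [FiniteDimensional ℂ V] (c : ℂˣ) (a : (Module.End ℂ V)ˣ) :
    ((scalarUnit V c * a : (Module.End ℂ V)ˣ) : Module.End ℂ V) = (c : ℂ) • (a : Module.End ℂ V) := by
  rw [Units.val_mul, coe_scalarUnit, smul_mul_assoc, one_mul]

variable {G : Type u} [Group G] [Fintype G]

/-- An invariant irreducible representation has intertwiners. -/
theorem exists_intertwines {N : Subgroup G} [N.Normal] {V : Type v} [AddCommGroup V] [Module ℂ V] [FiniteDimensional ℂ V]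
    (σ : Representation ℂ N V) [σ.IsIrreducible]
    (hinv : ∀ (g : G) (n : N), σ.character (MulAut.conjNormal g n) = σ.character n) (g : G) :
    ∃ A : (Module.End ℂ V)ˣ, Intertwines σ g A := by
  obtain ⟨e⟩ := nonempty_equiv_of_character_eq σ
    (σ.comp (MulAut.conjNormal g : N ≃* N).toMonoidHom) (funext fun n => (hinv g n).symm)
  exact ⟨LinearMap.GeneralLinearGroup.ofLinearEquiv e.toLinearEquiv,
    fun n => Units.ext (LinearMap.ext fun v => e.toIntertwiningMap.isIntertwining _ _ n v)⟩

set_option maxHeartbeats 4000000 in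
/-- The blocks. -/
theorem exists_induced_from_above
    (H K M R : Subgroup G) [K.Normal] [M.Normal] (hKM : K ≤ M) (hKH : K ≤ H) (hKR : K ≤ R) (hRH : R ≤ H)
    (hMne : M ≠ K) (hMmin : ∀ M' : Subgroup G, M'.Normal → K ≤ M' → M' ≤ M → M' = K ∨ M' = M)
    (hMH : M ⊔ H = ⊤) (hHR : ∀ h ∈ H, ∀ x ∈ R, h * x * h⁻¹ ∈ R) (hRnot : ¬ R.Normal)
    (hRab : ∀ a ∈ R, ∀ b ∈ R, a * b * a⁻¹ * b⁻¹ ∈ K) {q : ℕ} (hq : q ≠ 0) (hRq : ∀ x ∈ R, x ^ q ∈ K)
    {s f0 : ℕ} (hs : 1 < s) (hcop : Nat.Coprime q (s * s))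
    {X : Type v} [AddCommGroup X] [Module ℂ X] [FiniteDimensional ℂ X] (ρ : Representation ℂ G X) [ρ.IsIrreducible]
    {V : Type v} [AddCommGroup V] [Module ℂ V] [FiniteDimensional ℂ V] (Θ : Representation ℂ M V) [Θ.IsIrreducible]
    {U : Type v} [AddCommGroup U] [Module ℂ U] [FiniteDimensional ℂ U] (Φ : Representation ℂ K U) [Φ.IsIrreducible]
    {Y : Type v} [AddCommGroup Y] [Module ℂ Y] [FiniteDimensional ℂ Y] (Ψ : Representation ℂ H Y)
    {e : ℂ} (he : e ≠ 0) (hθ : Representation.character (ρ.comp M.subtype) = e • Θ.character)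
    (hφ : Representation.character (Θ.comp (Subgroup.inclusion hKM)) = (s : ℂ) • Φ.character)
    (hψ : Representation.character (Ψ.comp (Subgroup.inclusion hKH)) = (f0 : ℂ) • Φ.character) (hf0 : f0 ≠ 0)
    (hX : Module.finrank ℂ X = s * s * f0 * Module.finrank ℂ U)
    (hπ : ∃ π : X →ₗ[ℂ] Y, π ≠ 0 ∧ ∀ (h : H) (y : X), π (ρ h y) = Ψ h (π y)) :
    ∃ T : Subgroup G, T ≠ ⊤ ∧ M ≤ T ∧ ∃ ψ' : T → ℂ, IsCharacter T ψ' ∧ indFun T ψ' = ρ.character := by
  classical
  haveI : Fintype M := Fintype.ofFinite M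
  haveI : Fintype K := Fintype.ofFinite K
  haveI : Nontrivial V := nontrivial_of_irreducible Θ
  haveI : Nontrivial U := nontrivial_of_irreducible Φ
  obtain ⟨π, hπ0, hπH⟩ := hπ
  set ΘK : Representation ℂ K V := Θ.comp (Subgroup.inclusion hKM) with hΘK
  set ΨK : Representation ℂ K Y := Ψ.comp (Subgroup.inclusion hKH) with hΨK
  have hs0 : (s : ℂ) ≠ 0 := Nat.cast_ne_zero.2 (by omega)
  obtain ⟨ι, hιinj, hι⟩ := exists_algHom Θ (ρ.comp M.subtype) hθ he
  have hι' : ∀ (m : G) (hm : m ∈ M), ι (Θ ⟨m, hm⟩) = ρ m := fun m hm => hι ⟨m, hm⟩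
  obtain ⟨j, hjinj, hj⟩ := exists_algHom Φ ΘK hφ hs0
  have hφc : ∀ k : K, Θ.character ⟨k, hKM k.2⟩ = (s : ℂ) * Φ.character k := fun k => congrFun hφ k
  -- invariance
  have hMinv : ∀ (g : G) (n : M), Θ.character (MulAut.conjNormal g n) = Θ.character n := by
    intro g n
    have h1 := congrFun hθ (MulAut.conjNormal g n)
    have h2 := congrFun hθ n
    simp only [Pi.smul_apply, smul_eq_mul] at h1 h2
    refine mul_left_cancel₀ he ?_
    rw [← h1, ← h2]
    show ρ.character ((MulAut.conjNormal g n : M) : G) = ρ.character n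
    rw [MulAut.conjNormal_apply]; exact ρ.char_conj _ _
  have hKinv : ∀ (g : G) (n : K), Φ.character (MulAut.conjNormal g n) = Φ.character n := by
    intro g n
    refine mul_left_cancel₀ hs0 ?_
    rw [← hφc, ← hφc, ← hMinv g ⟨n, hKM n.2⟩]
    exact congrArg Θ.character (Subtype.ext (by simp [MulAut.conjNormal_apply]))
  choose T hT using exists_intertwines Θ hMinv
  choose P hP using exists_intertwines Φ hKinv
  -- the operators `w`
  set J : (Module.End ℂ U)ˣ →* (Module.End ℂ V)ˣ := Units.map (j : Module.End ℂ U →* Module.End ℂ V) with hJ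
  have hJk : ∀ k : K, J (repUnits Φ k) = repUnits Θ ⟨k, hKM k.2⟩ := fun k => Units.ext (hj k)
  have hJc : ∀ c : ℂˣ, J (scalarUnit U c) = scalarUnit V c := fun c => Units.ext (j.commutes (c : ℂ))
  set w : G → (Module.End ℂ V)ˣ := fun g => T g * (J (P g))⁻¹ with hw
  have hwK : ∀ (g : G) (k : K), w g * repUnits Θ ⟨k, hKM k.2⟩ = repUnits Θ ⟨k, hKM k.2⟩ * w g := by
    intro g k
    have h1 := hT g ⟨(MulAut.conjNormal g⁻¹ k : K), hKM (MulAut.conjNormal g⁻¹ k : K).2⟩
    have e2 : MulAut.conjNormal g (⟨(MulAut.conjNormal g⁻¹ k : K), hKM (MulAut.conjNormal g⁻¹ k : K).2⟩ : M) =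
        ⟨k, hKM k.2⟩ := Subtype.ext (by simp only [MulAut.conjNormal_apply]; group)
    rw [e2] at h1
    calc w g * repUnits Θ ⟨k, hKM k.2⟩ = T g * J ((P g)⁻¹ * repUnits Φ k) := by
          rw [map_mul J, map_inv J, hJk, hw, mul_assoc]
      _ = T g * J (repUnits Φ (MulAut.conjNormal g⁻¹ k) * (P g)⁻¹) := by rw [intertwines_inv (hP g) k]
      _ = repUnits Θ ⟨k, hKM k.2⟩ * w g := by rw [map_mul J, map_inv J, hJk, ← mul_assoc, h1, mul_assoc]
  have hwj : ∀ (g : G) (B : Module.End ℂ U), (w g : Module.End ℂ V) * j B = j B * w g := by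
    intro g B
    have hB : B ∈ Submodule.span ℂ (Set.range fun k => Φ k) := by
      rw [span_range_eq_top]; exact Submodule.mem_top
    induction hB using Submodule.span_induction with
    | mem x hx =>
      obtain ⟨k, rfl⟩ := hx
      rw [hj]
      exact congrArg Units.val (hwK g k)
    | zero => simp
    | add x y _ _ hx hy => rw [map_add, mul_add, add_mul, hx, hy]
    | smul c x _ hx => rw [map_smul, mul_smul_comm, smul_mul_assoc, hx]
  have hwJ : ∀ (g : G) (B : (Module.End ℂ U)ˣ), w g * J B = J B * w g := fun g B => Units.ext (hwj g B)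
  have hwmul : ∀ g h : G, (QuotientGroup.mk (w (g * h)) : _ ⧸ scalars V) = QuotientGroup.mk (w g * w h) := by
    intro g h
    obtain ⟨a, ha⟩ := exists_scalar_of_intertwines Θ (hT (g * h)) (intertwines_mul (hT g) (hT h))
    obtain ⟨b, hb⟩ := exists_scalar_of_intertwines Φ (hP (g * h)) (intertwines_mul (hP g) (hP h))
    refine (quot_eq_iff _ _).2 ⟨a * b⁻¹, ?_⟩
    calc w g * w h = T g * (w h * (J (P g))⁻¹) := by
          have hc : (J (P g))⁻¹ * w h = w h * (J (P g))⁻¹ := by
            rw [← map_inv]; exact (hwJ h _).symm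
          show T g * (J (P g))⁻¹ * w h = _
          rw [mul_assoc, hc]
      _ = T g * T h * (J (P g * P h))⁻¹ := by rw [map_mul, mul_inv_rev, hw]; group
      _ = scalarUnit V a * T (g * h) * (scalarUnit V b * J (P (g * h)))⁻¹ := by rw [ha, hb, map_mul, hJc]
      _ = scalarUnit V (a * b⁻¹) * w (g * h) := by
          rw [map_mul, map_inv, mul_inv_rev, hw]
          simp only [mul_assoc]
          congr 1
          rw [← map_inv (scalarUnit V), ← scalarUnit_comm, ← mul_assoc, ← scalarUnit_comm, mul_assoc]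
  let wbar : G →* (Module.End ℂ V)ˣ ⧸ scalars V :=
    MonoidHom.mk' (fun g => QuotientGroup.mk (w g)) fun g h => (hwmul g h).trans (QuotientGroup.mk_mul _ _ _)
  have hwbar : ∀ g, wbar g = 1 ↔ ∃ c : ℂˣ, w g = scalarUnit V c := fun g =>
    (QuotientGroup.eq_one_iff (w g)).trans ⟨fun ⟨c, hc⟩ => ⟨c, hc.symm⟩, fun ⟨c, hc⟩ => ⟨c, hc.symm⟩⟩
  have hwone : ∀ k ∈ K, wbar k = 1 := by
    intro k hk
    obtain ⟨a, ha⟩ := exists_scalar_of_intertwines Θ (intertwines_self Θ ⟨k, hKM hk⟩) (hT k)
    obtain ⟨b, hb⟩ := exists_scalar_of_intertwines Φ (intertwines_self Φ ⟨k, hk⟩) (hP k)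
    refine (hwbar k).2 ⟨a * b⁻¹, ?_⟩
    show T k * (J (P k))⁻¹ = _
    rw [ha, hb, map_mul J, hJc, hJk, map_mul, map_inv, mul_inv_rev, mul_assoc]
    congr 1
    rw [← mul_assoc, mul_inv_cancel, one_mul]
  -- `w` is not scalar on all of `R`
  have hnM : ¬ ∀ m ∈ M, wbar m = 1 := by
    intro hall
    have hmem : ∀ m : M, Θ m ∈ LinearMap.range j.toLinearMap := by
      intro m
      obtain ⟨c, hc⟩ := (hwbar m).1 (hall m m.2)
      obtain ⟨a, ha⟩ := exists_scalar_of_intertwines Θ (intertwines_self Θ m) (hT m)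
      have h1 : scalarUnit V a * repUnits Θ m = scalarUnit V c * J (P m) := by
        rw [← ha, ← hc, hw, inv_mul_cancel_right]
      refine ⟨((a⁻¹ * c : ℂˣ) : ℂ) • (P m : Module.End ℂ U), ?_⟩
      show j _ = _
      rw [map_smul]
      have h2 : repUnits Θ m = scalarUnit V (a⁻¹ * c) * J (P m) := by
        rw [map_mul, map_inv, mul_assoc, ← h1, inv_mul_cancel_left]
      have h3 := congrArg Units.val h2
      rw [coe_scalarUnit_mul] at h3
      exact h3.symm
    have htop : LinearMap.range j.toLinearMap = ⊤ := top_le_iff.1 (by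
      rw [← span_range_eq_top Θ, Submodule.span_le]
      rintro _ ⟨m, rfl⟩
      exact hmem m)
    have h1 := (LinearEquiv.ofBijective j.toLinearMap ⟨hjinj, LinearMap.range_eq_top.1 htop⟩).finrank_eq
    rw [Module.finrank_linearMap, Module.finrank_linearMap] at h1
    have h2 := hφc 1
    rw [Representation.char_one, show (⟨((1 : K) : G), hKM (1 : K).2⟩ : M) = 1 from rfl, Representation.char_one] at h2
    have h3 : Module.finrank ℂ V = s * Module.finrank ℂ U := by exact_mod_cast h2
    have hu : 0 < Module.finrank ℂ U := Module.finrank_pos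
    rw [h3] at h1
    have h4 : s * s * (Module.finrank ℂ U * Module.finrank ℂ U) = 1 * (Module.finrank ℂ U * Module.finrank ℂ U) := by
      rw [one_mul]; linarith
    have h5 := Nat.eq_of_mul_eq_mul_right (Nat.mul_pos hu hu) h4
    have := (mul_eq_one.1 h5).1
    omega
  have hnR : ∃ x0 ∈ R, wbar x0 ≠ 1 := by
    by_contra hcon
    push Not at hcon
    apply hRnot
    constructor
    intro x hx g
    have hg : g ∈ (↑(M ⊔ H) : Set G) := by rw [hMH]; exact Subgroup.mem_top g
    rw [Subgroup.normal_mul] at hg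
    obtain ⟨m, hm, h, hh, rfl⟩ := Set.mem_mul.1 hg
    have hy : h * x * h⁻¹ ∈ R := hHR h hh x hx
    set y := h * x * h⁻¹ with hydef
    have hin : m * y * m⁻¹ * y⁻¹ ∈ M ⊓ wbar.ker := by
      refine Subgroup.mem_inf.2 ⟨?_, ?_⟩
      · rw [mul_assoc, mul_assoc]
        exact mul_mem hm (by simpa [mul_assoc] using (inferInstance : M.Normal).conj_mem _ (inv_mem hm) y)
      · rw [MonoidHom.mem_ker, map_mul, map_mul, map_mul, map_inv, map_inv, hcon y hy]; simp
    have hK : M ⊓ wbar.ker = K := by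
      refine (hMmin _ inferInstance (le_inf hKM fun k hk => MonoidHom.mem_ker.2 (hwone k hk)) inf_le_left).resolve_right ?_
      exact fun h => hnM fun m hm => MonoidHom.mem_ker.1 (Subgroup.mem_inf.1 (h.symm ▸ hm : m ∈ M ⊓ wbar.ker)).2
    rw [hK] at hin
    have e1 : m * h * x * (m * h)⁻¹ = (m * y * m⁻¹ * y⁻¹) * y := by rw [hydef]; group
    rw [e1]; exact mul_mem (hKR hin) hy
  -- commutation on `R`
  have hwq : ∀ x ∈ R, ∃ a : ℂˣ, w x ^ q = scalarUnit V a := by
    intro x hx
    obtain ⟨a, ha⟩ := (QuotientGroup.eq_one_iff (w x ^ q)).1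
      (show wbar x ^ q = 1 by rw [← map_pow]; exact hwone _ (hRq x hx))
    exact ⟨a, ha.symm⟩
  have hwcomm : ∀ x ∈ R, ∀ y ∈ R, w x * w y = w y * w x := by
    intro x hx y hy
    have h1 : wbar x * wbar y * (wbar x)⁻¹ * (wbar y)⁻¹ = 1 := by
      rw [← map_inv, ← map_inv, ← map_mul, ← map_mul, ← map_mul]
      exact hwone _ (hRab x hx y hy)
    rw [mul_inv_eq_one, mul_inv_eq_iff_eq_mul] at h1
    obtain ⟨c, hc⟩ := (quot_eq_iff _ _).1 (show (QuotientGroup.mk (w y * w x) : _ ⧸ scalars V) =
      QuotientGroup.mk (w x * w y) from h1.symm)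
    -- the `q`-th power
    have hcq : c ^ q = 1 := by
      obtain ⟨a, ha⟩ := hwq x hx
      have hpow : ∀ n : ℕ, w x ^ n * w y = scalarUnit V (c ^ n) * (w y * w x ^ n) := by
        intro n
        induction n with
        | zero => simp
        | succ n ih =>
          rw [pow_succ (w x), mul_assoc, hc, ← mul_assoc (w x ^ n), ← scalarUnit_comm, mul_assoc,
            ← mul_assoc (w x ^ n), ih, mul_assoc, ← mul_assoc (scalarUnit V c), ← map_mul, ← pow_succ',
            mul_assoc]
      have h2 := hpow q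
      rw [ha, scalarUnit_comm a (w y)] at h2
      exact scalarUnit_injective (by rw [map_one]; exact mul_eq_right.1 h2.symm)
    -- the determinant on the commutant
    have hcv : c ^ (s * s) = 1 := by
      let C := Representation.IntertwiningMap ΘK ΘK
      let LC : G → (C →ₗ[ℂ] C) := fun g =>
        { toFun := fun f => ⟨(w g : Module.End ℂ V) ∘ₗ f.toLinearMap, fun k => by
            refine LinearMap.ext fun z => ?_
            show (w g : Module.End ℂ V) (f.toLinearMap (ΘK k z)) = ΘK k ((w g : Module.End ℂ V) (f.toLinearMap z))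
            rw [intertwiner_apply f k z]
            exact LinearMap.congr_fun (congrArg Units.val (hwK g k)) _⟩
          map_add' := fun f g' => Representation.IntertwiningMap.toLinearMap_injective _ _ (LinearMap.comp_add _ _ _)
          map_smul' := fun a f => Representation.IntertwiningMap.toLinearMap_injective _ _ (LinearMap.comp_smul _ _ _) }
      have hLC : ∀ g (f : C), (LC g f).toLinearMap = (w g : Module.End ℂ V) ∘ₗ f.toLinearMap := fun g f => rfl
      have heq : LC x ∘ₗ LC y = (c : ℂ) • (LC y ∘ₗ LC x) := by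
        refine LinearMap.ext fun f => Representation.IntertwiningMap.toLinearMap_injective _ _ ?_
        show (w x : Module.End ℂ V) ∘ₗ ((w y : Module.End ℂ V) ∘ₗ f.toLinearMap) =
          (c : ℂ) • ((w y : Module.End ℂ V) ∘ₗ ((w x : Module.End ℂ V) ∘ₗ f.toLinearMap))
        have h2 : (w x : Module.End ℂ V) ∘ₗ (w y : Module.End ℂ V) =
            (c : ℂ) • ((w y : Module.End ℂ V) ∘ₗ (w x : Module.End ℂ V)) := by
          rw [← Module.End.mul_eq_comp, ← Module.End.mul_eq_comp, ← Units.val_mul, hc, coe_scalarUnit_mul,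
            Units.val_mul]
        rw [← LinearMap.comp_assoc, h2, LinearMap.smul_comp, LinearMap.comp_assoc]
      have hdet : ∀ g, LinearMap.det (LC g) ≠ 0 := by
        intro g h0
        obtain ⟨f, hf, hf0⟩ := (Submodule.ne_bot_iff _).1 (LinearMap.bot_lt_ker_of_det_eq_zero h0).ne'
        refine hf0 (Representation.IntertwiningMap.toLinearMap_injective _ _ ?_)
        have h2 : (w g : Module.End ℂ V) ∘ₗ f.toLinearMap = 0 := congrArg (fun f : C => f.toLinearMap) hf
        have h3 := congrArg (fun A => ((w g)⁻¹ : (Module.End ℂ V)ˣ).val ∘ₗ A) h2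
        simp only [← LinearMap.comp_assoc, ← Module.End.mul_eq_comp, Units.inv_mul, LinearMap.comp_zero] at h3
        simpa [Module.End.one_eq_id] using h3
      have hfin : Module.finrank ℂ C = s * s := by
        have h2 : classInner ΘK.character ΘK.character = ((s * s : ℕ) : ℂ) := by
          rw [show ΘK.character = (s : ℂ) • Φ.character from hφ, classInner_smul_left, classInner_smul_right,
            classInner_irr_self (isIrrCharacter_character Φ), Complex.conj_natCast, mul_one, Nat.cast_mul]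
        rw [classInner_character] at h2
        exact_mod_cast h2
      have h2 := congrArg LinearMap.det heq
      rw [LinearMap.det_comp, LinearMap.det_smul, LinearMap.det_comp, hfin, mul_comm (LinearMap.det (LC y))] at h2
      have h3 := (mul_eq_right₀ (mul_ne_zero (hdet x) (hdet y))).1 h2.symm
      exact Units.ext (by rw [Units.val_pow_eq_pow_val, h3, Units.val_one])
    have hc1 : c = 1 := by
      have := Nat.dvd_gcd (orderOf_dvd_of_pow_eq_one hcq) (orderOf_dvd_of_pow_eq_one hcv)
      rw [hcop] at this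
      exact orderOf_eq_one_iff.1 (Nat.dvd_one.1 this)
    rw [hc1, map_one, one_mul] at hc
    exact hc
  -- conjugation by `T h`
  have hTconj : ∀ h ∈ H, ∀ x ∈ R, ∃ c : ℂˣ, T h * w (h⁻¹ * x * h) * (T h)⁻¹ = scalarUnit V c * w x := by
    intro h _ x _
    have h1 : T h * w (h⁻¹ * x * h) * (T h)⁻¹ = w h * w (h⁻¹ * x * h) * (w h)⁻¹ := by
      have hT' : T h = w h * J (P h) := by rw [hw, inv_mul_cancel_right]
      rw [hT', mul_inv_rev]
      have := hwJ (h⁻¹ * x * h) (P h)
      calc w h * J (P h) * w (h⁻¹ * x * h) * ((J (P h))⁻¹ * (w h)⁻¹)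
          = w h * (J (P h) * w (h⁻¹ * x * h) * (J (P h))⁻¹) * (w h)⁻¹ := by group
        _ = _ := by rw [← this, mul_inv_cancel_right]
    rw [h1]
    refine (quot_eq_iff _ _).1 ?_
    show wbar x = wbar h * wbar (h⁻¹ * x * h) * (wbar h)⁻¹
    rw [← map_mul, ← map_inv, ← map_mul]; congr 1; group
  have hρι : ∀ (g : G) (B : Module.End ℂ V),
      ρ g * ι B = ι ((T g : Module.End ℂ V) * B * ((T g)⁻¹ : (Module.End ℂ V)ˣ)) * ρ g := by
    intro g B
    have hB : B ∈ Submodule.span ℂ (Set.range fun m => Θ m) := by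
      rw [span_range_eq_top]; exact Submodule.mem_top
    induction hB using Submodule.span_induction with
    | mem x hx =>
      obtain ⟨m, rfl⟩ := hx
      have h1 : T g * repUnits Θ m * (T g)⁻¹ = repUnits Θ (MulAut.conjNormal g m) := by
        rw [hT g m, mul_inv_cancel_right]
      have h2 := congrArg Units.val h1
      simp only [Units.val_mul, coe_repUnits] at h2
      rw [h2, hι, hι]
      show ρ g * ρ (m : G) = ρ ((MulAut.conjNormal g m : M) : G) * ρ g
      rw [← map_mul, ← map_mul, MulAut.conjNormal_apply, inv_mul_cancel_right]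
    | zero => simp
    | add x y _ _ hx hy => rw [map_add, mul_add, hx, hy, mul_add, add_mul, map_add, add_mul]
    | smul c x _ hx => rw [map_smul, mul_smul_comm, hx, mul_smul_comm, smul_mul_assoc, map_smul, smul_mul_assoc]
  -- the joint eigenspaces
  set L : R → Module.End ℂ (Module.End ℂ V) := fun x => LinearMap.mulLeft ℂ (w x : Module.End ℂ V) with hL
  set A : (R → ℂ) → Submodule ℂ (Module.End ℂ V) := fun l => ⨅ x, (L x).eigenspace (l x) with hA
  have hAmem : ∀ (l : R → ℂ) (B : Module.End ℂ V), B ∈ A l ↔ ∀ x : R, (w x : Module.End ℂ V) * B = l x • B := by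
    intro l B
    simp only [hA, Submodule.mem_iInf, Module.End.mem_eigenspace_iff, hL, LinearMap.mulLeft_apply]
  have hLcomm : ∀ x y : R, Commute (L x) (L y) := by
    intro x y
    refine LinearMap.ext fun B => ?_
    simp only [hL, Module.End.mul_apply, LinearMap.mulLeft_apply, ← mul_assoc, ← Units.val_mul,
      hwcomm x x.2 y y.2]
  have hLss : ∀ x : R, (L x).IsSemisimple := by
    intro x
    obtain ⟨a, ha⟩ := hwq x x.2
    refine Module.End.isSemisimple_of_squarefree_aeval_eq_zero
      ((Polynomial.separable_X_pow_sub_C (n := q) (a : ℂ) (Nat.cast_ne_zero.2 hq) a.ne_zero).squarefree) ?_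
    rw [map_sub, map_pow, Polynomial.aeval_X, Polynomial.aeval_C, sub_eq_zero, hL, LinearMap.pow_mulLeft,
      ← Units.val_pow_eq_pow_val, ha, coe_scalarUnit]
    refine LinearMap.ext fun B => ?_
    simp [Module.algebraMap_end_apply]
  have hmax : ∀ (x : R) (a : ℂ), (L x).maxGenEigenspace a = (L x).eigenspace a := fun x a =>
    ((Module.End.isFinitelySemisimple_iff_isSemisimple).2 (hLss x)).maxGenEigenspace_eq_eigenspace a
  have hAtop : ⨆ l, A l = ⊤ := by
    have h := Module.End.iSup_iInf_maxGenEigenspace_eq_top_of_iSup_maxGenEigenspace_eq_top_of_commute L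
      (fun x y _ => hLcomm x y) fun x => Module.End.iSup_maxGenEigenspace_eq_top _
    simpa only [hmax] using h
  have hAind : iSupIndep A := by
    have h := Module.End.independent_iInf_maxGenEigenspace_of_forall_mapsTo L
      fun x y a => Module.End.mapsTo_maxGenEigenspace_of_comm (hLcomm y x) a
    simpa only [hmax] using h
  have hAright : ∀ l, ∀ B ∈ A l, ∀ C, B * C ∈ A l := by
    intro l B hB C
    rw [hAmem] at hB ⊢
    intro x
    rw [← mul_assoc, hB x, smul_mul_assoc]
  have hAleft : ∀ l, ∀ B ∈ A l, ∀ k : K, ΘK k * B ∈ A l := by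
    intro l B hB k
    rw [hAmem] at hB ⊢
    intro x
    have h1 : (w x : Module.End ℂ V) * ΘK k = ΘK k * w x := congrArg Units.val (hwK x k)
    rw [← mul_assoc, h1, mul_assoc, hB x, mul_smul_comm]
  have hAconj : ∀ h ∈ H, ∀ l, ∃ l', ∀ B ∈ A l, (T h : Module.End ℂ V) * B * ((T h)⁻¹ : (Module.End ℂ V)ˣ) ∈ A l' := by
    intro h hh l
    choose c hc using fun x : R => hTconj h hh x x.2
    refine ⟨fun x => ((c x : ℂˣ) : ℂ)⁻¹ * l ⟨h⁻¹ * x * h, by simpa using hHR _ (inv_mem hh) x x.2⟩, fun B hB => ?_⟩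
    rw [hAmem] at hB ⊢
    intro x
    have h1 : w x * T h = scalarUnit V (c x)⁻¹ * (T h * w (h⁻¹ * x * h)) := by
      rw [← inv_mul_cancel_right (T h * w (h⁻¹ * x * h)) (T h), hc x, map_inv, ← mul_assoc,
        ← mul_assoc (scalarUnit V (c x))⁻¹, inv_mul_cancel, one_mul]
    have h2 : (w x : Module.End ℂ V) * T h =
        ((c x : ℂˣ) : ℂ)⁻¹ • ((T h : Module.End ℂ V) * w (h⁻¹ * x * h)) := by
      rw [← Units.val_mul, h1, coe_scalarUnit_mul, Units.val_mul, Units.val_inv_eq_inv_val]
    calc (w x : Module.End ℂ V) * ((T h : Module.End ℂ V) * B * ((T h)⁻¹ : (Module.End ℂ V)ˣ))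
        = ((c x : ℂˣ) : ℂ)⁻¹ • ((T h : Module.End ℂ V) * ((w (h⁻¹ * x * h) : Module.End ℂ V) * B) *
            ((T h)⁻¹ : (Module.End ℂ V)ˣ)) := by
          rw [← mul_assoc, ← mul_assoc, h2]; simp only [smul_mul_assoc, mul_assoc]
      _ = _ := by rw [hB ⟨_, by simpa using hHR _ (inv_mem hh) x x.2⟩, mul_smul_comm, smul_mul_assoc, smul_smul]
  choose act hact using hAconj
  -- vectors killed by all of `π ∘ ι`
  have hkill : ∀ y : X, (∀ B, π (ι B y) = 0) → y = 0 := by
    intro y hy
    let W : Subrepresentation ρ :=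
      { toSubmodule := ⨅ m : M, LinearMap.ker (π ∘ₗ ρ (m : G))
        apply_mem_toSubmodule := by
          intro g z hz
          rw [Submodule.mem_iInf] at hz ⊢
          intro m
          have hg : (m : G) * g ∈ (↑(M ⊔ H) : Set G) := by rw [hMH]; exact Subgroup.mem_top _
          rw [Subgroup.normal_mul] at hg
          obtain ⟨m', hm', h, hh, he'⟩ := Set.mem_mul.1 hg
          have h1 : h⁻¹ * m' * h ∈ M := by simpa using (inferInstance : M.Normal).conj_mem m' hm' h⁻¹
          have h2 := hz ⟨_, h1⟩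
          simp only [LinearMap.mem_ker, LinearMap.coe_comp, Function.comp_apply] at h2 ⊢
          rw [← Module.End.mul_apply, ← map_mul, ← he', show m' * h = h * (h⁻¹ * m' * h) by group, map_mul,
            Module.End.mul_apply, hπH ⟨h, hh⟩, h2, map_zero] }
    rcases IsSimpleOrder.eq_bot_or_eq_top W with hW | hW
    · have : y ∈ W.toSubmodule := Submodule.mem_iInf _ |>.2 fun m => by
        show π (ρ (m : G) y) = 0
        rw [← hι' m m.2]; exact hy _
      rw [hW] at this
      exact (Submodule.mem_bot ℂ).1 this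
    · exfalso
      refine hπ0 (LinearMap.ext fun z => ?_)
      have : z ∈ W.toSubmodule := by rw [hW]; exact Submodule.mem_top
      have h1 := (Submodule.mem_iInf _).1 this 1
      simpa [map_one] using h1
  -- the map to intertwiners
  set Lrep : Representation ℂ K (Module.End ℂ V) := Representation.linHom (Representation.trivial ℂ K V) ΘK with hLrep
  have hLapp : ∀ (k : K) (B : Module.End ℂ V), Lrep k B = ΘK k * B := fun k B => LinearMap.ext fun z => rfl
  have hLchar : Lrep.character = ((Module.finrank ℂ V * s : ℕ) : ℂ) • Φ.character := by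
    funext k
    rw [hLrep, Representation.char_linHom, show ΘK.character k = (s : ℂ) * Φ.character k from congrFun hφ k]
    have : (Representation.trivial ℂ K V).character k⁻¹ = Module.finrank ℂ V := by
      simp [Representation.character]
    rw [this, Pi.smul_apply, smul_eq_mul, Nat.cast_mul, mul_assoc]
  let F : X →ₗ[ℂ] Representation.IntertwiningMap Lrep ΨK :=
    { toFun := fun y => ⟨π ∘ₗ (LinearMap.applyₗ y) ∘ₗ ι.toLinearMap, fun k => by
        refine LinearMap.ext fun B => ?_
        show π (ι (Lrep k B) y) = ΨK k (π (ι B y))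
        rw [hLapp, map_mul, Module.End.mul_apply, show ι (ΘK k) = ρ (k : G) from hι' _ (hKM k.2)]
        exact hπH ⟨k, hKH k.2⟩ _⟩
      map_add' := fun y z => Representation.IntertwiningMap.toLinearMap_injective _ _ (LinearMap.ext fun B => by
        show π (ι B (y + z)) = π (ι B y) + π (ι B z)
        rw [map_add, map_add])
      map_smul' := fun a y => Representation.IntertwiningMap.toLinearMap_injective _ _ (LinearMap.ext fun B => by
        show π (ι B (a • y)) = a • π (ι B y)
        rw [map_smul, map_smul]) }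
  have hFapp : ∀ y B, (F y).toLinearMap B = π (ι B y) := fun y B => rfl
  have hFinj : Function.Injective F := (injective_iff_map_eq_zero F).2 fun y hy => hkill y fun B => by
    rw [← hFapp, hy]; rfl
  have hFsurj : Function.Surjective F := by
    refine (LinearMap.injective_iff_surjective_of_finrank_eq_finrank ?_).1 hFinj
    have h2 : classInner ΨK.character Lrep.character = ((f0 * (Module.finrank ℂ V * s) : ℕ) : ℂ) := by
      rw [show ΨK.character = (f0 : ℂ) • Φ.character from hψ, hLchar, classInner_smul_left, classInner_smul_right,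
        classInner_irr_self (isIrrCharacter_character Φ), Complex.conj_natCast, mul_one, ← Nat.cast_mul]
    rw [classInner_character] at h2
    have h3 : Module.finrank ℂ V = s * Module.finrank ℂ U := by
      have h4 := congrFun hφ 1
      rw [Representation.char_one, Pi.smul_apply, Representation.char_one, smul_eq_mul] at h4
      exact_mod_cast h4
    rw [hX, Nat.cast_inj.1 h2, h3]; ring
  -- the blocks
  let B0 : (R → ℂ) → Submodule ℂ X := fun l =>
    ⨅ (l' : R → ℂ) (_ : l' ≠ l) (B : A l'), LinearMap.ker (π ∘ₗ ι (B : Module.End ℂ V))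
  have hB0mem : ∀ l y, y ∈ B0 l ↔ ∀ l', l' ≠ l → ∀ B ∈ A l', π (ι B y) = 0 := fun l y => by
    simp only [B0, Submodule.mem_iInf, LinearMap.mem_ker, LinearMap.coe_comp, Function.comp_apply, Subtype.forall]
  have hB0ind : iSupIndep B0 := by
    intro l
    rw [Submodule.disjoint_def]
    intro y hy hy'
    refine hkill y fun B => ?_
    have hle : (⨆ (l' : R → ℂ) (_ : l' ≠ l), B0 l') ≤ ⨅ C : A l, LinearMap.ker (π ∘ₗ ι (C : Module.End ℂ V)) :=
      iSup₂_le fun l' hl' z hz => (Submodule.mem_iInf _).2 fun C =>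
        LinearMap.mem_ker.2 ((hB0mem l' z).1 hz l hl'.symm C C.2)
    have hB : B ∈ ⨆ l', A l' := by rw [hAtop]; exact Submodule.mem_top
    refine Submodule.iSup_induction A (motive := fun C => π (ι C y) = 0) hB (fun l' C hC => ?_) (by simp)
      (fun C D hC hD => by rw [map_add, LinearMap.add_apply, map_add, hC, hD, add_zero])
    by_cases hl : l' = l
    · subst hl
      exact (Submodule.mem_iInf _).1 (hle hy') ⟨C, hC⟩
    · exact (hB0mem l y).1 hy l' hl C hC
  have hB0ne : ∀ l, A l ≠ ⊥ → B0 l ≠ ⊥ := by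
    intro l hl
    set C0 := ⨆ (l' : R → ℂ) (_ : l' ≠ l), A l' with hC0
    have hcompl : IsCompl (A l) C0 := by
      refine ⟨hAind l, codisjoint_iff.2 (top_le_iff.1 ?_)⟩
      rw [← hAtop]
      refine iSup_le fun l' => ?_
      by_cases h : l' = l
      · subst h; exact le_sup_left
      · exact le_sup_of_le_right (le_iSup₂ (f := fun (l' : R → ℂ) (_ : l' ≠ l) => A l') l' h)
    let pA : Subrepresentation Lrep := ⟨A l, fun k B hB => by rw [hLapp]; exact hAleft l B hB k⟩
    let qA : Subrepresentation Lrep := ⟨C0, fun k B hB => by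
      have : C0 ≤ C0.comap (Lrep k) := iSup₂_le fun l' hl' D hD => by
        rw [Submodule.mem_comap, hLapp]
        exact le_iSup₂ (f := fun (l' : R → ℂ) (_ : l' ≠ l) => A l') l' hl' (hAleft l' D hD k)
      exact this hB⟩
    have hsum := character_eq_add_of_isCompl Lrep pA qA hcompl
    rw [hLchar] at hsum
    obtain ⟨n, hn⟩ := eq_smul_of_add_eq_smul (isCharacter_character pA.toRepresentation)
      (isCharacter_character qA.toRepresentation) (isIrrCharacter_character Φ) hsum.symm
    have hn0 : n ≠ 0 := by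
      intro h0
      have h1 := congrFun hn 1
      rw [Representation.char_one, h0, Nat.cast_zero, zero_smul, Pi.zero_apply, Nat.cast_eq_zero] at h1
      exact hl (Submodule.finrank_eq_zero.1 h1)
    obtain ⟨f, hf⟩ := exists_intertwiner_ne_zero pA.toRepresentation ΨK (by
      rw [show ΨK.character = (f0 : ℂ) • Φ.character from hψ, hn, classInner_smul_left, classInner_smul_right,
        classInner_irr_self (isIrrCharacter_character Φ), Complex.conj_natCast, mul_one]
      exact mul_ne_zero (Nat.cast_ne_zero.2 hf0) (Nat.cast_ne_zero.2 hn0))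
    let f' : Representation.IntertwiningMap Lrep ΨK :=
      ⟨f.toLinearMap ∘ₗ pA.toSubmodule.projectionOnto qA.toSubmodule hcompl, fun k => LinearMap.ext fun B => by
        show f.toLinearMap (pA.toSubmodule.projectionOnto qA.toSubmodule hcompl (Lrep k B)) = _
        rw [projectionOnto_equivariant, intertwiner_apply]
        rfl⟩
    obtain ⟨y, hy⟩ := hFsurj f'
    have hy' : ∀ B, π (ι B y) = f.toLinearMap (pA.toSubmodule.projectionOnto qA.toSubmodule hcompl B) := fun B => by
      rw [← hFapp, hy]; rfl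
    refine (Submodule.ne_bot_iff _).2 ⟨y, (hB0mem l y).2 fun l' hl' B hB => ?_, fun h0 => hf ?_⟩
    · rw [hy', (Submodule.projectionOnto_apply_eq_zero_iff hcompl).2, map_zero]
      exact le_iSup₂ (f := fun (l' : R → ℂ) (_ : l' ≠ l) => A l') l' hl' hB
    · refine LinearMap.ext fun B => ?_
      have h1 := hy' B
      rw [h0, map_zero, map_zero, Submodule.projectionOnto_apply_left hcompl B] at h1
      exact h1.symm
  have hB0M : ∀ l, ∀ m ∈ M, ∀ y ∈ B0 l, ρ m y ∈ B0 l := by
    intro l m hm y hy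
    rw [hB0mem] at hy ⊢
    intro l' hl' B hB
    rw [← hι' m hm, ← Module.End.mul_apply, ← map_mul]
    exact hy l' hl' _ (hAright l' B hB _)
  have hB0H : ∀ h (hh : h ∈ H) l, ∀ y ∈ B0 l, ρ h y ∈ B0 (act h hh l) := by
    intro h hh l y hy
    rw [hB0mem] at hy ⊢
    intro l' hl' B hB
    obtain ⟨c, hc⟩ := exists_scalar_of_intertwines Θ (intertwines_inv (hT h)) (hT h⁻¹)
    set B' := ((T h)⁻¹ : (Module.End ℂ V)ˣ).val * B * (T h : Module.End ℂ V) with hB'
    have hB'eq : (T h⁻¹ : Module.End ℂ V) * B * ((T h⁻¹)⁻¹ : (Module.End ℂ V)ˣ) = B' := by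
      rw [hc, mul_inv_rev, inv_inv, ← map_inv, ← scalarUnit_comm, coe_scalarUnit_mul, coe_scalarUnit_mul]
      simp only [smul_mul_assoc, mul_smul_comm, smul_smul, hB']
      simp
    have hB'mem : B' ∈ A (act h⁻¹ (inv_mem hh) l') := hB'eq ▸ hact h⁻¹ (inv_mem hh) l' B hB
    have hBB : (T h : Module.End ℂ V) * B' * ((T h)⁻¹ : (Module.End ℂ V)ˣ) = B := by
      rw [hB', ← mul_assoc, ← mul_assoc, Units.mul_inv, one_mul, mul_assoc, Units.mul_inv, mul_one]
    have hρ : ι B (ρ h y) = ρ h (ι B' y) := by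
      rw [← Module.End.mul_apply, ← Module.End.mul_apply, hρι, hBB]
    by_cases hl : act h⁻¹ (inv_mem hh) l' = l
    · have : B = 0 := by
        refine Submodule.disjoint_def.1 (hAind.pairwiseDisjoint hl') B hB ?_
        rw [← hBB]; exact hact h hh l B' (hl ▸ hB'mem)
      rw [this, map_zero, LinearMap.zero_apply, map_zero]
    · rw [hρ, hπH ⟨h, hh⟩, hy _ hl B' hB'mem, map_zero]
  have hperm : ∀ g : G, ∀ l, ∃ l', (B0 l).map (ρ g) ≤ B0 l' := by
    intro g l
    have hg : g ∈ (↑(M ⊔ H) : Set G) := by rw [hMH]; exact Subgroup.mem_top g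
    rw [Subgroup.normal_mul] at hg
    obtain ⟨m, hm, h, hh, rfl⟩ := Set.mem_mul.1 hg
    refine ⟨act h hh l, ?_⟩
    rintro _ ⟨y, hy, rfl⟩
    rw [map_mul, Module.End.mul_apply]
    exact hB0M _ m hm _ (hB0H h hh l y hy)
  -- two nonzero eigenspaces
  obtain ⟨l₀, hl₀⟩ : ∃ l, A l ≠ ⊥ := by
    by_contra hcon
    push Not at hcon
    rw [iSup_congr hcon, iSup_bot] at hAtop
    exact bot_ne_top hAtop
  obtain ⟨l₁, hl₁, hne⟩ : ∃ l, A l ≠ ⊥ ∧ l ≠ l₀ := by
    by_contra hcon
    push Not at hcon
    have htop : A l₀ = ⊤ := top_le_iff.1 (hAtop ▸ iSup_le fun l => by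
      by_cases h : l = l₀
      · rw [h]
      · rw [show A l = ⊥ from by_contra fun hb => h (hcon l hb)]; exact bot_le)
    obtain ⟨x0, hx0, hx0ne⟩ := hnR
    have h1 := (hAmem l₀ 1).1 (htop ▸ Submodule.mem_top) ⟨x0, hx0⟩
    rw [mul_one] at h1
    have h0 : l₀ ⟨x0, hx0⟩ ≠ 0 := fun h => (w x0).ne_zero (by rw [h1, h, zero_smul])
    exact hx0ne ((hwbar x0).2 ⟨Units.mk0 _ h0, Units.ext (by rw [coe_scalarUnit, Units.val_mk0]; exact h1)⟩)
  have htop' : B0 l₀ ≠ ⊤ := fun h => hB0ne l₁ hl₁ (eq_bot_iff.2 fun y hy => (Submodule.mem_bot ℂ).2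
    (Submodule.disjoint_def.1 (hB0ind.pairwiseDisjoint hne.symm) y (h ▸ Submodule.mem_top) hy))
  obtain ⟨Tg, hTtop, hTmem, ψ', hψ'c, hind⟩ := exists_indFun_eq_of_block ρ B0 hB0ind l₀ (hB0ne l₀ hl₀) hperm htop'
  refine ⟨Tg, hTtop, fun m hm => (hTmem m).2 ?_, ψ', hψ'c, hind⟩
  rintro _ ⟨y, hy, rfl⟩
  exact hB0M _ m hm y hy

end CfsgLib.CharTheory.BergerBlock
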