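/-
A quasiprimitive character of a solvable group is primitive.
-/
import Mathlib
import Cfsg.Agent.Lib.CharTheory.InducedQuasiPrim
import Cfsg.Agent.Lib.CharTheory.BergerBlock

set_option autoImplicit false

namespace CfsgLib.CharTheory.BergerPrimitive

open Cfsg CfsgLib.CharTheory CfsgLib.CharTheory.InducedQuasiPrim CfsgLib.CharTheory.Homogeneous
open scoped ComplexConjugate

universe u

variable {G : Type u} [Group G] [Fintype G]

set_option maxHeartbeats 2000000 in
/-- An inducing maximal subgroup can be replaced by a subgroup above a chief step of its core. -/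
theorem exists_above [Group.IsSolvable G] {χ : G → ℂ} (hχ : IsIrrCharacter G χ)
    (hqp : ∀ (N : Subgroup G), N.Normal →
      ∃ (ϑ : N → ℂ) (e : ℕ), IsIrrCharacter N ϑ ∧ (fun n : N => χ n) = (e : ℂ) • ϑ)
    (H : Subgroup G) (hmax : IsCoatom H) {ψ : H → ℂ} (hψ : IsCharacter H ψ) (hind : indFun H ψ = χ) :
    ∃ M T : Subgroup G, M.Normal ∧ H.normalCore < M ∧ M ≤ T ∧ T ≠ ⊤ ∧
      ∃ ψ' : T → ℂ, IsCharacter T ψ' ∧ indFun T ψ' = χ := by
  classical
  haveI : Fintype (G ⧸ H) := Fintype.ofFinite _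
  haveI : Fintype H := Fintype.ofFinite H
  have hψc := isClassFunction_char hψ
  have hχc := isClassFunction_irr hχ
  have hχ1 : χ 1 ≠ 0 := irr_ne_zero hχ
  set K := H.normalCore with hK
  haveI : K.Normal := Subgroup.normalCore_normal H
  haveI : Fintype K := Fintype.ofFinite K
  have hKH : K ≤ H := Subgroup.normalCore_le H
  -- the core
  obtain ⟨φ, e0, hφ, he0⟩ := hqp K inferInstance
  have he0' : ∀ k : K, χ k = (e0 : ℂ) * φ k := fun k => congrFun he0 k
  have he0ne : (e0 : ℂ) ≠ 0 := fun h => hχ1 (by simpa [h] using he0' 1)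
  have hinv : ∀ (x : G) (k : K), φ ⟨x * k * x⁻¹, Subgroup.Normal.conj_mem inferInstance _ k.2 x⟩ = φ k := fun x k =>
    mul_left_cancel₀ he0ne (by rw [← he0', ← he0']; exact hχc _ _)
  let ψK : K → ℂ := fun k => ψ ⟨k, hKH k.2⟩
  have hψK : IsCharacter K ψK := isCharacter_comp hψ (Subgroup.inclusion hKH)
  let cj : G ⧸ H → K → ℂ := fun q k => ψK ⟨q.out⁻¹ * k * q.out,
    by simpa using Subgroup.Normal.conj_mem inferInstance _ k.2 q.out⁻¹⟩
  have hcj : ∀ q, IsCharacter K (cj q) := fun q => isCharacter_comp hψK (MonoidHom.mk'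
    (fun k : K => (⟨q.out⁻¹ * k * q.out, by simpa using Subgroup.Normal.conj_mem inferInstance _ k.2 q.out⁻¹⟩ : K))
    fun a b => Subtype.ext (by simp [mul_assoc]))
  have hsum : (fun k : K => χ k) = ∑ q : G ⧸ H, cj q := by
    funext k
    rw [← hind, indFun_eq_sum_cosets H hψc, Finset.sum_apply]
    refine Finset.sum_congr rfl fun q _ => ?_
    have hm : q.out⁻¹ * (k : G) * q.out ∈ K := by simpa using Subgroup.Normal.conj_mem inferInstance _ k.2 q.out⁻¹
    rw [extendByZero_of_mem _ _ (hKH hm)]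
  set q1 : G ⧸ H := QuotientGroup.mk 1
  have hq1 : cj q1 = ψK := by
    have hh : q1.out ∈ H := by
      have := QuotientGroup.eq.1 (Quotient.out_eq q1 : (QuotientGroup.mk q1.out : G ⧸ H) = QuotientGroup.mk 1)
      rw [mul_one] at this
      simpa using inv_mem this
    funext k
    show ψ _ = ψ ⟨k, hKH k.2⟩
    rw [← hψc ⟨k, hKH k.2⟩ ⟨q1.out, hh⟩⁻¹]
    exact congrArg ψ (Subtype.ext (by simp [mul_assoc]))
  obtain ⟨f0, hf0⟩ := eq_smul_of_add_eq_smul hψK
    (isCharacter_sum (Finset.univ.erase q1) cj fun q _ => hcj q) hφ (c := (e0 : ℂ))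
    (by rw [← he0, hsum, ← Finset.add_sum_erase _ _ (Finset.mem_univ q1), hq1])
  have hψK' : ∀ k : K, ψ ⟨k, hKH k.2⟩ = (f0 : ℂ) * φ k := fun k => congrFun hf0 k
  have hχK : ∀ k : K, χ k = (H.index : ℂ) * ((f0 : ℂ) * φ k) := by
    intro k
    rw [← hind, indFun_eq_sum_cosets H hψc, Finset.sum_congr rfl (g := fun _ => (f0 : ℂ) * φ k) fun q _ => ?_,
      Finset.sum_const, Finset.card_univ, nsmul_eq_mul, Subgroup.index_eq_card, Nat.card_eq_fintype_card]
    have hm : q.out⁻¹ * (k : G) * q.out ∈ K := by simpa using Subgroup.Normal.conj_mem inferInstance _ k.2 q.out⁻¹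
    rw [extendByZero_of_mem _ _ (hKH hm), hψK' ⟨_, hm⟩, ← hinv q.out⁻¹ k]
    congr 1
    exact congrArg φ (Subtype.ext (by simp))
  have hf0ne : f0 ≠ 0 := fun h => hχ1 (by simpa [h] using hχK 1)
  have hφnorm : ∑ k : K, Complex.normSq (φ k) = Nat.card K := by
    have h1 := classInner_irr_self hφ
    simp only [classInner, Complex.mul_conj] at h1
    rw [inv_mul_eq_one₀ (Nat.cast_ne_zero.2 Nat.card_pos.ne')] at h1
    exact_mod_cast h1.symm
  -- the first step
  have hsolK : Group.IsSolvable (G ⧸ K) := inferInstance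
  have hKtop : K ≠ ⊤ := fun h => hmax.1 (top_le_iff.1 (h ▸ hKH))
  obtain ⟨M, hMn, hKM, hMne, hMab, ⟨r, hr, hMr⟩, hMmin⟩ := exists_step K hsolK hKtop
  haveI := hMn
  haveI : Fintype M := Fintype.ofFinite M
  have hMH : ¬ M ≤ H := fun h => hMne (le_antisymm (Subgroup.normal_le_normalCore.2 h) hKM)
  have hMHtop : M ⊔ H = ⊤ := hmax.2 _ (lt_of_le_of_ne le_sup_right fun h => hMH (h ▸ le_sup_left))
  have hMHK : M ⊓ H = K := by
    refine le_antisymm ?_ (le_inf hKM hKH)
    rw [hK, Subgroup.normal_le_normalCore (H := H) (N := M ⊓ H) (hN := ?_)]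
    · exact inf_le_right
    constructor
    intro x hx g
    obtain ⟨hxM, hxH⟩ := Subgroup.mem_inf.1 hx
    have hg : g ∈ (↑(M ⊔ H) : Set G) := by rw [hMHtop]; exact Subgroup.mem_top g
    rw [Subgroup.normal_mul] at hg
    obtain ⟨m, hm, h, hh, rfl⟩ := Set.mem_mul.1 hg
    have h1 : h * x * h⁻¹ ∈ M := hMn.conj_mem x hxM h
    have h2 : h * x * h⁻¹ ∈ H := mul_mem (mul_mem hh hxH) (inv_mem hh)
    have h3 := hMab m hm _ h1
    have e : m * h * x * (m * h)⁻¹ = (m * (h * x * h⁻¹) * m⁻¹ * (h * x * h⁻¹)⁻¹) * (h * x * h⁻¹) := by group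
    rw [e]
    exact mul_mem (Subgroup.mem_inf.2 ⟨hKM h3, hKH h3⟩) (Subgroup.mem_inf.2 ⟨h1, h2⟩)
  set v := K.relIndex M with hv
  obtain ⟨a, ha⟩ := relIndex_prime_pow hr hMr
  have hva : v = r ^ a := hv.trans ha
  have hMcard : Nat.card M = Nat.card K * v := (CfsgLib.Products.card_mul_relIndex_of_le hKM).symm
  have hidx : H.index = v := by
    have e1 : Nat.card M * M.relIndex H = Nat.card G := by
      rw [← Subgroup.relIndex_sup_left (K := M) (H := H), hMHtop, Subgroup.relIndex_top_right, Subgroup.card_mul_index]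
    have e2 : Nat.card K * M.relIndex H = Nat.card H := by rw [← hMHK]; exact CfsgLib.Products.card_inf_mul_relIndex M H
    have e3 := H.card_mul_index
    rw [← e2, ← e1, hMcard] at e3
    refine Nat.eq_of_mul_eq_mul_left (Nat.mul_pos (Nat.card_pos (α := K)) (Nat.pos_of_ne_zero fun h0 => ?_ : 0 < M.relIndex H)) (by rw [e3]; ring)
    rw [h0, mul_zero] at e2
    exact Nat.card_pos.ne' e2.symm
  obtain ⟨θ, e, hθ, he⟩ := hqp M hMn
  have he' : ∀ m : M, χ m = (e : ℂ) * θ m := fun m => congrFun he m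
  have hχoff : ∀ m ∈ M, m ∉ K → χ m = 0 := by
    intro m hm hmK
    rw [← hind, indFun_eq_sum_cosets H hψc]
    refine Finset.sum_eq_zero fun q _ => extendByZero_of_not_mem _ _ fun h => hmK ?_
    have h1 : q.out⁻¹ * m * q.out ∈ K := hMHK ▸ Subgroup.mem_inf.2 ⟨by simpa using hMn.conj_mem m hm q.out⁻¹, h⟩
    simpa [mul_assoc] using Subgroup.Normal.conj_mem (inferInstance : K.Normal) _ h1 q.out
  have hMsum : ∑ m : M, Complex.normSq (χ m) = (v : ℝ) * v * (f0 * f0) * Nat.card K := by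
    rw [← Finset.sum_subset (Finset.subset_univ (Finset.univ.filter fun m : M => (m : G) ∈ K)) fun m _ hm => ?_]
    · rw [← hφnorm, Finset.mul_sum]
      refine Finset.sum_bij (fun m hm => ⟨m, (Finset.mem_filter.1 hm).2⟩) (fun _ _ => Finset.mem_univ _)
        (fun a _ b _ h => Subtype.ext (congrArg (fun k : K => (k : G)) h))
        (fun k _ => ⟨⟨k, hKM k.2⟩, Finset.mem_filter.2 ⟨Finset.mem_univ _, k.2⟩, rfl⟩) fun m hm => ?_
      have := hχK ⟨m, (Finset.mem_filter.1 hm).2⟩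
      simp only at this
      rw [this, map_mul, map_mul, hidx, Complex.normSq_natCast, Complex.normSq_natCast]
      ring
    · rw [hχoff m m.2 fun h => hm (Finset.mem_filter.2 ⟨Finset.mem_univ _, h⟩), map_zero]
  have he2 : e * e = v * (f0 * f0) := by
    have hnorm : ∑ m : M, Complex.normSq (θ m) = Nat.card M := by
      have h1 := classInner_irr_self hθ
      simp only [classInner, Complex.mul_conj] at h1
      rw [inv_mul_eq_one₀ (Nat.cast_ne_zero.2 Nat.card_pos.ne')] at h1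
      exact_mod_cast h1.symm
    have h1 : ∑ m : M, Complex.normSq (χ m) = (e : ℝ) * e * Nat.card M := by
      rw [← hnorm, Finset.mul_sum]
      refine Finset.sum_congr rfl fun m _ => ?_
      rw [he', map_mul, Complex.normSq_natCast]
    rw [hMsum, hMcard] at h1
    have h2 : v * v * (f0 * f0) * Nat.card K = e * e * (Nat.card K * v) := by exact_mod_cast h1
    have h3 : v * (f0 * f0) * (Nat.card K * v) = (e * e) * (Nat.card K * v) := by rw [← h2]; ring
    exact (Nat.eq_of_mul_eq_mul_right (hMcard ▸ Nat.card_pos) h3).symm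
  have hv1 : 1 < v := by
    rcases Nat.lt_or_ge 1 v with h | h
    · exact h
    · exfalso
      have : Nat.card M ≤ Nat.card K := by rw [hMcard]; exact Nat.le_trans (Nat.mul_le_mul_left _ h) (mul_one _).le
      exact hMne (Subgroup.eq_of_le_of_card_ge hKM this).symm
  have he0M : e ≠ 0 := fun h => hχ1 (by simpa [h] using he' 1)
  -- the restriction of `θ`
  let θK : K → ℂ := fun k => θ ⟨k, hKM k.2⟩
  have hθK : IsCharacter K θK := isCharacter_comp (isCharacter_of_irr hθ) (Subgroup.inclusion hKM)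
  obtain ⟨s, hs⟩ := eq_smul_of_add_eq_smul hθK (isCharacter_zero) hφ (c := ((v * f0 : ℕ) : ℂ) / e) (by
    funext k
    rw [Pi.add_apply, Pi.zero_apply, add_zero, Pi.smul_apply, smul_eq_mul, div_mul_eq_mul_div,
      eq_div_iff (Nat.cast_ne_zero.2 he0M), mul_comm, Nat.cast_mul, mul_assoc, ← hidx, ← hχK]
    exact (he' ⟨k, hKM k.2⟩).symm)
  have hs2 : s * s = v := by
    have h1 := hχK 1
    rw [hidx, he' (⟨((1 : K) : G), hKM (1 : K).2⟩ : M)] at h1
    have h0 : θ ⟨((1 : K) : G), hKM (1 : K).2⟩ = (s : ℂ) * φ 1 := congrFun hs 1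
    rw [h0, ← mul_assoc, ← mul_assoc] at h1
    have h2 : e * s = v * f0 := by exact_mod_cast mul_right_cancel₀ (irr_ne_zero hφ) h1
    have h3 : v * (f0 * f0) * (s * s) = v * (f0 * f0) * v := by
      rw [← he2]
      calc e * e * (s * s) = (e * s) * (e * s) := by ring
        _ = _ := by rw [h2, he2]; ring
    exact Nat.eq_of_mul_eq_mul_left (Nat.mul_pos (by omega) (Nat.mul_pos (by omega) (by omega))) h3
  have hs1 : 1 < s := by
    by_contra h
    have h2 : s * s ≤ 1 * 1 := Nat.mul_le_mul (by omega) (by omega)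
    omega
  have hKneH : K ≠ H := by
    intro hKeq
    have hMtop : M = ⊤ := top_le_iff.1 (hMHtop ▸ sup_le le_rfl (hKeq ▸ hKM))
    have h1 : ∑ g : G, Complex.normSq (χ g) = Nat.card G := by
      have hn := classInner_irr_self hχ
      simp only [classInner, Complex.mul_conj] at hn
      rw [inv_mul_eq_one₀ (Nat.cast_ne_zero.2 Nat.card_pos.ne')] at hn
      exact_mod_cast hn.symm
    have h2 : ∑ m : M, Complex.normSq (χ m) = ∑ g : G, Complex.normSq (χ g) :=
      Fintype.sum_equiv (Equiv.subtypeUnivEquiv fun g => hMtop ▸ Subgroup.mem_top g) _ _ fun m => rfl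
    have h3 : Nat.card M = Nat.card G := by rw [hMtop, Subgroup.card_top]
    rw [hMsum, h1, ← h3, hMcard] at h2
    have h4 : v * v * (f0 * f0) * Nat.card K = Nat.card K * v := by exact_mod_cast h2
    have h5 : v * (f0 * f0) * (Nat.card K * v) = 1 * (Nat.card K * v) := by rw [one_mul]; linarith
    have h6 := (mul_eq_one.1 (Nat.eq_of_mul_eq_mul_right (hMcard ▸ Nat.card_pos) h5)).1
    omega
  set K' := K.subgroupOf H with hK'
  haveI : K'.Normal := Subgroup.normal_subgroupOf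
  have hsolH : Group.IsSolvable (H ⧸ K') := by
    haveI := hsolK
    refine Group.isSolvable_of_isSolvable_injective (f := QuotientGroup.map K' K H.subtype fun x hx => hx) ?_
    intro x y
    induction x using QuotientGroup.induction_on with
    | _ x =>
      induction y using QuotientGroup.induction_on with
      | _ y =>
        intro h
        exact QuotientGroup.eq.2 (Subgroup.mem_subgroupOf.2 ((QuotientGroup.eq (s := K)).1 h))
  obtain ⟨R', hR'n, hKR', hR'ne, hR'ab, ⟨q, hq, hR'q⟩, -⟩ := exists_step K' hsolH (fun h => hKneH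
    (le_antisymm hKH (Subgroup.subgroupOf_eq_top.1 h)))
  haveI := hR'n
  set R := R'.map H.subtype with hR
  have hRH : R ≤ H := Subgroup.map_subtype_le R'
  have hKR : K ≤ R := fun k hk => ⟨⟨k, hKH hk⟩, hKR' (Subgroup.mem_subgroupOf.2 hk), rfl⟩
  have hRne : R ≠ K := fun h => hR'ne (le_antisymm (fun x hx => Subgroup.mem_subgroupOf.2
    (h ▸ (⟨x, hx, rfl⟩ : (x : G) ∈ R))) hKR')
  have hRq : ∀ x ∈ R, x ^ q ∈ K := by
    rintro _ ⟨y, hy, rfl⟩
    exact Subgroup.mem_subgroupOf.1 (hR'q y hy)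
  have hHR : ∀ h ∈ H, ∀ x ∈ R, h * x * h⁻¹ ∈ R := by
    rintro h hh _ ⟨y, hy, rfl⟩
    exact ⟨⟨h, hh⟩ * y * ⟨h, hh⟩⁻¹, hR'n.conj_mem y hy _, rfl⟩
  have hRnot : ¬ R.Normal := fun hn => hRne (le_antisymm
    (Subgroup.normal_le_normalCore (hN := hn) |>.2 hRH) hKR)
  haveI := Fact.mk hr
  haveI := Fact.mk hq
  -- the two primes differ
  have hrq : r ≠ q := by
    rintro rfl
    apply hRnot
    set f := QuotientGroup.mk' K with hf
    have hsurj : Function.Surjective f := QuotientGroup.mk'_surjective K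
    set W := M.map f with hW
    set Q := R.map f with hQ
    haveI hWn : W.Normal := hMn.map f hsurj
    have hWp : IsPGroup r W := by
      rintro ⟨_, m, hm, rfl⟩
      exact ⟨1, Subtype.ext (by
        rw [pow_one]; push_cast; rw [← map_pow]; exact (QuotientGroup.eq_one_iff _).2 (hMr m hm))⟩
    have hQp : IsPGroup r Q := by
      rintro ⟨_, m, hm, rfl⟩
      exact ⟨1, Subtype.ext (by
        rw [pow_one]; push_cast; rw [← map_pow]; exact (QuotientGroup.eq_one_iff _).2 (hRq m hm))⟩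
    set N0 := W ⊔ Q with hN0
    have hN0p : IsPGroup r N0 := IsPGroup.to_sup_of_normal_left hWp hQp
    haveI : Group.IsNilpotent N0 := hN0p.isNilpotent
    haveI : (W.subgroupOf N0).Normal := Subgroup.normal_subgroupOf
    have hW0 : W.subgroupOf N0 ≠ ⊥ := fun h => by
      obtain ⟨m, hm, hmK⟩ := SetLike.exists_of_lt (lt_of_le_of_ne hKM (Ne.symm hMne))
      have hmem : (⟨f m, le_sup_left (a := W) ⟨m, hm, rfl⟩⟩ : N0) ∈ W.subgroupOf N0 :=
        Subgroup.mem_subgroupOf.2 ⟨m, hm, rfl⟩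
      rw [h, Subgroup.mem_bot] at hmem
      exact hmK ((QuotientGroup.eq_one_iff m).1 (congrArg Subtype.val hmem))
    obtain ⟨⟨z, hz⟩, hz1⟩ := Subgroup.ne_bot_iff_exists_ne_one.1 (CfsgLib.inf_center_ne_bot_of_nilpotent (G := N0) hW0)
    obtain ⟨hzW, hzc⟩ := Subgroup.mem_inf.1 hz
    -- the centralised part of `M`
    let Cm : Subgroup G := M ⊓ (Subgroup.centralizer (Q : Set (G ⧸ K))).comap f
    haveI hCn : Cm.Normal := by
      constructor
      intro x hx g
      obtain ⟨hxM, hxQ⟩ := Subgroup.mem_inf.1 hx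
      refine Subgroup.mem_inf.2 ⟨hMn.conj_mem x hxM g, ?_⟩
      have hg : g ∈ (↑(M ⊔ H) : Set G) := by rw [hMHtop]; exact Subgroup.mem_top g
      rw [Subgroup.normal_mul] at hg
      obtain ⟨m, hm, h, hh, rfl⟩ := Set.mem_mul.1 hg
      have hhx : f (h * x * h⁻¹) ∈ Subgroup.centralizer (Q : Set (G ⧸ K)) := by
        rw [Subgroup.mem_centralizer_iff]
        rintro _ ⟨y, hy, rfl⟩
        have h2 := Subgroup.mem_centralizer_iff.1 (Subgroup.mem_comap.1 hxQ) (f (h⁻¹ * y * h))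
          ⟨_, by simpa using hHR h⁻¹ (inv_mem hh) y hy, rfl⟩
        simp only [← map_mul] at h2 ⊢
        have h3 := congrArg (fun t => f h * t * (f h)⁻¹) h2
        simp only [← map_mul, ← map_inv] at h3
        simpa [mul_assoc] using h3
      rw [Subgroup.mem_comap]
      have e : f (m * h * x * (m * h)⁻¹) = f (h * x * h⁻¹) := by
        have h3 : f (m * (h * x * h⁻¹) * m⁻¹ * (h * x * h⁻¹)⁻¹) = 1 :=
          (QuotientGroup.eq_one_iff _).2 (hMab m hm _ (hMn.conj_mem x hxM h))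
        calc f (m * h * x * (m * h)⁻¹)
            = f (m * (h * x * h⁻¹) * m⁻¹ * (h * x * h⁻¹)⁻¹) * f (h * x * h⁻¹) := by
              rw [← map_mul]; congr 1; group
          _ = f (h * x * h⁻¹) := by rw [h3, one_mul]
      rw [e]; exact hhx
    have hCm : Cm = M := by
      refine (hMmin Cm hCn (fun k hk => Subgroup.mem_inf.2 ⟨hKM hk, ?_⟩) inf_le_left).resolve_left ?_
      · rw [Subgroup.mem_comap, show f k = 1 from (QuotientGroup.eq_one_iff k).2 hk]; exact one_mem _
      intro hCK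
      obtain ⟨m, hm, hmz⟩ := (Subgroup.mem_subgroupOf.1 hzW : (z : G ⧸ K) ∈ W)
      have hmC : m ∈ Cm := by
        refine Subgroup.mem_inf.2 ⟨hm, Subgroup.mem_comap.2 ?_⟩
        rw [hmz, Subgroup.mem_centralizer_iff]
        intro y hy
        exact congrArg Subtype.val (Subgroup.mem_center_iff.1 hzc ⟨y, le_sup_right (b := Q) hy⟩)
      rw [hCK] at hmC
      exact hz1 (Subtype.ext (Subtype.ext (hmz.symm.trans ((QuotientGroup.eq_one_iff m).2 hmC))))
    constructor
    intro x hx g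
    have hg : g ∈ (↑(M ⊔ H) : Set G) := by rw [hMHtop]; exact Subgroup.mem_top g
    rw [Subgroup.normal_mul] at hg
    obtain ⟨m, hm, h, hh, rfl⟩ := Set.mem_mul.1 hg
    have hy : h * x * h⁻¹ ∈ R := hHR h hh x hx
    set y := h * x * h⁻¹ with hydef
    have hc := Subgroup.mem_centralizer_iff.1 (Subgroup.mem_comap.1 (Subgroup.mem_inf.1 (hCm.symm ▸ hm : m ∈ Cm)).2)
      (f y) ⟨y, hy, rfl⟩
    have hk : y⁻¹ * (m * y * m⁻¹) ∈ K := by
      refine (QuotientGroup.eq_one_iff _).1 ?_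
      show f (y⁻¹ * (m * y * m⁻¹)) = 1
      rw [map_mul, map_mul, map_mul, ← hc, map_inv, map_inv]; group
    have e : m * h * x * (m * h)⁻¹ = y * (y⁻¹ * (m * y * m⁻¹)) := by rw [hydef]; group
    rw [e]; exact mul_mem hy (hKR hk)
  have hRab : ∀ a ∈ R, ∀ b ∈ R, a * b * a⁻¹ * b⁻¹ ∈ K := by
    rintro _ ⟨a, ha, rfl⟩ _ ⟨b, hb, rfl⟩
    exact Subgroup.mem_subgroupOf.1 (hR'ab a ha b hb)
  -- the representations
  obtain ⟨n, ρ, hρirr, rfl⟩ := hχ
  obtain ⟨n₁, Θ, hΘirr, rfl⟩ := hθ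
  obtain ⟨n₂, Φ, hΦirr, rfl⟩ := hφ
  obtain ⟨n₃, Ψ, rfl⟩ := hψ
  haveI := hρirr
  haveI := hΘirr
  haveI := hΦirr
  have hπ : ∃ π : (Fin n → ℂ) →ₗ[ℂ] (Fin n₃ → ℂ), π ≠ 0 ∧ ∀ (h : H) (y : Fin n → ℂ), π (ρ h y) = Ψ h (π y) := by
    have h1 : classInner Ψ.character (Representation.character (ρ.comp H.subtype)) ≠ 0 := by
      have h2 := frobenius_reciprocity H Ψ.character hχc
      rw [hind, classInner_irr_self (isIrrCharacter_character ρ)] at h2
      exact fun h0 => one_ne_zero (h2.trans h0)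
    obtain ⟨f, hf⟩ := exists_intertwiner_ne_zero (ρ.comp H.subtype) Ψ h1
    exact ⟨f.toLinearMap, hf, fun h y => intertwiner_apply f h y⟩
  have hX : Module.finrank ℂ (Fin n → ℂ) = s * s * f0 * Module.finrank ℂ (Fin n₂ → ℂ) := by
    have h1 := hχK 1
    rw [OneMemClass.coe_one, Representation.char_one, Representation.char_one, hidx, ← mul_assoc] at h1
    rw [hs2]
    exact_mod_cast h1
  have hcop : Nat.Coprime q (s * s) := by
    rw [hs2, hva]
    exact Nat.Coprime.pow_right a ((Nat.coprime_primes hq hr).2 (Ne.symm hrq))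
  obtain ⟨T, hT, hMT, ψ', hψ', hindT⟩ := BergerBlock.exists_induced_from_above H K M R hKM hKH hKR hRH hMne hMmin
    hMHtop hHR hRnot hRab hq.pos.ne' hRq hs1 hcop ρ Θ Φ Ψ (e := (e : ℂ)) (Nat.cast_ne_zero.2 he0M) he hs hf0 hf0ne hX hπ
  exact ⟨M, T, hMn, lt_of_le_of_ne hKM (Ne.symm hMne), hMT, hT, ψ', hψ', hindT⟩

/-- A quasiprimitive character of a solvable group is not induced from a proper subgroup. -/
theorem not_induced [Group.IsSolvable G] {χ : G → ℂ} (hχ : IsIrrCharacter G χ)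
    (hqp : ∀ (N : Subgroup G), N.Normal →
      ∃ (ϑ : N → ℂ) (e : ℕ), IsIrrCharacter N ϑ ∧ (fun n : N => χ n) = (e : ℂ) • ϑ)
    (K : Subgroup G) (hK : K ≠ ⊤) (ψ : K → ℂ) (hψ : IsCharacter K ψ) : indFun K ψ ≠ χ := by
  classical
  intro hind
  let S : Set (Subgroup G) := {H | IsCoatom H ∧ ∃ ψ : H → ℂ, IsCharacter H ψ ∧ indFun H ψ = χ}
  have hlift : ∀ (T : Subgroup G) (ψ : T → ℂ), IsCharacter T ψ → indFun T ψ = χ → T ≠ ⊤ →
      ∃ H ∈ S, T ≤ H := by
    intro T ψ hψ hind hT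
    obtain ⟨H, hH, hTH⟩ := (eq_top_or_exists_le_coatom T).resolve_left hT
    haveI : Fintype H := Fintype.ofFinite H
    haveI : Fintype (T.subgroupOf H) := Fintype.ofFinite _
    refine ⟨H, ⟨hH, _, isCharacter_indFun (T.subgroupOf H) ?_, (indFun_trans T H hTH ψ).trans hind⟩, hTH⟩
    exact isCharacter_comp hψ (Subgroup.subgroupOfEquivOfLe hTH).toMonoidHom
  obtain ⟨H₁, hH₁, -⟩ := hlift K ψ hψ hind hK
  obtain ⟨H, hHS, hmax⟩ := Set.Finite.exists_maximalFor (fun H : Subgroup G => Nat.card H.normalCore) S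
    (Set.toFinite S) ⟨H₁, hH₁⟩
  obtain ⟨hHmax, ψH, hψH, hindH⟩ := hHS
  obtain ⟨M, T, hMn, hlt, hMT, hT, ψ', hψ', hindT⟩ := exists_above hχ hqp H hHmax hψH hindH
  obtain ⟨H', hH', hTH'⟩ := hlift T ψ' hψ' hindT hT
  haveI := hMn
  have h1 : M ≤ H'.normalCore := Subgroup.normal_le_normalCore.2 (hMT.trans hTH')
  have h2 : Nat.card H.normalCore < Nat.card M := by
    rcases Nat.lt_or_ge (Nat.card H.normalCore) (Nat.card M) with h | h
    · exact h
    · exact absurd (Subgroup.eq_of_le_of_card_ge hlt.le h) hlt.ne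
  have h3 : Nat.card M ≤ Nat.card H'.normalCore := Subgroup.card_le_of_le h1
  have h4 := hmax hH' (by omega : Nat.card H.normalCore ≤ Nat.card H'.normalCore)
  simp only at h4
  omega

end CfsgLib.CharTheory.BergerPrimitive
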