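import Cfsg.Agent.Lib.CharTheory.Schur

/-!
The symmetry of an invariant bilinear form of an irreducible representation is its indicator.
-/

namespace CfsgLib.CharTheory

open Cfsg Matrix
open scoped ComplexConjugate

universe u v

variable {G : Type u} [Group G] [Fintype G]
variable {V : Type v} [AddCommGroup V] [Module ℂ V] [FiniteDimensional ℂ V]

/-- An invariant bilinear form and its symmetry. -/
theorem invariant_form_symmetry (ρ : Representation ℂ G V) [ρ.IsIrreducible] {n : ℕ}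
    (b : Module.Basis (Fin n) ℂ V) (hn : n = Module.finrank ℂ V)
    (hne : ∑ s : G, ρ.character s * ρ.character s ≠ 0) :
    ∃ (B : (Matrix (Fin n) (Fin n) ℂ)ˣ) (ε : ℂ), (ε = 1 ∨ ε = -1) ∧
      (∀ g, LinearMap.toMatrix b b (ρ g) * B.1 * (LinearMap.toMatrix b b (ρ g))ᵀ = B.1) ∧
      B.1ᵀ = ε • B.1 ∧ ∑ s : G, ρ.character (s * s) = ε * (Nat.card G : ℂ) := by
  classical
  let r : G → Matrix (Fin n) (Fin n) ℂ := fun g => LinearMap.toMatrix b b (ρ g)
  have hr : ∀ g h, r (g * h) = r g * r h := fun g h => by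
    simp only [r, map_mul]
    exact LinearMap.toMatrix_mul b (ρ g) (ρ h)
  have hr1 : r 1 = 1 := by simp only [r, map_one]; exact LinearMap.toMatrix_one b
  have hchar : ∀ g, ρ.character g = (r g).trace := fun g => LinearMap.trace_eq_matrix_trace ℂ b _
  let Inv : Set (Matrix (Fin n) (Fin n) ℂ) := {X | ∀ g, r g * X * (r g)ᵀ = X}
  let Av : Matrix (Fin n) (Fin n) ℂ → Matrix (Fin n) (Fin n) ℂ :=
    fun X => ∑ g : G, r g * X * (r g)ᵀ
  have hAv : ∀ X, Av X ∈ Inv := by
    intro X h
    simp only [Av, Finset.mul_sum, Finset.sum_mul]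
    refine Fintype.sum_equiv (Equiv.mulLeft h) _ _ fun g => ?_
    show _ = r (h * g) * X * (r (h * g))ᵀ
    rw [hr, Matrix.transpose_mul]
    simp only [Matrix.mul_assoc]
  have hAvsq : ∑ s : G, ρ.character s * ρ.character s =
      ∑ i, ∑ j, Av (Matrix.single i j 1) i j := by
    simp only [hchar, Matrix.trace, Matrix.diag_apply, Finset.sum_mul, Finset.mul_sum, Av,
      Matrix.sum_apply]
    rw [Finset.sum_comm]
    refine Finset.sum_congr rfl fun i _ => ?_
    rw [Finset.sum_comm]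
    refine Finset.sum_congr rfl fun j _ => Finset.sum_congr rfl fun g _ => ?_
    simp [Matrix.mul_apply, Matrix.single, Matrix.transpose_apply, ite_and, mul_comm]
  have hAvss : ∑ s : G, ρ.character (s * s) = ∑ i, ∑ j, Av (Matrix.single j i 1) i j := by
    simp only [hchar, hr, Matrix.trace, Matrix.diag_apply, Matrix.mul_apply (N := r _), Av,
      Matrix.sum_apply]
    rw [Finset.sum_comm]
    refine Finset.sum_congr rfl fun i _ => ?_
    rw [Finset.sum_comm]
    refine Finset.sum_congr rfl fun j _ => Finset.sum_congr rfl fun g _ => ?_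
    simp [Matrix.mul_apply, Matrix.single, Matrix.transpose_apply, ite_and, mul_comm]
  by_cases hzero : ∀ X ∈ Inv, X = (0 : Matrix (Fin n) (Fin n) ℂ)
  · exfalso
    apply hne
    rw [hAvsq]
    exact Finset.sum_eq_zero fun i _ => Finset.sum_eq_zero fun j _ => by
      rw [hzero _ (hAv _)]; rfl
  push Not at hzero
  obtain ⟨B, hB, hB0⟩ := hzero
  have hinvr : ∀ g, r g⁻¹ * r g = 1 := fun g => by rw [← hr, inv_mul_cancel, hr1]
  -- `B` is invertible
  have hunit : IsUnit B := by
    let f : V →ₗ[ℂ] V := Matrix.toLin b b B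
    let S : Subrepresentation ρ := ⟨LinearMap.range f, fun g v hv => by
      obtain ⟨w, rfl⟩ := hv
      refine ⟨Matrix.toLin b b ((r g⁻¹)ᵀ) w, ?_⟩
      have e : r g * B = B * (r g⁻¹)ᵀ := by
        calc r g * B = r g * B * ((r g⁻¹) * r g)ᵀ := by
              rw [hinvr, Matrix.transpose_one, Matrix.mul_one]
          _ = (r g * B * (r g)ᵀ) * (r g⁻¹)ᵀ := by
              rw [Matrix.transpose_mul]; simp only [Matrix.mul_assoc]
          _ = _ := by rw [hB g]
      have h2 : ρ g * f = f * Matrix.toLin b b ((r g⁻¹)ᵀ) := by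
        rw [show ρ g = Matrix.toLin b b (r g) from (Matrix.toLin_toMatrix b b _).symm]
        show Matrix.toLin b b (r g) ∘ₗ f = f ∘ₗ _
        rw [← Matrix.toLin_mul, ← Matrix.toLin_mul, e]
      exact (congrArg (fun F : Module.End ℂ V => F w) h2).symm⟩
    rcases eq_bot_or_eq_top S with h | h
    · exfalso
      have hf : f = 0 := LinearMap.range_eq_bot.mp (congrArg Subrepresentation.toSubmodule h)
      exact hB0 ((Matrix.toLin b b).injective (by rw [map_zero]; exact hf))
    · have hsurj : Function.Surjective f :=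
        LinearMap.range_eq_top.mp (congrArg Subrepresentation.toSubmodule h)
      have hbij : Function.Bijective f := ⟨LinearMap.injective_iff_surjective.mpr hsurj, hsurj⟩
      let e := LinearEquiv.ofBijective f hbij
      refine ⟨⟨B, LinearMap.toMatrix b b e.symm.toLinearMap, ?_, ?_⟩, rfl⟩
      · rw [← LinearMap.toMatrix_toLin b b B, ← LinearMap.toMatrix_comp,
          show (Matrix.toLin b b B) ∘ₗ e.symm.toLinearMap = LinearMap.id from
            LinearMap.ext fun x => e.apply_symm_apply x]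
        exact LinearMap.toMatrix_id b
      · rw [← LinearMap.toMatrix_toLin b b B, ← LinearMap.toMatrix_comp,
          show e.symm.toLinearMap ∘ₗ (Matrix.toLin b b B) = LinearMap.id from
            LinearMap.ext fun x => e.symm_apply_apply x]
        exact LinearMap.toMatrix_id b
  obtain ⟨Bu, rfl⟩ := hunit
  -- the invariant matrices are the multiples of `B`
  have huniq : ∀ X ∈ Inv, ∃ c : ℂ, X = c • (Bu : Matrix (Fin n) (Fin n) ℂ) := by
    intro X hX
    let T : Module.End ℂ V := Matrix.toLin b b (X * (↑Bu⁻¹ : Matrix (Fin n) (Fin n) ℂ))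
    have hT := eq_smul_id_of_commute ρ T fun g => by
      have h1 : r g * (Bu : Matrix (Fin n) (Fin n) ℂ) = Bu * (r g⁻¹)ᵀ := by
        calc r g * (Bu : Matrix (Fin n) (Fin n) ℂ) = r g * Bu * ((r g⁻¹) * r g)ᵀ := by
              rw [hinvr, Matrix.transpose_one, Matrix.mul_one]
          _ = (r g * Bu * (r g)ᵀ) * (r g⁻¹)ᵀ := by
              rw [Matrix.transpose_mul]; simp only [Matrix.mul_assoc]
          _ = _ := by rw [hB g]
      have h2 : r g * X = X * (r g⁻¹)ᵀ := by
        calc r g * X = r g * X * ((r g⁻¹) * r g)ᵀ := by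
              rw [hinvr, Matrix.transpose_one, Matrix.mul_one]
          _ = (r g * X * (r g)ᵀ) * (r g⁻¹)ᵀ := by
              rw [Matrix.transpose_mul]; simp only [Matrix.mul_assoc]
          _ = _ := by rw [hX g]
      have h3 : (↑Bu⁻¹ : Matrix (Fin n) (Fin n) ℂ) * r g =
          (r g⁻¹)ᵀ * (↑Bu⁻¹ : Matrix (Fin n) (Fin n) ℂ) := by
        have := congrArg (fun M => (↑Bu⁻¹ : Matrix (Fin n) (Fin n) ℂ) * M *
          (↑Bu⁻¹ : Matrix (Fin n) (Fin n) ℂ)) h1
        simp only [Matrix.mul_assoc, Units.mul_inv, Matrix.mul_one] at this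
        rw [← Matrix.mul_assoc _ (Bu : Matrix (Fin n) (Fin n) ℂ), Units.inv_mul, Matrix.one_mul] at this
        exact this
      show T ∘ₗ ρ g = ρ g ∘ₗ T
      rw [show ρ g = Matrix.toLin b b (r g) from (Matrix.toLin_toMatrix b b _).symm]
      simp only [T, ← Matrix.toLin_mul]
      rw [Matrix.mul_assoc, h3, ← Matrix.mul_assoc, ← h2, Matrix.mul_assoc]
    set c := LinearMap.trace ℂ V T / (Module.finrank ℂ V : ℂ)
    refine ⟨c, ?_⟩
    have hm : X * (↑Bu⁻¹ : Matrix (Fin n) (Fin n) ℂ) = c • 1 := by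
      have := congrArg (LinearMap.toMatrix b b) hT
      rw [LinearMap.toMatrix_toLin, map_smul] at this
      rw [this]
      congr 1
      exact LinearMap.toMatrix_one b
    rw [← Matrix.mul_one X, ← Units.inv_mul Bu, ← Matrix.mul_assoc, hm, Matrix.smul_mul,
      Matrix.one_mul]
  obtain ⟨ε, hε⟩ := huniq (Bu : Matrix (Fin n) (Fin n) ℂ)ᵀ fun g => by
    have := congrArg Matrix.transpose (hB g)
    rwa [Matrix.transpose_mul, Matrix.transpose_mul, Matrix.transpose_transpose,
      ← Matrix.mul_assoc] at this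
  have hε2 : ε = 1 ∨ ε = -1 := by
    have h := congrArg Matrix.transpose hε
    rw [Matrix.transpose_transpose, Matrix.transpose_smul, hε, smul_smul] at h
    have h2 : (ε * ε - 1) • (Bu : Matrix (Fin n) (Fin n) ℂ) = 0 := by
      rw [sub_smul, one_smul, ← h, sub_self]
    exact mul_self_eq_one_iff.mp (sub_eq_zero.mp ((smul_eq_zero.mp h2).resolve_right hB0))
  -- the norm
  have hsq : ∑ s : G, ρ.character s * ρ.character s = (Nat.card G : ℂ) := by
    have hdual : ∀ g, ρ.character g⁻¹ = ρ.character g := fun g => by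
      rw [hchar, hchar]
      have : r g⁻¹ = (↑Bu : Matrix (Fin n) (Fin n) ℂ) * (r g)ᵀ * (↑Bu⁻¹ : Matrix (Fin n) (Fin n) ℂ) := by
        calc r g⁻¹ = r g⁻¹ * (r g * Bu * (r g)ᵀ) * (↑Bu⁻¹ : Matrix (Fin n) (Fin n) ℂ) := by
              rw [hB g, Matrix.mul_assoc, Units.mul_inv, Matrix.mul_one]
          _ = (r g⁻¹ * r g) * Bu * (r g)ᵀ * (↑Bu⁻¹ : Matrix (Fin n) (Fin n) ℂ) := by
              simp only [Matrix.mul_assoc]
          _ = _ := by rw [hinvr, Matrix.one_mul]
      rw [this, Matrix.trace_mul_cycle, Units.inv_mul, Matrix.one_mul, Matrix.trace_transpose]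
    have h1 := classInner_irr_self (isIrrCharacter_character ρ)
    simp only [classInner] at h1
    rw [inv_mul_eq_one₀ (Nat.cast_ne_zero.mpr Nat.card_pos.ne')] at h1
    rw [h1]
    exact Finset.sum_congr rfl fun x _ => by rw [conj_char, hdual]
  choose c hc using fun i j => huniq (Av (Matrix.single i j 1)) (hAv _)
  refine ⟨Bu, ε, hε2, hB, hε, ?_⟩
  · rw [hAvss, ← hsq, hAvsq, Finset.mul_sum]
    conv_lhs => rw [Finset.sum_comm]
    refine Finset.sum_congr rfl fun i _ => ?_
    rw [Finset.mul_sum]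
    refine Finset.sum_congr rfl fun j _ => ?_
    rw [hc, Matrix.smul_apply, Matrix.smul_apply, smul_eq_mul, smul_eq_mul]
    have := congrFun (congrFun hε i) j
    rw [Matrix.transpose_apply, Matrix.smul_apply, smul_eq_mul] at this
    rw [this]; ring

/-- The matrix form used for `Fin n → ℂ`. -/
theorem exists_form_and_symmetry (n : ℕ) (ρ : Representation ℂ G (Fin n → ℂ)) (hirr : ρ.IsIrreducible)
    (hreal : ∀ g : G, (ρ.character g).im = 0) :
    (∃ M : Matrix (Fin n) (Fin n) ℂ, M ≠ 0 ∧ ∀ g : G, (LinearMap.toMatrix' (ρ g)).transpose * M * LinearMap.toMatrix' (ρ g) = M) ∧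
      ∀ M : Matrix (Fin n) (Fin n) ℂ, (∀ g : G, (LinearMap.toMatrix' (ρ g)).transpose * M * LinearMap.toMatrix' (ρ g) = M) →
        M.transpose = ((Nat.card G : ℂ)⁻¹ * ∑ s : G, ρ.character (s * s)) • M := by
  classical
  haveI := hirr
  set b := Pi.basisFun ℂ (Fin n)
  have hne : ∑ s : G, ρ.character s * ρ.character s ≠ 0 := by
    have h1 := classInner_irr_self (isIrrCharacter_character ρ)
    simp only [classInner] at h1
    intro h
    have e : ∀ s : G, (starRingEnd ℂ) (ρ.character s) = ρ.character s := fun s =>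
      Complex.conj_eq_iff_im.2 (hreal s)
    simp only [e] at h1
    rw [h, mul_zero] at h1
    exact one_ne_zero h1.symm
  obtain ⟨B, ε, hε2, hB, hBT, hν⟩ := invariant_form_symmetry ρ b (by simp) hne
  have hmat : ∀ g, LinearMap.toMatrix b b (ρ g) = LinearMap.toMatrix' (ρ g) := fun g => by
    rw [← LinearMap.toMatrix_eq_toMatrix']
  simp only [hmat] at hB
  set r : G → Matrix (Fin n) (Fin n) ℂ := fun g => LinearMap.toMatrix' (ρ g) with hr
  have hrinv : ∀ g, r g⁻¹ * r g = 1 := fun g => by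
    simp only [hr]
    rw [← LinearMap.toMatrix'_mul, ← map_mul, inv_mul_cancel, map_one]
    exact LinearMap.toMatrix'_one
  have hνε : (Nat.card G : ℂ)⁻¹ * ∑ s : G, ρ.character (s * s) = ε := by
    rw [hν, mul_comm ε, ← mul_assoc, inv_mul_cancel₀ (Nat.cast_ne_zero.mpr Nat.card_pos.ne'), one_mul]
  have hBr : ∀ g, (r g)ᵀ * (↑B⁻¹ : Matrix (Fin n) (Fin n) ℂ) * r g = ↑B⁻¹ := by
    intro g
    have h1 : ((↑B⁻¹ : Matrix (Fin n) (Fin n) ℂ) * r g * B.1) * (r g)ᵀ = 1 := by
      rw [Matrix.mul_assoc, Matrix.mul_assoc, ← Matrix.mul_assoc (r g), hB g, Units.inv_mul]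
    have h2 := mul_eq_one_comm.1 h1
    calc (r g)ᵀ * (↑B⁻¹ : Matrix (Fin n) (Fin n) ℂ) * r g
        = ((r g)ᵀ * ((↑B⁻¹ : Matrix (Fin n) (Fin n) ℂ) * r g * B.1)) * (↑B⁻¹ : Matrix (Fin n) (Fin n) ℂ) := by
          simp only [Matrix.mul_assoc, Units.mul_inv, Matrix.mul_one]
      _ = _ := by rw [h2, Matrix.one_mul]
  refine ⟨⟨↑B⁻¹, ?_, hBr⟩, fun M hM => ?_⟩
  · intro h
    have h1 := B.inv_mul
    rw [h, Matrix.zero_mul] at h1
    rcases Nat.eq_zero_or_pos n with rfl | hn
    · have hsum : ∑ s : G, ρ.character s * ρ.character s = 0 := Finset.sum_eq_zero fun s _ => by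
        simp [Representation.character, LinearMap.trace_eq_matrix_trace ℂ b, Matrix.trace]
      exact hne hsum
    · have := congrFun (congrFun h1 ⟨0, hn⟩) ⟨0, hn⟩
      simp at this
  · let T : Module.End ℂ (Fin n → ℂ) := Matrix.toLin' (B.1 * M)
    have hT := eq_smul_id_of_commute ρ T fun g => by
      have e1 : r g * B.1 = B.1 * (r g⁻¹)ᵀ := by
        calc r g * B.1 = r g * B.1 * ((r g⁻¹) * r g)ᵀ := by rw [hrinv, Matrix.transpose_one, Matrix.mul_one]
          _ = (r g * B.1 * (r g)ᵀ) * (r g⁻¹)ᵀ := by rw [Matrix.transpose_mul]; simp only [Matrix.mul_assoc]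
          _ = _ := by rw [hB g]
      have e2 : (r g⁻¹)ᵀ * M = M * r g := by
        calc (r g⁻¹)ᵀ * M = (r g⁻¹)ᵀ * ((r g)ᵀ * M * r g) := by rw [hM g]
          _ = (r g * r g⁻¹)ᵀ * M * r g := by rw [Matrix.transpose_mul]; simp only [Matrix.mul_assoc]
          _ = _ := by
            have := hrinv g⁻¹
            rw [inv_inv] at this
            rw [this, Matrix.transpose_one, Matrix.one_mul]
      show T ∘ₗ ρ g = ρ g ∘ₗ T
      rw [show ρ g = Matrix.toLin' (r g) from (Matrix.toLin'_toMatrix' _).symm]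
      simp only [T, ← Matrix.toLin'_mul]
      rw [← Matrix.mul_assoc (r g), e1, Matrix.mul_assoc B.1 ((r g⁻¹)ᵀ), e2, Matrix.mul_assoc]
    have hc : ∃ c : ℂ, M = c • (↑B⁻¹ : Matrix (Fin n) (Fin n) ℂ) := by
      refine ⟨LinearMap.trace ℂ (Fin n → ℂ) T / (Module.finrank ℂ (Fin n → ℂ) : ℂ), ?_⟩
      have h2 := congrArg LinearMap.toMatrix' hT
      rw [LinearMap.toMatrix'_toLin', map_smul] at h2
      have h3 := congrArg (fun X => (↑B⁻¹ : Matrix (Fin n) (Fin n) ℂ) * X) h2
      simp only [← Matrix.mul_assoc, Units.inv_mul, Matrix.one_mul, Matrix.mul_smul] at h3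
      rw [h3]
      congr 1
      rw [LinearMap.toMatrix'_one,
        Matrix.mul_one]
    obtain ⟨c, rfl⟩ := hc
    rw [hνε, Matrix.transpose_smul, smul_comm]
    congr 1
    have h1 : B.1ᵀ * (↑B⁻¹ : Matrix (Fin n) (Fin n) ℂ)ᵀ = 1 := by
      rw [← Matrix.transpose_mul, Units.inv_mul, Matrix.transpose_one]
    rw [hBT, Matrix.smul_mul] at h1
    have h4 := congrArg (fun X => (↑B⁻¹ : Matrix (Fin n) (Fin n) ℂ) * X) h1
    simp only [Matrix.mul_smul, ← Matrix.mul_assoc, Units.inv_mul, Matrix.one_mul, Matrix.mul_one] at h4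
    rcases hε2 with rfl | rfl
    · rw [one_smul] at h4 ⊢; exact h4
    · rw [neg_one_smul] at h4 ⊢; exact neg_eq_iff_eq_neg.1 h4

end CfsgLib.CharTheory
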