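import Mathlib
import Cfsg.Agent.Lib.Basic
import Cfsg.Agent.Lib.Frobenius.Kernel
import Cfsg.Agent.S0200

/-!
A Camina pair `(G, N)` with `N = O_p(G)` and one nontrivial class in `N`: the group is a doubly
transitive Frobenius group. No character theory is used.
-/

set_option autoImplicit false

namespace CfsgLib.CaminaPGroup

open Subgroup

universe u
variable {G : Type u} [Group G] [Finite G] {p : ℕ} [hp : Fact p.Prime] {N : Subgroup G} [hNn : N.Normal]

variable (hNp : IsPGroup p N) (cam : ∀ x : G, x ∉ N → ∀ n ∈ N, IsConj x (x * n))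

include hNp cam

/-- A nontrivial element of order prime to `p` fixes no nontrivial element of `N`. -/
theorem fpf {y v : G} (hy : ¬ p ∣ orderOf y) (hy1 : y ≠ 1) (hv : v ∈ N) (hcomm : Commute y v) :
    v = 1 := by
  obtain ⟨j, hj⟩ := IsPGroup.iff_orderOf.mp hNp ⟨v, hv⟩
  rw [Subgroup.orderOf_mk] at hj
  have hyN : y ∉ N := fun h => by
    obtain ⟨i, hi⟩ := IsPGroup.iff_orderOf.mp hNp ⟨y, h⟩
    rw [Subgroup.orderOf_mk] at hi
    rcases i with _ | i
    · exact hy1 (orderOf_eq_one_iff.mp (by simpa using hi))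
    · exact hy (hi ▸ dvd_pow_self p i.succ_ne_zero)
  obtain ⟨c, hc⟩ := isConj_iff.mp (cam y hyN v hv)
  have h1 : orderOf (y * v) = orderOf y := by
    rw [← hc]; exact orderOf_injective (MulAut.conj c).toMonoidHom (MulAut.conj c).injective y
  have hcop : (orderOf y).Coprime (orderOf v) := by
    rw [hj]; exact ((hp.out.coprime_iff_not_dvd.mpr hy).pow_left j).symm
  rw [hcomm.orderOf_mul_eq_mul_orderOf_of_coprime hcop] at h1
  exact orderOf_eq_one_iff.mp ((mul_eq_left₀ (orderOf_pos y).ne').mp h1)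

variable (hN1 : N ≠ ⊥) (hcore : N = Cfsg.pCore p G)
include hN1 hcore

theorem centralizer_le : centralizer (N : Set G) ≤ N := by
  obtain ⟨u, hu, hu1⟩ := (Subgroup.bot_or_exists_ne_one N).resolve_left hN1
  haveI : (centralizer (N : Set G)).Normal := inferInstance
  refine le_trans (CfsgLib.le_pCore ?_) hcore.ge
  rw [IsPGroup.iff_orderOf]
  rintro ⟨c, hc⟩
  rw [Subgroup.orderOf_mk]
  obtain ⟨a, m, hm, hord⟩ := Nat.exists_eq_pow_mul_and_not_dvd (orderOf_pos c).ne' p hp.out.ne_one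
  refine ⟨a, ?_⟩
  have hxo : orderOf (c ^ p ^ a) = m := by
    rw [orderOf_pow' c (pow_ne_zero _ hp.out.ne_zero), hord, Nat.gcd_mul_right_left,
      Nat.mul_div_cancel_left _ (pow_pos hp.out.pos a)]
  by_contra hne
  refine hu1 (fpf hNp cam (y := c ^ p ^ a) (hxo ▸ hm) (fun e => hne ?_) hu ?_)
  · rw [e, orderOf_one] at hxo
    rw [hord, ← hxo, mul_one]
  · exact (show Commute c u from (Subgroup.mem_centralizer_iff.mp hc u hu).symm).pow_left _

/-- Odd `p`: the index is prime to `p`. -/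
theorem not_dvd_index_odd (hp2 : p ≠ 2) (heven : 2 ∣ Nat.card G) : ¬ p ∣ N.index := by
  intro hdvd
  haveI : Fact (Nat.Prime 2) := ⟨Nat.prime_two⟩
  obtain ⟨t, ht⟩ := exists_prime_orderOf_dvd_card' (G := G) 2 heven
  have hNodd : ∀ n ∈ N, Odd (orderOf n) := fun n hn => by
    obtain ⟨i, hi⟩ := IsPGroup.iff_orderOf.mp hNp ⟨n, hn⟩
    rw [Subgroup.orderOf_mk] at hi
    rw [hi]; exact (hp.out.odd_of_ne_two hp2).pow
  have htN : t ∉ N := fun h => by have := hNodd t h; rw [ht] at this; exact absurd this (by decide)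
  have ht2 : t * t = 1 := by rw [← pow_two, ← ht]; exact pow_orderOf_eq_one t
  have hinv : ∀ n ∈ N, t * n * t = n⁻¹ := by
    intro n hn
    obtain ⟨c, hc⟩ := isConj_iff.mp (cam t htN n hn)
    have h2 : t * n * (t * n) = 1 := by
      rw [← hc, show c * t * c⁻¹ * (c * t * c⁻¹) = c * (t * t) * c⁻¹ by group, ht2]; group
    exact eq_inv_of_mul_eq_one_left (by rw [← h2]; group)
  have htinv : t⁻¹ = t := inv_eq_of_mul_eq_one_right ht2
  -- every conjugate of `t` lies in `tN`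
  have hconj : ∀ g : G, t * (g * t * g⁻¹) ∈ N := by
    intro g
    refine centralizer_le hNp cam hN1 hcore (Subgroup.mem_centralizer_iff.mpr fun n hn => ?_)
    have hm : g⁻¹ * n * g ∈ N := by simpa using hNn.conj_mem n hn g⁻¹
    have h1 : g * t * g⁻¹ * n * (g * t * g⁻¹) = n⁻¹ := by
      calc g * t * g⁻¹ * n * (g * t * g⁻¹) = g * (t * (g⁻¹ * n * g) * t) * g⁻¹ := by group
        _ = n⁻¹ := by rw [hinv _ hm]; group
    have h2 := hinv n⁻¹ (N.inv_mem hn)
    rw [inv_inv] at h2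
    have h3 : t * (g * t * g⁻¹) * n * ((g * t * g⁻¹) * t) = n := by
      calc t * (g * t * g⁻¹) * n * ((g * t * g⁻¹) * t)
          = t * (g * t * g⁻¹ * n * (g * t * g⁻¹)) * t := by group
        _ = n := by rw [h1, h2]
    have h4 : (g * t * g⁻¹ * t) * (t * (g * t * g⁻¹)) = 1 := by
      rw [show (g * t * g⁻¹ * t) * (t * (g * t * g⁻¹)) = g * t * g⁻¹ * (t * t) * (g * t * g⁻¹) by group, ht2,
        mul_one, show g * t * g⁻¹ * (g * t * g⁻¹) = g * (t * t) * g⁻¹ by group, ht2]; group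
    calc n * (t * (g * t * g⁻¹))
        = t * (g * t * g⁻¹) * n * ((g * t * g⁻¹) * t) * (t * (g * t * g⁻¹)) := by rw [h3]
      _ = t * (g * t * g⁻¹) * n * ((g * t * g⁻¹ * t) * (t * (g * t * g⁻¹))) := by group
      _ = t * (g * t * g⁻¹) * n := by rw [h4, mul_one]
  set H := centralizer ({t} : Set G) with hH
  have hdis : ∀ z : G, z ∈ N → z ∈ H → z = 1 := by
    intro z hz hzH
    have h1 := Subgroup.mem_centralizer_singleton_iff.mp hzH
    have h2 := hinv z hz
    rw [← h1, mul_assoc, ht2, mul_one] at h2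
    have h3 : z ^ 2 = 1 := by rw [pow_two]; nth_rw 2 [h2]; exact mul_inv_cancel z
    have h4 := hNodd z hz
    rcases (Nat.dvd_prime Nat.prime_two).mp (orderOf_dvd_of_pow_eq_one h3) with h | h
    · exact orderOf_eq_one_iff.mp h
    · rw [h] at h4; exact absurd h4 (by decide)
  have hprod : ∀ g : G, ∃ m ∈ N, ∃ h ∈ H, g = m * h := by
    intro g
    obtain ⟨n, hn, hgn⟩ : ∃ n ∈ N, g * t * g⁻¹ = t * n := ⟨_, hconj g, by rw [← mul_assoc, ht2, one_mul]⟩
    -- a square root in `N`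
    obtain ⟨k, hk⟩ := hNodd n hn
    refine ⟨(n ^ (k + 1))⁻¹, N.inv_mem (N.pow_mem hn _), n ^ (k + 1) * g,
      Subgroup.mem_centralizer_singleton_iff.mpr ?_, by group⟩
    have hm : t * n ^ (k + 1) * t = (n ^ (k + 1))⁻¹ := hinv _ (N.pow_mem hn _)
    have hsq : n ^ (k + 1) * n ^ (k + 1) = n := by
      rw [← pow_add, show k + 1 + (k + 1) = 2 * k + 1 + 1 by omega, ← hk, pow_succ, pow_orderOf_eq_one, one_mul]
    have hA : n ^ (k + 1) * t = t * (n ^ (k + 1))⁻¹ := by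
      rw [← hm, ← mul_assoc, ← mul_assoc, ht2, one_mul]
    calc n ^ (k + 1) * g * t = n ^ (k + 1) * (g * t * g⁻¹) * g := by group
      _ = n ^ (k + 1) * t * n * g := by rw [hgn]; group
      _ = t * (n ^ (k + 1))⁻¹ * (n ^ (k + 1) * n ^ (k + 1)) * g := by rw [hA, hsq]
      _ = t * (n ^ (k + 1) * g) := by group
  have hcH : IsComplement' N H := by
    refine isComplement'_of_disjoint_and_mul_eq_univ (Subgroup.disjoint_def.mpr fun {z} h1 h2 => hdis z h1 h2) ?_
    refine Set.eq_univ_of_forall fun g => ?_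
    obtain ⟨m, hm, h, hh, rfl⟩ := hprod g
    exact Set.mul_mem_mul hm hh
  obtain ⟨⟨h, hhH⟩, hho⟩ := exists_prime_orderOf_dvd_card' (G := H) p
    (by rw [← hcH.symm.index_eq_card]; exact hdvd)
  rw [Subgroup.orderOf_mk] at hho
  have hh1 : h ≠ 1 := fun e => hp.out.ne_one (by rw [← hho, e, orderOf_one])
  have hhN : h ∉ N := fun e => hh1 (hdis h e hhH)
  -- `h` fixes a nontrivial element of `N`
  obtain ⟨v, hv, hv1, hvh⟩ : ∃ v ∈ N, v ≠ 1 ∧ h * v * h⁻¹ = v := by
    let φ : zpowers h →* MulAut N := MulAut.conjNormal.comp (zpowers h).subtype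
    letI : MulAction (zpowers h) N := MulAction.compHom N φ
    have hQ : IsPGroup p (zpowers h) := IsPGroup.of_card (n := 1) (by rw [Nat.card_zpowers, hho, pow_one])
    have hpN : p ∣ Nat.card N := by
      obtain ⟨i, hi⟩ := IsPGroup.iff_card.mp hNp
      rcases i with _ | i
      · exact absurd (Subgroup.card_eq_one.mp (by simpa using hi)) hN1
      · exact hi ▸ dvd_pow_self p i.succ_ne_zero
    obtain ⟨b, hb, hne⟩ := hQ.exists_fixed_point_of_prime_dvd_card_of_fixed_point N hpN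
      (a := (1 : N)) (fun q => map_one (φ q))
    refine ⟨b, b.2, fun e => hne (Subtype.ext e.symm), ?_⟩
    exact (MulAut.conjNormal_apply h b).symm.trans (congrArg Subtype.val (hb ⟨h, mem_zpowers h⟩))
  -- the commutator map on `N` is onto
  have hsurj : Function.Surjective (fun m : N => (⟨h⁻¹ * m * h * (m : G)⁻¹,
      N.mul_mem (by simpa using hNn.conj_mem m.1 m.2 h⁻¹) (N.inv_mem m.2)⟩ : N)) := by
    rintro ⟨n, hn⟩
    obtain ⟨g, hg⟩ := isConj_iff.mp (cam h hhN n hn)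
    obtain ⟨m, hm, k, hk, rfl⟩ := hprod g
    refine ⟨⟨m, hm⟩, Subtype.ext ?_⟩
    show h⁻¹ * m * h * m⁻¹ = n
    have hmem : h⁻¹ * (k * h * k⁻¹) ∈ N := by
      have h1 : k * h * k⁻¹ = m⁻¹ * (h * n) * m := by rw [← hg]; group
      rw [h1, show h⁻¹ * (m⁻¹ * (h * n) * m) = h⁻¹ * m⁻¹ * h * n * m by group]
      exact N.mul_mem (N.mul_mem (by simpa using hNn.conj_mem _ (N.inv_mem hm) h⁻¹) hn) hm
    have h2 := hdis _ hmem (H.mul_mem (H.inv_mem hhH) (H.mul_mem (H.mul_mem hk hhH) (H.inv_mem hk)))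
    rw [inv_mul_eq_one] at h2
    have h3 : m * (k * h * k⁻¹) * m⁻¹ = h * n := by rw [← hg]; group
    rw [← h2] at h3
    rw [show h⁻¹ * m * h * m⁻¹ = h⁻¹ * (m * h * m⁻¹) by group, h3]; group
  have hinj := (Finite.injective_iff_surjective.mpr hsurj) (a₁ := ⟨v, hv⟩) (a₂ := 1) (Subtype.ext ?_)
  · exact hv1 (congrArg Subtype.val hinj)
  · show h⁻¹ * v * h * v⁻¹ = h⁻¹ * (1 : G) * h * (1 : G)⁻¹
    have : h⁻¹ * v * h = v := by nth_rw 1 [← hvh]; group
    rw [this]; group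

variable (trans : ∀ a ∈ N, a ≠ 1 → ∀ b ∈ N, b ≠ 1 → IsConj a b)
include trans

omit cam hcore in
theorem commutative : ∀ a ∈ N, ∀ b ∈ N, a * b = b * a := by
  haveI : Nontrivial N := (Subgroup.nontrivial_iff_ne_bot N).mpr hN1
  haveI := hNp.center_nontrivial
  obtain ⟨z, hz, hz1⟩ := (Subgroup.bot_or_exists_ne_one (Subgroup.center N)).resolve_left
    ((Subgroup.nontrivial_iff_ne_bot _).mp inferInstance)
  intro a ha b hb
  rcases eq_or_ne a 1 with rfl | ha1
  · simp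
  obtain ⟨g, hg⟩ := isConj_iff.mp (trans z z.2 (fun e => hz1 (Subtype.ext e)) a ha ha1)
  have hb' : g⁻¹ * b * g ∈ N := by simpa using hNn.conj_mem b hb g⁻¹
  have hc : g⁻¹ * b * g * z = z * (g⁻¹ * b * g) :=
    congrArg Subtype.val (Subgroup.mem_center_iff.mp hz ⟨_, hb'⟩)
  rw [← hg]
  calc g * z * g⁻¹ * b = g * ((z : G) * (g⁻¹ * b * g)) * g⁻¹ := by group
    _ = g * (g⁻¹ * b * g * z) * g⁻¹ := by rw [hc]
    _ = b * (g * z * g⁻¹) := by group

omit cam hcore in
theorem pow_p : ∀ a ∈ N, a ^ p = 1 := by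
  intro a ha
  rcases eq_or_ne a 1 with rfl | ha1
  · simp
  obtain ⟨i, hi⟩ := IsPGroup.iff_card.mp hNp
  rcases i with _ | i
  · exact absurd (Subgroup.card_eq_one.mp (by simpa using hi)) hN1
  obtain ⟨⟨v, hv⟩, hvo⟩ := exists_prime_orderOf_dvd_card' (G := N) p (hi ▸ dvd_pow_self p i.succ_ne_zero)
  rw [Subgroup.orderOf_mk] at hvo
  obtain ⟨g, hg⟩ := isConj_iff.mp (trans v hv (fun e => hp.out.ne_one (by rw [← hvo, e, orderOf_one])) a ha ha1)
  rw [← hg, conj_pow, ← hvo, pow_orderOf_eq_one]; group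

/-- `p = 2`: the index is odd. -/
theorem not_dvd_index_two (hp2 : p = 2) : ¬ p ∣ N.index := by
  intro hdvd
  subst hp2
  rw [Subgroup.index_eq_card] at hdvd
  obtain ⟨t, ht⟩ := exists_prime_orderOf_dvd_card' (G := G ⧸ N) 2 hdvd
  obtain ⟨x, hxt⟩ := QuotientGroup.mk'_surjective N t
  have ht1 : t ≠ 1 := fun e => by rw [e, orderOf_one] at ht; omega
  have hxN : x ∉ N := fun h => ht1 (by rw [← hxt]; exact (QuotientGroup.eq_one_iff x).mpr h)
  have hab := commutative hNp hN1 trans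
  have hsq : ∀ n ∈ N, n * n = 1 := fun n hn => by rw [← pow_two]; exact pow_p hNp hN1 trans n hn
  have hinvn : ∀ n ∈ N, n⁻¹ = n := fun n hn => inv_eq_of_mul_eq_one_right (hsq n hn)
  have hv : x * x ∈ N := (QuotientGroup.eq_one_iff (x * x)).mp (by
    show QuotientGroup.mk' N (x * x) = 1
    rw [map_mul, hxt, ← pow_two, ← ht, pow_orderOf_eq_one])
  have hlift : ∀ n ∈ N, ∃ c : G, c * (x * x) * c⁻¹ = x * n * (x * n) := fun n hn => by
    obtain ⟨c, hc⟩ := isConj_iff.mp (cam x hxN n hn)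
    exact ⟨c, by rw [← hc]; group⟩
  have hv1 : x * x ≠ 1 := by
    intro e
    refine hxN (centralizer_le hNp cam hN1 hcore (Subgroup.mem_centralizer_iff.mpr fun n hn => ?_))
    obtain ⟨c, hc⟩ := hlift n hn
    rw [e] at hc
    have h1 : x * n * x = n := by
      have h2 : x * n * (x * n) = 1 := by rw [← hc]; group
      calc x * n * x = x * n * (x * n) * n⁻¹ := by group
        _ = n := by rw [h2, one_mul, hinvn n hn]
    calc n * x = x * n * x * x := by rw [h1]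
      _ = x * n * (x * x) := by group
      _ = x * n := by rw [e, mul_one]
  have hcm : ∀ n ∈ N, x⁻¹ * n * x ∈ N := fun n hn => by simpa using hNn.conj_mem n hn x⁻¹
  let φ : N →* N :=
    { toFun := fun n => ⟨x⁻¹ * n * x * n, N.mul_mem (hcm n n.2) n.2⟩
      map_one' := Subtype.ext (by simp)
      map_mul' := fun a b => Subtype.ext (by
        show x⁻¹ * ((a : G) * b) * x * (a * b) = x⁻¹ * a * x * a * (x⁻¹ * b * x * b)
        calc x⁻¹ * ((a : G) * b) * x * (a * b) = x⁻¹ * a * x * ((x⁻¹ * b * x) * a) * b := by group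
          _ = x⁻¹ * a * x * (a * (x⁻¹ * b * x)) * b := by rw [hab _ (hcm b b.2) _ a.2]
          _ = _ := by group) }
  have hφv : ∀ n : N, ((φ n : N) : G) = x⁻¹ * n * x * n := fun n => rfl
  have hker : ∀ n : N, n ∈ φ.ker ↔ Commute x (n : G) := by
    intro n
    rw [MonoidHom.mem_ker, ← Subtype.coe_inj, hφv, Subgroup.coe_one, mul_eq_one_iff_eq_inv,
      hinvn _ n.2, mul_assoc, inv_mul_eq_iff_eq_mul]
    exact ⟨fun e => e.symm, fun e => e.symm.eq⟩
  have hv' : (⟨x * x, hv⟩ : N) ∈ φ.ker := (hker _).mpr (show Commute x (x * x) from (Commute.refl x).mul_right (Commute.refl x))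
  have hvr : (⟨x * x, hv⟩ : N) ∉ φ.range := by
    rintro ⟨n, hn⟩
    have hn' : x⁻¹ * n * x * n = x * x := congrArg Subtype.val hn
    obtain ⟨c, hc⟩ := hlift n n.2
    rw [show x * (n : G) * (x * n) = x * x * (x⁻¹ * n * x * n) by group, hn', hsq _ hv,
      mul_inv_eq_one, mul_eq_left] at hc
    exact hv1 hc
  have hle : φ.range ≤ φ.ker := by
    rintro _ ⟨n, rfl⟩
    rw [MonoidHom.mem_ker, ← Subtype.coe_inj, hφv, hφv, Subgroup.coe_one]
    have h1 := hcm n n.2
    have h2 : x⁻¹ * (x⁻¹ * (n : G) * x) * x = n := by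
      calc x⁻¹ * (x⁻¹ * (n : G) * x) * x = (x * x)⁻¹ * (n * (x * x)) := by group
        _ = n := by rw [hab _ n.2 _ hv]; group
    calc x⁻¹ * (x⁻¹ * (n : G) * x * n) * x * (x⁻¹ * n * x * n)
        = x⁻¹ * (x⁻¹ * (n : G) * x) * x * ((x⁻¹ * n * x) * (x⁻¹ * n * x)) * n := by group
      _ = 1 := by rw [h2, hsq _ h1, mul_one, hsq _ n.2]
  have hlt : Nat.card φ.range < Nat.card φ.ker := by
    refine lt_of_le_of_ne (Nat.card_le_card_of_injective _ (Subgroup.inclusion_injective hle)) fun e => hvr ?_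
    rw [Subgroup.eq_of_le_of_card_ge hle e.ge]; exact hv'
  have hcardN : Nat.card N < Nat.card φ.ker * Nat.card φ.ker := by
    rw [← φ.ker.card_mul_index, φ.ker.index_eq_card, Nat.card_congr (QuotientGroup.quotientKerEquivRange φ).toEquiv]
    exact Nat.mul_lt_mul_of_pos_left hlt Nat.card_pos
  -- an odd element in the product of two conjugates of `x`
  obtain ⟨h, hh1, hhodd, hhinv⟩ := Cfsg.Agent.S0200.result t ht (by
    intro K hK hKp htK
    haveI := hK
    have hP : IsPGroup 2 (K.comap (QuotientGroup.mk' N)) :=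
      hKp.comap_of_ker_isPGroup _ (by rwa [QuotientGroup.ker_mk'])
    exact hxN (hcore ▸ CfsgLib.le_pCore hP (show x ∈ K.comap (QuotientGroup.mk' N) by
      rw [Subgroup.mem_comap, hxt]; exact htK)))
  obtain ⟨j, hj⟩ := hhodd
  set k := h ^ (j + 1) with hk
  have hk2 : k * k = h := by
    rw [hk, ← pow_add, show j + 1 + (j + 1) = 2 * j + 1 + 1 by omega, ← hj, pow_succ, pow_orderOf_eq_one, one_mul]
  have hktk : t * k * t⁻¹ = k⁻¹ := by rw [hk, ← conj_pow, hhinv, inv_pow]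
  obtain ⟨g, hgk⟩ := QuotientGroup.mk'_surjective N k
  set u := x * (g * x * g⁻¹) with hu
  have hui : QuotientGroup.mk' N u = h⁻¹ := by
    have ht' : t⁻¹ = t := inv_eq_of_mul_eq_one_right (by rw [← pow_two, ← ht, pow_orderOf_eq_one])
    rw [hu, map_mul, map_mul, map_mul, map_inv, hgk, hxt, ← mul_assoc, ← mul_assoc,
      show t * k * t = k⁻¹ by rw [← hktk, ht'], ← mul_inv_rev, hk2]
  obtain ⟨a, m, hm, hord⟩ := Nat.exists_eq_pow_mul_and_not_dvd (orderOf_pos u).ne' 2 (by norm_num)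
  have hwo : orderOf (u ^ 2 ^ a) = m := by
    rw [orderOf_pow' u (pow_ne_zero _ two_ne_zero), hord, Nat.gcd_mul_right_left,
      Nat.mul_div_cancel_left _ (by positivity)]
  have hw1 : u ^ 2 ^ a ≠ 1 := by
    intro e
    have h1 : orderOf h⁻¹ ∣ 2 ^ a := by
      rw [← hui]; exact (orderOf_map_dvd _ u).trans (orderOf_dvd_of_pow_eq_one e)
    rw [orderOf_inv] at h1
    obtain ⟨i, hi, hi'⟩ := (Nat.dvd_prime_pow Nat.prime_two).mp h1
    rcases i with _ | i
    · exact hh1 (orderOf_eq_one_iff.mp (by simpa using hi'))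
    · rw [hj, pow_succ] at hi'; omega
  have hinj : Function.Injective (fun z : φ.ker × φ.ker =>
      (⟨(z.1.1 : G) * (g * (z.2.1 : G) * g⁻¹), N.mul_mem z.1.1.2 (hNn.conj_mem _ z.2.1.2 g)⟩ : N)) := by
    rintro ⟨⟨a₁, ha₁⟩, ⟨b₁, hb₁⟩⟩ ⟨⟨a₂, ha₂⟩, ⟨b₂, hb₂⟩⟩ e
    have e' : (a₁ : G) * (g * b₁ * g⁻¹) = a₂ * (g * b₂ * g⁻¹) := congrArg Subtype.val e
    have hA : (a₂ : G)⁻¹ * a₁ = g * ((b₂ : G) * (b₁ : G)⁻¹) * g⁻¹ := by
      calc (a₂ : G)⁻¹ * a₁ = (a₂ : G)⁻¹ * (a₁ * (g * b₁ * g⁻¹)) * (g * (b₁ : G)⁻¹ * g⁻¹) := by group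
        _ = _ := by rw [e']; group
    have c1 : Commute x ((a₂ : G)⁻¹ * a₁) := ((hker a₂).mp ha₂).inv_right.mul_right ((hker a₁).mp ha₁)
    have c2 : Commute (g * x * g⁻¹) ((a₂ : G)⁻¹ * a₁) := by
      rw [hA]
      exact (((hker b₂).mp hb₂).mul_right ((hker b₁).mp hb₁).inv_right).map (MulAut.conj g).toMonoidHom
    have hone : (a₂ : G)⁻¹ * a₁ = 1 :=
      fpf hNp cam (y := u ^ 2 ^ a) (hwo ▸ hm) hw1 (N.mul_mem (N.inv_mem a₂.2) a₁.2)
        ((c1.mul_left c2).pow_left _)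
    rw [hone] at hA
    have hb : (b₂ : G) * (b₁ : G)⁻¹ = 1 := by
      calc (b₂ : G) * (b₁ : G)⁻¹ = g⁻¹ * (g * ((b₂ : G) * (b₁ : G)⁻¹) * g⁻¹) * g := by group
        _ = 1 := by rw [← hA]; group
    simp only [Prod.mk.injEq, Subtype.mk.injEq]
    exact ⟨Subtype.ext (inv_mul_eq_one.mp hone).symm, Subtype.ext (mul_inv_eq_one.mp hb).symm⟩
  have := Nat.card_le_card_of_injective _ hinj
  rw [Nat.card_prod] at this
  omega

/-- `G` is a doubly transitive Frobenius group with kernel `N`. -/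
theorem frobenius (hodd : p ≠ 2 → 2 ∣ Nat.card G) (hG : 2 < Nat.card G) :
    ∃ H : Subgroup G, Cfsg.IsFrobeniusComplement H ∧ IsComplement' N H ∧ Nat.card H + 1 = Nat.card N := by
  have hidx : ¬ p ∣ N.index := by
    by_cases h : p = 2
    · exact not_dvd_index_two hNp cam hN1 hcore trans h
    · exact not_dvd_index_odd hNp cam hN1 hcore h (hodd h)
  obtain ⟨i, hi⟩ := IsPGroup.iff_card.mp hNp
  obtain ⟨H, hH⟩ := Subgroup.exists_right_complement'_of_coprime (N := N)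
    (by rw [hi]; exact (hp.out.coprime_iff_not_dvd.mpr hidx).pow_left i)
  have hpH : ∀ h ∈ H, ¬ p ∣ orderOf h := fun h hh e =>
    hidx (e.trans ((Subgroup.orderOf_dvd_natCard H hh).trans (hH.symm.index_eq_card).symm.dvd))
  obtain ⟨u, hu, hu1⟩ := (Subgroup.bot_or_exists_ne_one N).resolve_left hN1
  have hab := commutative hNp hN1 trans
  have hsemi : ∀ h ∈ H, h * u * h⁻¹ = u → h = 1 := fun h hh e => by
    by_contra h1
    exact hu1 (fpf hNp cam (hpH h hh) h1 hu
      (show Commute h u from (mul_inv_eq_iff_eq_mul.mp e)))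
  let f : H → {v : N // v ≠ 1} := fun h => ⟨⟨h * u * (h : G)⁻¹, hNn.conj_mem u hu h⟩,
    fun e => hu1 (by simpa using congrArg Subtype.val e)⟩
  have hf : Function.Bijective f := by
    constructor
    · intro a b e
      have e' : (a : G) * u * (a : G)⁻¹ = b * u * (b : G)⁻¹ := congrArg (fun z => (z.1 : G)) e
      have := hsemi ((b : G)⁻¹ * a) (H.mul_mem (H.inv_mem b.2) a.2) (by
        calc (b : G)⁻¹ * a * u * ((b : G)⁻¹ * a)⁻¹ = (b : G)⁻¹ * (a * u * (a : G)⁻¹) * b := by group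
          _ = u := by rw [e']; group)
      exact Subtype.ext (inv_mul_eq_one.mp this).symm
    · rintro ⟨⟨v, hv⟩, hv1⟩
      obtain ⟨g, hg⟩ := isConj_iff.mp (trans u hu hu1 v hv (fun e => hv1 (Subtype.ext e)))
      obtain ⟨⟨⟨n, hn⟩, ⟨h, hh⟩⟩, rfl⟩ :=
        (show Function.Surjective fun z : N × H => (z.1 : G) * z.2 from hH.2) g
      refine ⟨⟨h, hh⟩, Subtype.ext (Subtype.ext ?_)⟩
      show h * u * h⁻¹ = v
      rw [← hg, show n * h * u * (n * h)⁻¹ = n * (h * u * h⁻¹) * n⁻¹ by group,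
        hab n hn _ (hNn.conj_mem u hu h)]
      group
  have hcard : Nat.card H + 1 = Nat.card N := by
    classical
    rw [Nat.card_eq_of_bijective f hf]
    have h := Set.ncard_add_ncard_compl ({1} : Set N)
    rw [Set.ncard_singleton] at h
    rw [← h, add_comm, ← Nat.card_coe_set_eq]
    rfl
  have hHne : H ≠ ⊥ := by
    intro e
    have hNtop : Nat.card N = Nat.card G := by rw [← hH.card_mul, e, Subgroup.card_bot, mul_one]
    rw [e, Subgroup.card_bot] at hcard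
    omega
  refine ⟨H, CfsgLib.Frob.frob_of_fpf hH hN1 hHne (fun h hh h1 => ?_), hH, hcard⟩
  rw [Subgroup.eq_bot_iff_forall]
  rintro v ⟨hv, hvc⟩
  exact fpf hNp cam (hpH h hh) h1 hv (Subgroup.mem_centralizer_singleton_iff.mp hvc).symm

end CfsgLib.CaminaPGroup
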