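/-
Sums of a row function and a column function with few non-zero entries.
-/
import Mathlib
import Cfsg.Agent.Lib.CharTheory.CyclicTI2

set_option autoImplicit false

namespace CfsgLib.CharTheory

open Cfsg
open scoped ComplexConjugate Pointwise

universe u

theorem few_entries {I J : Type*} [Fintype I] [Fintype J] [DecidableEq I] [DecidableEq J] (A : I → ℂ) (B : J → ℂ)
    (h1 : 3 ≤ Fintype.card I) (h2 : Fintype.card I + 2 ≤ Fintype.card J)
    (hfew : Nat.card {p : I × J // A p.1 + B p.2 ≠ 0} < 2 * Fintype.card I) :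
    (∀ i j, A i + B j = 0) ∨ (∃ (j₀ : J) (a : ℂ), ∀ i j, A i + B j = if j = j₀ then a else 0) ∨
      ∃ (i₀ : I) (a : ℂ), ∀ i j, A i + B j = if i = i₀ then a else 0 := by
  classical
  obtain ⟨i₁⟩ : Nonempty I := Fintype.card_pos_iff.mp (by omega)
  obtain ⟨j₁⟩ : Nonempty J := Fintype.card_pos_iff.mp (by omega)
  have hcount : Nat.card {p : I × J // A p.1 + B p.2 ≠ 0} = ∑ j : J, (Finset.univ.filter fun i => A i + B j ≠ 0).card := by
    rw [Nat.card_eq_fintype_card, Fintype.card_subtype]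
    rw [Finset.card_eq_sum_card_fiberwise (f := fun p : I × J => p.2) (t := Finset.univ) (fun x _ => Finset.mem_univ _)]
    refine Finset.sum_congr rfl fun j _ => ?_
    refine Finset.card_nbij (fun p => p.1) (fun p hp => ?_) (fun p hp q hq h => ?_) (fun i hi => ?_)
    · simp only [Finset.coe_filter, Finset.mem_univ, true_and, Finset.mem_filter, Set.mem_setOf_eq] at hp ⊢
      rw [← hp.2]; exact hp.1
    · simp only [Finset.coe_filter, Finset.mem_univ, true_and, Finset.mem_filter, Set.mem_setOf_eq] at hp hq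
      exact Prod.ext h (hp.2.trans hq.2.symm)
    · simp only [Finset.coe_filter, Finset.mem_univ, true_and, Finset.mem_filter, Set.mem_setOf_eq] at hi ⊢
      exact ⟨(i, j), ⟨hi, rfl⟩, rfl⟩
  rw [hcount] at hfew
  by_cases hA : ∀ i, A i = A i₁
  · set S := Finset.univ.filter fun j => A i₁ + B j ≠ 0
    have hS : S.card ≤ 1 := by
      by_contra hlt
      have : S.card * Fintype.card I ≤ ∑ j : J, (Finset.univ.filter fun i => A i + B j ≠ 0).card := by
        refine le_trans ?_ (Finset.sum_le_sum_of_subset (Finset.subset_univ S))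
        rw [← smul_eq_mul, ← Finset.sum_const]
        refine Finset.sum_le_sum fun j hj => ?_
        rw [Finset.filter_true_of_mem fun i _ => by rw [hA i]; exact (Finset.mem_filter.mp hj).2, Finset.card_univ]
      nlinarith
    by_cases h0 : ∀ j, A i₁ + B j = 0
    · exact Or.inl fun i j => by rw [hA i]; exact h0 j
    · push Not at h0
      obtain ⟨j₀, hj₀⟩ := h0
      refine Or.inr (Or.inl ⟨j₀, A i₁ + B j₀, fun i j => ?_⟩)
      rw [hA i]
      split
      · rename_i e; rw [e]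
      · rename_i hne
        by_contra h
        exact hne (Finset.card_le_one.mp hS j (Finset.mem_filter.mpr ⟨Finset.mem_univ _, h⟩) j₀ (Finset.mem_filter.mpr ⟨Finset.mem_univ _, hj₀⟩))
  push Not at hA
  obtain ⟨i₂, hi₂⟩ := hA
  have hcol : ∀ j, 1 ≤ (Finset.univ.filter fun i => A i + B j ≠ 0).card := fun j => by
    rw [Finset.one_le_card]
    by_cases h : A i₁ + B j = 0
    · exact ⟨i₂, Finset.mem_filter.mpr ⟨Finset.mem_univ _, fun h' => hi₂ (by linear_combination h' - h)⟩⟩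
    · exact ⟨i₁, Finset.mem_filter.mpr ⟨Finset.mem_univ _, h⟩⟩
  -- some column has exactly one non-zero entry
  obtain ⟨j₀, hj₀⟩ : ∃ j, (Finset.univ.filter fun i => A i + B j ≠ 0).card = 1 := by
    by_contra hno
    push Not at hno
    have : Fintype.card J * 2 ≤ ∑ j : J, (Finset.univ.filter fun i => A i + B j ≠ 0).card := by
      rw [← Finset.card_univ, ← smul_eq_mul, ← Finset.sum_const]
      exact Finset.sum_le_sum fun j _ => by have := hcol j; have := hno j; omega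
    omega
  obtain ⟨i₀, hi₀⟩ := Finset.card_eq_one.mp hj₀
  have hA' : ∀ i, i ≠ i₀ → A i = -B j₀ := fun i hi => by
    by_contra h
    have : i ∈ Finset.univ.filter fun i => A i + B j₀ ≠ 0 :=
      Finset.mem_filter.mpr ⟨Finset.mem_univ _, fun e => h (by linear_combination e)⟩
    rw [hi₀, Finset.mem_singleton] at this
    exact hi this
  have hA0 : A i₀ + B j₀ ≠ 0 := (Finset.mem_filter.mp (hi₀ ▸ Finset.mem_singleton_self i₀ : i₀ ∈ Finset.univ.filter fun i => A i + B j₀ ≠ 0)).2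
  have hB : ∀ j, B j = B j₀ := by
    by_contra hne
    push Not at hne
    obtain ⟨j₂, hj₂⟩ := hne
    have h3 : Fintype.card I - 1 ≤ (Finset.univ.filter fun i => A i + B j₂ ≠ 0).card := by
      rw [← Finset.card_univ, ← Finset.card_erase_of_mem (Finset.mem_univ i₀)]
      refine Finset.card_le_card fun i hi => Finset.mem_filter.mpr ⟨Finset.mem_univ _, fun e => hj₂ ?_⟩
      rw [hA' i (Finset.ne_of_mem_erase hi)] at e
      linear_combination e
    have : (Fintype.card J - 1) * 1 + (Fintype.card I - 1) ≤ ∑ j : J, (Finset.univ.filter fun i => A i + B j ≠ 0).card := by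
      rw [← Finset.sum_erase_add _ _ (Finset.mem_univ j₂)]
      refine Nat.add_le_add ?_ h3
      rw [← Finset.card_univ, ← Finset.card_erase_of_mem (Finset.mem_univ j₂), ← smul_eq_mul, ← Finset.sum_const]
      exact Finset.sum_le_sum fun j _ => hcol j
    omega
  refine Or.inr (Or.inr ⟨i₀, A i₀ + B j₀, fun i j => ?_⟩)
  rw [hB j]
  split
  · rename_i e; rw [e]
  · rename_i hne; rw [hA' i hne]; ring

variable {G : Type u} [Group G] {W₁ W₂ : Subgroup G}

theorem exists_prod_equiv [Finite G] (hdisj : W₁ ⊓ W₂ = ⊥) (hcomm : ∀ a ∈ W₁, ∀ b ∈ W₂, a * b = b * a) :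
    ∃ e : W₁ × W₂ ≃* ↥(W₁ ⊔ W₂), ∀ p, (e p : G) = (p.1 : G) * p.2 := by
  let e₀ : W₁ × W₂ →* ↥(W₁ ⊔ W₂) := MonoidHom.noncommCoprod (Subgroup.inclusion le_sup_left)
    (Subgroup.inclusion le_sup_right) (fun a b => Subtype.ext (hcomm a a.2 b b.2))
  have he₀ : Function.Bijective e₀ := by
    refine ⟨(injective_iff_map_eq_one e₀).mpr ?_, ?_⟩
    · rintro ⟨a, b⟩ h
      have h' : (a : G) * b = 1 := congrArg Subtype.val h
      have ha : (a : G) ∈ W₁ ⊓ W₂ := ⟨a.2, by rw [eq_inv_of_mul_eq_one_left h']; exact W₂.inv_mem b.2⟩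
      rw [hdisj, Subgroup.mem_bot] at ha
      rw [ha, one_mul] at h'
      exact Prod.ext (Subtype.ext ha) (Subtype.ext h')
    · rintro ⟨z, hz⟩
      have hn : W₁ ≤ Subgroup.normalizer (W₂ : Set G) := fun a ha => Subgroup.mem_normalizer_iff.mpr fun b => by
        constructor
        · intro hb; rw [hcomm a ha b hb]; simpa using hb
        · intro hb
          have := hcomm a⁻¹ (W₁.inv_mem ha) _ hb
          have e : b = a * b * a⁻¹ := by
            calc b = a⁻¹ * (a * b * a⁻¹) * a := by group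
              _ = a * b * a⁻¹ := by rw [this]; group
          rw [e]; exact hb
      have hz' := hz
      rw [← SetLike.mem_coe, Subgroup.coe_mul_of_left_le_normalizer_right _ _ hn] at hz'
      obtain ⟨a, ha, b, hb, rfl⟩ := hz'
      exact ⟨(⟨a, ha⟩, ⟨b, hb⟩), rfl⟩
  exact ⟨MulEquiv.ofBijective e₀ he₀, fun p => rfl⟩

theorem coefficient_trichotomy [Fintype G] [Fintype ↥(W₁ ⊔ W₂)] (hW : IsSelfNormalizingCyclic W₁ W₂)
    (hodd : Odd (Nat.card ↥(W₁ ⊔ W₂))) {χ : (↥(W₁ ⊔ W₂) →* ℂˣ) → (G → ℂ)} (hχ : IsCyclicTIFamily W₁ W₂ χ)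
    (hlt : Nat.card W₁ < Nat.card W₂) {θ : G → ℂ} (hθ : IsClassFunction G θ)
    (hθV : ∀ w : ↥(W₁ ⊔ W₂), (w : G) ∉ W₁ → (w : G) ∉ W₂ → θ w = 0)
    (hfew : Nat.card {ω : ↥(W₁ ⊔ W₂) →* ℂˣ // classInner θ (χ ω) ≠ 0} < 2 * Nat.card W₁) :
    (∀ ω, classInner θ (χ ω) = 0) ∨
    (∃ (ψ₀ : ↥(W₁ ⊔ W₂) →* ℂˣ) (a : ℂ), (∀ ω, (∀ w : ↥(W₁ ⊔ W₂), (w : G) ∈ W₂ → (ω * ψ₀⁻¹) w = 1) → classInner θ (χ ω) = a) ∧
      ∀ ω, ¬ (∀ w : ↥(W₁ ⊔ W₂), (w : G) ∈ W₂ → (ω * ψ₀⁻¹) w = 1) → classInner θ (χ ω) = 0) ∨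
    (∃ (φ₀ : ↥(W₁ ⊔ W₂) →* ℂˣ) (a : ℂ), (∀ ω, (∀ w : ↥(W₁ ⊔ W₂), (w : G) ∈ W₁ → (ω * φ₀⁻¹) w = 1) → classInner θ (χ ω) = a) ∧
      ∀ ω, ¬ (∀ w : ↥(W₁ ⊔ W₂), (w : G) ∈ W₁ → (ω * φ₀⁻¹) w = 1) → classInner θ (χ ω) = 0) := by
  classical
  obtain ⟨hne1, hne2, hdisj, hcomm, hcyc, -⟩ := hW
  haveI := hcyc
  letI := IsCyclic.commGroup (α := ↥(W₁ ⊔ W₂))
  obtain ⟨e, he⟩ := exists_prod_equiv hdisj hcomm
  let p₁ : ↥(W₁ ⊔ W₂) →* W₁ := (MonoidHom.fst W₁ W₂).comp e.symm.toMonoidHom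
  let p₂ : ↥(W₁ ⊔ W₂) →* W₂ := (MonoidHom.snd W₁ W₂).comp e.symm.toMonoidHom
  have hmem2 : ∀ z : ↥(W₁ ⊔ W₂), ∀ h : (z : G) ∈ W₂, e.symm z = (1, ⟨z, h⟩) := fun z h => e.injective (by
    rw [MulEquiv.apply_symm_apply]; exact Subtype.ext (by rw [he]; simp))
  have hmem1 : ∀ z : ↥(W₁ ⊔ W₂), ∀ h : (z : G) ∈ W₁, e.symm z = (⟨z, h⟩, 1) := fun z h => e.injective (by
    rw [MulEquiv.apply_symm_apply]; exact Subtype.ext (by rw [he]; simp))
  let P : (W₁ →* ℂˣ) × (W₂ →* ℂˣ) → (↥(W₁ ⊔ W₂) →* ℂˣ) := fun q => q.1.comp p₁ * q.2.comp p₂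
  have hP1 : ∀ q (z : ↥(W₁ ⊔ W₂)) (h : (z : G) ∈ W₁), P q z = q.1 ⟨z, h⟩ := fun q z h => by
    show q.1 (p₁ z) * q.2 (p₂ z) = _
    simp [p₁, p₂, hmem1 z h]
  have hP2 : ∀ q (z : ↥(W₁ ⊔ W₂)) (h : (z : G) ∈ W₂), P q z = q.2 ⟨z, h⟩ := fun q z h => by
    show q.1 (p₁ z) * q.2 (p₂ z) = _
    simp [p₁, p₂, hmem2 z h]
  have hPinj : Function.Injective P := fun q r h => by
    refine Prod.ext (MonoidHom.ext fun x => ?_) (MonoidHom.ext fun y => ?_)
    · have := DFunLike.congr_fun h ⟨(x : G), Subgroup.mem_sup_left x.2⟩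
      rwa [hP1 q _ x.2, hP1 r _ x.2] at this
    · have := DFunLike.congr_fun h ⟨(y : G), Subgroup.mem_sup_right y.2⟩
      rwa [hP2 q _ y.2, hP2 r _ y.2] at this
  have hPsurj : Function.Surjective P := fun ω =>
    ⟨(ω.comp (Subgroup.inclusion le_sup_left), ω.comp (Subgroup.inclusion le_sup_right)), by
      refine cyc_hom_ext hcomm _ _ fun w hw => ?_
      rcases hw with h | h
      · rw [hP1 _ w h]; rfl
      · rw [hP2 _ w h]; rfl⟩
  let eP := Equiv.ofBijective P ⟨hPinj, hPsurj⟩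
  let A : (W₁ →* ℂˣ) → ℂ := fun a => classInner θ (χ (P (a, 1))) - classInner θ (χ 1)
  let B : (W₂ →* ℂˣ) → ℂ := fun b => classInner θ (χ (P (1, b)))
  have hval : ∀ q, classInner θ (χ (P q)) = A q.1 + B q.2 := by
    intro q
    have hP : P q = P (q.1, 1) * P (1, q.2) := MonoidHom.ext fun z => by simp [P]
    have h := family_relation hχ hθ (P (q.1, 1)) (P (1, q.2)) (fun w hw => by rw [hP2 _ w hw]; rfl) (fun w hw => by rw [hP1 _ w hw]; rfl)
    have hz : classInner (fun w : ↥(W₁ ⊔ W₂) => θ w) (cycBeta (P (q.1, 1)) (P (1, q.2))) = 0 := by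
      refine mul_eq_zero_of_right _ (Finset.sum_eq_zero fun w _ => ?_)
      by_cases hw : (w : G) ∈ W₁ ∨ (w : G) ∈ W₂
      · rw [cycBeta_eq_zero _ _ (fun w hw => by rw [hP2 _ w hw]; rfl) (fun w hw => by rw [hP1 _ w hw]; rfl) w hw, map_zero, mul_zero]
      · rw [not_or] at hw
        show θ w * _ = 0
        rw [hθV w hw.1 hw.2, zero_mul]
    rw [hz] at h
    simp only [A, B]
    rw [← hP] at h
    linear_combination -h
  haveI := Fintype.ofFinite W₁
  haveI := Fintype.ofFinite W₂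
  letI := Fintype.ofFinite (W₁ →* ℂˣ)
  letI := Fintype.ofFinite (W₂ →* ℂˣ)
  have hab : ∀ (V : Subgroup G), V ≤ W₁ ⊔ W₂ → Nat.card (V →* ℂˣ) = Nat.card V := fun V hV => by
    rw [Partition.natCard_hom]
    have : commutator V = ⊥ := by
      rw [commutator_def, eq_bot_iff, Subgroup.commutator_le]
      intro a _ b _
      rw [Subgroup.mem_bot, commutatorElement_eq_one_iff_mul_comm]
      exact Subtype.ext (congrArg Subtype.val (mul_comm (⟨(a : G), hV a.2⟩ : ↥(W₁ ⊔ W₂)) ⟨(b : G), hV b.2⟩) :)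
    rw [this, Subgroup.index_bot]
  have hc1 := hab W₁ le_sup_left
  have hc2 := hab W₂ le_sup_right
  rw [Nat.card_eq_fintype_card (α := W₁ →* ℂˣ)] at hc1
  rw [Nat.card_eq_fintype_card (α := W₂ →* ℂˣ)] at hc2
  have hprod : Nat.card ↥(W₁ ⊔ W₂) = Nat.card W₁ * Nat.card W₂ := by rw [← Nat.card_prod]; exact Nat.card_congr e.symm.toEquiv
  rw [hprod, Nat.odd_mul] at hodd
  haveI := (Subgroup.nontrivial_iff_ne_bot W₁).mpr hne1
  have h3 : 1 < Nat.card W₁ := Finite.one_lt_card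
  have hfew' : Nat.card {q : (W₁ →* ℂˣ) × (W₂ →* ℂˣ) // A q.1 + B q.2 ≠ 0} < 2 * Fintype.card (W₁ →* ℂˣ) := by
    rw [hc1]
    refine lt_of_eq_of_lt (Nat.card_congr (eP.subtypeEquiv fun q => ?_)) hfew
    rw [← hval]; rfl
  have := hodd.1
  have := hodd.2
  rw [Nat.odd_iff] at *
  rcases few_entries A B (by omega) (by omega) hfew' with h | ⟨j₀, a, h⟩ | ⟨i₀, a, h⟩
  · refine Or.inl fun ω => ?_
    obtain ⟨q, rfl⟩ := hPsurj ω
    rw [hval, h]
  · refine Or.inr (Or.inl ⟨P (1, j₀), a, ?_⟩)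
    have key : ∀ q, (∀ w : ↥(W₁ ⊔ W₂), (w : G) ∈ W₂ → (P q * (P (1, j₀))⁻¹) w = 1) ↔ q.2 = j₀ := fun q => by
      constructor
      · intro hh
        refine MonoidHom.ext fun y => ?_
        have := hh ⟨(y : G), Subgroup.mem_sup_right y.2⟩ y.2
        rw [MonoidHom.mul_apply, MonoidHom.inv_apply, hP2 _ _ y.2, hP2 _ _ y.2, mul_inv_eq_one] at this
        exact this
      · intro e w hw
        rw [MonoidHom.mul_apply, MonoidHom.inv_apply, hP2 _ _ hw, hP2 _ _ hw, e, mul_inv_cancel]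
    constructor <;> intro ω hω <;> obtain ⟨q, rfl⟩ := hPsurj ω <;> rw [hval, h]
    · rw [if_pos ((key q).mp hω)]
    · rw [if_neg fun e => hω ((key q).mpr e)]
  · refine Or.inr (Or.inr ⟨P (i₀, 1), a, ?_⟩)
    have key : ∀ q, (∀ w : ↥(W₁ ⊔ W₂), (w : G) ∈ W₁ → (P q * (P (i₀, 1))⁻¹) w = 1) ↔ q.1 = i₀ := fun q => by
      constructor
      · intro hh
        refine MonoidHom.ext fun y => ?_
        have := hh ⟨(y : G), Subgroup.mem_sup_left y.2⟩ y.2
        rw [MonoidHom.mul_apply, MonoidHom.inv_apply, hP1 _ _ y.2, hP1 _ _ y.2, mul_inv_eq_one] at this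
        exact this
      · intro e w hw
        rw [MonoidHom.mul_apply, MonoidHom.inv_apply, hP1 _ _ hw, hP1 _ _ hw, e, mul_inv_cancel]
    constructor <;> intro ω hω <;> obtain ⟨q, rfl⟩ := hPsurj ω <;> rw [hval, h]
    · rw [if_pos ((key q).mp hω)]
    · rw [if_neg fun e => hω ((key q).mpr e)]

end CfsgLib.CharTheory
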