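/-
The Dade isometry.
-/
import Cfsg.Agent.Lib.CharTheory.OddBasics
import Cfsg.Prelude.Def_OddOrderChar

set_option autoImplicit false

namespace CfsgLib.Dade

open Cfsg
open scoped ComplexConjugate Pointwise

universe u

variable {G : Type u} [Group G] [Finite G] {A : Set G} {L : Subgroup G} {H : G → Subgroup G}

theorem comm_of_mem (hD : DadeHypothesis A L H) {a u : G} (ha : a ∈ A) (hu : u ∈ H a) : a * u = u * a :=
  Subgroup.mem_centralizer_iff.mp (hD.le_centralizer a ha hu) a rfl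

/-- `H` is equivariant under `L`. -/
theorem conj_mem_H_of_mem (hD : DadeHypothesis A L H) {a x u : G} (ha : a ∈ A) (hx : x ∈ L) (hu : u ∈ H a) :
    x * u * x⁻¹ ∈ H (x * a * x⁻¹) := by
  classical
  set b := x * a * x⁻¹ with hb'
  have hb : b ∈ A := hD.conj_mem x hx a ha
  have hu1 := Subgroup.mem_centralizer_iff.mp (hD.le_centralizer a ha hu) a rfl
  have hv : x * u * x⁻¹ ∈ Subgroup.centralizer ({b} : Set G) := Subgroup.mem_centralizer_iff.mpr fun w hw => by
    rw [Set.mem_singleton_iff.mp hw, hb']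
    calc x * a * x⁻¹ * (x * u * x⁻¹) = x * (a * u) * x⁻¹ := by group
      _ = x * (u * a) * x⁻¹ := by rw [hu1]
      _ = x * u * x⁻¹ * (x * a * x⁻¹) := by group
  set v := x * u * x⁻¹ with hv'
  set C := L ⊓ Subgroup.centralizer ({b} : Set G) with hC
  have hnorm : C ≤ Subgroup.normalizer (H b : Set G) := fun c hc => Subgroup.mem_normalizer_iff.mpr fun w =>
    ⟨hD.conj_mem_H b hb c hc.2 w, fun h => by simpa [mul_assoc] using hD.conj_mem_H b hb c⁻¹ (inv_mem hc.2) _ h⟩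
  rw [← hD.sup_eq b hb, sup_comm, ← SetLike.mem_coe, Subgroup.coe_mul_of_left_le_normalizer_right _ _ hnorm] at hv
  obtain ⟨c, hc, w, hw, hcw⟩ := hv
  set P := H b ⊔ C with hP
  have hle : H b ≤ P := le_sup_left
  haveI : ((H b).subgroupOf P).Normal := (Subgroup.normal_subgroupOf_iff_le_normalizer hle).mpr (sup_le Subgroup.le_normalizer hnorm)
  let π := QuotientGroup.mk' ((H b).subgroupOf P)
  let cP : P := ⟨c, le_sup_right (a := H b) hc⟩
  let wP : P := ⟨w, hle hw⟩
  have h1 : π (cP * wP) = π cP := QuotientGroup.eq.mpr (by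
    show ((cP * wP)⁻¹ * cP : G) ∈ H b
    simpa [cP, wP, mul_assoc] using inv_mem hw)
  have h2 : orderOf (π cP) ∣ Nat.card C := (orderOf_map_dvd π cP).trans (by rw [← Subgroup.orderOf_coe]; exact C.orderOf_dvd_natCard hc)
  have h3 : orderOf (π cP) ∣ Nat.card (H a) := by
    rw [← h1]
    refine (orderOf_map_dvd π _).trans ?_
    rw [← Subgroup.orderOf_coe]
    show orderOf (c * w) ∣ _
    have hcw' : c * w = v := hcw
    rw [hcw', hv', show orderOf (x * u * x⁻¹) = orderOf u from MulEquiv.orderOf_eq (MulAut.conj x) u]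
    exact (H a).orderOf_dvd_natCard hu
  have h4 : π cP = 1 := orderOf_eq_one_iff.mp (Nat.eq_one_of_dvd_coprimes (hD.coprime a ha b hb) h3 h2)
  have h5 : c ∈ H b := (QuotientGroup.eq_one_iff cP).mp h4
  exact hcw ▸ (H b).mul_mem h5 hw

theorem card_H_conj (hD : DadeHypothesis A L H) {a x : G} (ha : a ∈ A) (hx : x ∈ L) :
    Nat.card (H (x * a * x⁻¹)) = Nat.card (H a) := by
  refine le_antisymm ?_ ?_
  · refine Nat.card_le_card_of_injective (fun v : H (x * a * x⁻¹) => (⟨x⁻¹ * v * x, by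
      have := conj_mem_H_of_mem hD (hD.conj_mem x hx a ha) (L.inv_mem hx) v.2
      simpa [mul_assoc] using this⟩ : H a)) fun p q e => ?_
    have e' : x⁻¹ * (p : G) * x = x⁻¹ * (q : G) * x := congrArg Subtype.val e
    exact Subtype.ext (mul_left_cancel (mul_right_cancel e'))
  · refine Nat.card_le_card_of_injective (fun v : H a => (⟨x * v * x⁻¹, conj_mem_H_of_mem hD ha hx v.2⟩ : H (x * a * x⁻¹))) fun p q e => ?_
    have e' : x * (p : G) * x⁻¹ = x * (q : G) * x⁻¹ := congrArg Subtype.val e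
    exact Subtype.ext (mul_left_cancel (mul_right_cancel e'))

theorem coprime_orderOf (hD : DadeHypothesis A L H) {a b : G} (ha : a ∈ A) (hb : b ∈ A) :
    (orderOf b).Coprime (Nat.card (H a)) := by
  refine ((hD.coprime a ha b hb).symm).coprime_dvd_left ((L ⊓ Subgroup.centralizer ({b} : Set G)).orderOf_dvd_natCard (Subgroup.mem_inf.mpr ⟨hD.subset hb, ?_⟩))
  exact Subgroup.mem_centralizer_iff.mpr fun y hy => by rw [Set.mem_singleton_iff.mp hy]

/-- The `a`-part of an element of the coset `a H a` is `a`. -/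
theorem conj_eq_of_coset (hD : DadeHypothesis A L H) {a b u v g : G} (ha : a ∈ A) (hb : b ∈ A) (hu : u ∈ H a)
    (hv : v ∈ H b) (h : g * (a * u) * g⁻¹ = b * v) : g * a * g⁻¹ = b ∧ g * u * g⁻¹ = v := by
  have hcop : (orderOf a * orderOf b).Coprime (Nat.card (H a) * Nat.card (H b)) :=
    Nat.Coprime.mul_left (Nat.Coprime.mul_right (coprime_orderOf hD ha ha) (coprime_orderOf hD hb ha))
      (Nat.Coprime.mul_right (coprime_orderOf hD ha hb) (coprime_orderOf hD hb hb))
  obtain ⟨k, h1, h2⟩ := Nat.chineseRemainder hcop 1 0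
  have pw : ∀ c w : G, c ∈ A → w ∈ H c → orderOf c ∣ orderOf a * orderOf b → Nat.card (H c) ∣ Nat.card (H a) * Nat.card (H b) →
      (c * w) ^ k = c := by
    intro c w hc hw d1 d2
    rw [(show Commute c w from comm_of_mem hD hc hw).mul_pow, orderOf_dvd_iff_pow_eq_one.mp
      (((H c).orderOf_dvd_natCard hw).trans (d2.trans (Nat.modEq_zero_iff_dvd.mp h2))), mul_one]
    conv_rhs => rw [← pow_one c]
    exact pow_eq_pow_iff_modEq.mpr (h1.of_dvd d1)
  have e := congrArg (· ^ k) h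
  simp only [conj_pow, pw a u ha hu (dvd_mul_right _ _) (dvd_mul_right _ _), pw b v hb hv (dvd_mul_left _ _) (dvd_mul_left _ _)] at e
  refine ⟨e, mul_left_cancel (a := b) ?_⟩
  rw [← h]
  calc b * (g * u * g⁻¹) = g * a * g⁻¹ * (g * u * g⁻¹) := by rw [e]
    _ = g * (a * u) * g⁻¹ := by group

theorem normalizer_coset (hD : DadeHypothesis A L H) {a : G} (ha : a ∈ A) :
    Subgroup.normalizer ((fun u : G => a * u) '' (H a : Set G)) = Subgroup.centralizer ({a} : Set G) := by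
  ext g
  constructor
  · intro hg
    obtain ⟨v, hv, e⟩ := (Subgroup.mem_set_normalizer_iff.mp hg (a * 1)).mp ⟨1, (H a).one_mem, rfl⟩
    refine Subgroup.mem_centralizer_iff.mpr fun y hy => ?_
    rw [Set.mem_singleton_iff.mp hy]
    have e2 := (conj_eq_of_coset hD ha ha (H a).one_mem hv e.symm).1
    calc a * g = (g * a * g⁻¹) * g := by rw [e2]
      _ = g * a := by group
  · intro hg
    rw [Subgroup.mem_set_normalizer_iff]
    intro y
    have hga : a * g = g * a := Subgroup.mem_centralizer_iff.mp hg a rfl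
    constructor
    · rintro ⟨u, hu, rfl⟩
      refine ⟨g * u * g⁻¹, hD.conj_mem_H a ha g hg u hu, ?_⟩
      show a * (g * u * g⁻¹) = g * (a * u) * g⁻¹
      rw [← mul_assoc g a, ← hga]; group
    · rintro ⟨v, hv, e⟩
      refine ⟨g⁻¹ * v * g, by simpa using hD.conj_mem_H a ha g⁻¹ (inv_mem hg) v hv, ?_⟩
      have e' : a * v = g * y * g⁻¹ := e
      show a * (g⁻¹ * v * g) = y
      calc a * (g⁻¹ * v * g) = (g⁻¹ * g) * a * (g⁻¹ * v * g) := by group
        _ = g⁻¹ * (a * g) * g⁻¹ * v * g := by rw [hga]; group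
        _ = g⁻¹ * (a * v) * g := by group
        _ = y := by rw [e']; group

theorem dade_apply (hD : DadeHypothesis A L H) {α : L → ℂ} (hα : IsClassFunction L α) {a : L} (ha : (a : G) ∈ A)
    {g x u : G} (hu : u ∈ H a) (hx : x * g * x⁻¹ = (a : G) * u) : dadeIsometry A L H α g = α a := by
  classical
  have h : ∃ a : L, (a : G) ∈ A ∧ ∃ x : G, ∃ u ∈ H (a : G), x * g * x⁻¹ = (a : G) * u := ⟨a, ha, x, u, hu, hx⟩
  rw [dadeIsometry, dif_pos h]
  obtain ⟨hb, y, v, hv, hy⟩ := Classical.choose_spec h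
  set b := Classical.choose h
  have e : (y * x⁻¹) * ((a : G) * u) * (y * x⁻¹)⁻¹ = (b : G) * v := by rw [← hx, ← hy]; group
  have e1 := (conj_eq_of_coset hD ha hb hu hv e).1
  obtain ⟨l, hl, hle⟩ := hD.fusion (a : G) ha (y * x⁻¹) (by rw [e1]; exact hb)
  have : b = (⟨l, hl⟩ : L) * a * (⟨l, hl⟩ : L)⁻¹ := Subtype.ext (by show (b : G) = l * a * l⁻¹; rw [hle, e1])
  rw [this]
  exact hα a ⟨l, hl⟩

theorem isClassFunction_dade (hD : DadeHypothesis A L H) {α : L → ℂ} (hα : IsClassFunction L α) :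
    IsClassFunction G (dadeIsometry A L H α) := by
  classical
  intro g k
  by_cases h : ∃ a : L, (a : G) ∈ A ∧ ∃ x : G, ∃ u ∈ H (a : G), x * g * x⁻¹ = (a : G) * u
  · obtain ⟨a, ha, x, u, hu, hx⟩ := h
    rw [dade_apply hD hα ha hu hx, dade_apply hD hα ha hu (x := x * k⁻¹) (by rw [← hx]; group)]
  · have h' : ¬ ∃ a : L, (a : G) ∈ A ∧ ∃ x : G, ∃ u ∈ H (a : G), x * (k * g * k⁻¹) * x⁻¹ = (a : G) * u := by
      rintro ⟨a, ha, x, u, hu, hx⟩
      exact h ⟨a, ha, x * k, u, hu, by rw [← hx]; group⟩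
    rw [dadeIsometry, dif_neg h', dadeIsometry, dif_neg h]

/-- The reciprocity formula for the Dade map. -/
theorem classInner_dade [Fintype G] [Fintype L] (hD : DadeHypothesis A L H) {α : L → ℂ} (hα : IsClassFunction L α)
    (hαA : ∀ x : L, (x : G) ∉ A → α x = 0) {χ : G → ℂ} (hχ : IsClassFunction G χ) (ψ : L → ℂ)
    (hψ : ∀ a : L, (a : G) ∈ A → ψ a = (Nat.card (H a) : ℂ)⁻¹ * ∑ᶠ u ∈ (H a : Set G), χ (a * u)) :
    classInner (dadeIsometry A L H α) χ = classInner α ψ := by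
  classical
  letI instH : ∀ g : G, Fintype (H g) := fun g => Fintype.ofFinite _
  let T := Σ a : {a : L // (a : G) ∈ A}, H (a.1 : G) × G
  letI instT : Fintype T := inferInstanceAs (Fintype (Σ a : {a : L // (a : G) ∈ A}, H (a.1 : G) × G))
  let w : T → ℂ := fun t => α t.1.1 * (Nat.card (H (t.1.1 : G)) : ℂ)⁻¹
  let Ψ : T → G := fun t => t.2.2⁻¹ * ((t.1.1 : G) * t.2.1) * t.2.2
  have hfib : ∀ g : G, ∑ t ∈ Finset.univ.filter (fun t => Ψ t = g), w t = (Nat.card L : ℂ) * dadeIsometry A L H α g := by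
    intro g
    by_cases hg : ∃ t, Ψ t = g
    · obtain ⟨⟨⟨a₀, ha₀⟩, ⟨u₀, hu₀⟩, x₀⟩, ht⟩ := hg
      have ht' : x₀ * g * x₀⁻¹ = (a₀ : G) * u₀ := by rw [← ht]; simp [Ψ, mul_assoc]
      rw [dade_apply hD hα ha₀ hu₀ ht']
      let mk : L × H (a₀ : G) → T := fun p =>
        ⟨⟨p.1 * a₀ * p.1⁻¹, by simpa using hD.conj_mem p.1 p.1.2 a₀ ha₀⟩,
          ⟨(p.1 : G) * ((p.2 : G) * u₀ * (p.2 : G)⁻¹) * (p.1 : G)⁻¹, by
            have := conj_mem_H_of_mem hD ha₀ p.1.2 ((H (a₀ : G)).mul_mem ((H (a₀ : G)).mul_mem p.2.2 hu₀) ((H (a₀ : G)).inv_mem p.2.2))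
            simpa using this⟩, (p.1 : G) * p.2 * x₀⟩
      have hmk : ∀ p, Ψ (mk p) = g := fun p => by
        have hc := comm_of_mem hD ha₀ p.2.2
        show ((p.1 : G) * p.2 * x₀)⁻¹ * ((((p.1 * a₀ * p.1⁻¹ : L) : G)) * ((p.1 : G) * ((p.2 : G) * u₀ * (p.2 : G)⁻¹) * (p.1 : G)⁻¹)) * ((p.1 : G) * p.2 * x₀) = g
        simp only [Subgroup.coe_mul, Subgroup.coe_inv]
        calc _ = x₀⁻¹ * ((p.2 : G)⁻¹ * ((a₀ : G) * p.2) * u₀) * x₀ := by group
          _ = g := by rw [hc, ← ht]; simp [Ψ, mul_assoc]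
      have hinj : Function.Injective mk := by
        intro p q e
        have e3 : (p.1 : G) * p.2 * x₀ = (q.1 : G) * q.2 * x₀ := congrArg (fun t : T => t.2.2) e
        have e4 : (q.1 : G)⁻¹ * p.1 = q.2 * (p.2 : G)⁻¹ := by
          rw [inv_mul_eq_iff_eq_mul, ← mul_assoc, eq_mul_inv_iff_mul_eq]
          exact mul_right_cancel e3
        have h5 : (q.1 : G)⁻¹ * p.1 ∈ H (a₀ : G) ⊓ (L ⊓ Subgroup.centralizer ({(a₀ : G)} : Set G)) := by
          refine ⟨e4 ▸ (H (a₀ : G)).mul_mem q.2.2 ((H (a₀ : G)).inv_mem p.2.2), L.mul_mem (L.inv_mem q.1.2) p.1.2, ?_⟩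
          rw [e4]
          exact hD.le_centralizer _ ha₀ ((H (a₀ : G)).mul_mem q.2.2 ((H (a₀ : G)).inv_mem p.2.2))
        rw [hD.inf_eq_bot _ ha₀, Subgroup.mem_bot] at h5
        refine Prod.ext (Subtype.ext (inv_mul_eq_one.mp h5).symm) (Subtype.ext ?_)
        rw [h5, eq_comm, mul_inv_eq_one] at e4
        exact e4.symm
      have himg : Finset.univ.filter (fun t => Ψ t = g) = Finset.univ.image mk := by
        ext t
        simp only [Finset.mem_filter, Finset.mem_univ, true_and, Finset.mem_image]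
        refine ⟨fun h => ?_, fun ⟨p, hp⟩ => hp ▸ hmk p⟩
        obtain ⟨⟨b, hb⟩, ⟨v, hv⟩, y⟩ := t
        have hy : y * g * y⁻¹ = (b : G) * v := by rw [← h]; simp [Ψ, mul_assoc]
        set z := y * x₀⁻¹ with hz
        have e : z * ((a₀ : G) * u₀) * z⁻¹ = (b : G) * v := by rw [← ht', ← hy, hz]; group
        obtain ⟨e1, e2⟩ := conj_eq_of_coset hD ha₀ hb hu₀ hv e
        obtain ⟨l, hl, hle⟩ := hD.fusion _ ha₀ z (by rw [e1]; exact hb)
        have hc : l⁻¹ * z ∈ Subgroup.centralizer ({(a₀ : G)} : Set G) := Subgroup.mem_centralizer_iff.mpr fun q hq => by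
          rw [Set.mem_singleton_iff.mp hq]
          calc (a₀ : G) * (l⁻¹ * z) = l⁻¹ * (l * a₀ * l⁻¹) * z := by group
            _ = l⁻¹ * (z * a₀ * z⁻¹) * z := by rw [hle]
            _ = l⁻¹ * z * a₀ := by group
        have hnorm : L ⊓ Subgroup.centralizer ({(a₀ : G)} : Set G) ≤ Subgroup.normalizer (H (a₀ : G) : Set G) := fun c hc => Subgroup.mem_normalizer_iff.mpr fun q =>
          ⟨hD.conj_mem_H _ ha₀ c hc.2 q, fun h => by simpa [mul_assoc] using hD.conj_mem_H _ ha₀ c⁻¹ (inv_mem hc.2) _ h⟩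
        rw [← hD.sup_eq _ ha₀, sup_comm, ← SetLike.mem_coe, Subgroup.coe_mul_of_left_le_normalizer_right _ _ hnorm] at hc
        obtain ⟨c, hc', r, hr, hcr⟩ := hc
        have hz' : z = l * c * r := by rw [mul_assoc, show c * r = l⁻¹ * z from hcr]; group
        refine ⟨(⟨l * c, L.mul_mem hl hc'.1⟩, ⟨r, hr⟩), ?_⟩
        have hb' : (⟨l * c, L.mul_mem hl hc'.1⟩ : L) * a₀ * (⟨l * c, L.mul_mem hl hc'.1⟩ : L)⁻¹ = b := Subtype.ext (by
          show l * c * (a₀ : G) * (l * c)⁻¹ = b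
          rw [← e1, hz']
          calc l * c * (a₀ : G) * (l * c)⁻¹ = l * c * ((a₀ : G) * r) * r⁻¹ * (l * c)⁻¹ := by group
            _ = l * c * r * a₀ * (l * c * r)⁻¹ := by rw [comm_of_mem hD ha₀ hr]; group)
        subst hb'
        refine Sigma.ext rfl (heq_of_eq (Prod.ext (Subtype.ext ?_) ?_))
        · show l * c * (r * u₀ * r⁻¹) * (l * c)⁻¹ = v
          rw [← e2, hz']; group
        · show l * c * r * x₀ = y
          rw [← hz', hz]; group
      rw [himg, Finset.sum_image fun p _ q _ h => hinj h]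
      have hw : ∀ p, w (mk p) = α a₀ * (Nat.card (H (a₀ : G)) : ℂ)⁻¹ := fun p => by
        show α (p.1 * a₀ * p.1⁻¹) * (Nat.card (H ((p.1 * a₀ * p.1⁻¹ : L) : G)) : ℂ)⁻¹ = _
        rw [hα, show ((p.1 * a₀ * p.1⁻¹ : L) : G) = (p.1 : G) * a₀ * (p.1 : G)⁻¹ from rfl, card_H_conj hD ha₀ p.1.2]
      rw [Finset.sum_congr rfl fun p _ => hw p, Finset.sum_const, Finset.card_univ, nsmul_eq_mul,
        ← Nat.card_eq_fintype_card, Nat.card_prod, Nat.cast_mul]
      have : (Nat.card (H (a₀ : G)) : ℂ) ≠ 0 := Nat.cast_ne_zero.mpr Nat.card_pos.ne'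
      field_simp
    · push Not at hg
      rw [Finset.filter_false_of_mem fun t _ => hg t, Finset.sum_empty]
      rw [dadeIsometry, dif_neg, mul_zero]
      rintro ⟨a, ha, x, u, hu, hx⟩
      refine hg ⟨⟨a, ha⟩, ⟨u, hu⟩, x⟩ ?_
      show x⁻¹ * ((a : G) * u) * x = g
      rw [← hx]; group
  have hmain : ∑ g : G, (Nat.card L : ℂ) * (dadeIsometry A L H α g * conj (χ g)) =
      (Nat.card G : ℂ) * ∑ a : L, α a * conj (ψ a) := by
    have h1 : ∀ g : G, (Nat.card L : ℂ) * (dadeIsometry A L H α g * conj (χ g)) =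
        ∑ t ∈ Finset.univ.filter (fun t => Ψ t = g), w t * conj (χ (Ψ t)) := fun g => by
      rw [← mul_assoc, ← hfib, Finset.sum_mul]
      exact Finset.sum_congr rfl fun t ht => by rw [(Finset.mem_filter.mp ht).2]
    rw [Finset.sum_congr rfl fun g _ => h1 g, Finset.sum_fiberwise Finset.univ Ψ (fun t => w t * conj (χ (Ψ t)))]
    have h2 : ∀ t : T, χ (Ψ t) = χ ((t.1.1 : G) * t.2.1) := fun t => by
      show χ (t.2.2⁻¹ * ((t.1.1 : G) * t.2.1) * t.2.2) = _
      simpa using hχ ((t.1.1 : G) * t.2.1) t.2.2⁻¹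
    simp only [h2]
    have hA : ∀ a : L, ¬ (a : G) ∈ A → α a * conj (ψ a) = 0 := fun a ha => by rw [hαA a ha, zero_mul]
    rw [Finset.mul_sum, ← Finset.sum_filter_of_ne (p := fun a : L => (a : G) ∈ A) (fun a _ h => by
      by_contra ha; exact h (by rw [hA a ha, mul_zero])),
      Finset.sum_subtype _ (p := fun a : L => (a : G) ∈ A) (fun a => by simp)]
    rw [Fintype.sum_sigma]
    refine Finset.sum_congr rfl fun a _ => ?_
    rw [hψ a.1 a.2, finsum_mem_eq_finite_toFinset_sum _ (Set.toFinite _),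
      Finset.sum_subtype _ (p := fun u => u ∈ H (a.1 : G)) (fun u => by simp), map_mul, map_inv₀, map_natCast, map_sum,
      Fintype.sum_prod_type]
    simp only [Finset.mul_sum, w]
    refine Finset.sum_congr rfl fun u _ => ?_
    rw [Finset.sum_const, Finset.card_univ, nsmul_eq_mul, ← Nat.card_eq_fintype_card]
    ring
  rw [← Finset.mul_sum] at hmain
  simp only [classInner]
  have hG : (Nat.card G : ℂ) ≠ 0 := Nat.cast_ne_zero.mpr Nat.card_pos.ne'
  have hL : (Nat.card L : ℂ) ≠ 0 := Nat.cast_ne_zero.mpr Nat.card_pos.ne'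
  field_simp
  linear_combination hmain

theorem classInner_dade_dade [Fintype G] [Fintype L] (hD : DadeHypothesis A L H) {α β : L → ℂ} (hα : IsClassFunction L α)
    (hαA : ∀ x : L, (x : G) ∉ A → α x = 0) (hβ : IsClassFunction L β) :
    classInner (dadeIsometry A L H α) (dadeIsometry A L H β) = classInner α β := by
  refine classInner_dade hD hα hαA (isClassFunction_dade hD hβ) β fun a ha => ?_
  classical
  have := Fintype.ofFinite (H (a : G))
  rw [finsum_mem_eq_finite_toFinset_sum _ (Set.toFinite _), Finset.sum_subtype _ (p := fun u => u ∈ H (a : G)) (fun u => by simp)]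
  rw [Finset.sum_congr rfl fun (u : H (a : G)) _ => dade_apply hD hβ (g := (a : G) * u) ha (x := 1) (u := (u : G)) u.2 (by group), Finset.sum_const,
    Finset.card_univ, nsmul_eq_mul, ← Nat.card_eq_fintype_card, ← mul_assoc,
    inv_mul_cancel₀ (Nat.cast_ne_zero.mpr Nat.card_pos.ne'), one_mul]

end CfsgLib.Dade
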