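/-
The Dade map sends virtual characters to virtual characters.
-/
import Cfsg.Agent.Lib.CharTheory.DadeIso
import Cfsg.Agent.Lib.CharTheory.Gallagher

set_option autoImplicit false

namespace CfsgLib.Dade

open Cfsg CfsgLib.CharTheory
open scoped ComplexConjugate Pointwise

universe u

variable {G : Type u} [Group G]

open Classical in
/-- Averaging a class function over a coset of a subgroup of coprime order. -/
theorem sum_coset_coprime [Fintype G] (K : Subgroup G) {g : G} (hg : g ∈ Subgroup.normalizer (K : Set G))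
    (hcop : (orderOf g).Coprime (Nat.card K)) {f : G → ℂ} (hf : IsClassFunction G f) :
    (Nat.card ↥(K ⊓ Subgroup.centralizer {g}) : ℂ) * ∑ h ∈ Finset.univ.filter (· ∈ K), f (g * h) =
      (Nat.card K : ℂ) * ∑ c ∈ Finset.univ.filter (· ∈ K ⊓ Subgroup.centralizer {g}), f (g * c) := by
  classical
  set C := K ⊓ Subgroup.centralizer ({g} : Set G) with hC
  let Φ : K × C → K := fun p => ⟨(p.1 : G)⁻¹ * p.2 * (g * p.1 * g⁻¹),
    K.mul_mem (K.mul_mem (K.inv_mem p.1.2) p.2.2.1) ((Subgroup.mem_normalizer_iff.mp hg p.1).mp p.1.2)⟩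
  have hge : ∀ y : K, Nat.card C ≤ (Finset.univ.filter (fun p => Φ p = y)).card := by
    intro y
    obtain ⟨x, hx, c, hc, hcg, e⟩ := conj_coset_coprime K hg hcop y.2
    have hcC : c ∈ C := ⟨hc, Subgroup.mem_centralizer_iff.mpr fun w hw => by rw [Set.mem_singleton_iff.mp hw, hcg]⟩
    rw [Nat.card_eq_fintype_card, ← Finset.card_univ]
    refine Finset.card_le_card_of_injOn (fun z : C => ((⟨z * x, K.mul_mem z.2.1 hx⟩ : K), z * ⟨c, hcC⟩ * z⁻¹)) (fun z _ => ?_) ?_
    · have hz : g * (z : G) = z * g := Subgroup.mem_centralizer_iff.mp z.2.2 g rfl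
      simp only [Finset.coe_filter, Finset.mem_univ, true_and, Set.mem_setOf_eq]
      refine Subtype.ext ?_
      show ((z : G) * x)⁻¹ * ((z : G) * c * (z : G)⁻¹) * (g * ((z : G) * x) * g⁻¹) = y
      calc _ = x⁻¹ * c * (z : G)⁻¹ * (g * (z : G)) * x * g⁻¹ := by group
        _ = x⁻¹ * (c * g) * x * g⁻¹ := by rw [hz]; group
        _ = y := by rw [← e]; group
    · intro z _ z' _ h
      have := congrArg (fun p : K × C => ((p.1 : K) : G)) h
      exact Subtype.ext (mul_right_cancel this)
  have heq : ∀ y : K, (Finset.univ.filter (fun p => Φ p = y)).card = Nat.card C := by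
    have htot : ∑ _y : K, Nat.card C = ∑ y : K, (Finset.univ.filter (fun p => Φ p = y)).card := by
      rw [← Finset.card_eq_sum_card_fiberwise (fun x _ => Finset.mem_univ (Φ x)), Finset.sum_const, Finset.card_univ,
        Finset.card_univ, smul_eq_mul, Fintype.card_prod, Nat.card_eq_fintype_card]
    exact fun y => ((Finset.sum_eq_sum_iff_of_le fun y _ => hge y).mp htot y (Finset.mem_univ _)).symm
  have hval : ∀ p : K × C, f ((Φ p : G) * g) = f (g * p.2) := fun p => by
    have hc : g * (p.2 : G) = p.2 * g := Subgroup.mem_centralizer_iff.mp p.2.2.2 g rfl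
    show f ((p.1 : G)⁻¹ * p.2 * (g * p.1 * g⁻¹) * g) = _
    rw [hc, show (p.1 : G)⁻¹ * p.2 * (g * p.1 * g⁻¹) * g = (p.1 : G)⁻¹ * ((p.2 : G) * g) * ((p.1 : G)⁻¹)⁻¹ by group]
    exact hf _ _
  have hleft : ∀ h : G, f (g * h) = f (g * h * g⁻¹ * g) := fun h => by group
  rw [Finset.sum_subtype _ (p := fun h => h ∈ K) (fun h => by simp), Finset.sum_subtype _ (p := fun c => c ∈ C) (fun c => by simp)]
  calc (Nat.card C : ℂ) * ∑ h : K, f (g * h) = (Nat.card C : ℂ) * ∑ y : K, f ((y : G) * g) := by
        congr 1
        refine Fintype.sum_equiv (Equiv.ofBijective (fun h : K => (⟨g * h * g⁻¹, (Subgroup.mem_normalizer_iff.mp hg h).mp h.2⟩ : K))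
          ⟨fun a b h => Subtype.ext (by simpa using congrArg Subtype.val h), fun b => ⟨⟨g⁻¹ * b * g, (Subgroup.mem_normalizer_iff''.mp hg b).mp b.2⟩, Subtype.ext (by simp [mul_assoc])⟩⟩) _ _ fun h => hleft h
    _ = ∑ y : K, ∑ p ∈ Finset.univ.filter (fun p => Φ p = y), f (g * p.2) := by
        rw [Finset.mul_sum]
        refine Finset.sum_congr rfl fun y _ => ?_
        rw [Finset.sum_congr rfl fun p hp => by rw [← hval p, (Finset.mem_filter.mp hp).2], Finset.sum_const, heq, nsmul_eq_mul]
    _ = ∑ p : K × C, f (g * p.2) := Finset.sum_fiberwise _ _ _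
    _ = _ := by
        rw [Fintype.sum_prod_type]
        simp only [Finset.sum_const, Finset.card_univ, nsmul_eq_mul]
        rw [Nat.card_eq_fintype_card (α := K)]

/-- The average of a character over the cosets of a normal subgroup is a character. -/
theorem isCharacter_cosetAvg [Fintype G] (N : Subgroup G) [N.Normal] [Fintype N] {χ : G → ℂ} (hχ : IsCharacter G χ) :
    IsCharacter G (cosetAvg N χ) := by
  obtain ⟨l, hl, rfl⟩ := exists_list_irr hχ
  clear hχ
  induction l with
  | nil =>
    have : cosetAvg N ([] : List (G → ℂ)).sum = 0 := by funext g; simp [cosetAvg]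
    rw [this]; exact isCharacter_zero
  | cons a t ih =>
    have e : cosetAvg N (a :: t).sum = cosetAvg N a + cosetAvg N t.sum := by
      funext g; simp [cosetAvg, Finset.sum_add_distrib, mul_add]
    rw [e]
    refine isCharacter_add ?_ (ih fun x hx => hl x (List.mem_cons_of_mem _ hx))
    rcases kernel_or_cosetAvg_eq_zero N (hl a List.mem_cons_self) with h | h
    · rw [cosetAvg_irr_of_kernel N (isCharacter_of_irr (hl a List.mem_cons_self)) h]
      exact isCharacter_of_irr (hl a List.mem_cons_self)
    · rw [h]; exact isCharacter_zero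

/-- A weighted sum of an invariant integer function over the points of an action. -/
theorem sum_stabilizer_mul {Γ X : Type*} [Group Γ] [Finite Γ] [MulAction Γ X] [Fintype X] (f : X → ℤ)
    (hf : ∀ (g : Γ) (x : X), f (g • x) = f x) :
    ∃ z : ℤ, ∑ x, (Nat.card (MulAction.stabilizer Γ x) : ℤ) * f x = (Nat.card Γ : ℤ) * z := by
  classical
  rw [← Finset.sum_fiberwise Finset.univ (fun x : X => MulAction.orbit Γ x)]
  suffices h : ∀ S : Set X, ∃ z : ℤ, ∑ x ∈ Finset.univ.filter (fun y : X => MulAction.orbit Γ y = S),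
      (Nat.card (MulAction.stabilizer Γ x) : ℤ) * f x = (Nat.card Γ : ℤ) * z by
    choose z hz using h
    exact ⟨∑ S, z S, by rw [Finset.mul_sum]; exact Finset.sum_congr rfl fun S _ => hz S⟩
  intro S
  by_cases hS : ∃ x : X, MulAction.orbit Γ x = S
  · obtain ⟨x, rfl⟩ := hS
    refine ⟨f x, ?_⟩
    have hfil : Finset.univ.filter (fun y : X => MulAction.orbit Γ y = MulAction.orbit Γ x) =
        (MulAction.orbit Γ x).toFinset := by ext y; simp [MulAction.orbit_eq_iff]
    have hterm : ∀ y ∈ (MulAction.orbit Γ x).toFinset, (Nat.card (MulAction.stabilizer Γ y) : ℤ) * f y =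
        (Nat.card (MulAction.stabilizer Γ x) : ℤ) * f x := fun y hy => by
      obtain ⟨g, rfl⟩ := MulAction.mem_orbit_iff.mp (Set.mem_toFinset.mp hy)
      rw [hf, Nat.card_congr (MulAction.stabilizerEquivStabilizer (G := Γ) (show g • x = g • x from rfl)).toEquiv]
    rw [hfil, Finset.sum_congr rfl hterm, Finset.sum_const, Set.toFinset_card, ← Nat.card_eq_fintype_card, Nat.card_coe_set_eq,
      ← MulAction.index_stabilizer, nsmul_eq_mul, ← mul_assoc, ← Nat.cast_mul, mul_comm (MulAction.stabilizer Γ x).index, Subgroup.card_mul_index]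
  · push Not at hS
    exact ⟨0, by rw [Finset.filter_false_of_mem fun x _ => hS x, Finset.sum_empty, mul_zero]⟩

variable {A : Set G} {L : Subgroup G} {H : G → Subgroup G}

/-- The nonempty finite subsets of `A`. -/
structure DSet (A : Set G) where
  s : Finset G
  ne : s.Nonempty
  sub : ∀ b ∈ s, b ∈ A

theorem DSet.ext' {B B' : DSet A} (h : B.s = B'.s) : B = B' := by
  cases B; cases B'; cases h; rfl

instance [Finite G] : Finite (DSet A) := by
  classical
  exact Finite.of_injective (fun B => B.s) fun _ _ h => DSet.ext' h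

/-- The intersection of the subgroups attached to a set of elements. -/
def HB (H : G → Subgroup G) (s : Finset G) : Subgroup G := ⨅ b ∈ s, H b

theorem mem_HB {s : Finset G} {u : G} : u ∈ HB H s ↔ ∀ b ∈ s, u ∈ H b := by
  simp [HB, Subgroup.mem_iInf]

theorem card_HB_dvd [Finite G] {s : Finset G} {b : G} (hb : b ∈ s) : Nat.card (HB H s) ∣ Nat.card (H b) :=
  Subgroup.card_dvd_of_le fun _ hu => mem_HB.mp hu b hb

theorem inf_centralizer_HB [Finite G] [DecidableEq G] (hD : DadeHypothesis A L H) {n : G} (hn : n ∈ A) {s : Finset G}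
    (hs : s.Nonempty) (hsA : ∀ b ∈ s, b ∈ A) :
    HB H s ⊓ Subgroup.centralizer {n} = HB H (insert n s) := by
  ext u
  simp only [Subgroup.mem_inf, mem_HB, Finset.mem_insert, forall_eq_or_imp]
  constructor
  · rintro ⟨hu, hc⟩
    refine ⟨?_, hu⟩
    obtain ⟨b, hb⟩ := hs
    set C := L ⊓ Subgroup.centralizer ({n} : Set G) with hC
    have hnorm : C ≤ Subgroup.normalizer (H n : Set G) := fun c hc => Subgroup.mem_normalizer_iff.mpr fun q =>
      ⟨hD.conj_mem_H n hn c hc.2 q, fun h => by simpa [mul_assoc] using hD.conj_mem_H n hn c⁻¹ (inv_mem hc.2) _ h⟩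
    set P := Subgroup.centralizer ({n} : Set G) with hP
    have hle : H n ≤ P := hD.le_centralizer n hn
    haveI hnn : ((H n).subgroupOf P).Normal := (Subgroup.normal_subgroupOf_iff hle).mpr fun v c hv hc => hD.conj_mem_H n hn c hc v hv
    let π := QuotientGroup.mk' ((H n).subgroupOf P)
    let uP : P := ⟨u, hc⟩
    have h1 : orderOf (π uP) ∣ Nat.card (H b) := (orderOf_map_dvd π uP).trans (by rw [← Subgroup.orderOf_coe]; exact (H b).orderOf_dvd_natCard (hu b hb))
    have h2 : orderOf (π uP) ∣ Nat.card C := by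
      have hu' : u ∈ H n ⊔ C := by rw [hC, hD.sup_eq n hn]; exact hc
      rw [sup_comm, ← SetLike.mem_coe, Subgroup.coe_mul_of_left_le_normalizer_right _ _ hnorm] at hu'
      obtain ⟨c, hc', w, hw, hcw⟩ := hu'
      let cP : P := ⟨c, hc'.2⟩
      have : π uP = π cP := QuotientGroup.eq.mpr (by
        show (uP⁻¹ * cP : P).1 ∈ H n
        show u⁻¹ * c ∈ H n
        rw [← hcw]; simpa [mul_assoc] using inv_mem hw)
      rw [this]
      exact (orderOf_map_dvd π cP).trans (by rw [← Subgroup.orderOf_coe]; exact C.orderOf_dvd_natCard hc')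
    have h3 : π uP = 1 := orderOf_eq_one_iff.mp (Nat.eq_one_of_dvd_coprimes (hD.coprime b (hsA b hb) n hn) h1 h2)
    exact (QuotientGroup.eq_one_iff uP).mp h3
  · rintro ⟨hun, hu⟩
    exact ⟨hu, hD.le_centralizer n hn hun⟩

theorem isGenChar_dade [Fintype G] [Fintype L] (hD : DadeHypothesis A L H) {α : L → ℂ} (hα : IsGeneralizedCharacter L α)
    (hαA : ∀ x : L, (x : G) ∉ A → α x = 0) : IsGeneralizedCharacter G (dadeIsometry A L H α) := by
  classical
  have hαc : IsClassFunction L α := by
    obtain ⟨x, y, hx, hy, rfl⟩ := hα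
    exact isClassFunction_sub (isClassFunction_char hx) (isClassFunction_char hy)
  refine isGenChar_iff_coeff_int.mpr ⟨isClassFunction_dade hD hαc, fun χ hχ => ?_⟩
  have hχc := isClassFunction_irr hχ
  letI : Fintype (DSet A) := Fintype.ofFinite _
  letI act : MulAction L (DSet A) :=
    { smul := fun l B => ⟨B.s.image (fun b => (l : G) * b * (l : G)⁻¹), B.ne.image _, fun c hc => by
        obtain ⟨b, hb, rfl⟩ := Finset.mem_image.mp hc
        exact hD.conj_mem l l.2 b (B.sub b hb)⟩
      one_smul := fun B => DSet.ext' (by show B.s.image _ = B.s; simp)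
      mul_smul := fun l m B => DSet.ext' (by
        show B.s.image _ = (B.s.image _).image _
        rw [Finset.image_image]; congr 1; funext b; simp [mul_assoc]) }
  have smul_s : ∀ (l : L) (B : DSet A), (l • B).s = B.s.image (fun b => (l : G) * b * (l : G)⁻¹) := fun _ _ => rfl
  have hnorm : ∀ (B : DSet A) (l : L), l ∈ MulAction.stabilizer L B → (l : G) ∈ Subgroup.normalizer (HB H B.s : Set G) := by
    intro B l hl
    have himg : B.s.image (fun b => (l : G) * b * (l : G)⁻¹) = B.s := by rw [← smul_s, MulAction.mem_stabilizer_iff.mp hl]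
    refine Subgroup.mem_normalizer_iff.mpr fun u => ⟨fun hu => mem_HB.mpr fun c hc => ?_, fun hu => mem_HB.mpr fun b hb => ?_⟩
    · rw [← himg] at hc
      obtain ⟨b, hb, rfl⟩ := Finset.mem_image.mp hc
      exact conj_mem_H_of_mem hD (B.sub b hb) l.2 (mem_HB.mp hu b hb)
    · have hb' : (l : G) * b * (l : G)⁻¹ ∈ B.s := by
        have := Finset.mem_image_of_mem (fun b => (l : G) * b * (l : G)⁻¹) hb
        rwa [himg] at this
      have := conj_mem_H_of_mem hD (B.sub _ hb') (L.inv_mem l.2) (mem_HB.mp hu _ hb')
      simpa [mul_assoc] using this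
  -- the summand attached to `B`
  let W : DSet A → ℂ := fun B => (Nat.card (HB H B.s) : ℂ)⁻¹ * ∑ n ∈ Finset.univ.filter (· ∈ MulAction.stabilizer L B),
      α n * ∑ h ∈ Finset.univ.filter (· ∈ HB H B.s), conj (χ ((n : G) * h))
  have hint : ∀ B, ∃ z : ℤ, W B = (Nat.card (MulAction.stabilizer L B) : ℂ) * z := by
    intro B
    set N : Subgroup G := (MulAction.stabilizer L B).map L.subtype with hN
    set K := HB H B.s with hK
    set M := K ⊔ N with hM
    have hNK : N ≤ Subgroup.normalizer (K : Set G) := by rintro _ ⟨l, hl, rfl⟩; exact hnorm B l hl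
    haveI : (K.subgroupOf M).Normal := (Subgroup.normal_subgroupOf_iff_le_normalizer le_sup_left).mpr (sup_le Subgroup.le_normalizer hNK)
    let ι : MulAction.stabilizer L B →* M := (L.subtype.comp (MulAction.stabilizer L B).subtype).codRestrict M
      fun l => Subgroup.mem_sup_right ⟨l, l.2, rfl⟩
    have h1 : IsCharacter (MulAction.stabilizer L B) (fun l => cosetAvg (K.subgroupOf M) (fun m : M => χ m) (ι l)) :=
      isCharacter_comp (isCharacter_cosetAvg _ (isCharacter_restrict (isCharacter_of_irr hχ) M)) ι
    obtain ⟨x, y, hx, hy, rfl⟩ := hα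
    obtain ⟨z1, e1⟩ := classInner_char_nat (isCharacter_comp hx (MulAction.stabilizer L B).subtype) h1
    obtain ⟨z2, e2⟩ := classInner_char_nat (isCharacter_comp hy (MulAction.stabilizer L B).subtype) h1
    refine ⟨(z1 : ℤ) - z2, ?_⟩
    have hk : ∀ l : MulAction.stabilizer L B, conj (cosetAvg (K.subgroupOf M) (fun m : M => χ m) (ι l)) =
        (Nat.card K : ℂ)⁻¹ * ∑ h ∈ Finset.univ.filter (· ∈ K), conj (χ (((l : L) : G) * h)) := by
      intro l
      simp only [cosetAvg, map_mul, map_inv₀, map_natCast, map_sum]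
      rw [Nat.card_congr (Subgroup.subgroupOfEquivOfLe (le_sup_left : K ≤ M)).toEquiv,
        Finset.sum_subtype _ (p := fun h => h ∈ K) (fun h => by simp)]
      congr 1
      refine Fintype.sum_equiv (Subgroup.subgroupOfEquivOfLe (le_sup_left : K ≤ M)).toEquiv _ _ fun k => ?_
      have := hχc (((l : L) : G) * ((k : M) : G)) ((k : M) : G)
      rw [show ((k : M) : G) * (((l : L) : G) * ((k : M) : G)) * (((k : M) : G))⁻¹ = ((k : M) : G) * ((l : L) : G) by group] at this
      exact congrArg conj this
    have e3 : W B = ∑ l : MulAction.stabilizer L B, (x (l : L) - y (l : L)) * conj (cosetAvg (K.subgroupOf M) (fun m : M => χ m) (ι l)) := by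
      show (Nat.card K : ℂ)⁻¹ * _ = _
      rw [Finset.mul_sum, Finset.sum_subtype _ (p := fun n => n ∈ MulAction.stabilizer L B) (fun n => by simp)]
      refine Finset.sum_congr rfl fun l _ => ?_
      rw [hk l, Pi.sub_apply]; ring
    rw [e3]
    simp only [classInner] at e1 e2
    have hS : (Nat.card (MulAction.stabilizer L B) : ℂ) ≠ 0 := Nat.cast_ne_zero.mpr Nat.card_pos.ne'
    rw [inv_mul_eq_iff_eq_mul₀ hS] at e1 e2
    simp only [sub_mul, Finset.sum_sub_distrib]
    push_cast
    rw [mul_sub, ← e1, ← e2]
    rfl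
  choose Z hZ using hint
  have hinv : ∀ (l : L) (B : DSet A), W (l • B) = W B := by
    intro l B
    have hcK : ∀ h, h ∈ HB H (l • B).s ↔ (l : G)⁻¹ * h * l ∈ HB H B.s := fun h => by
      simp only [mem_HB, smul_s, Finset.forall_mem_image]
      refine forall₂_congr fun b hb => ⟨fun hh => ?_, fun hh => ?_⟩
      · have := conj_mem_H_of_mem hD (hD.conj_mem l l.2 b (B.sub b hb)) (L.inv_mem l.2) hh
        simpa [mul_assoc] using this
      · have := conj_mem_H_of_mem hD (B.sub b hb) l.2 hh
        simpa [mul_assoc] using this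
    have hcS : ∀ n : L, n ∈ MulAction.stabilizer L (l • B) ↔ l⁻¹ * n * l ∈ MulAction.stabilizer L B := fun n => by
      rw [MulAction.mem_stabilizer_iff, MulAction.mem_stabilizer_iff, mul_smul, mul_smul, inv_smul_eq_iff]
    have hcard : Nat.card (HB H (l • B).s) = Nat.card (HB H B.s) :=
      Nat.card_congr ((MulAut.conj (l : G)⁻¹).toEquiv.subtypeEquiv fun h => by simpa [MulAut.conj_apply, mul_assoc] using hcK h)
    show (Nat.card (HB H (l • B).s) : ℂ)⁻¹ * _ = _
    rw [hcard]
    congr 1
    refine Finset.sum_equiv (MulAut.conj l⁻¹).toEquiv (fun n => by simpa [MulAut.conj_apply] using hcS n) fun n hn => ?_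
    simp only [MulEquiv.toEquiv_eq_coe, EquivLike.coe_coe, MulAut.conj_apply, inv_inv]
    rw [show α (l⁻¹ * n * l) = α n by simpa using hαc n l⁻¹]
    congr 1
    refine Finset.sum_equiv (MulAut.conj (l : G)⁻¹).toEquiv (fun h => by simpa [MulAut.conj_apply] using hcK h) fun h _ => ?_
    simp only [MulEquiv.toEquiv_eq_coe, EquivLike.coe_coe, MulAut.conj_apply, inv_inv, Subgroup.coe_mul, Subgroup.coe_inv]
    have := hχc ((n : G) * h) (l : G)⁻¹
    rw [← this]
    congr 1
    congr 1
    group
  have hZinv : ∀ (l : L) (B : DSet A), (-1 : ℤ) ^ (l • B).s.card * Z (l • B) = (-1) ^ B.s.card * Z B := by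
    intro l B
    have hc : (l • B).s.card = B.s.card := by
      rw [smul_s]; exact Finset.card_image_of_injective _ fun a b h => by simpa using h
    have hs : Nat.card (MulAction.stabilizer L (l • B)) = Nat.card (MulAction.stabilizer L B) :=
      Nat.card_congr (MulAction.stabilizerEquivStabilizer (G := L) (show l • B = l • B from rfl)).toEquiv.symm
    have := hinv l B
    rw [hZ, hZ, hs] at this
    have h := mul_left_cancel₀ (Nat.cast_ne_zero.mpr (Nat.card_pos (α := MulAction.stabilizer L B)).ne') this
    rw [hc, show Z (l • B) = Z B by exact_mod_cast h]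
  obtain ⟨z, hz⟩ := sum_stabilizer_mul (fun B => (-1 : ℤ) ^ B.s.card * Z B) hZinv
  refine ⟨-z, ?_⟩
  rw [classInner_dade hD hαc hαA hχc (fun a => (Nat.card (H a) : ℂ)⁻¹ * ∑ᶠ u ∈ (H (a : G) : Set G), χ (a * u)) fun a _ => rfl]
  have hmain : ∑ B, (-1 : ℂ) ^ B.s.card * W B =
      - ∑ a : L, α a * conj ((Nat.card (H a) : ℂ)⁻¹ * ∑ᶠ u ∈ (H (a : G) : Set G), χ (a * u)) := by
    let t : L → DSet A → ℂ := fun n B => if n ∈ MulAction.stabilizer L B then (-1 : ℂ) ^ B.s.card *
      ((Nat.card (HB H B.s) : ℂ)⁻¹ * ∑ h ∈ Finset.univ.filter (· ∈ HB H B.s), conj (χ ((n : G) * h))) else 0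
    have h1 : ∑ B, (-1 : ℂ) ^ B.s.card * W B = ∑ n : L, α n * ∑ B, t n B := by
      simp only [Finset.mul_sum (s := (Finset.univ : Finset (DSet A)))]
      rw [Finset.sum_comm]
      refine Finset.sum_congr rfl fun B _ => ?_
      show _ * ((Nat.card (HB H B.s) : ℂ)⁻¹ * _) = _
      rw [Finset.sum_filter, Finset.mul_sum, Finset.mul_sum]
      refine Finset.sum_congr rfl fun n _ => ?_
      simp only [t]
      split <;> simp [Finset.mul_sum] <;> (first | (refine Finset.sum_congr rfl fun h _ => ?_; ring) | skip)
    rw [h1, ← Finset.sum_neg_distrib]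
    refine Finset.sum_congr rfl fun n _ => ?_
    by_cases hn : (n : G) ∈ A
    swap
    · rw [hαA n hn, zero_mul, zero_mul, neg_zero]
    rw [← mul_neg]
    congr 1
    let B₀ : DSet A := ⟨{(n : G)}, Finset.singleton_nonempty _, fun b hb => by rw [Finset.mem_singleton.mp hb]; exact hn⟩
    have hB₀ : n ∈ MulAction.stabilizer L B₀ := MulAction.mem_stabilizer_iff.mpr (DSet.ext' (by simp [smul_s, B₀]))
    rw [← Finset.sum_erase_add _ _ (Finset.mem_univ B₀)]
    have hzero : ∑ B ∈ Finset.univ.erase B₀, t n B = 0 := by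
      let inv : DSet A → DSet A := fun B => if h : B = B₀ then B else
        if hm : (n : G) ∈ B.s then ⟨B.s.erase n, by
            by_contra he
            rw [Finset.not_nonempty_iff_eq_empty] at he
            refine h (DSet.ext' ?_)
            show B.s = {(n : G)}
            refine Finset.eq_singleton_iff_unique_mem.mpr ⟨hm, fun x hx => ?_⟩
            by_contra hxn
            exact Finset.notMem_empty x (he ▸ Finset.mem_erase.mpr ⟨hxn, hx⟩),
          fun b hb => B.sub b (Finset.mem_of_mem_erase hb)⟩
        else ⟨insert (n : G) B.s, Finset.insert_nonempty _ _, fun b hb => by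
          rcases Finset.mem_insert.mp hb with rfl | hb
          · exact hn
          · exact B.sub b hb⟩
      have hval : ∀ B : DSet A, ∀ hm : (n : G) ∉ B.s, ∀ B' : DSet A, B'.s = insert (n : G) B.s → t n B + t n B' = 0 := by
        intro B hm B' hB'
        have hst : n ∈ MulAction.stabilizer L B ↔ n ∈ MulAction.stabilizer L B' := by
          simp only [MulAction.mem_stabilizer_iff]
          constructor
          · intro h
            refine DSet.ext' ?_
            rw [smul_s, hB', Finset.image_insert, ← smul_s, h]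
            simp
          · intro h
            refine DSet.ext' ?_
            have h' := congrArg DSet.s h
            rw [smul_s, hB', Finset.image_insert, mul_inv_cancel_right] at h'
            rw [smul_s]
            have hni : (n : G) ∉ B.s.image (fun b => (n : G) * b * (n : G)⁻¹) := by
              intro hm'
              obtain ⟨b, hb, he⟩ := Finset.mem_image.mp hm'
              have : b = (n : G) := by simpa [mul_assoc, mul_inv_eq_iff_eq_mul] using he
              exact hm (this ▸ hb)
            have := congrArg (Finset.erase · (n : G)) h'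
            rwa [Finset.erase_insert hni, Finset.erase_insert hm] at this
        simp only [t]
        by_cases h : n ∈ MulAction.stabilizer L B
        · rw [if_pos h, if_pos (hst.mp h), hB', Finset.card_insert_of_notMem hm, pow_succ]
          have hcop : (orderOf (n : G)).Coprime (Nat.card (HB H B.s)) := by
            obtain ⟨b, hb⟩ := B.ne
            exact (coprime_orderOf hD (B.sub b hb) hn).coprime_dvd_right (card_HB_dvd hb)
          have hf : IsClassFunction G (fun g => conj (χ g)) := fun g k => congrArg conj (hχc g k)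
          have hs := sum_coset_coprime (HB H B.s) (hnorm B n h) hcop hf
          rw [inf_centralizer_HB hD hn B.ne B.sub] at hs
          have c1 : (Nat.card (HB H B.s) : ℂ) ≠ 0 := Nat.cast_ne_zero.mpr Nat.card_pos.ne'
          have c2 : (Nat.card (HB H (insert (n : G) B.s)) : ℂ) ≠ 0 := Nat.cast_ne_zero.mpr Nat.card_pos.ne'
          field_simp
          linear_combination (-1 : ℂ) ^ B.s.card * hs
        · rw [if_neg h, if_neg (hst.not.mp h), add_zero]
      refine Finset.sum_involution (fun B _ => inv B) (fun B hB => ?_) (fun B hB _ => ?_) (fun B hB => ?_) (fun B hB => ?_)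
      · have hne := Finset.ne_of_mem_erase hB
        simp only [inv, dif_neg hne]
        by_cases hm : (n : G) ∈ B.s
        · rw [dif_pos hm, add_comm]
          exact hval _ (Finset.notMem_erase _ _) _ (Finset.insert_erase hm).symm
        · rw [dif_neg hm]
          exact hval B hm _ rfl
      · have hne := Finset.ne_of_mem_erase hB
        simp only [inv, dif_neg hne]
        by_cases hm : (n : G) ∈ B.s
        · rw [dif_pos hm]; intro e; exact (Finset.notMem_erase (n : G) B.s) (by rw [← e] at hm; exact hm)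
        · rw [dif_neg hm]; intro e; exact hm (by rw [← e]; exact Finset.mem_insert_self _ _)
      · have hne := Finset.ne_of_mem_erase hB
        refine Finset.mem_erase.mpr ⟨?_, Finset.mem_univ _⟩
        simp only [inv, dif_neg hne]
        by_cases hm : (n : G) ∈ B.s
        · rw [dif_pos hm]; intro e
          have he : B.s.erase (n : G) = {(n : G)} := congrArg DSet.s e
          exact Finset.notMem_erase (n : G) B.s (by rw [he]; exact Finset.mem_singleton_self _)
        · rw [dif_neg hm]; intro e
          have h' : insert (n : G) B.s = {(n : G)} := congrArg DSet.s e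
          obtain ⟨b, hb⟩ := B.ne
          have : b = (n : G) := Finset.mem_singleton.mp (h' ▸ Finset.mem_insert_of_mem hb)
          exact hm (this ▸ hb)
      · have hne := Finset.ne_of_mem_erase hB
        simp only [inv, dif_neg hne]
        by_cases hm : (n : G) ∈ B.s
        · simp only [dif_pos hm, Finset.notMem_erase, dif_neg, not_false_iff]
          rw [dif_neg]
          · exact DSet.ext' (Finset.insert_erase hm)
          · intro e
            have he : B.s.erase (n : G) = {(n : G)} := congrArg DSet.s e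
            exact Finset.notMem_erase (n : G) B.s (by rw [he]; exact Finset.mem_singleton_self _)
        · simp only [dif_neg hm]
          rw [dif_neg, dif_pos (Finset.mem_insert_self _ _)]
          · exact DSet.ext' (Finset.erase_insert hm)
          · intro e
            have h' : insert (n : G) B.s = {(n : G)} := congrArg DSet.s e
            obtain ⟨b, hb⟩ := B.ne
            have : b = (n : G) := Finset.mem_singleton.mp (h' ▸ Finset.mem_insert_of_mem hb)
            exact hm (this ▸ hb)
    rw [hzero, zero_add]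
    simp only [t, if_pos hB₀]
    have hK : HB H B₀.s = H (n : G) := by ext u; simp [mem_HB, B₀]
    rw [show B₀.s.card = 1 from Finset.card_singleton _, pow_one, hK, map_mul, map_inv₀, map_natCast,
      finsum_mem_eq_finite_toFinset_sum _ (Set.toFinite _), map_sum, neg_one_mul]
    congr 2
    refine Finset.sum_congr ?_ fun _ _ => rfl
    ext u; simp
  have hz' : ∑ B, (-1 : ℂ) ^ B.s.card * W B = (Nat.card L : ℂ) * z := by
    simp only [hZ]
    have := congrArg (fun k : ℤ => (k : ℂ)) hz
    push_cast at this
    rw [← this]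
    exact Finset.sum_congr rfl fun B _ => by ring
  have hL : (Nat.card L : ℂ) ≠ 0 := Nat.cast_ne_zero.mpr Nat.card_pos.ne'
  simp only [classInner]
  rw [inv_mul_eq_iff_eq_mul₀ hL]
  push_cast
  linear_combination hmain - hz'

end CfsgLib.Dade
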