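import Mathlib
import Cfsg.Agent.Lib.CharTheory.Monomial
import Cfsg.Agent.Lib.CharTheory.DegreeComplement
import Cfsg.Agent.Lib.CharTheory.More
import Cfsg.Agent.Lib.CharTheory.ExtCriteria
import Cfsg.Agent.S4456

/-! Groups with two character degrees. -/

namespace CfsgLib.CharTheory

open Cfsg
open scoped commutatorElement

universe u

/-- Some term of the lower central series is commutative. -/
def IsAbelianByNilpotent (G : Type u) [Group G] : Prop :=
  ∃ c, ∀ a ∈ (⊤ : Subgroup G).lowerCentralSeries c, ∀ b ∈ (⊤ : Subgroup G).lowerCentralSeries c, a * b = b * a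

theorem IsAbelianByNilpotent.subgroup {G : Type u} [Group G] (h : IsAbelianByNilpotent G) (H : Subgroup G) :
    IsAbelianByNilpotent H := by
  obtain ⟨c, hc⟩ := h
  refine ⟨c, fun a ha b hb => Subtype.ext (hc a ?_ b ?_)⟩
  · exact Subgroup.lowerCentralSeries_mono c le_top
      ((Subgroup.top_subtype_lowerCentralSeries H c).le (Subgroup.mem_map_of_mem H.subtype ha))
  · exact Subgroup.lowerCentralSeries_mono c le_top
      ((Subgroup.top_subtype_lowerCentralSeries H c).le (Subgroup.mem_map_of_mem H.subtype hb))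

theorem IsAbelianByNilpotent.quotient {G : Type u} [Group G] (h : IsAbelianByNilpotent G) (N : Subgroup G)
    [N.Normal] : IsAbelianByNilpotent (G ⧸ N) := by
  obtain ⟨c, hc⟩ := h
  refine ⟨c, ?_⟩
  have e : ((⊤ : Subgroup G).lowerCentralSeries c).map (QuotientGroup.mk' N) =
      (⊤ : Subgroup (G ⧸ N)).lowerCentralSeries c := by
    rw [Subgroup.map_lowerCentralSeries, Subgroup.map_top_of_surjective _ (QuotientGroup.mk'_surjective N)]
  rw [← e]
  rintro _ ⟨a, ha, rfl⟩ _ ⟨b, hb, rfl⟩
  rw [← map_mul, ← map_mul, hc a ha b hb]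

/-- Abelian-by-nilpotent groups are monomial. -/
theorem isMonomialChar_of_abelianByNilpotent {G : Type u} [Group G] [Fintype G]
    (hG : IsAbelianByNilpotent G) {χ : G → ℂ} (hχ : IsIrrCharacter G χ) : IsMonomialChar χ := by
  classical
  suffices ∀ n, ∀ (G : Type u) [Group G] [Fintype G] (χ : G → ℂ), IsAbelianByNilpotent G →
      Nat.card G = n → IsIrrCharacter G χ → IsMonomialChar χ from this _ G χ hG rfl hχ
  intro n
  induction n using Nat.strong_induction_on with
  | _ n ih =>
  intro G _ _ χ hG hn hχ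
  by_cases h1 : χ 1 = 1
  · exact isMonomialChar_linear (isCharacter_of_irr hχ) h1
  have hc := isCharacter_of_irr hχ
  by_cases hK : charKernel χ hc = ⊥
  swap
  · obtain ⟨ψ, hψ, hψe⟩ := exists_quotient_irr (charKernel χ hc) hχ
      (fun x hx => (mem_charKernel hc x).mp hx)
    have := Fintype.ofFinite (G ⧸ charKernel χ hc)
    have hlt : Nat.card (G ⧸ charKernel χ hc) < n := by
      rw [← hn]
      have h1 := Subgroup.card_eq_card_quotient_mul_card_subgroup (charKernel χ hc)
      have h2 := Subgroup.one_lt_card_iff_ne_bot _ |>.mpr hK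
      have h3 : 0 < Nat.card (G ⧸ charKernel χ hc) := Nat.card_pos
      rw [h1]
      exact lt_mul_of_one_lt_right h3 h2
    obtain ⟨H, lam, hH⟩ := ih _ hlt _ ψ (hG.quotient _) rfl hψ
    let π := QuotientGroup.mk' (charKernel χ hc)
    refine ⟨H.comap π, lam.comp (π.subgroupComap H), ?_⟩
    funext g
    refine (congrFun hψe g).trans ?_
    rw [hH]
    exact (indFun_comap π (QuotientGroup.mk'_surjective _) H (fun h => (lam h : ℂ)) g).symm
  obtain ⟨c, hAab⟩ := id hG
  set A := (⊤ : Subgroup G).lowerCentralSeries c with hA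
  by_cases hAZ : A ≤ Subgroup.center G
  · have : Group.IsNilpotent G :=
      nilpotent_iff_lowerCentralSeries.2 ⟨c + 1, Subgroup.lowerCentralSeries_succ_eq_bot ⊤ hAZ⟩
    exact isMonomialChar_of_nilpotent hχ
  have := Fintype.ofFinite A
  obtain ⟨θ, hθ, hne⟩ := exists_constituent (isCharacter_restrict hc A)
    (fun e => irr_ne_zero hχ (congrFun e 1))
  have hAT := le_inertia A (isClassFunction_irr hθ)
  have := Fintype.ofFinite (inertia A θ)
  by_cases hT : inertia A θ = ⊤
  · exfalso
    refine hAZ fun a ha => ?_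
    have hres := clifford_invariant A hχ hθ hne fun g => (mem_inertia A).mp (hT.ge (Subgroup.mem_top g))
    have hθ1 := degree_one_of_commutative (fun a b => Subtype.ext (hAab a a.2 b b.2)) hθ
    obtain ⟨φ, hφ⟩ := exists_hom_of_degree_one (isCharacter_of_irr hθ) hθ1
    obtain ⟨m, ρ, hρ, rfl⟩ := hχ
    have hnorm : ‖ρ.character a‖ = (Module.finrank ℂ (Fin m → ℂ) : ℝ) := by
      rw [← Complex.norm_natCast, ← ρ.char_one]
      have e1 := congrFun hres ⟨a, ha⟩
      have e2 := congrFun hres 1
      simp only [Pi.smul_apply, smul_eq_mul] at e1 e2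
      rw [hθ1, mul_one] at e2
      rw [show ρ.character a = ρ.character ((⟨a, ha⟩ : A) : G) from rfl, e1,
        show ρ.character 1 = ρ.character ((1 : A) : G) from rfl, e2, norm_mul,
        congrFun hφ ⟨a, ha⟩]
      conv_rhs => rw [← mul_one (‖classInner (fun n : A => ρ.character n) θ‖)]
      congr 1
      refine Complex.norm_eq_one_of_pow_eq_one (n := Nat.card A) ?_ Nat.card_pos.ne'
      rw [← Units.val_pow_eq_pow_val, ← map_pow, pow_card_eq_one', map_one, Units.val_one]
    obtain ⟨ω, hω⟩ := (norm_character_eq_iff ρ a).mp hnorm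
    rw [Subgroup.mem_center_iff]
    intro g
    have hk : ρ.character (g * a * g⁻¹ * a⁻¹) = ρ.character 1 := by
      have e : ρ (g * a * g⁻¹ * a⁻¹) = 1 := by
        have h' : ρ (g * a) = ρ (a * g) := by simp [map_mul, hω, ← Module.End.one_eq_id]
        rw [show g * a * g⁻¹ * a⁻¹ = g * a * (a * g)⁻¹ by group, map_mul, h', ← map_mul,
          mul_inv_cancel, map_one]
      rw [ρ.char_one, Representation.character, e, LinearMap.trace_one]
    have hmem := (mem_charKernel hc _).mpr hk
    rw [hK, Subgroup.mem_bot, mul_inv_eq_one, mul_inv_eq_iff_eq_mul] at hmem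
    exact hmem
  · obtain ⟨ψ, hψ, -, hind⟩ := exists_clifford_pre A hθ hAT rfl hχ hne
    have hlt : Nat.card (inertia A θ) < n := by
      rw [← hn]
      exact lt_of_le_of_ne (Subgroup.card_le_card_group _) fun e =>
        hT ((Subgroup.card_eq_iff_eq_top _).mp e)
    rw [← hind]
    exact isMonomialChar_indFun (ih _ hlt _ ψ (hG.subgroup _) rfl hψ)

variable {G : Type u} [Group G] [Finite G] {m : ℕ}

/-- Degrees `{1, m}` force an abelian normal subgroup with nilpotent quotient. -/
theorem abelianByNilpotent_of_two_degrees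
    (hcd : ∀ χ : IrrCharacter G, charDegree (χ : G → ℂ) = 1 ∨ charDegree (χ : G → ℂ) = m) (hm : 1 < m) :
    IsAbelianByNilpotent G := by
  classical
  have := Fintype.ofFinite G
  have hN : ∀ q : m.primeFactors, ∃ N : Subgroup G, N.Normal ∧ (Nat.card N).Coprime q ∧
      ∃ c, (⊤ : Subgroup G).lowerCentralSeries c ≤ N := by
    rintro ⟨q, hq⟩
    have hqp := Nat.prime_of_mem_primeFactors hq
    haveI := Fact.mk hqp
    obtain ⟨N, hNn, hNc, k, hk⟩ := Cfsg.Agent.S4456.result q hqp fun χ h1 => by
      rcases hcd χ with h | h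
      · exact absurd h h1
      · rw [h]; exact Nat.dvd_of_mem_primeFactors hq
    haveI := hNn
    refine ⟨N, hNn, hNc, ?_⟩
    have : Group.IsNilpotent (G ⧸ N) := (IsPGroup.of_card (p := q) (n := k) hk).isNilpotent
    obtain ⟨c, hc⟩ := nilpotent_iff_lowerCentralSeries.1 this
    refine ⟨c, fun x hx => (QuotientGroup.eq_one_iff x).1 ?_⟩
    have hx' := Subgroup.mem_map_of_mem (QuotientGroup.mk' N) hx
    rw [Subgroup.map_lowerCentralSeries, Subgroup.map_top_of_surjective _ (QuotientGroup.mk'_surjective N), hc] at hx'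
    exact Subgroup.mem_bot.1 hx'
  choose N hNn hNc cf hcf using hN
  let c := ∑ q, cf q
  set A := (⊤ : Subgroup G).lowerCentralSeries c
  have hle : ∀ q, A ≤ N q := fun q =>
    (Subgroup.lowerCentralSeries_antitone _ (Finset.single_le_sum (fun _ _ => Nat.zero_le _) (Finset.mem_univ q))).trans (hcf q)
  have := Fintype.ofFinite A
  refine ⟨c, fun a ha b hb => ?_⟩
  have hcomm : ∀ x y : A, x * y = y * x := by
    refine commutative_iff_degree_one.2 ?_
    rintro ⟨θ, hθ⟩
    show θ 1 = 1
    obtain ⟨χ, hχ, hne⟩ := exists_irr_above hθ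
    obtain ⟨e, he, -⟩ := degree_ratio_dvd hχ hθ hne
    rw [(charDegree_spec' hχ).1, (charDegree_spec' hθ).1, ← Nat.cast_mul, Nat.cast_inj] at he
    have hdm : charDegree θ ∣ m := by
      rcases hcd ⟨χ, hχ⟩ with h | h
      · simp only at h
        rw [h] at he
        rw [Nat.eq_one_of_mul_eq_one_left he.symm]
        exact one_dvd m
      · simp only at h
        exact ⟨e, by rw [← h, he, mul_comm]⟩
    have hdA : charDegree θ ∣ Nat.card A := by
      obtain ⟨k, ρ, hρ, rfl⟩ := id hθ
      haveI := hρ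
      have h := (charDegree_spec' hθ).1
      rw [ρ.char_one, Nat.cast_inj] at h
      exact h ▸ finrank_dvd_card ρ
    rw [(charDegree_spec' hθ).1]
    suffices charDegree θ = 1 by rw [this, Nat.cast_one]
    by_contra h1
    obtain ⟨q, hq, hqd⟩ := Nat.exists_prime_and_dvd h1
    have hqm : q ∈ m.primeFactors := Nat.mem_primeFactors.2 ⟨hq, hqd.trans hdm, by omega⟩
    have h2 : q ∣ Nat.card (N ⟨q, hqm⟩) := hqd.trans (hdA.trans (Subgroup.card_dvd_of_le (hle _)))
    exact hq.not_dvd_one ((hNc ⟨q, hqm⟩) ▸ Nat.dvd_gcd h2 dvd_rfl)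
  exact congrArg Subtype.val (hcomm ⟨a, ha⟩ ⟨b, hb⟩)

/-- Degrees `{1, m}` make the commutator subgroup abelian. -/
theorem commutator_comm_of_two_degrees
    (hcd : ∀ χ : IrrCharacter G, charDegree (χ : G → ℂ) = 1 ∨ charDegree (χ : G → ℂ) = m) (hm : 1 < m) :
    ∀ a ∈ commutator G, ∀ b ∈ commutator G, a * b = b * a := by
  classical
  have := Fintype.ofFinite G
  have hM := abelianByNilpotent_of_two_degrees hcd hm
  intro a ha b hb
  rw [← commutatorElement_eq_one_iff_mul_comm]
  refine isConj_one_right.mp (isConj_of_forall_irr fun χ => ?_).symm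
  set g := ⁅a, b⁆
  have hlin : ∀ φ : IrrCharacter G, charDegree (φ : G → ℂ) = 1 → ∀ k ∈ commutator G, (φ : G → ℂ) k = (φ : G → ℂ) 1 := by
    intro φ hφ k hk
    obtain ⟨f, hf⟩ := exists_hom_of_degree_one (isCharacter_of_irr φ.2)
      (by rw [(charDegree_spec' φ.2).1, hφ, Nat.cast_one])
    rw [hf]
    simp only [map_one, MonoidHom.mem_ker.mp (Abelianization.commutator_subset_ker f hk)]
  rcases hcd χ with h | h
  · exact hlin χ h g (Subgroup.commutator_mem_commutator (Subgroup.mem_top a) (Subgroup.mem_top b))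
  obtain ⟨H, lam, hH⟩ := isMonomialChar_of_abelianByNilpotent hM χ.2
  have := Fintype.ofFinite H
  have hdeg : (χ : G → ℂ) 1 = (H.index : ℂ) := by
    rw [hH, indFun_apply_one, map_one, Units.val_one, mul_one]
  have hidx : H.index = m := by
    rw [(charDegree_spec' χ.2).1, h] at hdeg
    exact_mod_cast hdeg.symm
  have hperm : IsCharacter G (indFun H (fun _ => 1)) := isCharacter_indFun H isCharacter_one
  have h1c : classInner (indFun H (fun _ => (1 : ℂ))) (fun _ => 1) ≠ 0 := by
    rw [frobenius_reciprocity H _ (isClassFunction_irr isIrrCharacter_one),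
      classInner_irr_self (χ := fun _ : H => (1 : ℂ)) isIrrCharacter_one]
    exact one_ne_zero
  have hrest := isCharacter_sub_irr hperm isIrrCharacter_one h1c
  have hcore : ∀ k ∈ commutator G, ∀ y : G, y⁻¹ * k * y ∈ H := by
    intro k hk
    refine mem_of_indFun_one_eq H ?_
    rw [eq_sum_irr (isClassFunction_char hperm)]
    simp only [Finset.sum_apply, Pi.smul_apply, smul_eq_mul]
    refine Finset.sum_congr rfl fun φ _ => ?_
    by_cases h0 : classInner (indFun H (fun _ => 1)) (φ : G → ℂ) = 0
    · simp [h0]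
    congr 1
    refine hlin φ ?_ k hk
    rcases hcd φ with e | e
    · exact e
    exfalso
    have hφ1 : (φ : G → ℂ) ≠ fun _ => 1 := fun e' => by
      rw [e'] at e; simp [charDegree] at e; omega
    have hc2 : classInner (indFun H (fun _ => (1 : ℂ)) - fun _ => 1) (φ : G → ℂ) ≠ 0 := by
      rw [classInner_sub_left, classInner_irr_ne isIrrCharacter_one φ.2 (Ne.symm hφ1), sub_zero]
      exact h0
    have hle := classInner_mono_degree hrest (isCharacter_of_irr φ.2) (isCharacter_sub_irr hrest φ.2 hc2)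
    rw [Pi.sub_apply, indFun_apply_one, mul_one, hidx, (charDegree_spec' φ.2).1, e, Complex.sub_re,
      Complex.natCast_re, Complex.one_re] at hle
    linarith
  have hlam : ∀ y : G, extendByZero H (fun h => (lam h : ℂ)) (y⁻¹ * g * y) = 1 := by
    intro y
    let a' : H := ⟨_, hcore a ha y⟩
    let b' : H := ⟨_, hcore b hb y⟩
    have e : y⁻¹ * g * y = ((⁅a', b'⁆ : H) : G) := by
      simp [g, a', b', commutatorElement_def, mul_assoc]
    rw [e, extendByZero_coe, map_commutatorElement, commutatorElement_eq_one_iff_mul_comm.2 (mul_comm _ _),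
      Units.val_one]
  rw [hdeg, hH, indFun, Finset.sum_congr rfl fun y _ => hlam y, Finset.sum_const,
    nsmul_eq_mul, mul_one, Finset.card_univ, inv_mul_eq_iff_eq_mul₀
    (Nat.cast_ne_zero.mpr Nat.card_pos.ne'), ← Nat.cast_mul, Subgroup.card_mul_index,
    Nat.card_eq_fintype_card]

end CfsgLib.CharTheory
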