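import Mathlib
import Cfsg.Agent.Lib.CharTheory.TwoDegrees
import Cfsg.Agent.Lib.CharTheory.OddBasics

/-! Groups all of whose degrees are `1` or a prime `p`. -/

namespace CfsgLib.CharTheory

open Cfsg
open scoped commutatorElement Pointwise IsMulCommutative
open Subgroup (mem_top)

universe u

variable {G : Type u} [Group G] [Finite G] {p : ℕ} [hp : Fact p.Prime]

theorem zpow_mem_iff_dvd {H : Type*} [Group H] {x : H} (hx : x ^ p = 1) (K : Subgroup H) (hK : x ∉ K)
    (k : ℤ) : x ^ k ∈ K ↔ (p : ℤ) ∣ k := by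
  refine ⟨fun h => ?_, fun ⟨c, hc⟩ => by rw [hc, zpow_mul, zpow_natCast, hx, one_zpow]; exact one_mem K⟩
  by_contra hnd
  obtain ⟨a, b, hab⟩ := ((Nat.prime_iff_prime_int.mp hp.out).coprime_iff_not_dvd.mpr hnd)
  refine hK ?_
  rw [← zpow_one x, ← hab, zpow_add, mul_comm a, mul_comm b, zpow_mul, zpow_mul, zpow_natCast, hx, one_zpow, one_mul]
  exact zpow_mem h b

theorem closure_comm_of_pairwise {H : Type*} [Group H] {S : Set H} (h : ∀ a ∈ S, ∀ b ∈ S, a * b = b * a) :
    ∀ a ∈ Subgroup.closure S, ∀ b ∈ Subgroup.closure S, a * b = b * a := by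
  have : Subgroup.closure S ≤ Subgroup.centralizer (Subgroup.closure S : Set H) := by
    rw [Subgroup.centralizer_closure]
    exact (Subgroup.closure_le _).mpr fun a ha => Subgroup.mem_centralizer_iff.2 fun b hb => h b hb a ha
  exact fun a ha b hb => (Subgroup.mem_centralizer_iff.mp (this ha) b hb).symm

theorem aux_cancel_middle {H : Type*} [CommGroup H] (a b c d : H) : a * b * c * (d * b)⁻¹ = a * c * d⁻¹ := by
  rw [mul_inv_rev, mul_right_comm a b c, mul_assoc (a * c) b, mul_inv_cancel_left]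

theorem aux_exponent {H : Type*} [CommGroup H] (m₁ m₂ m₃ y w : H) (b b' b'' : ℤ)
    (h : m₂ * y ^ b' * (m₁ * w ^ b) = m₃ * (y ^ b'' * w ^ b'')) :
    y ^ (b' - b'') * w ^ (b - b'') = m₂⁻¹ * m₁⁻¹ * m₃ := by
  have e : m₃ = m₂ * m₁ * (y ^ b' * w ^ b) * (y ^ b'' * w ^ b'')⁻¹ := by
    rw [← mul_mul_mul_comm, h, mul_inv_cancel_right]
  rw [zpow_sub, zpow_sub, mul_mul_mul_comm, ← mul_inv, e, ← mul_inv m₂ m₁, mul_assoc (m₂ * m₁), inv_mul_cancel_left]

set_option maxHeartbeats 1000000 in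
theorem degrees_one_prime_main
    (hcd : ∀ χ : IrrCharacter G, charDegree (χ : G → ℂ) = 1 ∨ charDegree (χ : G → ℂ) = p)
    (hnc : ∃ a b : G, a * b ≠ b * a)
    (A : Subgroup G) [A.Normal] (hGA : commutator G ≤ A) (hAc : ∀ a ∈ A, ∀ b ∈ A, a * b = b * a)
    (hAC : ∀ x : G, (∀ a ∈ A, x * a = a * x) → x ∈ A) :
    (∃ B : Subgroup G, B.Normal ∧ (∀ a ∈ B, ∀ b ∈ B, a * b = b * a) ∧ B.index = p) ∨
      (Subgroup.center G).index = p ^ 3 := by
  classical
  have := Fintype.ofFinite G
  have := Fintype.ofFinite A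
  by_cases hAp : A.index = p
  · exact Or.inl ⟨A, inferInstance, hAc, hAp⟩
  have hA1 : A ≠ ⊤ := fun e => by
    obtain ⟨a, b, hab⟩ := hnc
    exact hab (hAc a (e.ge (mem_top a)) b (e.ge (mem_top b)))
  have hcommA : ∀ x y : G, x * y * x⁻¹ * y⁻¹ ∈ A := fun x y =>
    hGA (by rw [← commutatorElement_def]; exact Subgroup.commutator_mem_commutator (mem_top x) (mem_top y))
  have normal_of_le : ∀ H : Subgroup G, commutator G ≤ H → H.Normal := fun H hH => ⟨fun h hh g => by
    have := mul_mem (hH (Subgroup.commutator_mem_commutator (mem_top g) (mem_top h))) hh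
    rwa [commutatorElement_def, inv_mul_cancel_right] at this⟩
  -- the dual action
  let cj : G → (A →* ℂˣ) → (A →* ℂˣ) := fun x v => v.comp (MulAut.conjNormal x : A ≃* A).toMonoidHom
  have cj_apply : ∀ x v a, cj x v a = v (MulAut.conjNormal x a) := fun _ _ _ => rfl
  have cj_mul : ∀ x y v, cj (x * y) v = cj y (cj x v) := fun x y v => MonoidHom.ext fun a => by
    simp only [cj_apply, map_mul, MulAut.mul_apply]
  have cj_comm : ∀ x y v, cj y (cj x v) = cj x (cj y v) := fun x y v => MonoidHom.ext fun a => by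
    simp only [cj_apply]
    congr 1
    refine Subtype.ext ?_
    simp only [MulAut.conjNormal_apply]
    have hc := hAc _ (hcommA y⁻¹ x⁻¹) _ a.2
    calc x * (y * a * y⁻¹) * x⁻¹
        = x * y * (a * (y⁻¹ * x⁻¹ * y⁻¹⁻¹ * x⁻¹⁻¹)) * (y * x * y⁻¹ * x⁻¹ * (x * y))⁻¹ * (y * x * y⁻¹ * x⁻¹ * (x * y)) * ((y⁻¹ * x⁻¹ * y⁻¹⁻¹ * x⁻¹⁻¹))⁻¹ * (x * y)⁻¹ := by group
      _ = x * y * ((y⁻¹ * x⁻¹ * y⁻¹⁻¹ * x⁻¹⁻¹) * a) * (y⁻¹ * x⁻¹ * y⁻¹⁻¹ * x⁻¹⁻¹)⁻¹ * (x * y)⁻¹ := by rw [hc]; group
      _ = _ := by group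
  have cj_mulv : ∀ x v w, cj x (v * w) = cj x v * cj x w := fun x v w => MonoidHom.ext fun a => rfl
  let St : (A →* ℂˣ) → Subgroup G := fun v => inertia A (fun a => (v a : ℂ))
  have mem_St : ∀ v x, x ∈ St v ↔ cj x v = v := fun v x => by
    rw [mem_inertia, conjNormFun_eq]
    exact ⟨fun h => MonoidHom.ext fun a => Units.ext (congrFun h a),
      fun h => funext fun a => congrArg Units.val (DFunLike.congr_fun h a)⟩
  have hASt : ∀ v, A ≤ St v := fun v => le_inertia A (isClassFunction_irr (isIrrCharacter_linear v))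
  have hStn : ∀ v, (St v).Normal := fun v => normal_of_le _ (hGA.trans (hASt v))
  have hStp : ∀ v, St v ≠ ⊤ → (St v).index = p ∧
      ∀ x ∈ St v, ∀ y ∈ St v, v ⟨x * y * x⁻¹ * y⁻¹, hcommA x y⟩ = 1 := by
    intro v hv
    have := Fintype.ofFinite (St v)
    have hθ := isIrrCharacter_linear v
    obtain ⟨χ, hχ, hne⟩ := exists_irr_above hθ
    obtain ⟨ψ, hψ, hc, hind⟩ := exists_clifford_pre A hθ (hASt v) rfl hχ hne
    have h1 := congrFun hind 1
    rw [indFun_apply_one, (charDegree_spec' hψ).1, (charDegree_spec' hχ).1, ← Nat.cast_mul, Nat.cast_inj] at h1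
    have hidx1 : (St v).index ≠ 1 := fun e => hv (Subgroup.index_eq_one.1 e)
    have hχp : charDegree χ = p := by
      rcases hcd ⟨χ, hχ⟩ with h | h
      · simp only at h
        rw [h] at h1
        exact absurd (Nat.eq_one_of_mul_eq_one_right h1) hidx1
      · exact h
    rw [hχp] at h1
    have hidx : (St v).index = p := (hp.out.eq_one_or_self_of_dvd _ (Dvd.intro _ h1)).resolve_left hidx1
    refine ⟨hidx, fun x hx y hy => ?_⟩
    rw [hidx] at h1
    have hψ1 : charDegree ψ = 1 := (mul_eq_left₀ hp.out.ne_zero).1 h1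
    obtain ⟨f, hf⟩ := exists_hom_of_degree_one (isCharacter_of_irr hψ)
      (by rw [(charDegree_spec' hψ).1, hψ1, Nat.cast_one])
    have hres := res_of_inertia A hθ (hASt v) le_rfl hψ hc
    have e1 := congrFun hres 1
    simp only [Pi.smul_apply, smul_eq_mul, map_one, Units.val_one, mul_one] at e1
    have hc1 : classInner (fun n : A => ψ ⟨n, hASt v n.2⟩) (fun a => (v a : ℂ)) = 1 := by
      rw [← e1, show (⟨((1 : A) : G), hASt v (1 : A).2⟩ : St v) = 1 from rfl,
        (charDegree_spec' hψ).1, hψ1, Nat.cast_one]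
    have e2 := congrFun hres ⟨x * y * x⁻¹ * y⁻¹, hcommA x y⟩
    simp only [Pi.smul_apply, smul_eq_mul, hc1, one_mul] at e2
    refine Units.ext (e2.symm.trans ?_)
    rw [hf]
    show ((f ⟨x * y * x⁻¹ * y⁻¹, _⟩ : ℂˣ) : ℂ) = _
    rw [show (⟨x * y * x⁻¹ * y⁻¹, hASt v (hcommA x y)⟩ : St v) = ⁅(⟨x, hx⟩ : St v), ⟨y, hy⟩⁆ from rfl,
      map_commutatorElement, commutatorElement_eq_one_iff_mul_comm.2 (mul_comm _ _)]
  let d : (A →* ℂˣ) → G → (A →* ℂˣ) := fun v x => cj x v * v⁻¹
  have hd1 : ∀ v, d v 1 = 1 := fun v => by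
    show cj 1 v * v⁻¹ = 1
    exact mul_inv_eq_one.2 (MonoidHom.ext fun a => by simp [cj_apply])
  have hdmul : ∀ u v x, d (u * v) x = d u x * d v x := fun u v x => by
    refine MonoidHom.ext fun a => ?_
    show (cj x (u * v) * (u * v)⁻¹) a = ((cj x u * u⁻¹) * (cj x v * v⁻¹)) a
    simp only [MonoidHom.mul_apply, MonoidHom.inv_apply, cj_apply, mul_inv]
    exact mul_mul_mul_comm _ _ _ _
  -- orbit differences
  have hcardD : ∀ v, Nat.card (Set.range (d v)) = (St v).index := by
    intro v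
    let F : G ⧸ St v → Set.range (d v) := fun y => ⟨d v y.out, y.out, rfl⟩
    have key : ∀ x y : G, d v x = d v y ↔ (x : G ⧸ St v) = (y : G ⧸ St v) := by
      intro x y
      haveI := hStn v
      rw [QuotientGroup.eq_iff_div_mem, div_eq_mul_inv, mem_St, cj_mul]
      show cj x v * v⁻¹ = cj y v * v⁻¹ ↔ _
      rw [mul_left_inj]
      constructor
      · intro h
        rw [h, ← cj_mul, mul_inv_cancel]
        exact MonoidHom.ext fun a => by simp [cj_apply]
      · intro h
        conv_rhs => rw [← h]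
        rw [← cj_mul y⁻¹ y, inv_mul_cancel]
        exact MonoidHom.ext fun a => by simp [cj_apply]
    symm
    refine Nat.card_eq_of_bijective F ⟨fun a b e => ?_, ?_⟩
    · have := (key a.out b.out).1 (congrArg Subtype.val e)
      rwa [QuotientGroup.out_eq', QuotientGroup.out_eq'] at this
    · rintro ⟨_, x, rfl⟩
      exact ⟨x, Subtype.ext ((key _ x).2 (QuotientGroup.out_eq' _))⟩
  have hSt_le : ∀ v, (St v).index ≤ p := fun v => by
    by_cases h : St v = ⊤
    · rw [h, Subgroup.index_top]; exact hp.out.one_lt.le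
    · rw [(hStp v h).1]
  have hpair : ∀ u v, St u ≠ ⊤ → St v ≠ ⊤ → St u ≠ St v →
      Set.range (d u) = Set.range (d v) ∧ (∀ a ∈ Set.range (d u), ∀ b ∈ Set.range (d u), a * b ∈ Set.range (d u)) := by
    intro u v hu hv huv
    haveI := hStn u
    have hsup : St u ⊔ St v = ⊤ := by
      rw [← Subgroup.index_eq_one]
      have hd := Subgroup.index_dvd_of_le (le_sup_left : St u ≤ St u ⊔ St v)
      rw [(hStp u hu).1] at hd
      rcases hp.out.eq_one_or_self_of_dvd _ hd with e | e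
      · exact e
      · exfalso
        have h1 : St u = St u ⊔ St v := by
          by_contra hne
          have := Subgroup.index_strictAnti (lt_of_le_of_ne le_sup_left hne)
          rw [e, (hStp u hu).1] at this
          exact lt_irrefl _ this
        have h2 : St v ≤ St u := le_sup_right.trans h1.ge
        by_cases he : St v = St u
        · exact huv he.symm
        · have := Subgroup.index_strictAnti (lt_of_le_of_ne h2 he)
          rw [(hStp u hu).1, (hStp v hv).1] at this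
          exact lt_irrefl _ this
    have hprod : ∀ x y, d u x * d v y ∈ Set.range (d (u * v)) := by
      intro x y
      obtain ⟨s, hs, s', hs', hss⟩ := Subgroup.mem_sup_of_normal_left.1 (hsup.ge (mem_top (x⁻¹ * y)))
      refine ⟨x * s, ?_⟩
      rw [hdmul]
      have e1 : cj (x * s) u = cj x u := by rw [cj_mul, cj_comm, (mem_St u s).1 hs]
      have e2 : cj (x * s) v = cj y v := by
        rw [show y = x * s * s' by rw [mul_assoc, hss, mul_inv_cancel_left], cj_mul (x * s) s', cj_comm,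
          (mem_St v s').1 hs']
      show (cj (x * s) u * u⁻¹) * (cj (x * s) v * v⁻¹) = _
      rw [e1, e2]
    have hfin : (Set.range (d (u * v))).Finite := Set.finite_range _
    have hu' : Set.range (d u) = Set.range (d (u * v)) := by
      refine Set.eq_of_subset_of_ncard_le ?_ ?_ hfin
      · rintro _ ⟨x, rfl⟩
        have := hprod x 1
        rw [hd1] at this
        exact (mul_one (d u x)) ▸ this
      · rw [← Nat.card_coe_set_eq, ← Nat.card_coe_set_eq, hcardD, hcardD, (hStp u hu).1]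
        exact hSt_le _
    have hv' : Set.range (d v) = Set.range (d (u * v)) := by
      refine Set.eq_of_subset_of_ncard_le ?_ ?_ hfin
      · rintro _ ⟨x, rfl⟩
        have := hprod 1 x
        rw [hd1] at this
        exact (one_mul (d v x)) ▸ this
      · rw [← Nat.card_coe_set_eq, ← Nat.card_coe_set_eq, hcardD, hcardD, (hStp v hv).1]
        exact hSt_le _
    refine ⟨hu'.trans hv'.symm, fun a ha b hb => ?_⟩
    obtain ⟨x, rfl⟩ := ha
    rw [hu'.trans hv'.symm] at hb
    obtain ⟨y, rfl⟩ := hb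
    rw [hu']
    exact hprod x y
  -- there are two different stabilisers
  have hsep : ∀ a b : A, (∀ v : A →* ℂˣ, v a = v b) → a = b := by
    intro a b h
    by_contra hne
    obtain ⟨v, hv⟩ : ∃ v : A →* ℂˣ, v (a * b⁻¹) ≠ 1 := by
      letI : CommGroup A := { (inferInstance : Group A) with mul_comm := fun a b => Subtype.ext (hAc a a.2 b b.2) }
      exact CommGroup.exists_apply_ne_one_of_hasEnoughRootsOfUnity A ℂ (a := a * b⁻¹) (fun e => hne (mul_inv_eq_one.1 e))
    exact hv (by rw [map_mul, map_inv, h v, mul_inv_cancel])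
  have hfixA : ∀ x, (∀ v : A →* ℂˣ, cj x v = v) → x ∈ A := by
    intro x hx
    refine hAC x fun a ha => ?_
    have := hsep (MulAut.conjNormal x ⟨a, ha⟩) ⟨a, ha⟩ fun v => DFunLike.congr_fun (hx v) _
    have := congrArg Subtype.val this
    rw [MulAut.conjNormal_apply] at this
    exact mul_inv_eq_iff_eq_mul.1 this
  obtain ⟨u, v, hu, hv, huv⟩ : ∃ u v, St u ≠ ⊤ ∧ St v ≠ ⊤ ∧ St u ≠ St v := by
    by_contra hno
    push Not at hno
    obtain ⟨u, hu⟩ : ∃ u, St u ≠ ⊤ := by
      by_contra hall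
      push Not at hall
      exact hA1 (eq_top_iff.2 fun x _ => hfixA x fun v => (mem_St v x).1 ((hall v).ge (mem_top x)))
    have : St u ≤ A := fun x hx => hfixA x fun v => by
      by_cases hv : St v = ⊤
      · exact (mem_St v x).1 (hv.ge (mem_top x))
      · exact (mem_St v x).1 ((hno u v hu hv).le hx)
    exact hAp (by rw [le_antisymm (hASt u) this]; exact (hStp u hu).1)
  obtain ⟨hDuv, hDmul⟩ := hpair u v hu hv huv
  set D := Set.range (d u) with hD
  have hDall : ∀ w x, d w x ∈ D := by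
    intro w x
    by_cases hw : St w = ⊤
    · refine ⟨1, ?_⟩
      rw [hd1]
      show 1 = cj x w * w⁻¹
      rw [(mem_St w x).1 (hw.ge (mem_top x))]
      exact (mul_inv_cancel w).symm
    by_cases h : St w = St u
    · show d w x ∈ D
      rw [hDuv, ← (hpair w v hw hv (by rw [h]; exact huv)).1]; exact ⟨x, rfl⟩
    · show d w x ∈ Set.range (d u)
      rw [← (hpair w u hw hu h).1]; exact ⟨x, rfl⟩
  have hDcard : Nat.card D = p := by rw [hD, hcardD, (hStp u hu).1]
  have hDone : (1 : A →* ℂˣ) ∈ D := ⟨1, hd1 u⟩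
  haveI : Finite (A →* ℂˣ) := by
    refine Nat.finite_of_card_ne_zero ?_
    letI : CommGroup A := { (inferInstance : Group A) with mul_comm := fun a b => Subtype.ext (hAc a a.2 b b.2) }
    exact (CommGroup.card_monoidHom_of_hasEnoughRootsOfUnity A ℂ).trans_ne Nat.card_pos.ne'
  let DS : Subgroup (A →* ℂˣ) :=
    { carrier := D
      one_mem' := hDone
      mul_mem' := fun {a b} ha hb => hDmul a ha b hb
      inv_mem' := fun {a} ha => by
        have hpow : ∀ k : ℕ, a ^ k ∈ D := fun k => by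
          induction k with
          | zero => exact (pow_zero a).symm ▸ hDone
          | succ k ih => exact (pow_succ a k).symm ▸ hDmul _ ih a ha
        have : a⁻¹ = a ^ (orderOf a - 1) := by
          refine MonoidHom.ext fun b => ?_
          show (a b)⁻¹ = (a ^ (orderOf a - 1)) b
          rw [MonoidHom.pow_apply]
          refine inv_eq_of_mul_eq_one_right ?_
          rw [← pow_succ', Nat.sub_add_cancel (orderOf_pos a), ← MonoidHom.pow_apply, pow_orderOf_eq_one]
          rfl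
        rw [this]; exact hpow _ }
  have hDSc : Nat.card DS = p := hDcard
  obtain ⟨δ, hδD, hδ1⟩ : ∃ δ ∈ DS, δ ≠ 1 := by
    haveI : Nontrivial DS := Finite.one_lt_card_iff_nontrivial.1 (hDSc ▸ hp.out.one_lt)
    obtain ⟨⟨δ, hδ⟩, hne⟩ := exists_ne (1 : DS)
    exact ⟨δ, hδ, fun e => hne (Subtype.ext e)⟩
  have hδo : orderOf δ = p := by
    have : orderOf δ ∣ p := hDSc ▸ (Subgroup.orderOf_mk δ hδD ▸ orderOf_dvd_natCard (⟨δ, hδD⟩ : DS))
    exact (hp.out.eq_one_or_self_of_dvd _ this).resolve_left fun e => hδ1 (orderOf_eq_one_iff.1 e)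
  have hgen : ∀ f ∈ DS, f ∈ Subgroup.zpowers δ := by
    have : Subgroup.zpowers δ = DS := Subgroup.eq_of_le_of_card_ge (Subgroup.zpowers_le.2 hδD)
      (by rw [hDSc, Nat.card_zpowers, hδo])
    exact fun f hf => this.ge hf
  have hfixD : ∀ x, cj x δ = δ := by
    have hs : ∀ s, s ∈ St v → cj s δ = δ := fun s hs => by
      obtain ⟨x, hx⟩ : δ ∈ Set.range (d v) := hDuv ▸ hδD
      rw [← hx]
      show cj s (cj x v * v⁻¹) = _
      rw [cj_mulv, cj_comm, (mem_St v s).1 hs, show cj s v⁻¹ = (cj s v)⁻¹ from MonoidHom.ext fun a => rfl,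
        (mem_St v s).1 hs]
    have hs' : ∀ s, s ∈ St u → cj s δ = δ := fun s hs => by
      obtain ⟨x, hx⟩ : δ ∈ Set.range (d u) := hδD
      rw [← hx]
      show cj s (cj x u * u⁻¹) = _
      rw [cj_mulv, cj_comm, (mem_St u s).1 hs, show cj s u⁻¹ = (cj s u)⁻¹ from MonoidHom.ext fun a => rfl,
        (mem_St u s).1 hs]
    intro x
    have : St u ⊔ St v ≤ St δ := sup_le (fun s h => (mem_St δ s).2 (hs' s h)) fun s h => (mem_St δ s).2 (hs s h)
    have htop : St δ = ⊤ := by
      by_contra hne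
      have e1 : St u = St δ := Subgroup.eq_of_le_of_card_ge (le_sup_left.trans this) (by
        have a1 := (St u).card_mul_index
        have a2 := (St δ).card_mul_index
        rw [(hStp u hu).1] at a1; rw [(hStp δ hne).1] at a2
        exact (Nat.eq_of_mul_eq_mul_right hp.out.pos (a2.trans a1.symm)).le)
      have e2 : St v = St δ := Subgroup.eq_of_le_of_card_ge (le_sup_right.trans this) (by
        have a1 := (St v).card_mul_index
        have a2 := (St δ).card_mul_index
        rw [(hStp v hv).1] at a1; rw [(hStp δ hne).1] at a2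
        exact (Nat.eq_of_mul_eq_mul_right hp.out.pos (a2.trans a1.symm)).le)
      exact huv (e1.trans e2.symm)
    exact (mem_St δ x).1 (htop.ge (mem_top x))
  have hker : ∀ b : A, δ b = 1 → (b : G) ∈ Subgroup.center G := by
    intro b hb
    rw [Subgroup.mem_center_iff]
    intro x
    have := hsep (MulAut.conjNormal x b) b fun w => by
      obtain ⟨k, hk⟩ := Subgroup.mem_zpowers_iff.1 (hgen _ (hDall w x))
      have h := DFunLike.congr_fun hk b
      simp only [MonoidHom.zpow_apply, hb, one_zpow] at h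
      rw [MonoidHom.mul_apply, MonoidHom.inv_apply] at h
      exact mul_inv_eq_one.1 h.symm
    have := congrArg Subtype.val this
    rw [MulAut.conjNormal_apply] at this
    exact mul_inv_eq_iff_eq_mul.1 this
  have hZA : (Subgroup.center G) ≤ A := fun z hz => hAC z fun a _ => (Subgroup.mem_center_iff.1 hz a).symm
  have hrel : (Subgroup.center G).relIndex A = p := by
    have hd : (Subgroup.center G).relIndex A ∣ p := by
      have hle : δ.ker ≤ (Subgroup.center G).subgroupOf A := fun b hb => Subgroup.mem_subgroupOf.2 (hker b hb)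
      refine (Subgroup.index_dvd_of_le hle).trans ?_
      rw [Subgroup.index_ker, ← IsCyclic.exponent_eq_card]
      refine Monoid.exponent_dvd_of_forall_pow_eq_one ?_
      rintro ⟨_, b, rfl⟩
      refine Subtype.ext ?_
      rw [SubmonoidClass.coe_pow, OneMemClass.coe_one]
      have h := DFunLike.congr_fun (pow_orderOf_eq_one δ) b
      rw [hδo] at h
      simpa using h
    refine (hp.out.eq_one_or_self_of_dvd _ hd).resolve_left fun e => hA1 (eq_top_iff.2 fun x _ => hAC x fun a ha => ?_)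
    exact Subgroup.mem_center_iff.1 (Subgroup.relIndex_eq_one.1 e ha) x
  obtain ⟨a₀, ha₀, ha₀Z⟩ : ∃ a₀ ∈ A, a₀ ∉ (Subgroup.center G) := by
    by_contra hno
    push Not at hno
    rw [Subgroup.relIndex_eq_one.2 hno] at hrel
    exact hp.out.one_lt.ne hrel
  haveI hZn : ((Subgroup.center G).subgroupOf A).Normal := inferInstance
  have hdec : ∀ a ∈ A, ∃ i : ℕ, ∃ z ∈ (Subgroup.center G), a = z * a₀ ^ i := by
    intro a ha
    have hq : Nat.card (A ⧸ (Subgroup.center G).subgroupOf A) = p := hrel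
    have hne : ((⟨a₀, ha₀⟩ : A) : A ⧸ (Subgroup.center G).subgroupOf A) ≠ 1 := by
      rw [Ne, QuotientGroup.eq_one_iff, Subgroup.mem_subgroupOf]; exact ha₀Z
    obtain ⟨i, hi⟩ := (Submonoid.mem_powers_iff _ _).1
      (mem_powers_of_prime_card (p := p) hq hne (g' := ((⟨a, ha⟩ : A) : A ⧸ (Subgroup.center G).subgroupOf A)))
    rw [← QuotientGroup.mk_pow, QuotientGroup.eq, Subgroup.mem_subgroupOf] at hi
    refine ⟨i, _, hi, ?_⟩
    simp only [Subgroup.coe_mul, InvMemClass.coe_inv, SubmonoidClass.coe_pow]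
    rw [hAc _ (inv_mem (pow_mem ha₀ i)) _ ha, inv_mul_cancel_right]
  -- `φ x = [x, a₀]`
  have hφZ : ∀ x, x * a₀ * x⁻¹ * a₀⁻¹ ∈ (Subgroup.center G) := by
    intro x
    refine hker ⟨_, hcommA x a₀⟩ ?_
    have h := DFunLike.congr_fun (hfixD x) ⟨a₀, ha₀⟩
    rw [cj_apply] at h
    rw [show (⟨x * a₀ * x⁻¹ * a₀⁻¹, hcommA x a₀⟩ : A) = MulAut.conjNormal x (⟨a₀, ha₀⟩ : A) * (⟨a₀, ha₀⟩ : A)⁻¹ from
      Subtype.ext (by simp [MulAut.conjNormal_apply]), map_mul, map_inv, h, mul_inv_cancel]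
  let φ : G →* (Subgroup.center G) :=
    { toFun := fun x => ⟨x * a₀ * x⁻¹ * a₀⁻¹, hφZ x⟩
      map_one' := Subtype.ext (by simp)
      map_mul' := fun x y => Subtype.ext (by
        show x * y * a₀ * (x * y)⁻¹ * a₀⁻¹ = (x * a₀ * x⁻¹ * a₀⁻¹) * (y * a₀ * y⁻¹ * a₀⁻¹)
        rw [Subgroup.mem_center_iff.1 (hφZ y) (x * a₀ * x⁻¹ * a₀⁻¹)]
        calc x * y * a₀ * (x * y)⁻¹ * a₀⁻¹ = x * (y * a₀ * y⁻¹ * a₀⁻¹) * a₀ * x⁻¹ * a₀⁻¹ := by group
          _ = _ := by rw [Subgroup.mem_center_iff.1 (hφZ y) x]; group) }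
  have hφv : ∀ x, ((φ x : (Subgroup.center G)) : G) = x * a₀ * x⁻¹ * a₀⁻¹ := fun _ => rfl
  have hφker : φ.ker = A := by
    ext x
    rw [MonoidHom.mem_ker, Subtype.ext_iff, hφv, OneMemClass.coe_one, mul_inv_eq_one, mul_inv_eq_iff_eq_mul]
    refine ⟨fun h => hAC x fun a ha => ?_, fun h => hAc x h a₀ ha₀⟩
    obtain ⟨i, z, hz, rfl⟩ := hdec a ha
    exact ((show Commute x z from Subgroup.mem_center_iff.1 hz x).mul_right
      ((show Commute x a₀ from h).pow_right i)).eq
  have hφp : ∀ x, φ x ^ p = 1 := by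
    intro x
    have hz : a₀ ^ p ∈ (Subgroup.center G) := by
      have h : ((⟨a₀, ha₀⟩ : A) : A ⧸ (Subgroup.center G).subgroupOf A) ^ p = 1 := by
        rw [← hrel]; exact pow_card_eq_one'
      rw [← QuotientGroup.mk_pow, QuotientGroup.eq_one_iff, Subgroup.mem_subgroupOf] at h
      exact h
    refine Subtype.ext ?_
    rw [SubmonoidClass.coe_pow, hφv, OneMemClass.coe_one]
    have h1 : (x * a₀ * x⁻¹) ^ p = a₀ ^ p := by
      rw [conj_pow, Subgroup.mem_center_iff.1 hz x, mul_inv_cancel_right]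
    rw [(show Commute (x * a₀ * x⁻¹) a₀⁻¹ from
      hAc _ (Subgroup.Normal.conj_mem inferInstance a₀ ha₀ x) _ (inv_mem ha₀)).mul_pow, h1, inv_pow,
      mul_inv_cancel]
  set L := φ.range with hL
  have hAL : A.index = Nat.card L := by rw [← hφker, Subgroup.index_ker]
  have hLp : IsPGroup p L := fun l => ⟨1, Subtype.ext (by
    obtain ⟨x, hx⟩ := l.2
    rw [pow_one, SubmonoidClass.coe_pow, ← hx, hφp]; rfl)⟩
  obtain ⟨r, hr⟩ := IsPGroup.iff_card.1 hLp
  have hr0 : r ≠ 0 := fun e => hA1 (Subgroup.index_eq_one.1 (by rw [hAL, hr, e, pow_zero]))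
  have hr1 : r ≠ 1 := fun e => hAp (by rw [hAL, hr, e, pow_one])
  by_cases hr2 : r = 2
  · refine Or.inr ?_
    rw [← Subgroup.relIndex_mul_index hZA, hrel, hAL, hr, hr2, ← pow_succ']
  have hr3 : 3 ≤ r := by omega
  refine Or.inl ?_
  -- commutators
  have hS2 : ∀ x y : G, Nat.card (Subgroup.zpowers (φ x) ⊔ Subgroup.zpowers (φ y) : Subgroup (Subgroup.center G)) ≤ p ^ 2 := by
    intro x y
    have hb : ∀ g, Nat.card (Subgroup.zpowers (φ g)) ≤ p := fun g => by
      rw [Nat.card_zpowers]; exact Nat.le_of_dvd hp.out.pos (orderOf_dvd_of_pow_eq_one (hφp g))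
    calc _ = Nat.card (((Subgroup.zpowers (φ x) : Set (Subgroup.center G)) * (Subgroup.zpowers (φ y) : Set (Subgroup.center G))) : Set (Subgroup.center G)) := by
          rw [← Subgroup.normal_mul]; rfl
      _ ≤ Nat.card (Subgroup.zpowers (φ x) : Set (Subgroup.center G)) * Nat.card (Subgroup.zpowers (φ y) : Set (Subgroup.center G)) :=
          Set.natCard_mul_le
      _ ≤ p * p := Nat.mul_le_mul (hb x) (hb y)
      _ = p ^ 2 := (pow_two p).symm
  have hcomS : ∀ x y : G, ∃ s ∈ Subgroup.zpowers (φ x) ⊔ Subgroup.zpowers (φ y), x * y * x⁻¹ * y⁻¹ = ((s : (Subgroup.center G)) : G) := by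
    intro x y
    set S := Subgroup.zpowers (φ x) ⊔ Subgroup.zpowers (φ y) with hS
    let SA : Subgroup A := (S.map (Subgroup.center G).subtype).subgroupOf A
    by_contra hno
    push Not at hno
    have hcne : (⟨_, hcommA x y⟩ : A) ∉ SA := fun h => by
      obtain ⟨s, hs, hse⟩ := Subgroup.mem_map.1 (Subgroup.mem_subgroupOf.1 h)
      exact hno s hs hse.symm
    have hsep' : ∀ b : A, b ∉ SA → ∃ w : A →* ℂˣ, (∀ s ∈ SA, w s = 1) ∧ w b ≠ 1 := by
      intro b hb
      haveI : SA.Normal := ⟨fun s hs g => by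
        rwa [show g * s * g⁻¹ = s from Subtype.ext (by
          simp only [Subgroup.coe_mul, InvMemClass.coe_inv]
          rw [hAc _ g.2 _ s.2, mul_inv_cancel_right])]⟩
      obtain ⟨w, hw⟩ : ∃ w : A ⧸ SA →* ℂˣ, w (b : A ⧸ SA) ≠ 1 := by
        letI : CommGroup A := { (inferInstance : Group A) with mul_comm := fun a b => Subtype.ext (hAc a a.2 b b.2) }
        have hq : ∀ q q' : A ⧸ SA, q * q' = q' * q := by
          intro q q'
          obtain ⟨q, rfl⟩ := QuotientGroup.mk_surjective q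
          obtain ⟨q', rfl⟩ := QuotientGroup.mk_surjective q'
          rw [← QuotientGroup.mk_mul, ← QuotientGroup.mk_mul, mul_comm]
        letI : CommGroup (A ⧸ SA) := { (inferInstance : Group (A ⧸ SA)) with mul_comm := hq }
        exact CommGroup.exists_apply_ne_one_of_hasEnoughRootsOfUnity (A ⧸ SA) ℂ
          (a := (b : A ⧸ SA)) (fun e => hb ((QuotientGroup.eq_one_iff b).1 e))
      exact ⟨w.comp (QuotientGroup.mk' SA), fun s hs => by
        show w (s : A ⧸ SA) = 1
        rw [(QuotientGroup.eq_one_iff s).2 hs, map_one], hw⟩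
    obtain ⟨z, hz⟩ : ∃ z, φ z ∉ S := by
      by_contra hall
      push Not at hall
      have h1 := (Subgroup.card_le_of_le (show L ≤ S by rintro _ ⟨g, rfl⟩; exact hall g)).trans (hS2 x y)
      rw [hr, Nat.pow_le_pow_iff_right hp.out.one_lt] at h1
      omega
    have hzA : (⟨((φ z : (Subgroup.center G)) : G), hZA (φ z).2⟩ : A) ∉ SA := fun h => by
      obtain ⟨s, hs, hse⟩ := Subgroup.mem_map.1 (Subgroup.mem_subgroupOf.1 h)
      have hse' : s = φ z := Subtype.ext hse
      exact hz (hse' ▸ hs)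
    have hkill : ∀ w : A →* ℂˣ, (∀ s ∈ SA, w s = 1) → w ⟨((φ z : (Subgroup.center G)) : G), hZA (φ z).2⟩ ≠ 1 →
        w ⟨_, hcommA x y⟩ = 1 := by
      intro w hw hwz
      have hcjw : ∀ g, cj g w = w ↔ w ⟨((φ g : (Subgroup.center G)) : G), hZA (φ g).2⟩ = 1 := by
        intro g
        have e : (⟨((φ g : (Subgroup.center G)) : G), hZA (φ g).2⟩ : A) = MulAut.conjNormal g (⟨a₀, ha₀⟩ : A) * (⟨a₀, ha₀⟩ : A)⁻¹ :=
          Subtype.ext (by simp [hφv, MulAut.conjNormal_apply])
        rw [e, map_mul, map_inv, mul_inv_eq_one]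
        refine ⟨fun h => DFunLike.congr_fun h _, fun h => MonoidHom.ext fun a => ?_⟩
        obtain ⟨i, zz, hzz, hai⟩ := hdec a a.2
        have ea : a = (⟨zz, hZA hzz⟩ : A) * (⟨a₀, ha₀⟩ : A) ^ i := Subtype.ext (by simpa using hai)
        have ez : MulAut.conjNormal g (⟨zz, hZA hzz⟩ : A) = ⟨zz, hZA hzz⟩ := Subtype.ext (by
          rw [MulAut.conjNormal_apply]
          show g * zz * g⁻¹ = zz
          rw [Subgroup.mem_center_iff.1 hzz g, mul_inv_cancel_right])
        rw [ea, cj_apply, map_mul, map_mul, map_mul, ez, map_pow, map_pow, map_pow, h]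
      have hne : St w ≠ ⊤ := fun e => hwz ((hcjw z).1 ((mem_St w z).1 (e.ge (mem_top z))))
      exact (hStp w hne).2 x
        ((mem_St w x).2 ((hcjw x).2 (hw _ (Subgroup.mem_subgroupOf.2 ⟨φ x, Subgroup.mem_sup_left (Subgroup.mem_zpowers _), rfl⟩))))
        y ((mem_St w y).2 ((hcjw y).2 (hw _ (Subgroup.mem_subgroupOf.2 ⟨φ y, Subgroup.mem_sup_right (Subgroup.mem_zpowers _), rfl⟩))))
    obtain ⟨w1, hw1, hw1c⟩ := hsep' _ hcne
    obtain ⟨w2, hw2, hw2z⟩ := hsep' _ hzA
    by_cases h : w1 ⟨((φ z : (Subgroup.center G)) : G), hZA (φ z).2⟩ = 1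
    · refine hw1c ?_
      have h12 := hkill (w1 * w2) (fun s hs => by rw [MonoidHom.mul_apply, hw1 s hs, hw2 s hs, one_mul])
        (by rw [MonoidHom.mul_apply, h, one_mul]; exact hw2z)
      rwa [MonoidHom.mul_apply, hkill w2 hw2 hw2z, mul_one] at h12
    · exact hw1c (hkill w1 hw1 h)
  have hcomZ : ∀ x y : G, x * y * x⁻¹ * y⁻¹ ∈ (Subgroup.center G) := fun x y => by
    obtain ⟨s, -, hs⟩ := hcomS x y
    rw [hs]; exact s.2
  have hG'Z : commutator G ≤ (Subgroup.center G) := by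
    rw [_root_.commutator_def, Subgroup.commutator_le]
    intro x _ y _
    rw [commutatorElement_def]; exact hcomZ x y
  let c : G → (G →* (Subgroup.center G)) := fun x =>
    { toFun := fun y => ⟨x * y * x⁻¹ * y⁻¹, hcomZ x y⟩
      map_one' := Subtype.ext (by simp)
      map_mul' := fun y y' => Subtype.ext (by
        show x * (y * y') * x⁻¹ * (y * y')⁻¹ = (x * y * x⁻¹ * y⁻¹) * (x * y' * x⁻¹ * y'⁻¹)
        calc x * (y * y') * x⁻¹ * (y * y')⁻¹ = (x * y * x⁻¹ * y⁻¹) * (y * (x * y' * x⁻¹ * y'⁻¹) * y⁻¹) := by group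
          _ = _ := by rw [Subgroup.mem_center_iff.1 (hcomZ x y') y, mul_inv_cancel_right]) }
  have hcv : ∀ x y, ((c x y : (Subgroup.center G)) : G) = x * y * x⁻¹ * y⁻¹ := fun _ _ => rfl
  have hswap : ∀ x y, c x y = (c y x)⁻¹ := fun x y => Subtype.ext (by
    rw [InvMemClass.coe_inv, hcv, hcv]; group)
  have hcS : ∀ x y, c x y ∈ Subgroup.zpowers (φ x) ⊔ Subgroup.zpowers (φ y) := fun x y => by
    obtain ⟨s, hs, hse⟩ := hcomS x y
    rwa [show c x y = s from Subtype.ext hse]
  have hca0 : ∀ y, c y a₀ = φ y := fun y => rfl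
  have hAdec : ∀ g h : G, ∀ (k : ℤ), φ h = φ g ^ k → ∃ i : ℕ, ∃ z ∈ (Subgroup.center G), h = g ^ k * (z * a₀ ^ i) := by
    intro g h k e
    have hmem : (g ^ k)⁻¹ * h ∈ A := by
      rw [← hφker, MonoidHom.mem_ker, map_mul, map_inv, map_zpow, e, inv_mul_cancel]
    obtain ⟨i, z, hz, hzi⟩ := hdec _ hmem
    exact ⟨i, z, hz, by rw [← hzi, mul_inv_cancel_left]⟩
  have hczero : ∀ y, ∀ z ∈ (Subgroup.center G), c y z = 1 := fun y z hz => Subtype.ext (by
    rw [hcv, OneMemClass.coe_one, Subgroup.mem_center_iff.1 hz y, mul_inv_cancel_right, mul_inv_cancel])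
  have hbig : ∀ (S : Subgroup (Subgroup.center G)), Nat.card S ≤ p ^ 2 → ∃ y, φ y ∉ S := by
    intro S hS
    by_contra hall
    push Not at hall
    have h1 := (Subgroup.card_le_of_le (show L ≤ S by rintro _ ⟨g, rfl⟩; exact hall g)).trans hS
    rw [hr, Nat.pow_le_pow_iff_right hp.out.one_lt] at h1
    omega
  have hbig1 : ∀ x, ∃ y, φ y ∉ Subgroup.zpowers (φ x) := fun x =>
    hbig _ ((Subgroup.card_le_of_le (le_sup_left : _ ≤ _ ⊔ Subgroup.zpowers (φ x))).trans (hS2 x x))
  let Good : G → Prop := fun g => g ∉ A ∧ ∀ y, c g y ∈ Subgroup.zpowers (φ g)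
  have hgood : ∀ x ∉ A, ∃ i : ℤ, Good (x * a₀ ^ i) := by
    intro x hx
    set M := Subgroup.zpowers (φ x) with hM
    obtain ⟨y₁, hy₁⟩ := hbig1 x
    obtain ⟨m₁, hm₁, _, ⟨β, rfl⟩, hb₁⟩ := Subgroup.mem_sup_of_normal_left.1 (hcS x y₁)
    have hall : ∀ y, c x y * (φ y ^ β)⁻¹ ∈ M := by
      intro y
      by_cases hy : φ y ∈ M ⊔ Subgroup.zpowers (φ y₁)
      · obtain ⟨_, ⟨a, rfl⟩, _, ⟨b, rfl⟩, hab⟩ := Subgroup.mem_sup_of_normal_left.1 hy
        simp only at hab
        obtain ⟨i, z, hz, rfl⟩ : ∃ i : ℕ, ∃ z ∈ (Subgroup.center G), y = x ^ a * y₁ ^ b * (z * a₀ ^ i) := by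
          have hmem : (x ^ a * y₁ ^ b)⁻¹ * y ∈ A := by
            rw [← hφker, MonoidHom.mem_ker, map_mul, map_inv, map_mul, map_zpow, map_zpow, hab, inv_mul_cancel]
          obtain ⟨i, z, hz, hzi⟩ := hdec _ hmem
          exact ⟨i, z, hz, by rw [← hzi, mul_inv_cancel_left]⟩
        have hxx : c x x = 1 := Subtype.ext (by rw [hcv, OneMemClass.coe_one]; group)
        rw [map_mul (c x), map_mul (c x), map_mul (c x), map_zpow (c x), map_zpow (c x), hczero x z hz,
          map_pow (c x), hca0, hxx, one_zpow, one_mul, one_mul, ← hab, ← hb₁, mul_zpow, mul_zpow,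
          ← zpow_mul, ← zpow_mul (φ x), ← zpow_mul (φ y₁), mul_comm b β]
        rw [aux_cancel_middle]
        exact mul_mem (mul_mem (zpow_mem hm₁ b) (pow_mem (Subgroup.mem_zpowers _) i))
          (inv_mem (zpow_mem (Subgroup.mem_zpowers _) _))
      · obtain ⟨m₂, hm₂, _, ⟨β', rfl⟩, hb'⟩ := Subgroup.mem_sup_of_normal_left.1 (hcS x y)
        obtain ⟨m₃, hm₃, _, ⟨β'', rfl⟩, hb''⟩ := Subgroup.mem_sup_of_normal_left.1 (hcS x (y * y₁))
        simp only at hb₁ hb' hb''
        rw [map_mul (c x), map_mul φ, mul_zpow, ← hb', ← hb₁] at hb''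
        have hrel2 := aux_exponent m₁ m₂ m₃ (φ y) (φ y₁) β β' β'' hb''.symm
        have hMmem : φ y ^ (β' - β'') * φ y₁ ^ (β - β'') ∈ M :=
          hrel2 ▸ mul_mem (mul_mem (inv_mem hm₂) (inv_mem hm₁)) hm₃
        have hd1' : (p : ℤ) ∣ β' - β'' := by
          refine (zpow_mem_iff_dvd (hφp y) _ hy _).1 ?_
          have := mul_mem (Subgroup.mem_sup_left hMmem : _ ∈ M ⊔ Subgroup.zpowers (φ y₁))
            (inv_mem (Subgroup.mem_sup_right (zpow_mem (Subgroup.mem_zpowers (φ y₁)) (β - β''))))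
          rwa [mul_inv_cancel_right] at this
        have hd2 : (p : ℤ) ∣ β - β'' := by
          refine (zpow_mem_iff_dvd (hφp y₁) _ hy₁ _).1 ?_
          obtain ⟨q, hq⟩ := hd1'
          rw [hq, zpow_mul, zpow_natCast, hφp, one_zpow, one_mul] at hMmem
          exact hMmem
        obtain ⟨q, hq⟩ : (p : ℤ) ∣ β' - β := by
          have := dvd_sub hd1' hd2
          rwa [sub_sub_sub_cancel_right] at this
        rw [← hb', mul_assoc, ← zpow_sub, hq, zpow_mul, zpow_natCast, hφp, one_zpow, mul_one]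
        exact hm₂
    have hφi : φ (x * a₀ ^ β) = φ x := by
      rw [map_mul, map_zpow, show φ a₀ = 1 from (hφker.ge ha₀), one_zpow, mul_one]
    refine ⟨β, fun h => hx ?_, fun y => ?_⟩
    · have := mul_mem h (inv_mem (zpow_mem ha₀ β))
      rwa [mul_inv_cancel_right] at this
    · rw [hφi, hswap, map_mul (c y), map_zpow (c y), hca0, hswap y x, mul_inv, inv_inv]
      exact hall y
  have hgoodcomm : ∀ g h, Good g → Good h → g * h = h * g := by
    intro g h hg hh
    by_cases hm : φ h ∈ Subgroup.zpowers (φ g)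
    · obtain ⟨k, hk⟩ := hm
      simp only at hk
      obtain ⟨i, z, hz, rfl⟩ := hAdec g h k hk.symm
      obtain ⟨y, hy⟩ := hbig1 g
      have hMeq : φ (g ^ k * (z * a₀ ^ i)) ∈ Subgroup.zpowers (φ g) := ⟨k, hk⟩
      have h1 : c (g ^ k * (z * a₀ ^ i)) y ∈ Subgroup.zpowers (φ g) :=
        Subgroup.zpowers_le.2 hMeq (hh.2 y)
      rw [hswap, map_mul (c y), map_mul (c y), map_zpow (c y), map_pow (c y), hczero y z hz, hca0, one_mul,
        mul_inv, ← inv_zpow, ← hswap] at h1
      have h2 : φ y ^ (i : ℤ) ∈ Subgroup.zpowers (φ g) := by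
        rw [zpow_natCast, ← inv_mem_iff]
        have := mul_mem (inv_mem (zpow_mem (hg.2 y) k)) h1
        rwa [inv_mul_cancel_left] at this
      obtain ⟨q, hq⟩ := Int.natCast_dvd_natCast.1 ((zpow_mem_iff_dvd (hφp y) _ hy _).1 h2)
      have hz0 : a₀ ^ i ∈ (Subgroup.center G) := by
        rw [hq, pow_mul]
        refine pow_mem ?_ q
        have h : ((⟨a₀, ha₀⟩ : A) : A ⧸ (Subgroup.center G).subgroupOf A) ^ p = 1 := by
          rw [← hrel]; exact pow_card_eq_one'
        rw [← QuotientGroup.mk_pow, QuotientGroup.eq_one_iff, Subgroup.mem_subgroupOf] at h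
        exact h
      exact (((Commute.refl g).zpow_right k).mul_right (Subgroup.mem_center_iff.1 (mul_mem hz hz0) g)).eq
    · have h1 := hg.2 h
      have h2 : c g h ∈ Subgroup.zpowers (φ h) := by rw [hswap]; exact inv_mem (hh.2 g)
      have hone : c g h = 1 := by
        by_contra hne
        refine hm ?_
        obtain ⟨k, hk⟩ := h2
        simp only at hk
        have hnd : ¬ (p : ℤ) ∣ k := fun ⟨q, hq⟩ => hne (by
          rw [← hk, hq, zpow_mul, zpow_natCast, hφp, one_zpow])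
        exact by_contra fun hm' => hnd ((zpow_mem_iff_dvd (hφp h) _ hm' k).1 (hk ▸ h1))
      have := congrArg Subtype.val hone
      rw [hcv, OneMemClass.coe_one, mul_inv_eq_one, mul_inv_eq_iff_eq_mul] at this
      exact this
  let B : Subgroup G := Subgroup.closure (((Subgroup.center G) : Set G) ∪ {g | Good g})
  have hBc : ∀ a ∈ B, ∀ b ∈ B, a * b = b * a := by
    refine closure_comm_of_pairwise ?_
    rintro a (ha | ha) b (hb | hb)
    · exact (Subgroup.mem_center_iff.1 ha b).symm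
    · exact (Subgroup.mem_center_iff.1 ha b).symm
    · exact Subgroup.mem_center_iff.1 hb a
    · exact hgoodcomm a b ha hb
  have hZB : (Subgroup.center G) ≤ B := fun z hz => Subgroup.subset_closure (Or.inl hz)
  haveI hBn : B.Normal := normal_of_le B (hG'Z.trans hZB)
  have hBA : B ⊔ A = ⊤ := by
    rw [eq_top_iff]
    intro x _
    by_cases hx : x ∈ A
    · exact Subgroup.mem_sup_right hx
    · obtain ⟨i, hi⟩ := hgood x hx
      rw [← mul_inv_cancel_right x (a₀ ^ i)]
      exact mul_mem (Subgroup.mem_sup_left (Subgroup.subset_closure (Or.inr hi)))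
        (Subgroup.mem_sup_right (inv_mem (zpow_mem ha₀ i)))
  refine ⟨B, hBn, hBc, ?_⟩
  have hd : B.index ∣ p := by
    rw [← Subgroup.relIndex_top_right, ← hBA, sup_comm, Subgroup.relIndex_sup_right, ← hrel]
    exact Subgroup.relIndex_dvd_of_le_left A hZB
  refine (hp.out.eq_one_or_self_of_dvd _ hd).resolve_left fun e => ?_
  obtain ⟨a, b, hab⟩ := hnc
  exact hab (hBc a ((Subgroup.index_eq_one.1 e).ge (mem_top a)) b ((Subgroup.index_eq_one.1 e).ge (mem_top b)))

/-- The characterisation of the degree set `{1, p}`. -/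
theorem degrees_one_prime_iff (hnc : ∃ a b : G, a * b ≠ b * a) :
    ((∀ χ : IrrCharacter G, charDegree (χ : G → ℂ) = 1 ∨ charDegree (χ : G → ℂ) = p) ∧
      ∃ χ : IrrCharacter G, charDegree (χ : G → ℂ) = p) ↔
    ((∃ A : Subgroup G, A.Normal ∧ (∀ a ∈ A, ∀ b ∈ A, a * b = b * a) ∧ A.index = p) ∨
      (Subgroup.center G).index = p ^ 3) := by
  classical
  have := Fintype.ofFinite G
  constructor
  · rintro ⟨hcd, -⟩
    have hcomm := commutator_comm_of_two_degrees hcd hp.out.one_lt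
    obtain ⟨A, ⟨hGA, hAc⟩, hAmax⟩ := (Set.toFinite {A : Subgroup G | commutator G ≤ A ∧
      ∀ a ∈ A, ∀ b ∈ A, a * b = b * a}).exists_maximal ⟨commutator G, le_rfl, hcomm⟩
    haveI : A.Normal := ⟨fun h hh g => by
      have := mul_mem (hGA (Subgroup.commutator_mem_commutator (mem_top g) (mem_top h))) hh
      rwa [commutatorElement_def, inv_mul_cancel_right] at this⟩
    refine degrees_one_prime_main hcd hnc A hGA hAc fun x hx => ?_
    let A' : Subgroup G := Subgroup.closure (insert x (A : Set G))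
    have hle : A ≤ A' := fun a ha => Subgroup.subset_closure (Set.mem_insert_of_mem x ha)
    have hA'c : ∀ a ∈ A', ∀ b ∈ A', a * b = b * a := by
      refine closure_comm_of_pairwise ?_
      rintro a (rfl | ha) b (rfl | hb)
      · rfl
      · exact hx b hb
      · exact (hx a ha).symm
      · exact hAc a ha b hb
    exact hAmax ⟨hGA.trans hle, hA'c⟩ hle (Subgroup.subset_closure (Set.mem_insert x _))
  · intro h
    have hdeg : ∀ χ : IrrCharacter G, charDegree (χ : G → ℂ) = 1 ∨ charDegree (χ : G → ℂ) = p := by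
      intro χ
      obtain ⟨k, ρ, hρ, hρc⟩ := χ.2
      haveI := hρ
      have h1 := (charDegree_spec' χ.2).1
      rw [← congrFun hρc 1, ρ.char_one, Nat.cast_inj] at h1
      rw [← h1]
      rcases h with ⟨A, hA, hAc, hAi⟩ | hZ
      · haveI := hA
        exact hp.out.eq_one_or_self_of_dvd _ (hAi ▸ degree_dvd_index_of_abelian_normal ρ A hAc)
      · obtain ⟨j, hj, hj'⟩ := (Nat.dvd_prime_pow hp.out).1 (hZ ▸ degree_dvd_index_center ρ)
        have hsq := degree_sq_mul_card_le ρ (Subgroup.center G) fun d hd g => by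
          rw [← map_mul, ← map_mul, Subgroup.mem_center_iff.1 hd g]
        rw [← (Subgroup.center G).index_mul_card, hZ, hj', ← pow_mul] at hsq
        have h2 : p ^ (j * 2) ≤ p ^ 3 := Nat.le_of_mul_le_mul_right hsq Nat.card_pos
        rw [Nat.pow_le_pow_iff_right hp.out.one_lt] at h2
        rcases Nat.le_one_iff_eq_zero_or_eq_one.1 (show j ≤ 1 by omega) with rfl | rfl
        · left; rw [hj', pow_zero]
        · right; rw [hj', pow_one]
    refine ⟨hdeg, ?_⟩
    by_contra hno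
    push Not at hno
    obtain ⟨a, b, hab⟩ := hnc
    refine hab ((commutative_iff_degree_one.2 fun χ => ?_) a b)
    rw [(charDegree_spec' χ.2).1, (hdeg χ).resolve_right (hno χ), Nat.cast_one]

end CfsgLib.CharTheory
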