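/-
A self-centralizing subgroup of prime order and a character of degree `p - 1`: determinants.
-/
import Cfsg.Agent.Lib.CharTheory.ExtCriteria
import Cfsg.Agent.Lib.CharTheory.Irr
import Mathlib.LinearAlgebra.Matrix.Permutation

namespace CfsgLib.CharTheory.DetSelfCent

open Cfsg CfsgLib.CharTheory
open scoped ComplexConjugate

universe u

/-- Left multiplication by a generator is a cycle. -/
theorem sign_mulLeft {K : Type u} [Group K] [Fintype K] [DecidableEq K] (j : K)
    (hgen : ∀ y : K, y ∈ Subgroup.zpowers j) (heven : Even (Fintype.card K)) :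
    Equiv.Perm.sign (Equiv.mulLeft j) = -1 := by
  have hj : j ≠ 1 := by
    intro hj
    have h1 : Fintype.card K = 1 := Fintype.card_eq_one_iff.2 ⟨1, fun y => by
      obtain ⟨i, rfl⟩ := Subgroup.mem_zpowers_iff.1 (hgen y)
      simp [hj]⟩
    rw [h1] at heven
    simp at heven
  have hpow : ∀ (i : ℤ) (y : K), ((Equiv.mulLeft j) ^ i : Equiv.Perm K) y = j ^ i * y := by
    intro i y
    have : (Equiv.mulLeft j : Equiv.Perm K) ^ i = Equiv.mulLeft (j ^ i) :=
      (map_zpow (MulAction.toPermHom K K) j i).symm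
    rw [this]; rfl
  have hcyc : Equiv.Perm.IsCycle (Equiv.mulLeft j : Equiv.Perm K) := by
    refine ⟨1, by simpa using hj, fun y _ => ?_⟩
    obtain ⟨i, rfl⟩ := Subgroup.mem_zpowers_iff.1 (hgen y)
    exact ⟨i, by rw [hpow, mul_one]⟩
  have hsupp : (Equiv.mulLeft j : Equiv.Perm K).support = Finset.univ := by
    ext y
    simp [hj]
  rw [hcyc.sign, hsupp, Finset.card_univ, heven.neg_one_pow]

/-- The determinant of an element whose character is a multiple of the regular one. -/
theorem det_eq_neg_one {K : Type u} [Group K] [Fintype K] (j : K)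
    (hgen : ∀ y : K, y ∈ Subgroup.zpowers j) (heven : Even (Fintype.card K)) {t : ℕ} (ht : Odd t)
    {n : ℕ} (ρ : Representation ℂ K (Fin n → ℂ)) (h1 : ρ.character 1 = (t * Fintype.card K : ℕ))
    (h0 : ∀ y : K, y ≠ 1 → ρ.character y = 0) : LinearMap.det (ρ j) = -1 := by
  classical
  let σ : K →* Equiv.Perm (Fin t × K) :=
    { toFun := fun k => Equiv.prodCongrRight fun _ => Equiv.mulLeft k
      map_one' := by ext x <;> simp
      map_mul' := fun a b => by ext x <;> simp [mul_assoc] }
  let R : Representation ℂ K (Fin t × K → ℂ) :=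
    { toFun := fun k => Matrix.toLin' ((σ k⁻¹).permMatrix ℂ)
      map_one' := by rw [inv_one, map_one, Matrix.permMatrix_one, Matrix.toLin'_one]; rfl
      map_mul' := fun a b => by
        rw [mul_inv_rev, map_mul, Matrix.permMatrix_mul, Matrix.toLin'_mul]; rfl }
  have hR : R.character = ρ.character := by
    funext k
    show LinearMap.trace ℂ _ (Matrix.toLin' ((σ k⁻¹).permMatrix ℂ)) = _
    rw [Matrix.trace_toLin'_eq, Matrix.trace]
    by_cases hk : k = 1
    · subst hk
      rw [inv_one, map_one, Matrix.permMatrix_one, h1]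
      simp
    · rw [h0 k hk]
      refine Finset.sum_eq_zero fun x _ => ?_
      rw [Matrix.diag_apply, Equiv.Perm.permMatrix, PEquiv.toMatrix_apply, if_neg]
      rw [Equiv.toPEquiv_apply, Option.mem_def, Option.some_inj]
      show ¬ (x.1, k⁻¹ * x.2) = x
      intro h
      exact hk (inv_eq_one.1 (mul_eq_right.1 (congrArg Prod.snd h)))
  obtain ⟨e⟩ := nonempty_equiv_of_character_eq R ρ hR
  have hconj : ρ j = e.toLinearEquiv.conj (R j) := by
    refine LinearMap.ext fun v => ?_
    have := e.toIntertwiningMap.isIntertwining _ _ j (e.toLinearEquiv.symm v)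
    refine (Eq.trans ?_ this.symm)
    exact congrArg (ρ j) (e.toLinearEquiv.apply_symm_apply v).symm
  rw [hconj, LinearEquiv.conj_apply, LinearMap.comp_assoc, LinearMap.det_conj]
  show LinearMap.det (Matrix.toLin' ((σ j⁻¹).permMatrix ℂ)) = -1
  rw [LinearMap.det_toLin', Matrix.det_permutation]
  show ((Equiv.Perm.sign (Equiv.prodCongrRight fun _ : Fin t => Equiv.mulLeft j⁻¹) : ℤ) : ℂ) = -1
  rw [Equiv.Perm.sign_prodCongrRight, sign_mulLeft j⁻¹ (fun y => by
    rw [Subgroup.zpowers_inv]; exact hgen y) heven, Finset.prod_const, Finset.card_univ,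
    Fintype.card_fin, ht.neg_one_pow]
  simp

variable {G : Type u} [Group G] [Finite G]

/-- An element acting with determinant `-1` forces even abelianization. -/
theorem even_index_of_det {n : ℕ} (ρ : Representation ℂ G (Fin n → ℂ)) (j : G)
    (h : LinearMap.det (ρ j) = -1) : Even (commutator G).index := by
  have hμ : detHom ρ j = -1 := Units.ext (by rw [coe_detHom, h]; simp)
  have h2 : orderOf (detHom ρ j) = 2 := by
    refine orderOf_eq_prime (by rw [hμ, neg_one_sq]) ?_
    rw [hμ]
    intro hh
    have := congrArg (fun u : ℂˣ => (u : ℂ)) hh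
    norm_num at this
  rw [even_iff_two_dvd, ← h2]
  have h3 : Abelianization.lift (detHom ρ) (Abelianization.of j) = detHom ρ j := rfl
  exact (h3 ▸ orderOf_map_dvd (Abelianization.lift (detHom ρ)) (Abelianization.of j)).trans
    (orderOf_dvd_natCard _)

/-- A self-centralizing involution forces even abelianization. -/
theorem even_index_of_involution (x : G) (hx : orderOf x = 2)
    (hC : Subgroup.centralizer ({x} : Set G) = Subgroup.zpowers x) (h4 : ¬ 4 ∣ Nat.card G) :
    Even (commutator G).index := by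
  classical
  have := Fintype.ofFinite G
  let μ : G →* ℤˣ := Equiv.Perm.sign.comp (MulAction.toPermHom G G)
  have hx2 : x ^ 2 = 1 := hx ▸ pow_orderOf_eq_one x
  have hx1 : x ≠ 1 := fun h => by rw [h, orderOf_one] at hx; norm_num at hx
  have hμ : μ x = -1 := by
    show Equiv.Perm.sign (MulAction.toPermHom G G x) = -1
    have hσ : (MulAction.toPermHom G G x) ^ 2 = 1 := by rw [← map_pow, hx2, map_one]
    rw [Equiv.Perm.sign_of_pow_two_eq_one hσ]
    have hfix : Fintype.card ↑(Function.fixedPoints ⇑(MulAction.toPermHom G G x)) = 0 := by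
      rw [Fintype.card_eq_zero_iff]
      exact ⟨fun ⟨y, hy⟩ => hx1 (mul_eq_right.1 hy)⟩
    rw [hfix, Nat.sub_zero, ← Nat.card_eq_fintype_card]
    have h2 : 2 ∣ Nat.card G := hx ▸ orderOf_dvd_natCard x
    refine Odd.neg_one_pow ?_
    obtain ⟨m, hm⟩ := h2
    rw [hm, Nat.mul_div_cancel_left _ two_pos]
    rcases Nat.even_or_odd m with ⟨r, hr⟩ | hodd
    · exact absurd ⟨r, by omega⟩ h4
    · exact hodd
  have h2 : orderOf (μ x) = 2 := by
    refine orderOf_eq_prime (by rw [hμ]; rfl) ?_
    rw [hμ]; decide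
  rw [even_iff_two_dvd, ← h2]
  have h3 : Abelianization.lift μ (Abelianization.of x) = μ x := rfl
  exact (h3 ▸ orderOf_map_dvd (Abelianization.lift μ) (Abelianization.of x)).trans
    (orderOf_dvd_natCard _)

/-- If the character sums to zero on a subgroup then the subgroup sum annihilates. -/
theorem sum_translate_eq_zero {n : ℕ} (ρ : Representation ℂ G (Fin n → ℂ)) (P : Subgroup G)
    [Fintype P] (h : ∑ w : P, ρ.character w = 0) (g : G) :
    ∑ w : P, ρ.character ((w : G) * g) = 0 := by
  classical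
  set S : Module.End ℂ (Fin n → ℂ) := (Fintype.card P : ℂ)⁻¹ • ∑ w : P, ρ (w : G) with hS
  have hinv : ∀ (w : P) v, ρ (w : G) (S v) = S v := by
    intro w v
    simp only [hS, LinearMap.smul_apply, LinearMap.sum_apply, map_smul, map_sum]
    congr 1
    refine Fintype.sum_equiv (Equiv.mulLeft w) _ _ fun u => ?_
    show ρ (w : G) (ρ (u : G) v) = ρ ((w * u : P) : G) v
    rw [Subgroup.coe_mul, map_mul]; rfl
  let W : Submodule ℂ (Fin n → ℂ) := LinearMap.range S
  have hproj : LinearMap.IsProj W S := by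
    refine ⟨fun v => LinearMap.mem_range_self S v, ?_⟩
    rintro _ ⟨v, rfl⟩
    conv_lhs => rw [hS]
    rw [LinearMap.smul_apply, LinearMap.sum_apply, Finset.sum_congr rfl fun w _ => hinv w v,
      Finset.sum_const, Finset.card_univ, ← Nat.cast_smul_eq_nsmul ℂ, smul_smul,
      inv_mul_cancel₀ (Nat.cast_ne_zero.2 Fintype.card_ne_zero), one_smul]
  have htr : LinearMap.trace ℂ _ S = (Fintype.card P : ℂ)⁻¹ * ∑ w : P, ρ.character w := by
    rw [hS, map_smul, map_sum, smul_eq_mul]; rfl
  rw [hproj.trace, h, mul_zero, Nat.cast_eq_zero, Submodule.finrank_eq_zero] at htr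
  have hS0 : S = 0 := LinearMap.range_eq_bot.1 htr
  have h2 : ∑ w : P, ρ.character ((w : G) * g) =
      LinearMap.trace ℂ _ ((∑ w : P, ρ (w : G)) * ρ g) := by
    rw [Finset.sum_mul, map_sum]
    exact Finset.sum_congr rfl fun w _ => by rw [Representation.character, map_mul]
  have h3 : ∑ w : P, ρ (w : G) = 0 := by
    rw [hS] at hS0
    exact (smul_eq_zero.1 hS0).resolve_left
      (inv_ne_zero (Nat.cast_ne_zero.2 Fintype.card_ne_zero))
  rw [h2, h3, zero_mul, map_zero]

end CfsgLib.CharTheory.DetSelfCent
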