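/-
Ordinary character theory, part 24: characters of extraspecial groups.
-/
import Cfsg.Agent.Lib.CharTheory.Linear
import Cfsg.Agent.Lib.CharTheory.Degree
import Cfsg.Agent.Lib.CharTheory.Clifford
import Cfsg.Agent.Lib.CharTheory.Gallagher
import Cfsg.Prelude.Def_Transfer

namespace CfsgLib.CharTheory

open Cfsg
open scoped ComplexConjugate commutatorElement

universe u

variable {P : Type u} [Group P]

/-- An irreducible character of an extraspecial group is either trivial on the centre or it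
vanishes off the centre and has degree `p ^ n`. -/
theorem extraspecial_dichotomy [Finite P] {p n : ℕ} (hp : p.Prime) (hP : IsExtraspecial p P)
    (hcard : Nat.card P = p ^ (2 * n + 1)) {χ : P → ℂ} (hχ : IsIrrCharacter P χ) :
    (∀ z ∈ Subgroup.center P, χ z = χ 1) ∨
      (χ 1 = (p : ℂ) ^ n ∧ ∀ x : P, x ∉ Subgroup.center P → χ x = 0) := by
  classical
  have := Fintype.ofFinite P
  have := Fact.mk hp
  obtain ⟨⟨-, -, hcom⟩, hZ⟩ := hP
  by_cases hk : ∀ z ∈ Subgroup.center P, χ z = χ 1
  · exact Or.inl hk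
  refine Or.inr ?_
  push Not at hk
  obtain ⟨z₀, hz₀, hne⟩ := hk
  obtain ⟨m, ρ, hρ, rfl⟩ := hχ
  have hvan : ∀ x : P, x ∉ Subgroup.center P → ρ.character x = 0 := by
    intro x hx
    obtain ⟨y, hy⟩ : ∃ y, y * x * y⁻¹ ≠ x := by
      by_contra h
      push Not at h
      exact hx (Subgroup.mem_center_iff.mpr fun y => mul_inv_eq_iff_eq_mul.mp (h y))
    have hz : y * x * y⁻¹ * x⁻¹ ∈ Subgroup.center P := by
      rw [← hcom]
      exact Subgroup.commutator_mem_commutator (Subgroup.mem_top y) (Subgroup.mem_top x)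
    obtain ⟨ω, hω⟩ := exists_scalar_of_mem_center ρ hz
    have hω1 : ω ≠ 1 := by
      rintro rfl
      have hz1 : y * x * y⁻¹ * x⁻¹ ≠ 1 := fun e => hy (mul_inv_eq_one.mp e)
      have hgen : Subgroup.zpowers (y * x * y⁻¹ * x⁻¹) = Subgroup.center P := by
        refine Subgroup.eq_of_le_of_card_ge (Subgroup.zpowers_le.mpr hz) ?_
        rw [hZ, Nat.card_zpowers]
        have hd : orderOf (y * x * y⁻¹ * x⁻¹) ∣ p := by
          rw [← hZ, ← Subgroup.orderOf_mk _ hz]; exact orderOf_dvd_natCard _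
        rcases (Nat.dvd_prime hp).mp hd with h | h
        · exact absurd (orderOf_eq_one_iff.mp h) hz1
        · exact h.ge
      obtain ⟨i, hi⟩ : ∃ i : ℕ, (y * x * y⁻¹ * x⁻¹) ^ i = z₀ :=
        mem_powers_iff_mem_zpowers.mpr (hgen.symm ▸ hz₀)
      apply hne
      rw [← hi]
      show LinearMap.trace ℂ _ (ρ ((y * x * y⁻¹ * x⁻¹) ^ i)) = LinearMap.trace ℂ _ (ρ 1)
      have h5 : ρ (y * x * y⁻¹ * x⁻¹) = 1 := by rw [hω, one_smul]; rfl
      rw [map_pow, h5, one_pow, map_one ρ]
    have h1 : ρ.character x = ω * ρ.character x := by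
      conv_lhs => rw [← ρ.char_conj x y, show y * x * y⁻¹ = (y * x * y⁻¹ * x⁻¹) * x by group]
      simp only [Representation.character, map_mul, hω, ← Module.End.one_eq_id, smul_mul_assoc, one_mul,
        map_smul, smul_eq_mul]
    have h2 : (ω - 1) * ρ.character x = 0 := by linear_combination -h1
    exact (mul_eq_zero.mp h2).resolve_left (sub_ne_zero.mpr hω1)
  refine ⟨?_, hvan⟩
  have hnorm := classInner_irr_self (isIrrCharacter_character ρ)
  simp only [classInner] at hnorm
  rw [inv_mul_eq_one₀ (Nat.cast_ne_zero.mpr Nat.card_pos.ne'),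
    ← Finset.sum_filter_of_ne (p := fun g : P => g ∈ Subgroup.center P)
      (fun g _ hne => by_contra fun hg => hne (by rw [hvan g hg, zero_mul]))] at hnorm
  have hterm : ∀ g ∈ Finset.univ.filter (fun g : P => g ∈ Subgroup.center P),
      ρ.character g * conj (ρ.character g) = (Module.finrank ℂ (Fin m → ℂ) : ℂ) ^ 2 := by
    intro g hg
    obtain ⟨ω, hω⟩ := exists_scalar_of_mem_center ρ (Finset.mem_filter.mp hg).2
    have hval : ρ.character g = ω * (Module.finrank ℂ (Fin m → ℂ) : ℂ) := by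
      simp only [Representation.character, hω, ← Module.End.one_eq_id, map_smul, LinearMap.trace_one,
        smul_eq_mul]
    have hωn : ω ^ orderOf g = 1 := by
      have h1 : ρ (g ^ orderOf g) = 1 := by rw [pow_orderOf_eq_one, map_one]
      rw [map_pow, hω, ← Module.End.one_eq_id, smul_pow, one_pow] at h1
      have h2 := congrArg (LinearMap.trace ℂ (Fin m → ℂ)) h1
      rw [map_smul, LinearMap.trace_one, smul_eq_mul] at h2
      refine mul_right_cancel₀ ?_ (h2.trans (one_mul _).symm)
      rw [← ρ.char_one]; exact irr_ne_zero (isIrrCharacter_character ρ)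
    have hω1 : ω * conj ω = 1 := by
      rw [Complex.mul_conj, Complex.normSq_eq_norm_sq,
        Complex.norm_eq_one_of_pow_eq_one hωn (orderOf_pos g).ne']
      simp
    rw [hval, map_mul, Complex.conj_natCast]
    linear_combination ((Module.finrank ℂ (Fin m → ℂ) : ℂ) ^ 2) * hω1
  rw [Finset.sum_congr rfl hterm, Finset.sum_const, ← Fintype.card_subtype, ← Nat.card_eq_fintype_card,
    nsmul_eq_mul] at hnorm
  have h1 : p ^ (2 * n + 1) = p * Module.finrank ℂ (Fin m → ℂ) ^ 2 := by
    rw [← hcard]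
    have : Nat.card {g : P // g ∈ Subgroup.center P} = p := hZ
    rw [this] at hnorm
    exact_mod_cast hnorm
  have h2 : Module.finrank ℂ (Fin m → ℂ) = p ^ n := by
    refine Nat.pow_left_injective two_ne_zero (Nat.eq_of_mul_eq_mul_left hp.pos ?_)
    simp only
    rw [← h1, ← pow_mul, pow_succ', mul_comm n 2]
  rw [ρ.char_one, h2, Nat.cast_pow]

/-- An irreducible character trivial on the centre of an extraspecial group is linear. -/
theorem extraspecial_linear [Finite P] {p : ℕ} (hP : IsExtraspecial p P) {χ : P → ℂ}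
    (hχ : IsIrrCharacter P χ) (hk : ∀ z ∈ Subgroup.center P, χ z = χ 1) : χ 1 = 1 := by
  obtain ⟨m, ρ, hρ, rfl⟩ := hχ
  have hall : ∀ g ∈ (⊤ : Subgroup P), ∃ ω : ℂ, ρ g = ω • LinearMap.id := by
    intro g _
    refine ⟨_, eq_smul_id_of_commute ρ (ρ g) fun k => ?_⟩
    have hc : g * k * g⁻¹ * k⁻¹ ∈ Subgroup.center P := by
      rw [← hP.1.2.2]
      exact Subgroup.commutator_mem_commutator (Subgroup.mem_top g) (Subgroup.mem_top k)
    have h2 := rep_apply_eq_one_of_char_eq ρ (hk _ hc)
    rw [← map_mul, ← map_mul, show g * k = g * k * g⁻¹ * k⁻¹ * (k * g) by group, map_mul, h2, one_mul]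
  have hdeg := degree_dvd_index_of_scalar ρ ⊤ hall
  rw [Subgroup.index_top, Nat.dvd_one] at hdeg
  rw [ρ.char_one, hdeg, Nat.cast_one]

theorem extraspecial_degrees [Finite P] {p n : ℕ} (hp : p.Prime) (hP : IsExtraspecial p P)
    (hcard : Nat.card P = p ^ (2 * n + 1)) (χ : IrrCharacter P) :
    (χ : P → ℂ) 1 = 1 ∨ (χ : P → ℂ) 1 = (p : ℂ) ^ n :=
  (extraspecial_dichotomy hp hP hcard χ.2).imp (extraspecial_linear hP χ.2) And.left

theorem extraspecial_count [Finite P] {p n : ℕ} (hp : p.Prime) (hP : IsExtraspecial p P)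
    (hcard : Nat.card P = p ^ (2 * n + 1)) :
    Nat.card {χ : IrrCharacter P // (χ : P → ℂ) 1 = (p : ℂ) ^ n} = p - 1 := by
  classical
  have := Fintype.ofFinite P
  have hp0 : p ^ (2 * n) ≠ 0 := pow_ne_zero _ hp.ne_zero
  have hn : p ^ n ≠ 1 := by
    intro hn
    have hn0 : n = 0 := by
      exact (Nat.pow_eq_one.mp hn).resolve_left hp.ne_one
    subst hn0
    obtain ⟨⟨-, -, hcom⟩, hZ⟩ := hP
    have htop : Subgroup.center P = ⊤ := by
      refine (Subgroup.card_eq_iff_eq_top _).mp ?_
      rw [hZ, hcard]; simp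
    have : IsMulCommutative P := ⟨⟨fun a b => Subgroup.mem_center_iff.mp (htop ▸ Subgroup.mem_top b) a⟩⟩
    rw [htop] at hcom
    have h1 : commutator P = ⊥ := by
      rw [commutator_def, Subgroup.commutator_eq_bot_iff_le_centralizer]
      intro a _
      rw [Subgroup.mem_centralizer_iff]
      exact fun b _ => Subgroup.mem_center_iff.mp (htop ▸ Subgroup.mem_top a) b
    rw [h1] at hcom
    have := hcard ▸ (Subgroup.card_top (G := P))
    rw [← hcom, Subgroup.card_bot] at this
    simp at this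
    exact hp.ne_one this.symm
  have hidx : (commutator P).index = p ^ (2 * n) := by
    have h := Subgroup.card_mul_index (commutator P)
    rw [hcard, hP.1.2.2, hP.2, pow_succ'] at h
    rw [hP.1.2.2]
    exact Nat.eq_of_mul_eq_mul_left hp.pos h
  have hlin := card_linear (G := P)
  rw [hidx] at hlin
  have hsum := sum_irr_degree_sq (G := P)
  rw [← Finset.sum_filter_add_sum_filter_not Finset.univ (fun χ : IrrCharacter P => (χ : P → ℂ) 1 = 1),
    Finset.sum_congr rfl (fun χ hχ => by rw [(Finset.mem_filter.mp hχ).2, one_pow] :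
      ∀ χ ∈ Finset.univ.filter (fun χ : IrrCharacter P => (χ : P → ℂ) 1 = 1), (χ : P → ℂ) 1 ^ 2 = 1),
    Finset.sum_congr (s₂ := Finset.univ.filter fun χ : IrrCharacter P => (χ : P → ℂ) 1 = (p : ℂ) ^ n)
      (f := fun χ : IrrCharacter P => (χ : P → ℂ) 1 ^ 2) (g := fun _ => ((p : ℂ) ^ n) ^ 2) ?_
      (fun χ hχ => by rw [(Finset.mem_filter.mp hχ).2]),
    Finset.sum_const, Finset.sum_const, ← Fintype.card_subtype, ← Fintype.card_subtype,
    ← Nat.card_eq_fintype_card, ← Nat.card_eq_fintype_card, hlin, nsmul_eq_mul, nsmul_eq_mul,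
    mul_one, hcard] at hsum
  · set N := Nat.card {χ : IrrCharacter P // (χ : P → ℂ) 1 = (p : ℂ) ^ n}
    have h : p ^ (2 * n) + N * (p ^ n) ^ 2 = p ^ (2 * n + 1) := by exact_mod_cast hsum
    rw [← pow_mul, mul_comm n 2, pow_succ'] at h
    have h2 : (1 + N) * p ^ (2 * n) = p * p ^ (2 * n) := by rw [add_mul, one_mul]; exact h
    have := mul_right_cancel₀ hp0 h2
    omega
  · ext χ
    simp only [Finset.mem_filter, Finset.mem_univ, true_and]
    constructor
    · exact fun h => (extraspecial_degrees hp hP hcard χ).resolve_left h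
    · intro h h1
      rw [h1] at h
      exact hn (by exact_mod_cast h.symm)

end CfsgLib.CharTheory
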