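import Mathlib
import Cfsg.Agent.Lib.CharTheory.More
import Cfsg.Agent.Lib.CharTheory.Schur
import Cfsg.Agent.Lib.CharTheory.Degree
import Cfsg.Agent.Lib.CharTheory.Induced

/-!
# Feit–Thompson: an abelian subgroup with disjoint centralizer neighbourhoods bounds the degree
-/

set_option autoImplicit false

namespace CfsgLib.CharTheory.FTBound

open Cfsg CfsgLib.CharTheory
open scoped ComplexConjugate

set_option linter.unusedVariables false
set_option linter.unusedSectionVars false
set_option linter.style.haveILetI false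

universe u

section Avg

variable {N : Type u} [Group N] (K : Subgroup N) [Fintype K]

/-- Average over the cosets of `K`. -/
noncomputable def avg (f : N → ℂ) (g : N) : ℂ :=
  (Nat.card K : ℂ)⁻¹ * ∑ k : K, f (g * (k : N))

theorem avg_mul_mem (f : N → ℂ) (g : N) (k : K) : avg K f (g * (k : N)) = avg K f g := by
  unfold avg
  congr 1
  exact Fintype.sum_equiv (Equiv.mulLeft k) _ _ fun x => by simp [mul_assoc]

theorem sum_split [Fintype N] (f : N → ℂ) :
    ∑ g, ‖f g‖ ^ 2 = ∑ g, ‖avg K f g‖ ^ 2 + ∑ g, ‖f g - avg K f g‖ ^ 2 := by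
  have hk0 : (Nat.card K : ℂ) ≠ 0 := Nat.cast_ne_zero.2 Nat.card_pos.ne'
  have hshift : ∀ k : K, ∑ g : N, f (g * (k : N)) * conj (avg K f g) =
      ∑ g : N, f g * conj (avg K f g) := fun k =>
    Fintype.sum_equiv (Equiv.mulRight (k : N)) _ _ fun g => by
      simp only [Equiv.coe_mulRight, avg_mul_mem]
  have h1 : ∑ g : N, f g * conj (avg K f g) = ∑ g : N, avg K f g * conj (avg K f g) := by
    conv_rhs =>
      enter [2, g, 1]
      rw [avg]
    simp only [mul_assoc, Finset.sum_mul, Finset.mul_sum]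
    rw [Finset.sum_comm]
    simp only [← Finset.mul_sum, hshift, Finset.sum_const, Finset.card_univ, ← Nat.card_eq_fintype_card,
      nsmul_eq_mul]
    rw [← mul_assoc, inv_mul_cancel₀ hk0, one_mul]
  have h2 := congrArg Complex.re h1
  simp only [Complex.re_sum] at h2
  have e : ∀ g : N, ‖f g - avg K f g‖ ^ 2 =
      ‖f g‖ ^ 2 + ‖avg K f g‖ ^ 2 - 2 * (f g * conj (avg K f g)).re := fun g => by
    simp only [← Complex.normSq_eq_norm_sq]
    exact Complex.normSq_sub _ _
  have e2 : ∀ g : N, ((avg K f g) * conj (avg K f g)).re = ‖avg K f g‖ ^ 2 := fun g => by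
    rw [Complex.mul_conj', ← Complex.ofReal_pow, Complex.ofReal_re]
  simp only [e, Finset.sum_sub_distrib, Finset.sum_add_distrib, ← Finset.mul_sum, h2, e2]
  ring

theorem avg_irr [Finite N] [K.Normal] {ψ : N → ℂ} (hψ : IsIrrCharacter N ψ) :
    avg K ψ = ψ ∨ avg K ψ = 0 := by
  haveI := Fintype.ofFinite N
  obtain ⟨d, hd, hd1⟩ := irr_degree_pos hψ
  obtain ⟨n, ρ, hρ, rfl⟩ := hψ
  haveI := hρ
  set T : Module.End ℂ (Fin n → ℂ) := ∑ k : K, ρ (k : N) with hT
  have hcomm : ∀ x : N, T * ρ x = ρ x * T := fun x => by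
    rw [hT, Finset.sum_mul, Finset.mul_sum]
    let e : K ≃ K :=
      { toFun := fun k => ⟨x⁻¹ * k * x, by simpa using (inferInstance : K.Normal).conj_mem _ k.2 x⁻¹⟩
        invFun := fun k => ⟨x * k * x⁻¹, (inferInstance : K.Normal).conj_mem _ k.2 x⟩
        left_inv := fun k => Subtype.ext (by simp [mul_assoc])
        right_inv := fun k => Subtype.ext (by simp [mul_assoc]) }
    refine Fintype.sum_equiv e _ _ fun k => ?_
    simp only [e, Equiv.coe_fn_mk, ← map_mul]
    congr 1
    simp [mul_assoc]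
  obtain ⟨c, hc⟩ : ∃ c : ℂ, T = c • 1 := ⟨_, eq_smul_id_of_commute ρ T hcomm⟩
  have hTT : T * T = (Nat.card K : ℂ) • T := by
    have : ∀ k : K, ρ (k : N) * T = T := fun k => by
      rw [hT, Finset.mul_sum]
      exact Fintype.sum_equiv (Equiv.mulLeft k) _ _ fun x => by simp [← map_mul]
    conv_lhs => arg 1; rw [hT]
    rw [Finset.sum_mul, Finset.sum_congr rfl fun k _ => this k, Finset.sum_const, Finset.card_univ,
      ← Nat.card_eq_fintype_card, Nat.cast_smul_eq_nsmul]
  have hval : ∀ g, avg K ρ.character g = (Nat.card K : ℂ)⁻¹ * (c * ρ.character g) := fun g => by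
    unfold avg
    congr 1
    have : ∑ k : K, ρ.character (g * (k : N)) = LinearMap.trace ℂ _ (ρ g * T) := by
      rw [hT, Finset.mul_sum, map_sum]
      exact Finset.sum_congr rfl fun k _ => by rw [← map_mul]; rfl
    rw [this, hc, mul_smul_comm, mul_one, map_smul, smul_eq_mul]; rfl
  have htr1 : LinearMap.trace ℂ (Fin n → ℂ) 1 = (d : ℂ) := by
    rw [← hd1, ← map_one ρ]; rfl
  have hcc : c * c = (Nat.card K : ℂ) * c := by
    have := congrArg (LinearMap.trace ℂ (Fin n → ℂ)) hTT
    rw [hc, smul_mul_smul_comm, mul_one, smul_smul, map_smul, map_smul, htr1, smul_eq_mul,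
      smul_eq_mul] at this
    exact mul_right_cancel₀ (Nat.cast_ne_zero.2 hd.ne') this
  rcases mul_eq_mul_right_iff.1 hcc with h | h
  · left
    funext g
    rw [hval, h, ← mul_assoc, inv_mul_cancel₀ (Nat.cast_ne_zero.2 Nat.card_pos.ne'), one_mul]
  · right
    funext g
    rw [hval, h]; simp

theorem isGenChar_avg [Finite N] [K.Normal] {χ : N → ℂ} (hχ : IsCharacter N χ) :
    IsGeneralizedCharacter N (avg K χ) := by
  haveI := Fintype.ofFinite N
  obtain ⟨l, hl, rfl⟩ := exists_list_irr hχ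
  clear hχ
  induction l with
  | nil =>
    have : avg K ([] : List (N → ℂ)).sum = 0 := funext fun g => by simp [avg]
    rw [this]; exact isGenChar_zero
  | cons a l ih =>
    have : avg K (a :: l).sum = avg K a + avg K l.sum := funext fun g => by
      simp [avg, Finset.sum_add_distrib, mul_add]
    rw [this]
    refine isGenChar_add ?_ (ih fun x hx => hl x (List.mem_cons_of_mem _ hx))
    rcases avg_irr K (hl a List.mem_cons_self) with h | h <;> rw [h]
    · exact isGenChar_of_char (isCharacter_of_irr (hl a List.mem_cons_self))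
    · exact isGenChar_zero

theorem card_le_sum_norm_sq [Fintype N] {θ : N → ℂ} (hθ : IsGeneralizedCharacter N θ)
    (hne : θ 1 ≠ 0) : (Nat.card N : ℝ) ≤ ∑ g, ‖θ g‖ ^ 2 := by
  obtain ⟨c, hc, -, hsq⟩ := classInner_self_eq_sum_sq hθ
  have hpos : 1 ≤ ∑ ψ : IrrCharacter N, c ψ ^ 2 := by
    by_contra h
    have h0 : ∑ ψ : IrrCharacter N, c ψ ^ 2 = 0 :=
      le_antisymm (by omega) (Finset.sum_nonneg fun ψ _ => sq_nonneg _)
    rw [Finset.sum_eq_zero_iff_of_nonneg fun ψ _ => sq_nonneg _] at h0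
    apply hne
    rw [hc, Finset.sum_apply]
    exact Finset.sum_eq_zero fun ψ hψ => by
      rw [eq_zero_of_pow_eq_zero (h0 ψ hψ)]; simp
  have h : ∑ g, θ g * conj (θ g) = (Nat.card N : ℂ) * ((∑ ψ : IrrCharacter N, c ψ ^ 2 : ℤ) : ℂ) := by
    rw [← hsq, classInner, ← mul_assoc, mul_inv_cancel₀ (Nat.cast_ne_zero.2 Nat.card_pos.ne'), one_mul]
  simp only [Complex.mul_conj, Complex.normSq_eq_norm_sq] at h
  rw [← Complex.ofReal_sum] at h
  have h' : ∑ g, ‖θ g‖ ^ 2 = (Nat.card N : ℝ) * ((∑ ψ : IrrCharacter N, c ψ ^ 2 : ℤ) : ℝ) := by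
    have := congrArg Complex.re h
    simpa [-Int.cast_sum, ← Complex.ofReal_pow] using this
  rw [h']
  have : (1 : ℝ) ≤ ((∑ ψ : IrrCharacter N, c ψ ^ 2 : ℤ) : ℝ) := by exact_mod_cast hpos
  nlinarith [(Nat.card N).cast_nonneg (α := ℝ)]

end Avg

section Main

variable {G : Type u} [Group G] [Fintype G] (H : Subgroup G) [Fintype H]

/-- The first Feit–Thompson inequality. -/
theorem bound (hab : ∀ a ∈ H, ∀ b ∈ H, a * b = b * a) (hZ : H ⊓ Subgroup.center G = ⊥)
    (hone : ∀ g : G, g ∉ Subgroup.center G → ∀ a b : G,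
      Subgroup.centralizer ({g} : Set G) ⊓ H.map (MulAut.conj a).toMonoidHom ≠ ⊥ →
      Subgroup.centralizer ({g} : Set G) ⊓ H.map (MulAut.conj b).toMonoidHom ≠ ⊥ →
      H.map (MulAut.conj a).toMonoidHom = H.map (MulAut.conj b).toMonoidHom)
    {χ : G → ℂ} (hχ : IsIrrCharacter G χ) (hker : ∃ h ∈ H, χ h ≠ χ 1)
    {d a₀ : ℕ} (hd : χ 1 = d) (ha₀ : classInner (fun h : H => χ h) (fun _ => 1) = a₀) :
    Nat.card H * a₀ ^ 2 < d ^ 2 := by
  classical
  have hdpos : 0 < d := by
    obtain ⟨e, he, he1⟩ := irr_degree_pos hχ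
    rw [hd, Nat.cast_inj] at he1
    omega
  rcases Nat.eq_zero_or_pos a₀ with h0 | h0
  · subst h0; simp; positivity
  set N : Subgroup G := Subgroup.normalizer (H : Set G) with hN
  set Z : Subgroup G := Subgroup.center G with hZdef
  have hHN : H ≤ N := Subgroup.le_normalizer
  have hZN : Z ≤ N := fun z hz => by
    rw [hN, Subgroup.mem_normalizer_iff]
    intro h
    have : z * h * z⁻¹ = h := by rw [← (Subgroup.mem_center_iff.1 hz h), mul_inv_cancel_right]
    rw [this]
  haveI : Fintype (H.subgroupOf N) := Fintype.ofFinite _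
  haveI : (H.subgroupOf N).Normal := Subgroup.normal_in_normalizer
  set eK : H.subgroupOf N ≃* H := Subgroup.subgroupOfEquivOfLe hHN
  set f : N → ℂ := fun n => χ n with hf
  set p : N → ℂ := avg (H.subgroupOf N) f with hp
  have hcardK : Nat.card (H.subgroupOf N) = Nat.card H := Nat.card_congr eK.toEquiv
  have hpval : ∀ n : N, p n = (Nat.card H : ℂ)⁻¹ * ∑ h : H, χ ((n : G) * h) := fun n => by
    rw [hp, avg, hcardK]
    congr 1
    exact Fintype.sum_equiv eK.toEquiv _ _ fun k => by rfl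
  have hfc : IsCharacter N f := isCharacter_restrict (isCharacter_of_irr hχ) N
  have hgen : IsGeneralizedCharacter N (fun n => f n - p n) :=
    isGenChar_sub (isGenChar_of_char hfc) (isGenChar_avg _ hfc)
  have ha0 : (Nat.card H : ℂ)⁻¹ * ∑ h : H, χ h = a₀ := by
    simpa [classInner] using ha₀
  have hp1 : p 1 = (a₀ : ℂ) := by rw [hpval]; simpa using ha0
  have hne1 : f 1 - p 1 ≠ 0 := by
    rw [hp1, sub_ne_zero]
    show χ ((1 : N) : G) ≠ _
    rw [Subgroup.coe_one, hd]
    intro e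
    obtain ⟨h, hh, hne⟩ := hker
    have hsum : ∑ x : H, ((d : ℝ) - (χ x).re) = 0 := by
      have e1 : ∑ x : H, χ x = (Nat.card H : ℂ) * (d : ℂ) := by
        rw [e, ← ha0, ← mul_assoc, mul_inv_cancel₀ (Nat.cast_ne_zero.2 Nat.card_pos.ne'), one_mul]
      have e2 := congrArg Complex.re e1
      rw [Complex.re_sum] at e2
      rw [Finset.sum_sub_distrib, e2]
      simp [Nat.card_eq_fintype_card]
    have hle : ∀ x : H, ‖χ x‖ ≤ (d : ℝ) := fun x => by
      have := norm_char_le (isCharacter_of_irr hχ) (x : G)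
      rwa [hd, Complex.norm_natCast] at this
    have h3 : (d : ℝ) - (χ h).re = 0 := (Finset.sum_eq_zero_iff_of_nonneg fun (x : H) _ =>
      sub_nonneg.2 (le_trans (Complex.re_le_norm _) (hle x))).1 hsum ⟨h, hh⟩ (Finset.mem_univ _)
    have h4 : (χ h).im = 0 := by
      have := Complex.sq_norm (χ h)
      rw [Complex.normSq_apply] at this
      have h5 := pow_le_pow_left₀ (norm_nonneg _) (hle ⟨h, hh⟩) 2
      have h6 : (χ h).re = (d : ℝ) := by linarith
      simp only [h6] at this
      nlinarith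
    apply hne
    rw [hd]
    apply Complex.ext
    · simpa using (by linarith : (χ h).re = (d : ℝ))
    · simpa using h4
  -- the three kinds of elements
  set sS : Finset G := Finset.univ.filter
    fun g => g ∉ Z ∧ Subgroup.centralizer ({g} : Set G) ⊓ H ≠ ⊥ with hsS
  set sZ : Finset G := Finset.univ.filter fun g => g ∈ Z with hsZ
  set sO : Finset N := Finset.univ.filter
    fun n => (n : G) ∉ Z ∧ Subgroup.centralizer ({(n : G)} : Set G) ⊓ H = ⊥ with hsO
  have hoff : ∀ n ∈ sO, p n = f n := by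
    intro n hn
    rw [hsO, Finset.mem_filter] at hn
    have hg : ∀ x ∈ H, (n : G)⁻¹ * x * (n : G) ∈ H := fun x hx => by
      have := Subgroup.mem_normalizer_iff.1 (N.inv_mem n.2) x
      simpa using this.1 hx
    let φ : H → H := fun h => ⟨(n : G)⁻¹ * h * n * (h : G)⁻¹, H.mul_mem (hg _ h.2) (H.inv_mem h.2)⟩
    have hinj : Function.Injective φ := fun a b hab' => by
      have e : (n : G)⁻¹ * a * n * (a : G)⁻¹ = (n : G)⁻¹ * b * n * (b : G)⁻¹ :=
        congrArg Subtype.val hab'
      have hc1 : (n : G)⁻¹ * ((b : G)⁻¹ * a) * n = (b : G)⁻¹ * a := by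
        calc (n : G)⁻¹ * ((b : G)⁻¹ * a) * n
            = ((n : G)⁻¹ * b * n)⁻¹ * ((n : G)⁻¹ * a * n * (a : G)⁻¹) * a := by group
          _ = (b : G)⁻¹ * a := by rw [e]; group
      have hmem : (b : G)⁻¹ * a ∈ Subgroup.centralizer ({(n : G)} : Set G) ⊓ H := by
        refine Subgroup.mem_inf.2 ⟨?_, H.mul_mem (H.inv_mem b.2) a.2⟩
        rw [Subgroup.mem_centralizer_singleton_iff]
        calc (b : G)⁻¹ * a * n = n * ((n : G)⁻¹ * ((b : G)⁻¹ * a) * n) := by group
          _ = _ := by rw [hc1]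
      rw [hn.2.2, Subgroup.mem_bot, inv_mul_eq_one] at hmem
      exact Subtype.ext hmem.symm
    have hall : ∀ x : H, χ ((n : G) * x) = χ (n : G) := fun x => by
      obtain ⟨h, hh⟩ := (Finite.injective_iff_surjective.1 hinj) x
      have e : (n : G)⁻¹ * h * n * (h : G)⁻¹ = (x : G) := congrArg Subtype.val hh
      have : (n : G) * x = (h : G) * n * (h : G)⁻¹ := by rw [← e]; group
      rw [this, isClassFunction_irr hχ]
    rw [hpval, Finset.sum_congr rfl fun x _ => hall x, Finset.sum_const, Finset.card_univ,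
      ← Nat.card_eq_fintype_card, nsmul_eq_mul, ← mul_assoc,
      inv_mul_cancel₀ (Nat.cast_ne_zero.2 Nat.card_pos.ne'), one_mul]
  -- central elements
  have hcen : ∀ z ∈ Z, ∃ ω : ℂ, ‖ω‖ = 1 ∧ ∀ g, χ (z * g) = ω * χ g := by
    intro z hz
    obtain ⟨m, ρ, hρ, rfl⟩ := hχ
    haveI := hρ
    obtain ⟨ω, hω⟩ := exists_scalar_of_mem_center ρ hz
    have hmul : ∀ g, ρ.character (z * g) = ω * ρ.character g := fun g => by
      show LinearMap.trace ℂ _ (ρ (z * g)) = _
      rw [map_mul, hω, ← Module.End.one_eq_id, smul_mul_assoc, one_mul, map_smul, smul_eq_mul]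
      rfl
    refine ⟨ω, ?_, hmul⟩
    have h1 := (norm_character_eq_iff ρ z).2 ⟨ω, hω⟩
    have h2 := hmul 1
    rw [mul_one, hd] at h2
    rw [h2, norm_mul, Complex.norm_natCast] at h1
    have h3 : Module.finrank ℂ (Fin m → ℂ) = d := by
      have := ρ.char_one; rw [hd] at this; exact_mod_cast this.symm
    rw [h3] at h1
    exact mul_right_cancel₀ (Nat.cast_ne_zero.2 hdpos.ne') (h1.trans (one_mul _).symm)
  have hsumZ : ∑ g ∈ sZ, ‖χ g‖ ^ 2 = (Nat.card Z : ℝ) * (d : ℝ) ^ 2 := by
    rw [Finset.sum_congr rfl fun g hg => ?_, Finset.sum_const, nsmul_eq_mul]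
    · congr 2
      rw [Nat.card_eq_fintype_card, hsZ, Fintype.card_subtype]
    · obtain ⟨ω, hω, hmul⟩ := hcen g (Finset.mem_filter.1 hg).2
      have := hmul 1
      rw [mul_one] at this
      rw [this, norm_mul, hω, one_mul, hd, Complex.norm_natCast]
  -- conjugates are disjoint
  have htot : (Nat.card Z : ℝ) * (d : ℝ) ^ 2 + (N.index : ℝ) * ∑ g ∈ sS, ‖χ g‖ ^ 2 ≤
      (Nat.card G : ℝ) := by
    rw [← sum_norm_sq_irr hχ, ← hsumZ]
    set F : (G ⧸ N) × G → G := fun q => q.1.out * q.2 * q.1.out⁻¹ with hF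
    have hmemS : ∀ q ∈ (Finset.univ : Finset (G ⧸ N)) ×ˢ sS, F q ∉ Z ∧
        Subgroup.centralizer ({F q} : Set G) ⊓ H.map (MulAut.conj q.1.out).toMonoidHom ≠ ⊥ := by
      rintro ⟨q, s⟩ hqs
      obtain ⟨hs1, hs2⟩ := (Finset.mem_filter.1 (Finset.mem_product.1 hqs).2).2
      refine ⟨fun hz => hs1 ?_, ?_⟩
      · have := (Subgroup.Normal.conj_mem (by infer_instance : (Subgroup.center G).Normal) _ hz q.out⁻¹)
        simpa [hF, mul_assoc] using this
      · obtain ⟨x, hx, hx1⟩ := (Subgroup.bot_or_exists_ne_one _).resolve_left hs2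
        rw [Subgroup.mem_inf, Subgroup.mem_centralizer_singleton_iff] at hx
        intro e
        have hm : q.out * x * q.out⁻¹ ∈ Subgroup.centralizer ({F (q, s)} : Set G) ⊓
            H.map (MulAut.conj q.out).toMonoidHom := by
          refine Subgroup.mem_inf.2 ⟨?_, ⟨x, hx.2, rfl⟩⟩
          rw [Subgroup.mem_centralizer_singleton_iff]
          simp only [hF]
          calc q.out * x * q.out⁻¹ * (q.out * s * q.out⁻¹) = q.out * (x * s) * q.out⁻¹ := by group
            _ = q.out * (s * x) * q.out⁻¹ := by rw [hx.1]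
            _ = _ := by group
        rw [e, Subgroup.mem_bot, conj_eq_one_iff] at hm
        exact hx1 hm
    have hinj : Set.InjOn F ((Finset.univ : Finset (G ⧸ N)) ×ˢ sS : Finset ((G ⧸ N) × G)) := by
      rintro ⟨q1, s1⟩ h1 ⟨q2, s2⟩ h2 e
      have hm1 := hmemS _ h1
      have hm2 := hmemS _ h2
      rw [← e] at hm2
      have hc := hone _ hm1.1 _ _ hm1.2 hm2.2
      have hq : q2.out⁻¹ * q1.out ∈ N := by
        show _ ∈ Subgroup.normalizer (H : Set G)
        rw [Subgroup.mem_normalizer_iff]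
        intro x
        constructor
        · intro hx
          have : q1.out * x * q1.out⁻¹ ∈ H.map (MulAut.conj q2.out).toMonoidHom := by
            rw [← hc]; exact ⟨x, hx, rfl⟩
          obtain ⟨y, hy, hye⟩ := this
          have hye' : q2.out * y * q2.out⁻¹ = q1.out * x * q1.out⁻¹ := hye
          have : q2.out⁻¹ * q1.out * x * (q2.out⁻¹ * q1.out)⁻¹ = y := by
            calc q2.out⁻¹ * q1.out * x * (q2.out⁻¹ * q1.out)⁻¹
                = q2.out⁻¹ * (q1.out * x * q1.out⁻¹) * q2.out := by group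
              _ = y := by rw [← hye']; group
          rw [this]; exact hy
        · intro hx
          have : q2.out * (q2.out⁻¹ * q1.out * x * (q2.out⁻¹ * q1.out)⁻¹) * q2.out⁻¹ ∈
              H.map (MulAut.conj q1.out).toMonoidHom := by
            rw [hc]; exact ⟨_, hx, rfl⟩
          obtain ⟨y, hy, hye⟩ := this
          have hye' : q1.out * y * q1.out⁻¹ =
              q2.out * (q2.out⁻¹ * q1.out * x * (q2.out⁻¹ * q1.out)⁻¹) * q2.out⁻¹ := hye
          have : x = y := by
            calc x = q1.out⁻¹ * (q2.out * (q2.out⁻¹ * q1.out * x * (q2.out⁻¹ * q1.out)⁻¹) * q2.out⁻¹) * q1.out := by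
                  group
              _ = y := by rw [← hye']; group
          rw [this]; exact hy
      have hq' : q2 = q1 := by
        rw [← QuotientGroup.out_eq' q1, ← QuotientGroup.out_eq' q2, QuotientGroup.eq]
        exact hq
      subst hq'
      simp only [hF, mul_left_inj, mul_right_inj] at e
      rw [e]
    have hFval : ∀ q, ‖χ (F q)‖ ^ 2 = ‖χ q.2‖ ^ 2 := fun q => by
      simp only [hF]; rw [isClassFunction_irr hχ]
    have hsum : (N.index : ℝ) * ∑ g ∈ sS, ‖χ g‖ ^ 2 =
        ∑ g ∈ ((Finset.univ : Finset (G ⧸ N)) ×ˢ sS).image F, ‖χ g‖ ^ 2 := by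
      rw [Finset.sum_image hinj, Finset.sum_congr rfl fun q _ => hFval q, Finset.sum_product]
      dsimp only
      rw [Finset.sum_const, nsmul_eq_mul, Finset.card_univ, ← Nat.card_eq_fintype_card]
      rfl
    rw [hsum, ← Finset.sum_union]
    · exact Finset.sum_le_sum_of_subset_of_nonneg (Finset.subset_univ _) fun g _ _ => sq_nonneg _
    · rw [Finset.disjoint_left]
      intro g hg hg'
      obtain ⟨q, hq, rfl⟩ := Finset.mem_image.1 hg'
      exact (hmemS q hq).1 (Finset.mem_filter.1 hg).2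
  -- inside the normalizer
  have hloc : (Nat.card N : ℝ) + (Nat.card Z : ℝ) * (Nat.card H : ℝ) * (a₀ : ℝ) ^ 2 ≤
      ∑ g ∈ sS, ‖χ g‖ ^ 2 + (Nat.card Z : ℝ) * (d : ℝ) ^ 2 := by
    let zh : Z × H → N := fun q => ⟨(q.1 : G) * q.2, N.mul_mem (hZN q.1.2) (hHN q.2.2)⟩
    have hzinj : Function.Injective zh := by
      rintro ⟨z1, h1⟩ ⟨z2, h2⟩ e
      have e' : (z1 : G) * h1 = z2 * h2 := congrArg Subtype.val e
      have hm : (z2 : G)⁻¹ * z1 ∈ H ⊓ Z := by
        refine Subgroup.mem_inf.2 ⟨?_, Z.mul_mem (Z.inv_mem z2.2) z1.2⟩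
        have : (z2 : G)⁻¹ * z1 = h2 * (h1 : G)⁻¹ := by
          calc (z2 : G)⁻¹ * z1 = (z2 : G)⁻¹ * (z1 * h1) * (h1 : G)⁻¹ := by group
            _ = _ := by rw [e']; group
        rw [this]; exact H.mul_mem h2.2 (H.inv_mem h1.2)
      rw [hZ, Subgroup.mem_bot, inv_mul_eq_one] at hm
      rw [← hm, mul_right_inj] at e'
      exact Prod.ext (Subtype.ext hm.symm) (Subtype.ext e')
    have hzo : Disjoint sO (Finset.univ.image zh) := by
      rw [Finset.disjoint_left]
      intro n hn hn'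
      obtain ⟨⟨z, h⟩, -, rfl⟩ := Finset.mem_image.1 hn'
      obtain ⟨hn1, hn2⟩ := (Finset.mem_filter.1 hn).2
      rcases eq_or_ne (h : G) 1 with h1 | h1
      · exact hn1 (by show (z : G) * h ∈ Z; rw [h1, mul_one]; exact z.2)
      · apply h1
        rw [← Subgroup.mem_bot, ← hn2]
        refine Subgroup.mem_inf.2 ⟨?_, h.2⟩
        rw [Subgroup.mem_centralizer_singleton_iff]
        show (h : G) * ((z : G) * h) = (z : G) * h * h
        rw [← mul_assoc, Subgroup.mem_center_iff.1 z.2 (h : G)]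
    have hpz : ∀ q : Z × H, ‖p (zh q)‖ ^ 2 = (a₀ : ℝ) ^ 2 := by
      rintro ⟨z, h⟩
      obtain ⟨ω, hω, hmul⟩ := hcen _ z.2
      have : p (zh (z, h)) = ω * (a₀ : ℂ) := by
        rw [hpval, ← ha0, ← mul_assoc, mul_comm ω, mul_assoc]
        congr 1
        rw [Finset.mul_sum]
        exact Fintype.sum_equiv (Equiv.mulLeft h) _ _ fun x => by
          simp only [zh, Equiv.coe_mulLeft, Subgroup.coe_mul, mul_assoc, hmul]
      rw [this, norm_mul, hω, one_mul, Complex.norm_natCast]
    have hA : ∑ n ∈ sO, ‖f n‖ ^ 2 + (Nat.card Z : ℝ) * (Nat.card H : ℝ) * (a₀ : ℝ) ^ 2 ≤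
        ∑ n, ‖p n‖ ^ 2 := by
      have : ∑ n ∈ sO ∪ Finset.univ.image zh, ‖p n‖ ^ 2 ≤ ∑ n, ‖p n‖ ^ 2 :=
        Finset.sum_le_sum_of_subset_of_nonneg (Finset.subset_univ _) fun n _ _ => sq_nonneg _
      rw [Finset.sum_union hzo, Finset.sum_image (fun a _ b _ e => hzinj e),
        Finset.sum_congr rfl fun n hn => by rw [hoff n hn], Finset.sum_congr (s₁ := Finset.univ) rfl
          fun q _ => hpz q, Finset.sum_const, Finset.card_univ, nsmul_eq_mul, Fintype.card_prod,
        Nat.cast_mul] at this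
      simpa only [Nat.card_eq_fintype_card] using this
    have hB : ∑ n, ‖f n‖ ^ 2 ≤
        ∑ n ∈ sO, ‖f n‖ ^ 2 + (∑ g ∈ sS, ‖χ g‖ ^ 2 + ∑ g ∈ sZ, ‖χ g‖ ^ 2) := by
      rw [← Finset.sum_sdiff (Finset.subset_univ sO), add_comm]
      refine add_le_add le_rfl ?_
      have hdis : Disjoint sS sZ := by
        rw [Finset.disjoint_left]
        exact fun g hg hg' => (Finset.mem_filter.1 hg).2.1 (Finset.mem_filter.1 hg').2
      rw [← Finset.sum_union hdis,
        ← Finset.sum_image (f := fun g : G => ‖χ g‖ ^ 2) (g := fun n : N => (n : G))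
          (fun a _ b _ e => Subtype.ext e)]
      refine Finset.sum_le_sum_of_subset_of_nonneg ?_ fun g _ _ => sq_nonneg _
      intro g hg
      obtain ⟨n, hn, rfl⟩ := Finset.mem_image.1 hg
      simp only [hsO, Finset.mem_sdiff, Finset.mem_filter, Finset.mem_univ, true_and, not_and] at hn
      simp only [hsS, hsZ, Finset.mem_union, Finset.mem_filter, Finset.mem_univ, true_and]
      by_cases hz : (n : G) ∈ Z
      · exact Or.inr hz
      · exact Or.inl ⟨hz, hn hz⟩
    have hC := card_le_sum_norm_sq hgen hne1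
    have hD := sum_split (H.subgroupOf N) f
    rw [hsumZ] at hB
    linarith
  have hGN : (Nat.card G : ℝ) = (N.index : ℝ) * (Nat.card N : ℝ) := by
    rw [← Subgroup.card_mul_index N, Nat.cast_mul, mul_comm]
  have hidx : (0 : ℝ) < (N.index : ℝ) :=
    Nat.cast_pos.2 (Nat.pos_of_ne_zero Subgroup.index_ne_zero_of_finite)
  have hzpos : (0 : ℝ) < (Nat.card Z : ℝ) := Nat.cast_pos.2 Nat.card_pos
  have hd' : (0 : ℝ) < (d : ℝ) ^ 2 := by positivity
  have key : (Nat.card H : ℝ) * (a₀ : ℝ) ^ 2 < (d : ℝ) ^ 2 := by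
    by_contra hcon
    push Not at hcon
    nlinarith [mul_le_mul_of_nonneg_left hloc hidx.le,
      mul_le_mul_of_nonneg_left hcon (mul_pos hidx hzpos).le, mul_pos hzpos hd']
  exact_mod_cast key

/-- The second Feit–Thompson inequality. -/
theorem bound' (hab : ∀ a ∈ H, ∀ b ∈ H, a * b = b * a) (hZ : H ⊓ Subgroup.center G = ⊥)
    (hone : ∀ g : G, g ∉ Subgroup.center G → ∀ a b : G,
      Subgroup.centralizer ({g} : Set G) ⊓ H.map (MulAut.conj a).toMonoidHom ≠ ⊥ →
      Subgroup.centralizer ({g} : Set G) ⊓ H.map (MulAut.conj b).toMonoidHom ≠ ⊥ →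
      H.map (MulAut.conj a).toMonoidHom = H.map (MulAut.conj b).toMonoidHom)
    {χ : G → ℂ} (hχ : IsIrrCharacter G χ)
    {d : ℕ} (hd : χ 1 = d) (h2 : 2 ≤ d) (hgen : ∀ M : Subgroup G, M.Normal → H ≤ M → M = ⊤) :
    Nat.card H < (1 + d) ^ 2 := by
  classical
  have hc : IsCharacter G χ := isCharacter_of_irr hχ
  set ψ : G → ℂ := χ * fun g => conj (χ g) with hψ
  have hψc : IsCharacter G ψ := isCharacter_mul hc (isCharacter_conj hc)
  choose m hm using fun φ : IrrCharacter G => classInner_char_nat hψc (isCharacter_of_irr φ.2)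
  have hψs : ∀ g, ψ g = ∑ φ : IrrCharacter G, (m φ : ℂ) * (φ : G → ℂ) g := fun g => by
    have := congrFun (eq_sum_irr (isClassFunction_char hψc)) g
    simpa [hm] using this
  choose e he1 he2 using fun φ : IrrCharacter G => irr_degree_pos φ.2
  choose a ha using fun φ : IrrCharacter G =>
    classInner_char_nat (G := H) (isCharacter_restrict (isCharacter_of_irr φ.2) H) isCharacter_one
  let one : IrrCharacter G := ⟨fun _ => 1, isIrrCharacter_one⟩
  have hm1 : m one = 1 := by
    have h1 : classInner ψ (fun _ => (1 : ℂ)) = 1 := by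
      refine Eq.trans ?_ (classInner_irr_self hχ)
      simp [classInner, hψ]
    have := hm one
    rw [show classInner ψ (one : G → ℂ) = 1 from h1] at this
    exact_mod_cast this.symm
  have he_one : e one = 1 := by
    have : (1 : ℂ) = (e one : ℂ) := he2 one
    exact_mod_cast this.symm
  have ha_one : a one = 1 := by
    have := ha one
    have h1 : classInner (fun _ : H => (1 : ℂ)) (fun _ => 1) = 1 := classInner_irr_self isIrrCharacter_one
    have h2 : (1 : ℂ) = (a one : ℂ) := h1.symm.trans this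
    exact_mod_cast h2.symm
  have hdeg : d ^ 2 = ∑ φ, m φ * e φ := by
    have := hψs 1
    simp only [hψ, Pi.mul_apply, hd, Complex.conj_natCast, he2] at this
    rw [sq]
    exact_mod_cast this
  obtain ⟨M, hM, hMd⟩ : ∃ M : ℕ, ∑ φ, m φ * a φ = M ∧ d ≤ M := by
    refine ⟨_, rfl, ?_⟩
    have h1 : ((∑ φ, m φ * a φ : ℕ) : ℂ) =
        classInner (fun h : H => χ h) (fun h : H => χ h) := by
      push_cast
      have : classInner (fun h : H => ψ h) (fun _ => 1) =
          classInner (fun h : H => χ h) (fun h : H => χ h) := by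
        simp [classInner, hψ]
      rw [← this]
      have e1 : (fun h : H => ψ h) =
          ∑ φ : IrrCharacter G, (m φ : ℂ) • (fun h : H => (φ : G → ℂ) h) := funext fun h => by
        simp [hψs]
      rw [e1, classInner_sum_left]
      exact Finset.sum_congr rfl fun φ _ => by rw [classInner_smul_left, ha]
    have hcH := isCharacter_restrict hc H
    choose n hn using fun l : IrrCharacter H => classInner_char_nat hcH (isCharacter_of_irr l.2)
    have hcomm : ∀ x y : H, x * y = y * x := fun x y => Subtype.ext (hab _ x.2 _ y.2)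
    have hd2 : d = ∑ l, n l := by
      have := congrFun (eq_sum_irr (isClassFunction_char hcH)) 1
      simp only [Finset.sum_apply, Pi.smul_apply, smul_eq_mul, hn,
        fun l : IrrCharacter H => degree_one_of_commutative hcomm l.2, mul_one, Subgroup.coe_one,
        hd] at this
      exact_mod_cast this
    have h2 : classInner (fun h : H => χ h) (fun h : H => χ h) = ((∑ l, n l * n l : ℕ) : ℂ) := by
      rw [classInner_eq_sum_irr (isClassFunction_char hcH)]
      push_cast
      exact Finset.sum_congr rfl fun l _ => by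
        rw [← classInner_comm (fun h : H => χ h) (l : H → ℂ), hn, Complex.conj_natCast]
    have h3 : (∑ φ, m φ * a φ) = ∑ l, n l * n l := Nat.cast_injective (h1.trans h2)
    rw [h3, hd2]
    exact Finset.sum_le_sum fun l _ => Nat.le_mul_self _
  set s : ℝ := Real.sqrt (Nat.card H) with hs
  have hlt : ∀ φ, φ ≠ one → s * (a φ : ℝ) < (e φ : ℝ) := fun φ hφ => by
    have hker : ∃ h ∈ H, (φ : G → ℂ) h ≠ (φ : G → ℂ) 1 := by
      by_contra hall
      push Not at hall
      have hK := hgen (charKernel _ (isCharacter_of_irr φ.2)) inferInstance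
        fun h hh => (mem_charKernel _ h).2 (hall h hh)
      apply hφ
      apply Subtype.ext
      exact irr_eq_one_of_kernel_top φ.2 fun g => (mem_charKernel _ g).1 (hK ▸ Subgroup.mem_top g)
    have hb := bound H hab hZ hone φ.2 hker (he2 φ) (ha φ)
    have hb' : (Nat.card H : ℝ) * (a φ : ℝ) ^ 2 < (e φ : ℝ) ^ 2 := by exact_mod_cast hb
    refine lt_of_pow_lt_pow_left₀ 2 (Nat.cast_nonneg _) ?_
    rw [mul_pow, hs, Real.sq_sqrt (Nat.cast_nonneg _)]
    exact hb'
  have hsum : s * ((M : ℝ) - 1) < (d : ℝ) ^ 2 - 1 := by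
    have h3 : ((d : ℝ) ^ 2 - 1) - s * ((M : ℝ) - 1) =
        ∑ φ ∈ Finset.univ.erase one, (m φ : ℝ) * ((e φ : ℝ) - s * (a φ : ℝ)) := by
      have h4 : (d : ℝ) ^ 2 - s * (M : ℝ) = ∑ φ, (m φ : ℝ) * ((e φ : ℝ) - s * (a φ : ℝ)) := by
        simp only [mul_sub, Finset.sum_sub_distrib]
        rw [← hM, ← Nat.cast_pow, hdeg]
        push_cast
        rw [Finset.mul_sum]
        congr 1
        exact Finset.sum_congr rfl fun φ _ => by ring
      rw [Finset.sum_erase_eq_sub (Finset.mem_univ one), ← h4, hm1, he_one, ha_one]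
      push_cast
      ring
    have h5 : 0 < ∑ φ ∈ Finset.univ.erase one, (m φ : ℝ) * ((e φ : ℝ) - s * (a φ : ℝ)) := by
      refine Finset.sum_pos' (fun φ hφ => mul_nonneg (Nat.cast_nonneg _)
        (sub_nonneg.2 (hlt φ (Finset.ne_of_mem_erase hφ)).le)) ?_
      by_contra hno
      push Not at hno
      have h0 : ∀ φ ∈ Finset.univ.erase one, m φ = 0 := fun φ hφ => by
        by_contra hne
        exact absurd (hno φ hφ) (not_le.2 (mul_pos (by exact_mod_cast Nat.pos_of_ne_zero hne)
          (sub_pos.2 (hlt φ (Finset.ne_of_mem_erase hφ)))))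
      have : ∑ φ, m φ * a φ = 1 := by
        rw [← Finset.add_sum_erase _ _ (Finset.mem_univ one), hm1, ha_one,
          Finset.sum_eq_zero fun φ hφ => by rw [h0 φ hφ, zero_mul], one_mul, add_zero]
      omega
    linarith
  have hd1 : (0 : ℝ) < (d : ℝ) - 1 := by
    have : (2 : ℝ) ≤ (d : ℝ) := by exact_mod_cast h2
    linarith
  have hMd' : (d : ℝ) ≤ (M : ℝ) := by exact_mod_cast hMd
  have hs1 : s < 1 + (d : ℝ) := by
    nlinarith [mul_le_mul_of_nonneg_left (sub_le_sub_right hMd' 1) (Real.sqrt_nonneg (Nat.card H : ℝ))]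
  have : (Nat.card H : ℝ) < (1 + (d : ℝ)) ^ 2 := by
    rw [← Real.sq_sqrt (Nat.cast_nonneg (α := ℝ) (Nat.card H)), ← hs]
    exact pow_lt_pow_left₀ hs1 (Real.sqrt_nonneg _) two_ne_zero
  exact_mod_cast this

end Main

end CfsgLib.CharTheory.FTBound
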