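import Cfsg.Agent.Lib.CharTheory.TwoDegreesStructure

/-!
Character degrees over a Frobenius quotient with elementary abelian kernel: a character of the kernel
preimage of degree prime to `q` has a twist inducing irreducibly (Isaacs, Theorem 12.4).
-/

namespace CfsgLib.CharTheory

open Cfsg
open scoped commutatorElement
open Subgroup (mem_top)

universe u

variable {G : Type u} [Group G] [Finite G]

set_option maxHeartbeats 800000 in
/-- Isaacs 12.4. -/
theorem exists_degree_index_mul
    (N K : Subgroup G) [N.Normal] [K.Normal] {q : ℕ} (hq : q.Prime)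
    (hcomm : ∀ a ∈ N, ∀ b ∈ N, a * b * a⁻¹ * b⁻¹ ∈ K) (hexp : ∀ a ∈ N, a ^ q ∈ K)
    (hNK : ¬ N ≤ K)
    (hfp : ∀ t, t ∉ N → ∀ n ∈ N, t * n * t⁻¹ * n⁻¹ ∈ K → n ∈ K)
    {θ : N → ℂ} (hθ : IsIrrCharacter N θ) (hqd : ¬ q ∣ charDegree θ) :
    ∃ χ : G → ℂ, IsIrrCharacter G χ ∧ charDegree χ = N.index * charDegree θ := by
  classical
  have := Fintype.ofFinite G
  have := Fintype.ofFinite N
  set K' := K.subgroupOf N
  have hAc : ∀ u v : N ⧸ K', u * v = v * u := by
    intro u v
    obtain ⟨a, rfl⟩ := QuotientGroup.mk_surjective u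
    obtain ⟨b, rfl⟩ := QuotientGroup.mk_surjective v
    rw [← QuotientGroup.mk_mul, ← QuotientGroup.mk_mul, QuotientGroup.eq, Subgroup.mem_subgroupOf]
    have := hcomm _ (inv_mem b.2) _ (inv_mem a.2)
    simpa [mul_assoc] using this
  letI : CommGroup (N ⧸ K') := { (inferInstance : Group (N ⧸ K')) with mul_comm := hAc }
  let L := (N ⧸ K') →* ℂˣ
  let lift : L → (N → ℂ) := fun α n => (α (n : N ⧸ K') : ℂ)
  have hlift_irr : ∀ α : L, IsIrrCharacter N (lift α) := fun α =>
    isIrrCharacter_linear (α.comp (QuotientGroup.mk' K'))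
  have hlift1 : ∀ α : L, lift α 1 = 1 := fun α => by simp [lift]
  have hlift_one : lift 1 = fun _ => 1 := funext fun n => by
    show (((1 : (N ⧸ K') →* ℂˣ) (n : N ⧸ K') : ℂˣ) : ℂ) = 1
    rw [MonoidHom.one_apply, Units.val_one]
  have hlift_mul : ∀ α β : L, lift (α * β) = lift α * lift β := fun α β => funext fun n => by
    show ((((α : (N ⧸ K') →* ℂˣ) * β) (n : N ⧸ K') : ℂˣ) : ℂ) = _
    rw [MonoidHom.mul_apply, Units.val_mul]
    rfl
  have hlift_inj : Function.Injective lift := fun α β e => MonoidHom.ext fun u => by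
    obtain ⟨a, rfl⟩ := QuotientGroup.mk_surjective u
    exact Units.ext (congrFun e a)
  have hLcard : Nat.card L = Nat.card (N ⧸ K') := CommGroup.card_monoidHom_of_hasEnoughRootsOfUnity _ _
  -- `n ↦ [t, n]` is onto the quotient
  have hsurj : ∀ t, t ∉ N → ∀ u : N ⧸ K', ∃ n : N,
      ((⟨t * n * t⁻¹, Subgroup.Normal.conj_mem inferInstance (n : G) n.2 t⟩ * n⁻¹ : N) : N ⧸ K') = u := by
    intro t ht
    let f : N →* N ⧸ K' :=
      { toFun := fun n => ((⟨t * n * t⁻¹, Subgroup.Normal.conj_mem inferInstance (n : G) n.2 t⟩ * n⁻¹ : N) : N ⧸ K')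
        map_one' := by
          rw [QuotientGroup.eq_one_iff, Subgroup.mem_subgroupOf]
          simp
        map_mul' := fun a b => by
          rw [show (⟨t * ((a * b : N) : G) * t⁻¹, Subgroup.Normal.conj_mem inferInstance _ (a * b : N).2 t⟩ : N) =
            ⟨t * a * t⁻¹, Subgroup.Normal.conj_mem inferInstance _ a.2 t⟩ *
              ⟨t * b * t⁻¹, Subgroup.Normal.conj_mem inferInstance _ b.2 t⟩ from Subtype.ext (by simp [mul_assoc]),
            mul_inv_rev]
          simp only [QuotientGroup.mk_mul, QuotientGroup.mk_inv]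
          rw [mul_comm ((b : N ⧸ K'))⁻¹, mul_mul_mul_comm] }
    have hker : f.ker = K' := by
      ext n
      rw [MonoidHom.mem_ker]
      show ((⟨t * n * t⁻¹, _⟩ * n⁻¹ : N) : N ⧸ K') = 1 ↔ _
      rw [QuotientGroup.eq_one_iff, Subgroup.mem_subgroupOf, Subgroup.mem_subgroupOf]
      exact ⟨fun hk => hfp t ht n n.2 hk, fun hk => by
        simpa using mul_mem (Subgroup.Normal.conj_mem (inferInstanceAs K.Normal) _ hk t) (inv_mem hk)⟩
    have hrange : f.range = ⊤ := Subgroup.eq_top_of_card_eq _ (by rw [← Subgroup.index_ker, hker]; rfl)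
    exact fun u => MonoidHom.range_eq_top.1 hrange u
  -- no non-trivial linear character is fixed outside `N`
  have hfix : ∀ t, t ∉ N → ∀ α : L, (∀ n, conjNormFun N t (lift α) n = lift α n) → α = 1 := by
    intro t ht α hα
    refine MonoidHom.ext fun u => ?_
    obtain ⟨n, rfl⟩ := hsurj t ht u
    have h := hα n
    rw [conjNormFun_eq] at h
    rw [MonoidHom.one_apply, QuotientGroup.mk_mul, QuotientGroup.mk_inv, map_mul, map_inv, mul_inv_eq_one]
    exact Units.ext h
  have hneq : ∀ t, t ∉ N → ∀ α : L, α ≠ 1 → conjNormFun N t (lift α) ≠ lift α := fun t ht α hα e =>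
    hα (hfix t ht α (congrFun e))
  have hinert : ∀ α : L, α ≠ 1 → inertia N (lift α) = N := fun α hα =>
    le_antisymm (fun t ht => by_contra fun htN => hneq t htN α hα ((mem_inertia N).1 ht))
      (le_inertia N (isClassFunction_irr (hlift_irr α)))
  have hLone : 1 < Nat.card L := by
    rw [hLcard]
    refine (Nat.succ_le_of_lt (Nat.pos_of_ne_zero Nat.card_pos.ne')).lt_of_ne' fun e => hNK ?_
    exact Subgroup.subgroupOf_eq_top.1 (Subgroup.index_eq_one.1 e)
  haveI : Finite L := Nat.finite_of_card_ne_zero (by omega)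
  haveI : Fintype L := Fintype.ofFinite L
  obtain ⟨α₀, hα₀⟩ : ∃ α : L, α ≠ 1 := by
    haveI := Finite.one_lt_card_iff_nontrivial.1 hLone
    exact exists_ne 1
  -- the index is smaller than the number of linear characters
  have hlt : N.index < Nat.card L := by
    rw [← Finset.card_univ.trans Nat.card_eq_fintype_card.symm |>.trans (Subgroup.index_eq_card N).symm]
    let F : G ⧸ N → (N → ℂ) := fun y => conjNormFun N y.out (lift α₀)
    have hFinj : Function.Injective F := by
      intro y z e
      by_contra hyz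
      have hout : y.out * z.out⁻¹ ∉ N := by
        intro hmem
        refine hyz ?_
        rw [← QuotientGroup.out_eq' y, ← QuotientGroup.out_eq' z]
        refine (QuotientGroup.eq_iff_div_mem).2 ?_
        rwa [div_eq_mul_inv]
      refine hneq _ hout α₀ hα₀ ?_
      have := congrArg (conjNormFun N z.out⁻¹) e
      simpa only [F, ← conjNormFun_mul, mul_inv_cancel, conjNormFun_one] using this
    have hsub : (Finset.univ : Finset (G ⧸ N)).image F ⊂ (Finset.univ : Finset L).image lift := by
      refine Finset.ssubset_iff_subset_ne.2 ⟨fun f hf => ?_, fun e => ?_⟩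
      · obtain ⟨y, -, rfl⟩ := Finset.mem_image.1 hf
        let c : N →* N := (MulAut.conjNormal y.out : N ≃* N).toMonoidHom
        refine Finset.mem_image.2 ⟨α₀.comp (QuotientGroup.map K' K' c ?_), Finset.mem_univ _, ?_⟩
        · intro k hk
          rw [Subgroup.mem_subgroupOf] at hk
          rw [Subgroup.mem_comap, Subgroup.mem_subgroupOf]
          exact Subgroup.Normal.conj_mem inferInstance (k : G) hk y.out
        · funext n
          show _ = conjNormFun N y.out (lift α₀) n
          rw [conjNormFun_eq]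
          rfl
      · have h1 : (fun _ => (1 : ℂ)) ∈ (Finset.univ : Finset L).image lift :=
          Finset.mem_image.2 ⟨1, Finset.mem_univ _, hlift_one⟩
        rw [← e] at h1
        obtain ⟨y, -, hy⟩ := Finset.mem_image.1 h1
        refine hα₀ (hlift_inj ?_)
        have := congrArg (conjNormFun N y.out⁻¹) hy
        simp only [F, ← conjNormFun_mul, mul_inv_cancel, conjNormFun_one] at this
        rw [this, hlift_one]
        funext n
        simp [conjNormFun_eq]
    have := Finset.card_lt_card hsub
    rw [Finset.card_image_of_injective _ hFinj, Finset.card_image_of_injective _ hlift_inj] at this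
    rwa [Finset.card_univ (α := L), ← Nat.card_eq_fintype_card] at this
  by_contra hcon
  set d := charDegree θ with hd_def
  have hirr : ∀ α : L, IsIrrCharacter N (θ * lift α) := fun α =>
    isIrrCharacter_mul_linear hθ (hlift_irr α) (hlift1 α)
  have hdeg : ∀ α : L, charDegree (θ * lift α) = d := fun α => by
    simp [charDegree, hlift1, d]
  -- every twist has a larger inertia group
  have hbig : ∀ α : L, ∃ t, t ∉ N ∧ conjNormFun N t (θ * lift α) = θ * lift α := by
    intro α
    by_contra hno
    push Not at hno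
    have hT : inertia N (θ * lift α) = N :=
      le_antisymm (fun t ht => by_contra fun htN => hno t htN ((mem_inertia N).1 ht))
        (le_inertia N (isClassFunction_irr (hirr α)))
    have hi := isIrrCharacter_indFun_of_inertia_eq N (hirr α) hT
    refine hcon ⟨_, hi, ?_⟩
    have h1 := (charDegree_spec' hi).1
    rw [indFun_apply_one, (charDegree_spec' (hirr α)).1, hdeg, ← Nat.cast_mul, Nat.cast_inj] at h1
    exact h1.symm
  choose T hTN hT using hbig
  let F : L → G ⧸ N := fun α => (T α : G ⧸ N)
  have hFinj : Function.Injective F := by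
    intro α β e
    obtain ⟨n, hn, hTn⟩ : ∃ n ∈ N, T β = n * T α := by
      refine ⟨T β * (T α)⁻¹, ?_, (inv_mul_cancel_right _ _).symm⟩
      have := QuotientGroup.eq_iff_div_mem.1 e.symm
      rwa [div_eq_mul_inv] at this
    have hαt : conjNormFun N (T β) (θ * lift α) = θ * lift α := by
      rw [hTn, conjNormFun_mul, conjNormFun_of_mem N hn (isClassFunction_irr (hirr α)), hT α]
    by_contra hne
    let δ : L := α⁻¹ * β
    have hδ1 : δ ≠ 1 := fun e' => hne (inv_mul_eq_one.1 e')
    have hβ : θ * lift β = (θ * lift α) * lift δ := by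
      rw [mul_assoc, ← hlift_mul]
      exact congrArg (fun γ => θ * lift γ) (mul_inv_cancel_left α β).symm
    have hγ := hT β
    rw [hβ] at hγ
    have hmul : ∀ x, conjNormFun N (T β) (θ * lift α * lift δ) x =
        (θ * lift α) x * conjNormFun N (T β) (lift δ) x := by
      intro x
      rw [conjNormFun_eq, conjNormFun_eq]
      have := congrFun hαt x
      rw [conjNormFun_eq] at this
      simp only [Pi.mul_apply] at this ⊢
      rw [this]
    -- so the twist by `ε` fixes the character
    let ε : N →* ℂˣ :=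
      { toFun := fun x => δ ((MulAut.conjNormal (T β) x : N) : N ⧸ K') * (δ (x : N ⧸ K'))⁻¹
        map_one' := by simp
        map_mul' := fun x y => by
          simp only [map_mul, QuotientGroup.mk_mul, mul_inv_rev]
          rw [mul_comm (δ (y : N ⧸ K'))⁻¹, mul_mul_mul_comm] }
    obtain ⟨k, σ, hσ, hσc⟩ := hirr α
    have hk : Module.finrank ℂ (Fin k → ℂ) = d := by
      have h1 := (charDegree_spec' (hirr α)).1
      rw [← congrFun hσc 1, σ.char_one, hdeg, Nat.cast_inj] at h1
      exact h1
    let R : Representation ℂ N (Fin k → ℂ) :=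
      { toFun := fun g => (ε g : ℂ) • σ g
        map_one' := by simp
        map_mul' := fun a b => by
          rw [map_mul, map_mul, Units.val_mul, smul_mul_assoc, mul_smul_comm, smul_smul] }
    have hR : R.character = σ.character := by
      funext x
      show LinearMap.trace ℂ _ ((ε x : ℂ) • σ x) = _
      rw [map_smul, smul_eq_mul, show LinearMap.trace ℂ _ (σ x) = σ.character x from rfl, hσc]
      have h2 := congrFun hγ x
      rw [hmul, conjNormFun_eq] at h2
      simp only [Pi.mul_apply, lift] at h2 ⊢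
      simp only [ε, MonoidHom.coe_mk, OneHom.coe_mk, Units.val_mul, Units.val_inv_eq_inv_val]
      rw [mul_comm, ← mul_assoc, h2, mul_inv_cancel_right₀ (Units.ne_zero _)]
    have hdet : Cfsg.detChar R.character = Cfsg.detChar σ.character := by rw [hR]
    rw [detChar_eq, detChar_eq] at hdet
    have hεd : ∀ x, ε x ^ d = 1 := fun x => Units.ext (by
      have h := congrFun hdet x
      rw [coe_detHom, coe_detHom, show R x = (ε x : ℂ) • σ x from rfl, LinearMap.det_smul, hk,
        mul_eq_right₀ (by rw [← coe_detHom]; exact Units.ne_zero _)] at h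
      rw [Units.val_pow_eq_pow_val, h, Units.val_one])
    have hεq : ∀ x, ε x ^ q = 1 := fun x => by
      have e1 : ∀ u : N ⧸ K', δ u ^ q = 1 := fun u => by
        obtain ⟨a, rfl⟩ := QuotientGroup.mk_surjective u
        rw [← map_pow, ← QuotientGroup.mk_pow, (QuotientGroup.eq_one_iff _).2, map_one]
        rw [Subgroup.mem_subgroupOf, Subgroup.coe_pow]
        exact hexp a a.2
      simp only [ε, MonoidHom.coe_mk, OneHom.coe_mk, mul_pow, inv_pow, e1, inv_one, mul_one]
    refine hδ1 (hfix (T β) (hTN β) δ fun x => ?_)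
    have h1 : ε x = 1 := orderOf_eq_one_iff.1 (Nat.eq_one_of_dvd_coprimes (hq.coprime_iff_not_dvd.2 hqd)
      (orderOf_dvd_of_pow_eq_one (hεq x)) (orderOf_dvd_of_pow_eq_one (hεd x)))
    rw [conjNormFun_eq]
    simp only [ε, MonoidHom.coe_mk, OneHom.coe_mk, mul_inv_eq_one] at h1
    exact congrArg Units.val h1
  have h1N : ∀ α, F α ≠ 1 := fun α e => hTN α ((QuotientGroup.eq_one_iff _).1 e)
  have hle : Nat.card L < N.index := by
    rw [Subgroup.index_eq_card, Nat.card_eq_fintype_card, Nat.card_eq_fintype_card]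
    exact Fintype.card_lt_of_injective_of_notMem F hFinj (fun ⟨α, hα⟩ => h1N α hα)
  exact absurd hle (not_lt.2 hlt.le)


end CfsgLib.CharTheory
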