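import Mathlib
import Cfsg.Agent.Lib.CharTheory.TwoDegrees
import Cfsg.Agent.Lib.CharTheory.OddBasics
import Cfsg.Agent.Lib.CharTheory.AbelianInertia
import Cfsg.Agent.Lib.Elementary

/-!
Groups of prime power order in which the nonlinear characters of one degree are conjugate
under the automorphisms `χ ↦ χ (· ^ k)`.
-/

namespace CfsgLib.CharTheory

open Cfsg
open scoped commutatorElement ComplexConjugate
open Subgroup (mem_top)

universe u

namespace GaloisDeg

variable {P : Type u} [Group P] [Finite P] {p : ℕ} [hp : Fact p.Prime]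

theorem comm_mem (x y : P) : x * y * x⁻¹ * y⁻¹ ∈ commutator P := by
  rw [← commutatorElement_def]
  exact Subgroup.commutator_mem_commutator (mem_top x) (mem_top y)

/-- A chief factor below a non-trivial normal subgroup. -/
theorem exists_below (hP : IsPGroup p P) (T : Subgroup P) [T.Normal] (hT : T ≠ ⊥) :
    ∃ N : Subgroup P, N.Normal ∧ N ≤ T ∧ ¬ T ≤ N ∧ (∀ a ∈ T, ∀ y, a * y * a⁻¹ * y⁻¹ ∈ N) ∧
      (∀ a ∈ T, a ^ p ∈ N) ∧ ∀ K : Subgroup P, K.Normal → N ≤ K → K ≤ T → K = N ∨ K = T := by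
  classical
  obtain ⟨N, ⟨hNn, hNT, hne⟩, hmax⟩ := (Set.toFinite {N : Subgroup P | N.Normal ∧ N ≤ T ∧ N ≠ T}).exists_maximal
    ⟨⊥, inferInstance, bot_le, hT.symm⟩
  haveI := hNn
  have hprime : ∀ K : Subgroup P, K.Normal → N ≤ K → K ≤ T → K = N ∨ K = T := by
    intro K hK h1 h2
    by_cases h : K = T
    · exact Or.inr h
    · exact Or.inl (le_antisymm (hmax ⟨hK, h2, h⟩ h1) h1)
  haveI := (hP.to_quotient N).isNilpotent
  set T' := T.map (QuotientGroup.mk' N)
  haveI : T'.Normal := Subgroup.Normal.map inferInstance _ (QuotientGroup.mk'_surjective N)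
  have hT' : T' ≠ ⊥ := fun e => hne (le_antisymm hNT fun t ht =>
    (QuotientGroup.eq_one_iff t).1 (Subgroup.mem_bot.1 (e.le (Subgroup.mem_map_of_mem _ ht))))
  have hi := CfsgLib.inf_center_ne_bot_of_nilpotent hT'
  haveI : Nontrivial (T' ⊓ Subgroup.center (P ⧸ N) : Subgroup (P ⧸ N)) := (Subgroup.nontrivial_iff_ne_bot _).2 hi
  obtain ⟨n, hn0, hn⟩ := ((hP.to_quotient N).to_subgroup (T' ⊓ Subgroup.center (P ⧸ N))).nontrivial_iff_card.1 inferInstance
  obtain ⟨zz, hzz⟩ := exists_prime_orderOf_dvd_card'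
    (G := (T' ⊓ Subgroup.center (P ⧸ N) : Subgroup (P ⧸ N))) p (hn ▸ dvd_pow_self p hn0.ne')
  obtain ⟨z, hz, hzT, hzc⟩ : ∃ z, orderOf z = p ∧ z ∈ T' ∧ z ∈ Subgroup.center (P ⧸ N) :=
    ⟨zz, by rw [Subgroup.orderOf_coe, hzz], (Subgroup.mem_inf.1 zz.2).1, (Subgroup.mem_inf.1 zz.2).2⟩
  obtain ⟨c, hcT, rfl⟩ := hzT
  have hcN : c ∉ N := fun h => by
    rw [show QuotientGroup.mk' N c = 1 from (QuotientGroup.eq_one_iff c).2 h, orderOf_one] at hz
    exact hp.out.one_lt.ne hz
  let S : Subgroup (P ⧸ N) := Subgroup.zpowers (QuotientGroup.mk' N c)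
  haveI hSn : S.Normal := ⟨fun s hs g => by
    have : s ∈ Subgroup.center (P ⧸ N) := Subgroup.zpowers_le.2 hzc hs
    rwa [Subgroup.mem_center_iff.1 this g, mul_inv_cancel_right]⟩
  have hST : (S.comap (QuotientGroup.mk' N)) ⊓ T = T := by
    refine (hprime _ inferInstance (le_inf (fun x hx => ?_) hNT) inf_le_right).resolve_left fun e => hcN ?_
    · show (x : P ⧸ N) ∈ S
      rw [(QuotientGroup.eq_one_iff x).2 hx]; exact one_mem S
    · exact e.le ⟨Subgroup.mem_zpowers _, hcT⟩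
  have hmemS : ∀ a ∈ T, (a : P ⧸ N) ∈ S := fun a ha => (hST.ge ha).1
  refine ⟨N, hNn, hNT, fun h => hne (le_antisymm hNT h), fun a ha y => ?_, fun a ha => ?_, hprime⟩
  · rw [← QuotientGroup.eq_one_iff]
    simp only [QuotientGroup.mk_mul, QuotientGroup.mk_inv]
    rw [← (Subgroup.mem_center_iff.1 (Subgroup.zpowers_le.2 hzc (hmemS a ha)) (y : P ⧸ N))]
    group
  · obtain ⟨k, hk⟩ := Subgroup.mem_zpowers_iff.1 (hmemS a ha)
    have hz1 : QuotientGroup.mk' N c ^ p = 1 := by
      have := pow_orderOf_eq_one (QuotientGroup.mk' N c)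
      rwa [hz] at this
    rw [← QuotientGroup.eq_one_iff, QuotientGroup.mk_pow, ← hk, ← zpow_natCast, ← zpow_mul, mul_comm, zpow_mul,
      zpow_natCast, hz1, one_zpow]

/-- A scalar on elements commuting with an irreducible representation, and the vanishing elsewhere. -/
theorem scalar_of_commute {m : ℕ} (ρ : Representation ℂ P (Fin m → ℂ)) [ρ.IsIrreducible] {x : P}
    (hx : ∀ y, ρ x * ρ y = ρ y * ρ x) : ∃ ω : ℂ, ρ x = ω • (1 : Module.End ℂ (Fin m → ℂ)) :=
  ⟨_, eq_smul_id_of_commute ρ (ρ x) hx⟩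

theorem char_of_rep_one {m : ℕ} (ρ : Representation ℂ P (Fin m → ℂ)) {g : P} (h : ρ g = 1) :
    ρ.character g = ρ.character 1 := by
  show LinearMap.trace ℂ _ (ρ g) = LinearMap.trace ℂ _ (ρ 1)
  rw [h, map_one ρ]

theorem kernel_le_commutator
    (hgal : ∀ χ ψ : IrrCharacter P, charDegree (χ : P → ℂ) ≠ 1 → charDegree (χ : P → ℂ) = charDegree (ψ : P → ℂ) →
      ∃ k : ℕ, Nat.Coprime k (Nat.card P) ∧ ∀ g : P, (ψ : P → ℂ) g = (χ : P → ℂ) (g ^ k))
    {χ : P → ℂ} (hχ : IsIrrCharacter P χ) (h1 : charDegree χ ≠ 1) : ∀ x, χ x = χ 1 → x ∈ commutator P := by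
  classical
  have := Fintype.ofFinite P
  intro x hx
  by_contra hxD
  obtain ⟨w, hw⟩ : ∃ w : Abelianization P →* ℂˣ, w (Abelianization.of x) ≠ 1 :=
    CommGroup.exists_apply_ne_one_of_hasEnoughRootsOfUnity (Abelianization P) ℂ
      (fun e => hxD ((QuotientGroup.eq_one_iff x).1 e))
  set lam := w.comp Abelianization.of
  have hl1 : (fun g => (lam g : ℂ)) 1 = 1 := by simp
  have hirr : IsIrrCharacter P (χ * fun g => (lam g : ℂ)) :=
    isIrrCharacter_mul_linear hχ (isIrrCharacter_linear lam) hl1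
  have hdeg : charDegree (χ * fun g => (lam g : ℂ)) = charDegree χ := by simp [charDegree]
  obtain ⟨k, -, hk⟩ := hgal ⟨χ, hχ⟩ ⟨_, hirr⟩ h1 hdeg.symm
  have h2 := hk x
  have hker : χ (x ^ k) = χ 1 := by
    obtain ⟨m, ρ, hρ, rfl⟩ := hχ
    exact char_of_rep_one ρ (by rw [map_pow, rep_apply_eq_one_of_char_eq ρ hx, one_pow])
  simp only [Pi.mul_apply] at h2
  rw [hker, hx] at h2
  exact hw (Units.ext ((mul_eq_left₀ (irr_ne_zero hχ)).1 h2))

/-- Characters of the same degree have the same kernel. -/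
theorem kernel_eq
    (hgal : ∀ χ ψ : IrrCharacter P, charDegree (χ : P → ℂ) ≠ 1 → charDegree (χ : P → ℂ) = charDegree (ψ : P → ℂ) →
      ∃ k : ℕ, Nat.Coprime k (Nat.card P) ∧ ∀ g : P, (ψ : P → ℂ) g = (χ : P → ℂ) (g ^ k))
    {χ ψ : P → ℂ} (hχ : IsIrrCharacter P χ) (hψ : IsIrrCharacter P ψ) (h1 : charDegree χ ≠ 1)
    (hd : charDegree χ = charDegree ψ) : ∀ x, χ x = χ 1 → ψ x = ψ 1 := by
  intro x hx
  obtain ⟨k, -, hk⟩ := hgal ⟨χ, hχ⟩ ⟨ψ, hψ⟩ h1 hd
  have a1 := hk x
  have a2 := hk 1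
  simp only [one_pow] at a1 a2
  obtain ⟨m, ρ, hρ, rfl⟩ := hχ
  rw [a1, a2]
  exact char_of_rep_one ρ (by rw [map_pow, rep_apply_eq_one_of_char_eq ρ hx, one_pow])

/-- The characters over a chief factor at the top of the commutator subgroup. -/
theorem top_factor
    (hgal : ∀ χ ψ : IrrCharacter P, charDegree (χ : P → ℂ) ≠ 1 → charDegree (χ : P → ℂ) = charDegree (ψ : P → ℂ) →
      ∃ k : ℕ, Nat.Coprime k (Nat.card P) ∧ ∀ g : P, (ψ : P → ℂ) g = (χ : P → ℂ) (g ^ k))
    (N : Subgroup P) [N.Normal] (hNle : N ≤ commutator P) (hne : ¬ commutator P ≤ N)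
    (hcent : ∀ a ∈ commutator P, ∀ y, a * y * a⁻¹ * y⁻¹ ∈ N)
    (hprime : ∀ K : Subgroup P, K.Normal → N ≤ K → K ≤ commutator P → K = N ∨ K = commutator P) :
    ∃ (χ : P → ℂ) (d : ℕ) (W : Subgroup P), IsIrrCharacter P χ ∧ charDegree χ = d ∧ 1 < d ∧
      (∀ x, χ x = χ 1 ↔ x ∈ N) ∧ (∀ x, x ∈ W ↔ ∀ y, x * y * x⁻¹ * y⁻¹ ∈ N) ∧
      d ^ 2 * Nat.card W = Nat.card P ∧ (∀ A : Subgroup P, (∀ a ∈ A, ∀ b ∈ A, a * b * a⁻¹ * b⁻¹ ∈ N) → N ≤ A → d ≤ A.index) ∧
      ∃ w₀ ∈ W, ∀ w ∈ W, ∃ k : ℤ, (w₀ ^ k)⁻¹ * w ∈ N := by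
  classical
  have := Fintype.ofFinite P
  have := Fintype.ofFinite (P ⧸ N)
  have hnc : ¬ ∀ u v : P ⧸ N, u * v = v * u := fun h => hne (by
    rw [_root_.commutator_def, Subgroup.commutator_le]
    intro a _ b _
    rw [← QuotientGroup.eq_one_iff]
    exact commutatorElement_eq_one_iff_mul_comm.2 (h a b))
  obtain ⟨ψ, hψ⟩ : ∃ ψ : IrrCharacter (P ⧸ N), (ψ : P ⧸ N → ℂ) 1 ≠ 1 := by
    by_contra hno
    push Not at hno
    exact hnc (commutative_iff_degree_one.2 hno)
  obtain ⟨χ, hχ, hχe⟩ : ∃ χ : P → ℂ, IsIrrCharacter P χ ∧ χ = fun g : P => (ψ : P ⧸ N → ℂ) (g : P ⧸ N) :=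
    ⟨_, isIrrCharacter_comp_surjective ψ.2 (QuotientGroup.mk' N) (QuotientGroup.mk'_surjective N), rfl⟩
  obtain ⟨m, ρ, hρ, hρc⟩ := id hχ
  haveI := hρ
  set d := charDegree χ with hd
  have hd1 : χ 1 = d := (charDegree_spec' hχ).1
  have hdne : d ≠ 1 := fun e => hψ (by
    have := hd1
    rw [e, hχe] at this
    simpa using this)
  have hdpos : 0 < d := (charDegree_spec' hχ).2
  have hm : m = d := by
    have := hd1
    rw [← hρc, ρ.char_one, Nat.cast_inj] at this
    simpa using this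
  have hc := isCharacter_of_irr hχ
  have hNK : N ≤ charKernel χ hc := fun x hx => by
    rw [mem_charKernel, hχe]
    simp [(QuotientGroup.eq_one_iff x).2 hx]
  have hKN : charKernel χ hc = N := by
    refine (hprime _ inferInstance hNK fun x hx => kernel_le_commutator hgal hχ hdne x ((mem_charKernel hc x).1 hx)).resolve_right ?_
    intro e
    have := irr_degree_one_of_kernel_commutator (commutator P) comm_mem hχ (fun x hx => (mem_charKernel hc x).1 (e.ge hx))
    rw [hd1] at this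
    exact hdne (by exact_mod_cast this)
  have hker : ∀ x, χ x = χ 1 ↔ x ∈ N := fun x => by rw [← mem_charKernel hc x, hKN]
  have hρ1 : ∀ x, ρ x = 1 ↔ x ∈ N := fun x => by
    rw [← hker, ← hρc]
    exact ⟨fun h => char_of_rep_one ρ h,
      rep_apply_eq_one_of_char_eq ρ⟩
  let W : Subgroup P := (Subgroup.center (P ⧸ N)).comap (QuotientGroup.mk' N)
  have hW : ∀ x, x ∈ W ↔ ∀ y, x * y * x⁻¹ * y⁻¹ ∈ N := fun x => by
    show (x : P ⧸ N) ∈ Subgroup.center (P ⧸ N) ↔ _
    rw [Subgroup.mem_center_iff]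
    constructor
    · intro h y
      rw [← QuotientGroup.eq_one_iff]
      simp only [QuotientGroup.mk_mul, QuotientGroup.mk_inv]
      rw [← h (y : P ⧸ N)]; group
    · intro h q
      obtain ⟨y, rfl⟩ := QuotientGroup.mk_surjective q
      have := (QuotientGroup.eq_one_iff _).2 (h y)
      simp only [QuotientGroup.mk_mul, QuotientGroup.mk_inv] at this
      rw [mul_inv_eq_one, mul_inv_eq_iff_eq_mul] at this
      exact this.symm
  have hWcomm : ∀ x ∈ W, ∀ y, ρ x * ρ y = ρ y * ρ x := by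
    intro x hx y
    rw [show ρ x * ρ y = ρ (x * y * x⁻¹ * y⁻¹) * (ρ y * ρ x) by rw [← map_mul, ← map_mul, ← map_mul]; congr 1; group,
      (hρ1 _).2 ((hW x).1 hx y), one_mul]
  have hsc : ∀ x ∈ W, ρ x = (χ x / d) • (1 : Module.End ℂ (Fin m → ℂ)) := fun x hx => by
    obtain ⟨ω, hω⟩ := scalar_of_commute ρ (hWcomm x hx)
    have e : χ x = ω * d := by
      rw [← hρc, Representation.character, hω, map_smul, LinearMap.trace_one, smul_eq_mul]
      simp [hm]
    rw [hω, e, mul_div_cancel_right₀ _ (Nat.cast_ne_zero.2 hdpos.ne')]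
  have hDW : ∀ a ∈ commutator P, a ∈ W := fun a ha => (hW a).2 (hcent a ha)
  have hvan : ∀ x ∉ W, χ x = 0 := by
    intro x hx
    obtain ⟨y, hy⟩ : ∃ y, x * y * x⁻¹ * y⁻¹ ∉ N := by
      by_contra h
      push Not at h
      exact hx ((hW x).2 h)
    have hc1 := hsc _ (hDW _ (comm_mem y x))
    set ω := χ (y * x * y⁻¹ * x⁻¹) / d
    have h1 : χ (y * x * y⁻¹) = ω * χ x := by
      rw [← hρc]
      show LinearMap.trace ℂ _ (ρ (y * x * y⁻¹)) = ω * LinearMap.trace ℂ _ (ρ x)
      rw [show y * x * y⁻¹ = y * x * y⁻¹ * x⁻¹ * x by group, map_mul, hc1, smul_mul_assoc, one_mul, map_smul,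
        smul_eq_mul]
    rw [isClassFunction_irr hχ x y] at h1
    by_contra hx0
    have : ω = 1 := (mul_eq_right₀ hx0).1 h1.symm
    rw [this, one_smul, hρ1] at hc1
    exact hy (by rw [show x * y * x⁻¹ * y⁻¹ = (y * x * y⁻¹ * x⁻¹)⁻¹ by group]; exact inv_mem hc1)
  have hnorm : ∀ x ∈ W, χ x * conj (χ x) = (d : ℂ) ^ 2 := by
    intro x hx
    set ω := χ x / d
    have h1 : ω ^ orderOf x = 1 := by
      have h4 := congrArg (· ^ orderOf x) (hsc x hx)
      simp only [← map_pow, pow_orderOf_eq_one, map_one, smul_pow, one_pow] at h4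
      haveI : Nonempty (Fin m) := ⟨⟨0, hm ▸ hdpos⟩⟩
      obtain ⟨v, hv⟩ := exists_ne (0 : Fin m → ℂ)
      have h5 := LinearMap.congr_fun h4 v
      simp at h5
      exact smul_left_injective ℂ hv (by simpa using h5.symm)
    have hn : ‖ω‖ = 1 := Complex.norm_eq_one_of_pow_eq_one h1 (orderOf_pos x).ne'
    have e : χ x = ω * d := by simp only [ω]; rw [div_mul_cancel₀ _ (Nat.cast_ne_zero.2 hdpos.ne')]
    rw [e, map_mul, map_natCast, show ω * (d : ℂ) * (conj ω * d) = ω * conj ω * (d : ℂ) ^ 2 by ring,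
      Complex.mul_conj', hn]
    simp
  have hcard : d ^ 2 * Nat.card W = Nat.card P := by
    have h1 := classInner_irr_self hχ
    simp only [classInner] at h1
    rw [inv_mul_eq_one₀ (Nat.cast_ne_zero.mpr Nat.card_pos.ne')] at h1
    have h2 : ∑ x : P, χ x * conj (χ x) = ∑ x ∈ Finset.univ.filter (fun x => x ∈ W), (d : ℂ) ^ 2 := by
      rw [Finset.sum_filter]
      refine Finset.sum_congr rfl fun x _ => ?_
      by_cases h : x ∈ W
      · rw [if_pos h, hnorm x h]
      · rw [if_neg h, hvan x h, zero_mul]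
    rw [h2, Finset.sum_const, nsmul_eq_mul, ← Fintype.card_subtype, ← Nat.card_eq_fintype_card, mul_comm] at h1
    exact_mod_cast h1.symm
  refine ⟨χ, d, W, hχ, rfl, by omega, hker, hW, hcard, fun A hA hNA => ?_, ?_⟩
  · obtain ⟨m', σ, hσ, hσc⟩ := ψ.2
    haveI := hσ
    have hle := degree_le_index_of_abelian σ (A.map (QuotientGroup.mk' N)) (by
      rintro _ ⟨a, ha, rfl⟩ _ ⟨b, hb, rfl⟩
      have := (QuotientGroup.eq_one_iff _).2 (hA a ha b hb)
      simp only [QuotientGroup.mk_mul, QuotientGroup.mk_inv] at this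
      rw [mul_inv_eq_one, mul_inv_eq_iff_eq_mul] at this
      exact this)
    have hidx : (A.map (QuotientGroup.mk' N)).index = A.index := by
      rw [Subgroup.index_map_eq _ (QuotientGroup.mk'_surjective N) (by rwa [QuotientGroup.ker_mk'])]
    have hfin : Module.finrank ℂ (Fin m' → ℂ) = d := by
      have := hd1
      rw [hχe] at this
      simp only [QuotientGroup.mk_one] at this
      rw [← hσc, σ.char_one, Nat.cast_inj] at this
      exact this
    rwa [hidx, hfin] at hle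
  · let Lm : W →* ℂˣ :=
      MonoidHom.toHomUnits
        { toFun := fun w => χ w / d
          map_one' := by rw [OneMemClass.coe_one, hd1, div_self (Nat.cast_ne_zero.2 hdpos.ne')]
          map_mul' := fun v w => by
            have h := congrArg (LinearMap.trace ℂ (Fin m → ℂ)) (show ρ ((v * w : W) : P) = ((χ v / d) * (χ w / d)) • (1 : Module.End ℂ (Fin m → ℂ)) by
              rw [Subgroup.coe_mul, map_mul, hsc v v.2, hsc w w.2, smul_mul_smul_comm, one_mul])
            rw [map_smul, LinearMap.trace_one, smul_eq_mul] at h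
            rw [show χ ((v * w : W) : P) = LinearMap.trace ℂ _ (ρ ((v * w : W) : P)) from by rw [← hρc]; rfl, h]
            simp only [Module.finrank_fin_fun, hm]
            rw [mul_div_cancel_right₀ _ (Nat.cast_ne_zero.2 hdpos.ne')] }
    obtain ⟨g, hg⟩ := IsCyclic.exists_generator (α := Lm.range)
    obtain ⟨w₀, hw₀⟩ := g.2
    refine ⟨w₀, w₀.2, fun w hw => ?_⟩
    obtain ⟨k, hk⟩ := Subgroup.mem_zpowers_iff.1 (hg ⟨Lm ⟨w, hw⟩, ⟨w, hw⟩, rfl⟩)
    refine ⟨k, (hker _).1 ?_⟩
    have hk' : Lm w₀ ^ k = Lm ⟨w, hw⟩ := by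
      have := congrArg Subtype.val hk
      rwa [SubgroupClass.coe_zpow, ← hw₀] at this
    have h1 : Lm ((w₀ ^ k)⁻¹ * ⟨w, hw⟩) = 1 := by rw [map_mul, map_inv, map_zpow, hk', inv_mul_cancel]
    have h2 : χ (((w₀ ^ k)⁻¹ * ⟨w, hw⟩ : W) : P) / d = 1 := congrArg Units.val h1
    rw [div_eq_one_iff_eq (Nat.cast_ne_zero.2 hdpos.ne'), ← hd1] at h2
    simpa using h2

/-- The derived subgroup has order `p` and the centre is cyclic. -/
theorem forward (hP : IsPGroup p P) (hna : ∃ a b : P, a * b ≠ b * a)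
    (hgal : ∀ χ ψ : IrrCharacter P, charDegree (χ : P → ℂ) ≠ 1 → charDegree (χ : P → ℂ) = charDegree (ψ : P → ℂ) →
      ∃ k : ℕ, Nat.Coprime k (Nat.card P) ∧ ∀ g : P, (ψ : P → ℂ) g = (χ : P → ℂ) (g ^ k)) :
    IsCyclic (Subgroup.center P) ∧ Nat.card (commutator P) = p := by
  classical
  have := Fintype.ofFinite P
  set D := commutator P with hD
  have hD1 : D ≠ ⊥ := fun e => by
    obtain ⟨a, b, hab⟩ := hna
    refine hab (commutatorElement_eq_one_iff_mul_comm.1 (Subgroup.mem_bot.1 ?_))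
    rw [← e]; exact Subgroup.commutator_mem_commutator (mem_top a) (mem_top b)
  obtain ⟨N, hNn, hND, hne, hcent, hexp, hprime⟩ := exists_below hP D hD1
  haveI := hNn
  obtain ⟨χ, d, W, hχ, hχd, hd1, hker, hW, hcard, hAidx, w₀, hw₀, hgen⟩ := top_factor hgal N hND hne hcent hprime
  -- the `p`-th powers and `D` nearly fill `W`
  let Φ : Subgroup P := Subgroup.closure ((D : Set P) ∪ Set.range fun x : P => x ^ p)
  have hΦ : ∀ (N' W' : Subgroup P) [N'.Normal], (∀ a ∈ D, ∀ y, a * y * a⁻¹ * y⁻¹ ∈ N') → (∀ a ∈ D, a ^ p ∈ N') →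
      N' ≤ D → (∀ x, x ∈ W' ↔ ∀ y, x * y * x⁻¹ * y⁻¹ ∈ N') → (∀ w₁ ∈ W', (∀ w ∈ W', ∃ k : ℤ, (w₁ ^ k)⁻¹ * w ∈ N') →
      Φ ≤ W' ∧ Φ.relIndex W' ∣ p) := by
    intro N' W' _ hc' he' hle' hW' w₁ hw₁ hgen'
    have hΦle : Φ ≤ W' := by
      refine (Subgroup.closure_le _).2 ?_
      rintro x (hx | ⟨x, rfl⟩)
      · exact (hW' x).2 (hc' x hx)
      · refine (hW' (x ^ p)).2 fun y => ?_
        have hz : ((x * y * x⁻¹ * y⁻¹ : P) : P ⧸ N') ∈ Subgroup.center (P ⧸ N') := by
          rw [Subgroup.mem_center_iff]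
          intro q
          obtain ⟨z, rfl⟩ := QuotientGroup.mk_surjective q
          have := (QuotientGroup.eq_one_iff _).2 (hc' _ (comm_mem x y) z)
          simp only [QuotientGroup.mk_mul, QuotientGroup.mk_inv] at this ⊢
          rw [mul_inv_eq_one, mul_inv_eq_iff_eq_mul] at this
          exact this.symm
        have hpow : ∀ n : ℕ, ((x ^ n * y * (x ^ n)⁻¹ * y⁻¹ : P) : P ⧸ N') = ((x * y * x⁻¹ * y⁻¹ : P) : P ⧸ N') ^ n := by
          intro n
          induction n with
          | zero => simp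
          | succ n ih =>
            rw [show x ^ (n + 1) * y * (x ^ (n + 1))⁻¹ * y⁻¹ = x * (x ^ n * y * (x ^ n)⁻¹ * y⁻¹) * x⁻¹ * (x * y * x⁻¹ * y⁻¹) by
              rw [pow_succ']; group]
            rw [QuotientGroup.mk_mul _ (x * (x ^ n * y * (x ^ n)⁻¹ * y⁻¹) * x⁻¹), QuotientGroup.mk_mul _ (x * _),
              QuotientGroup.mk_mul _ x, QuotientGroup.mk_inv, ih, Subgroup.mem_center_iff.1 (pow_mem hz n) (x : P ⧸ N'),
              mul_inv_cancel_right, pow_succ]
        rw [← QuotientGroup.eq_one_iff, hpow, ← QuotientGroup.mk_pow, QuotientGroup.eq_one_iff]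
        exact he' _ (comm_mem x y)
    refine ⟨hΦle, ?_⟩
    haveI : Φ.Normal := ⟨fun h hh g => by
      have : g * h * g⁻¹ * h⁻¹ ∈ Φ := Subgroup.subset_closure (Or.inl (comm_mem g h))
      have := mul_mem this hh
      rwa [inv_mul_cancel_right] at this⟩
    have hcyc : ∀ q : W' ⧸ Φ.subgroupOf W', q ∈ Subgroup.zpowers ((⟨w₁, hw₁⟩ : W') : W' ⧸ Φ.subgroupOf W') := by
      intro q
      obtain ⟨⟨w, hw⟩, rfl⟩ := QuotientGroup.mk_surjective q
      obtain ⟨k, hk⟩ := hgen' w hw
      refine ⟨k, ?_⟩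
      show ((⟨w₁, hw₁⟩ : W') : W' ⧸ Φ.subgroupOf W') ^ k = _
      rw [← QuotientGroup.mk_zpow, QuotientGroup.eq, Subgroup.mem_subgroupOf]
      exact Subgroup.subset_closure (Or.inl (hle' (by simpa using hk)))
    show Nat.card (W' ⧸ Φ.subgroupOf W') ∣ p
    rw [← orderOf_eq_card_of_forall_mem_zpowers hcyc]
    refine orderOf_dvd_of_pow_eq_one ?_
    rw [← QuotientGroup.mk_pow, QuotientGroup.eq_one_iff, Subgroup.mem_subgroupOf]
    exact Subgroup.subset_closure (Or.inr ⟨w₁, rfl⟩)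
  have hdp : ∀ χ' : P → ℂ, IsIrrCharacter P χ' → ∀ d', charDegree χ' = d' → ∃ j, d' = p ^ j := by
    intro χ' hχ' d' hd'
    obtain ⟨m, ρ, hρ, rfl⟩ := id hχ'
    haveI := hρ
    obtain ⟨n, hn⟩ := IsPGroup.iff_card.1 hP
    have h1 := (charDegree_spec' hχ').1
    rw [ρ.char_one, Nat.cast_inj, hd'] at h1
    obtain ⟨j, -, hj⟩ := (Nat.dvd_prime_pow hp.out).1 (hn ▸ h1 ▸ finrank_dvd_card ρ)
    exact ⟨j, hj⟩
  -- the top chief factor of `D` is unique
  have huniq : ∀ K : Subgroup P, K.Normal → K ≤ D → ¬ D ≤ K → K ≤ N := by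
    intro K hK hKD hne'
    obtain ⟨N', ⟨hN'n, hN'D, hN'ne⟩, hN'max, hKN'⟩ : ∃ N' : Subgroup P, (N'.Normal ∧ N' ≤ D ∧ ¬ D ≤ N') ∧
        (∀ M, M.Normal → N' ≤ M → M ≤ D → M = N' ∨ M = D) ∧ K ≤ N' := by
      obtain ⟨N', hKN', hN'⟩ := (Set.toFinite {M : Subgroup P | M.Normal ∧ M ≤ D ∧ ¬ D ≤ M}).exists_le_maximal
        (a := K) ⟨hK, hKD, hne'⟩
      refine ⟨N', hN'.1, fun M hM h1 h2 => ?_, hKN'⟩
      by_cases h : D ≤ M
      · exact Or.inr (le_antisymm h2 h)
      · exact Or.inl (le_antisymm (hN'.2 ⟨hM, h2, h⟩ h1) h1)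
    haveI := hN'n
    obtain ⟨N'', hN''n, hN''D, hN''ne, hc'', he'', hp''⟩ : ∃ N'' : Subgroup P, N''.Normal ∧ N'' ≤ D ∧ ¬ D ≤ N'' ∧
        (∀ a ∈ D, ∀ y, a * y * a⁻¹ * y⁻¹ ∈ N'') ∧ (∀ a ∈ D, a ^ p ∈ N'') ∧ N'' = N' := by
      haveI : (D.map (QuotientGroup.mk' N')).Normal := Subgroup.Normal.map inferInstance _ (QuotientGroup.mk'_surjective N')
      obtain ⟨M, hM, hMT, hMne, hMc, hMe, -⟩ := exists_below (hP.to_quotient N') (D.map (QuotientGroup.mk' N'))
        (fun e => hN'ne fun x hx => (QuotientGroup.eq_one_iff x).1 (Subgroup.mem_bot.1 (e.le (Subgroup.mem_map_of_mem _ hx))))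
      haveI := hM
      have hsame : M.comap (QuotientGroup.mk' N') ⊓ D = N' := by
        refine (hN'max _ inferInstance (le_inf (fun x hx => ?_) hN'D) inf_le_right).resolve_right fun e => hMne ?_
        · show (x : P ⧸ N') ∈ M
          rw [(QuotientGroup.eq_one_iff x).2 hx]; exact one_mem M
        · rintro _ ⟨x, hx, rfl⟩
          exact (e.ge hx).1
      refine ⟨N', hN'n, hN'D, hN'ne, fun a ha y => ?_, fun a ha => ?_, rfl⟩
      · refine hsame.le ⟨?_, comm_mem a y⟩
        show QuotientGroup.mk' N' (a * y * a⁻¹ * y⁻¹) ∈ M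
        rw [map_mul, map_mul, map_mul, map_inv, map_inv]
        exact hMc _ (Subgroup.mem_map_of_mem _ ha) _
      · refine hsame.le ⟨?_, pow_mem ha p⟩
        show QuotientGroup.mk' N' (a ^ p) ∈ M
        rw [map_pow]
        exact hMe _ (Subgroup.mem_map_of_mem _ ha)
    subst hp''
    obtain ⟨χ', d', W', hχ', hχ'd, hd1', hker', hW', hcard', -, w₁, hw₁, hgen'⟩ :=
      top_factor hgal N'' hN''D hN''ne hc'' hN'max
    obtain ⟨hΦW, hr⟩ := hΦ N W hcent hexp hND hW w₀ hw₀ hgen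
    obtain ⟨hΦW', hr'⟩ := hΦ N'' W' hc'' he'' hN''D hW' w₁ hw₁ hgen'
    obtain ⟨j, hj⟩ := hdp χ hχ d hχd
    obtain ⟨j', hj'⟩ := hdp χ' hχ' d' hχ'd
    have hdd : d = d' := by
      have e : ∀ (V : Subgroup P) (e : ℕ), Φ ≤ V → (p ^ e) ^ 2 * Nat.card V = Nat.card P →
          Φ.relIndex V * (p ^ e) ^ 2 = Φ.index := by
        intro V e hle h
        have h2 : V.index = (p ^ e) ^ 2 := Nat.eq_of_mul_eq_mul_left (Nat.card_pos (α := V))
          (by rw [V.card_mul_index, ← h, mul_comm])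
        rw [← h2, Subgroup.relIndex_mul_index hle]
      have h1 := e W j hΦW (hj ▸ hcard)
      have h2 := e W' j' hΦW' (hj' ▸ hcard')
      obtain ⟨a, ha, ha'⟩ := (Nat.dvd_prime_pow hp.out).1 (show Φ.relIndex W ∣ p ^ 1 by rwa [pow_one])
      obtain ⟨b, hb, hb'⟩ := (Nat.dvd_prime_pow hp.out).1 (show Φ.relIndex W' ∣ p ^ 1 by rwa [pow_one])
      rw [ha', ← pow_mul, ← pow_add] at h1
      rw [hb', ← pow_mul, ← pow_add, ← h1] at h2
      have := Nat.pow_right_injective hp.out.two_le h2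
      rw [hj, hj', show j = j' by omega]
    intro x hx
    refine (hker x).1 ?_
    exact kernel_eq hgal hχ' hχ (by rw [hχ'd]; omega) (by rw [hχ'd, hχd, hdd]) x ((hker' x).2 (hKN' hx))
  -- and it is all of `D`
  have hN1 : N = ⊥ := by
    by_contra hNb
    obtain ⟨M, hMn, hMN, hMne, hMc, hMe, hMp⟩ := exists_below hP N hNb
    haveI := hMn
    -- a character with kernel `M`
    have := Fintype.ofFinite (P ⧸ M)
    obtain ⟨ψ, hψ, hψn⟩ : ∃ ψ : P → ℂ, IsIrrCharacter P ψ ∧ (∀ x ∈ M, ψ x = ψ 1) ∧ ¬ ∀ x ∈ N, ψ x = ψ 1 := by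
      obtain ⟨n, hn, hnM⟩ := SetLike.not_le_iff_exists.1 hMne
      obtain ⟨φ, hφ⟩ : ∃ φ : IrrCharacter (P ⧸ M), (φ : P ⧸ M → ℂ) (n : P ⧸ M) ≠ (φ : P ⧸ M → ℂ) 1 := by
        by_contra hall
        push Not at hall
        exact hnM ((QuotientGroup.eq_one_iff n).1 (isConj_one_right.1 (isConj_of_forall_irr hall).symm))
      exact ⟨_, isIrrCharacter_comp_surjective φ.2 (QuotientGroup.mk' M) (QuotientGroup.mk'_surjective M),
        fun x hx => by simp [(QuotientGroup.eq_one_iff x).2 hx], fun h => hφ (by simpa using h n hn)⟩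
    obtain ⟨hψM, hψN⟩ := hψn
    have hψc := isCharacter_of_irr hψ
    have hψ1 : charDegree ψ ≠ 1 := fun e => hψN fun x hx => by
      obtain ⟨f, hf⟩ := exists_hom_of_degree_one hψc (by rw [(charDegree_spec' hψ).1, e, Nat.cast_one])
      rw [hf]
      simp only [map_one, MonoidHom.mem_ker.mp (Abelianization.commutator_subset_ker f (hND hx))]
    have hKψ : charKernel ψ hψc = M := by
      have hle : charKernel ψ hψc ≤ D := fun x hx => kernel_le_commutator hgal hψ hψ1 x ((mem_charKernel hψc x).1 hx)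
      have hneD : ¬ D ≤ charKernel ψ hψc := fun h => hψN fun x hx => (mem_charKernel hψc x).1 (h (hND hx))
      exact (hMp _ inferInstance (fun x hx => (mem_charKernel hψc x).2 (hψM x hx)) (huniq _ inferInstance hle hneD)).resolve_right
        fun e => hψN fun x hx => (mem_charKernel hψc x).1 (e.ge hx)
    -- commutators modulo `M`
    let π := QuotientGroup.mk' M
    have hπ1 : ∀ x, π x = 1 ↔ x ∈ M := fun x => QuotientGroup.eq_one_iff x
    have hπc : ∀ x y, Commute (π x) (π y) ↔ x * y * x⁻¹ * y⁻¹ ∈ M := fun x y => by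
      rw [← hπ1, map_mul, map_mul, map_mul, map_inv, map_inv, mul_inv_eq_one, mul_inv_eq_iff_eq_mul]
      rfl
    have hNcen : ∀ x ∈ N, π x ∈ Subgroup.center (P ⧸ M) := fun x hx => by
      rw [Subgroup.mem_center_iff]
      intro q
      obtain ⟨y, rfl⟩ := QuotientGroup.mk'_surjective M q
      exact ((hπc x y).2 (hMc x hx y)).eq.symm
    -- `[·, w₀]` modulo `M`
    let φ : P →* P ⧸ M :=
      { toFun := fun x => π (x * w₀ * x⁻¹ * w₀⁻¹)
        map_one' := by simp
        map_mul' := fun x y => by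
          have hy : π (y * w₀ * y⁻¹ * w₀⁻¹) ∈ Subgroup.center (P ⧸ M) := hNcen _ (by
            rw [show y * w₀ * y⁻¹ * w₀⁻¹ = (w₀ * y * w₀⁻¹ * y⁻¹)⁻¹ by group]; exact inv_mem ((hW w₀).1 hw₀ y))
          rw [show x * y * w₀ * (x * y)⁻¹ * w₀⁻¹ = x * (y * w₀ * y⁻¹ * w₀⁻¹) * x⁻¹ * (x * w₀ * x⁻¹ * w₀⁻¹) by group,
            map_mul, map_mul, map_mul π x, Subgroup.mem_center_iff.1 hy (π x), map_inv, mul_inv_cancel_right,
            ← Subgroup.mem_center_iff.1 hy] }
    have hφN : ∀ x, φ x ∈ N.map π := fun x => Subgroup.mem_map_of_mem π (by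
      rw [show x * w₀ * x⁻¹ * w₀⁻¹ = (w₀ * x * w₀⁻¹ * x⁻¹)⁻¹ by group]; exact inv_mem ((hW w₀).1 hw₀ x))
    set C := φ.ker
    have hCW : ∀ c ∈ C, ∀ w ∈ W, Commute (π c) (π w) := by
      intro c hc w hw
      obtain ⟨k, hk⟩ := hgen w hw
      have e : π w = π w₀ ^ k * π ((w₀ ^ k)⁻¹ * w) := by rw [map_mul, map_inv, map_zpow, mul_inv_cancel_left]
      rw [e]
      exact (((hπc c w₀).2 ((hπ1 _).1 hc)).zpow_right k).mul_right (Subgroup.mem_center_iff.1 (hNcen _ hk) _)
    have hDW : ∀ a ∈ D, a ∈ W := fun a ha => (hW a).2 (hcent a ha)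
    have hpW : ∀ x : P, x ^ p ∈ W := fun x =>
      (hΦ N W hcent hexp hND hW w₀ hw₀ hgen).1 (Subgroup.subset_closure (Or.inr ⟨x, rfl⟩))
    -- powers inside commutators, modulo `M`
    have hsplit : ∀ c y t : P, π (c * (y * t * y⁻¹)) = π c * (π y * π t * (π y)⁻¹) := fun c y t => by
      simp only [map_mul, map_inv]
    have hbil : ∀ x y, π (x * y * x⁻¹ * y⁻¹) ∈ Subgroup.center (P ⧸ M) → ∀ n : ℕ,
        π (x * y ^ n * x⁻¹ * (y ^ n)⁻¹) = π (x * y * x⁻¹ * y⁻¹) ^ n := by
      intro x y hz n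
      induction n with
      | zero => simp
      | succ n ih =>
        rw [show x * y ^ (n + 1) * x⁻¹ * (y ^ (n + 1))⁻¹ = (x * y * x⁻¹ * y⁻¹) * (y * (x * y ^ n * x⁻¹ * (y ^ n)⁻¹) * y⁻¹) by
          rw [pow_succ']; group, hsplit, ih, Subgroup.mem_center_iff.1 (pow_mem hz n) (π y),
          mul_inv_cancel_right, pow_succ']
    by_cases hCtop : C = ⊤
    · -- `D` is central and of exponent `p` modulo `M`
      have hWc : ∀ w ∈ W, π w ∈ Subgroup.center (P ⧸ M) := fun w hw => by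
        rw [Subgroup.mem_center_iff]
        intro q
        obtain ⟨y, rfl⟩ := QuotientGroup.mk'_surjective M q
        exact (hCW y (hCtop.ge (mem_top y)) w hw).eq
      have hDexp : ∀ a ∈ D, π a ^ p = 1 := by
        intro a ha
        rw [hD, _root_.commutator_eq_closure] at ha
        induction ha using Subgroup.closure_induction with
        | mem z hz =>
          obtain ⟨x, y, rfl⟩ := hz
          rw [commutatorElement_def, ← hbil x y (hWc _ (hDW _ (comm_mem x y))) p, hπ1, ← hπc]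
          exact Subgroup.mem_center_iff.1 (hWc _ (hpW y)) (π x)
        | one => simp
        | mul u v hu hv h1 h2 =>
          have hu' : u ∈ D := by rw [hD, _root_.commutator_eq_closure]; exact hu
          rw [map_mul, (show Commute (π u) (π v) from
            (Subgroup.mem_center_iff.1 (hWc _ (hDW _ hu')) (π v)).symm).mul_pow, h1, h2, one_mul]
        | inv u _ h1 => rw [map_inv, inv_pow, h1, inv_one]
      obtain ⟨c, hcD, hcN⟩ := SetLike.not_le_iff_exists.1 hne
      let K : Subgroup P := (Subgroup.zpowers (π c)).comap π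
      have hKn : K.Normal := ⟨fun k hk g => by
        show π (g * k * g⁻¹) ∈ Subgroup.zpowers (π c)
        have hkc : π k ∈ Subgroup.center (P ⧸ M) := Subgroup.zpowers_le.2 (hWc c (hDW c hcD)) hk
        rw [map_mul π (g * k), map_mul π g k, Subgroup.mem_center_iff.1 hkc, map_inv π g, mul_inv_cancel_right]
        exact hk⟩
      have hKD : K ≤ D := by
        intro k hk
        obtain ⟨i, hi⟩ := Subgroup.mem_zpowers_iff.1 hk
        have : (c ^ i)⁻¹ * k ∈ M := (hπ1 _).1 (by rw [map_mul, map_inv, map_zpow, hi, inv_mul_cancel])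
        rw [← mul_inv_cancel_left (c ^ i) k]
        exact mul_mem (zpow_mem hcD i) (hND (hMN this))
      have hDK : D ≤ K := by
        by_contra hh
        exact hcN (huniq K hKn hKD hh (show π c ∈ Subgroup.zpowers (π c) from Subgroup.mem_zpowers _))
      -- so `N ≤ M`
      obtain ⟨n, hn, hnM⟩ := SetLike.not_le_iff_exists.1 hMne
      obtain ⟨i, hi⟩ := Subgroup.mem_zpowers_iff.1 (hDK (hND hn))
      have hcN' : (c : P ⧸ N) ≠ 1 := fun e => hcN ((QuotientGroup.eq_one_iff c).1 e)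
      have hcp : (c : P ⧸ N) ^ p = 1 := by
        rw [← QuotientGroup.mk_pow, QuotientGroup.eq_one_iff]; exact hexp c hcD
      have hdi : (p : ℤ) ∣ i := by
        have hmem : (c ^ i)⁻¹ * n ∈ M := (hπ1 _).1 (by rw [map_mul, map_inv, map_zpow, hi, inv_mul_cancel])
        have h2 : c ^ i ∈ N := by
          have := mul_mem hn (inv_mem (hMN hmem))
          rwa [mul_inv_rev, inv_inv, mul_inv_cancel_left] at this
        rw [← QuotientGroup.eq_one_iff, QuotientGroup.mk_zpow] at h2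
        have := orderOf_dvd_iff_zpow_eq_one.2 h2
        rwa [orderOf_eq_prime hcp hcN'] at this
      obtain ⟨j, rfl⟩ := hdi
      rw [zpow_mul, zpow_natCast, hDexp c hcD, one_zpow] at hi
      exact hnM ((hπ1 n).1 hi.symm)
    -- the index of `C` is `p`
    have hCidx : C.index = p := by
      have hd : C.index ∣ p := by
        rw [Subgroup.index_ker]
        refine (Subgroup.card_dvd_of_le (show φ.range ≤ N.map π by rintro _ ⟨x, rfl⟩; exact hφN x)).trans ?_
        have hcyc : Nat.card (N.map π) ∣ p := by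
          obtain ⟨n, hn, hnM⟩ := SetLike.not_le_iff_exists.1 hMne
          have hle : N.map π ≤ Subgroup.zpowers (π n) := by
            have hKn : ((Subgroup.zpowers (π n)).comap π).Normal := ⟨fun k hk g => by
              show π (g * k * g⁻¹) ∈ Subgroup.zpowers (π n)
              have hkc : π k ∈ Subgroup.center (P ⧸ M) := Subgroup.zpowers_le.2 (hNcen n hn) hk
              rw [map_mul, map_mul, Subgroup.mem_center_iff.1 hkc, map_inv, mul_inv_cancel_right]
              exact hk⟩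
            have := (hMp ((Subgroup.zpowers (π n)).comap π ⊓ N) inferInstance
              (le_inf (fun x hx => show π x ∈ Subgroup.zpowers (π n) by rw [(hπ1 x).2 hx]; exact one_mem _) hMN) inf_le_right).resolve_left
              fun e => hnM (e.le ⟨Subgroup.mem_zpowers (π n), hn⟩)
            rintro _ ⟨x, hx, rfl⟩
            exact (this.ge hx).1
          refine (Subgroup.card_dvd_of_le hle).trans ?_
          rw [Nat.card_zpowers]
          exact orderOf_dvd_of_pow_eq_one (by rw [← map_pow, hπ1]; exact hMe n hn)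
        exact hcyc
      exact (hp.out.eq_one_or_self_of_dvd _ hd).resolve_left fun e => hCtop (Subgroup.index_eq_one.1 e)
    have hNC : N ≤ C := fun x hx => (hπ1 _).2 ((hπc x w₀).1 (Subgroup.mem_center_iff.1 (hNcen x hx) _).symm)
    have hCC : ∀ a ∈ C, ∀ b ∈ C, a * b * a⁻¹ * b⁻¹ ∈ N := by
      intro a ha b hb
      by_contra hcon
      set z := a * b * a⁻¹ * b⁻¹
      have hzc : π z ∈ Subgroup.center (P ⧸ M) := by
        rw [Subgroup.mem_center_iff]
        intro q
        obtain ⟨y, rfl⟩ := QuotientGroup.mk'_surjective M q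
        let E : Subgroup (P ⧸ M) := C.map π
        let T : Subgroup (P ⧸ M) := ⊤
        have hET : ⁅⁅E, T⁆, E⁆ = ⊥ := by
          rw [Subgroup.commutator_eq_bot_iff_le_centralizer, Subgroup.commutator_le]
          rintro _ ⟨u, hu, rfl⟩ v _
          obtain ⟨v, rfl⟩ := QuotientGroup.mk'_surjective M v
          rw [Subgroup.mem_centralizer_iff]
          rintro _ ⟨c, hc, rfl⟩
          rw [← map_commutatorElement]
          exact (hCW c hc _ (hDW _ (by rw [commutatorElement_def]; exact comm_mem u v))).eq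
        have hTE : ⁅⁅T, E⁆, E⁆ = ⊥ := by rwa [Subgroup.commutator_comm T E]
        have h3 := Subgroup.commutator_commutator_eq_bot_of_rotate (H₁ := E) (H₂ := E) (H₃ := T) hET hTE
        have h4 : ⁅⁅π a, π b⁆, π y⁆ ∈ ⁅⁅E, E⁆, T⁆ := Subgroup.commutator_mem_commutator
          (Subgroup.commutator_mem_commutator (Subgroup.mem_map_of_mem π ha) (Subgroup.mem_map_of_mem π hb)) (mem_top _)
        rw [h3, Subgroup.mem_bot, ← map_commutatorElement, commutatorElement_eq_one_iff_mul_comm] at h4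
        rw [show z = ⁅a, b⁆ from (commutatorElement_def a b).symm]
        exact h4.symm
      -- `z ^ p ∈ M`
      have hzp : π z ^ p = 1 := by
        rw [← hbil a b hzc p, hπ1, ← hπc]
        exact hCW a ha _ (hpW b)
      let K : Subgroup P := (Subgroup.zpowers (π z)).comap π
      have hKn : K.Normal := ⟨fun k hk g => by
        show π (g * k * g⁻¹) ∈ Subgroup.zpowers (π z)
        have hkc : π k ∈ Subgroup.center (P ⧸ M) := Subgroup.zpowers_le.2 hzc hk
        rw [map_mul π (g * k), map_mul π g k, Subgroup.mem_center_iff.1 hkc, map_inv π g, mul_inv_cancel_right]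
        exact hk⟩
      have hKD : K ≤ D := by
        intro k hk
        obtain ⟨i, hi⟩ := Subgroup.mem_zpowers_iff.1 hk
        have : (z ^ i)⁻¹ * k ∈ M := (hπ1 _).1 (by rw [map_mul, map_inv, map_zpow, hi, inv_mul_cancel])
        rw [← mul_inv_cancel_left (z ^ i) k]
        exact mul_mem (zpow_mem (comm_mem a b) i) (hND (hMN this))
      have hDK : D ≤ K := by
        by_contra hh
        exact hcon (huniq K hKn hKD hh (show π z ∈ Subgroup.zpowers (π z) from Subgroup.mem_zpowers _))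
      obtain ⟨n, hn, hnM⟩ := SetLike.not_le_iff_exists.1 hMne
      obtain ⟨i, hi⟩ := Subgroup.mem_zpowers_iff.1 (hDK (hND hn))
      have hzN' : (z : P ⧸ N) ≠ 1 := fun e => hcon ((QuotientGroup.eq_one_iff z).1 e)
      have hzp' : (z : P ⧸ N) ^ p = 1 := by
        rw [← QuotientGroup.mk_pow, QuotientGroup.eq_one_iff]; exact hexp z (comm_mem a b)
      have hdi : (p : ℤ) ∣ i := by
        have hmem : (z ^ i)⁻¹ * n ∈ M := (hπ1 _).1 (by rw [map_mul, map_inv, map_zpow, hi, inv_mul_cancel])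
        have h2 : z ^ i ∈ N := by
          have := mul_mem hn (inv_mem (hMN hmem))
          rwa [mul_inv_rev, inv_inv, mul_inv_cancel_left] at this
        rw [← QuotientGroup.eq_one_iff, QuotientGroup.mk_zpow] at h2
        have := orderOf_dvd_iff_zpow_eq_one.2 h2
        rwa [orderOf_eq_prime hzp' hzN'] at this
      obtain ⟨j, rfl⟩ := hdi
      rw [zpow_mul, zpow_natCast, hzp, one_zpow] at hi
      exact hnM ((hπ1 n).1 hi.symm)
    have hd_p : d = p := by
      have h := hAidx C hCC hNC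
      rw [hCidx] at h
      obtain ⟨j, hj⟩ := hdp χ hχ d hχd
      have hj0 : j ≠ 0 := fun e => by rw [hj, e, pow_zero] at hd1; exact lt_irrefl _ hd1
      refine le_antisymm h ?_
      rw [hj]
      exact Nat.le_of_dvd (pow_pos hp.out.pos _) (dvd_pow_self p hj0)
    obtain ⟨m, ρ, hρ, hρc⟩ := id hψ
    haveI := hρ
    let W0 : Subgroup P := W ⊓ (Subgroup.center (P ⧸ M)).comap π
    haveI : W.Normal := ⟨fun x hx g => by
      have := mul_mem (hDW _ (comm_mem g x)) hx
      rwa [inv_mul_cancel_right] at this⟩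
    haveI : ((Subgroup.center (P ⧸ M)).comap π).Normal := inferInstance
    haveI : W0.Normal := Subgroup.normal_inf_normal _ _
    have hW0W : W0.relIndex W ∣ p := by
      have hcyc : ∀ q : W ⧸ W0.subgroupOf W, q ∈ Subgroup.zpowers ((⟨w₀, hw₀⟩ : W) : W ⧸ W0.subgroupOf W) := by
        intro q
        obtain ⟨⟨w, hw⟩, rfl⟩ := QuotientGroup.mk_surjective q
        obtain ⟨k, hk⟩ := hgen w hw
        refine ⟨k, ?_⟩
        show ((⟨w₀, hw₀⟩ : W) : W ⧸ W0.subgroupOf W) ^ k = _
        rw [← QuotientGroup.mk_zpow, QuotientGroup.eq, Subgroup.mem_subgroupOf]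
        refine ⟨?_, ?_⟩
        · exact (hW _).2 fun y => by
            have h := hcent _ (hND (show ((w₀ ^ k)⁻¹ * w) ∈ N from hk)) y
            simpa using h
        · show π _ ∈ Subgroup.center (P ⧸ M)
          exact hNcen _ (by simpa using hk)
      show Nat.card (W ⧸ W0.subgroupOf W) ∣ p
      rw [← orderOf_eq_card_of_forall_mem_zpowers hcyc]
      refine orderOf_dvd_of_pow_eq_one ?_
      rw [← QuotientGroup.mk_pow, QuotientGroup.eq_one_iff, Subgroup.mem_subgroupOf]
      refine ⟨pow_mem hw₀ p, ?_⟩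
      show π (w₀ ^ p) ∈ Subgroup.center (P ⧸ M)
      rw [Subgroup.mem_center_iff]
      intro q
      obtain ⟨y, rfl⟩ := QuotientGroup.mk'_surjective M q
      have hz : π (y * w₀ * y⁻¹ * w₀⁻¹) ∈ Subgroup.center (P ⧸ M) := hNcen _ (by
        rw [show y * w₀ * y⁻¹ * w₀⁻¹ = (w₀ * y * w₀⁻¹ * y⁻¹)⁻¹ by group]; exact inv_mem ((hW w₀).1 hw₀ y))
      refine ((hπc y (w₀ ^ p)).2 ((hπ1 _).1 ?_)).eq
      rw [hbil y w₀ hz p, ← map_pow, hπ1]
      exact hMe _ (by rw [show y * w₀ * y⁻¹ * w₀⁻¹ = (w₀ * y * w₀⁻¹ * y⁻¹)⁻¹ by group]; exact inv_mem ((hW w₀).1 hw₀ y))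
    have hsq := degree_sq_mul_card_le ρ W0 fun a ha g => by
      have h1 : ρ (a * g * a⁻¹ * g⁻¹) = 1 := by
        refine rep_apply_eq_one_of_char_eq ρ ?_
        rw [hρc]
        exact hψM _ ((hπc a g).1 ((Subgroup.mem_center_iff.1 ha.2 (π g)).symm))
      rw [show ρ a * ρ g = ρ (a * g * a⁻¹ * g⁻¹) * (ρ g * ρ a) by rw [← map_mul, ← map_mul, ← map_mul]; congr 1; group,
        h1, one_mul]
    have hfin : Module.finrank ℂ (Fin m → ℂ) = charDegree ψ := by
      have h := (charDegree_spec' hψ).1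
      rw [← congrFun hρc 1, ρ.char_one, Nat.cast_inj] at h
      exact h
    obtain ⟨j, hj⟩ := hdp ψ hψ _ rfl
    have hj1 : j = 1 := by
      have hj0 : j ≠ 0 := fun e => hψ1 (by rw [hj, e, pow_zero])
      have hle : W0 ≤ W := inf_le_left
      have hP' : Nat.card P = (p ^ 2) * (W0.relIndex W * Nat.card W0) := by
        rw [← hcard, hd_p, mul_comm (W0.relIndex W), Subgroup.relIndex, ← Subgroup.card_mul_index (W0.subgroupOf W),
          Nat.card_congr (Subgroup.subgroupOfEquivOfLe hle).toEquiv]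
      rw [hfin, hj, hP', ← mul_assoc] at hsq
      have h2 := Nat.le_of_mul_le_mul_right hsq Nat.card_pos
      have h3 : (p ^ j) ^ 2 ≤ p ^ 3 := h2.trans (by
        rw [pow_succ p 2]
        exact Nat.mul_le_mul_left _ (Nat.le_of_dvd hp.out.pos hW0W))
      rw [← pow_mul, Nat.pow_le_pow_iff_right hp.out.one_lt] at h3
      omega
    obtain ⟨n, hn, hnM⟩ := SetLike.not_le_iff_exists.1 hMne
    refine hnM (hKψ.le ((mem_charKernel hψc n).2 ?_))
    exact kernel_eq hgal hχ hψ (by rw [hχd]; omega) (by rw [hχd, hd_p, hj, hj1, pow_one]) n ((hker n).2 hn)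
  subst hN1
  constructor
  · have hWZ : W = Subgroup.center P := by
      ext x
      rw [hW, Subgroup.mem_center_iff]
      refine ⟨fun h y => ?_, fun h y => ?_⟩
      · have := h y
        rw [Subgroup.mem_bot, mul_inv_eq_one, mul_inv_eq_iff_eq_mul] at this
        exact this.symm
      · rw [Subgroup.mem_bot, ← h y]; group
    rw [← hWZ]
    refine ⟨⟨⟨w₀, hw₀⟩, fun w => ?_⟩⟩
    obtain ⟨k, hk⟩ := hgen w w.2
    rw [Subgroup.mem_bot, inv_mul_eq_one] at hk
    exact ⟨k, Subtype.ext (by simpa using hk)⟩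
  · obtain ⟨c, hc, hc1⟩ := SetLike.not_le_iff_exists.1 hne
    have hcz : c ∈ Subgroup.center P := Subgroup.mem_center_iff.2 fun y => by
      have := hcent c hc y
      rw [Subgroup.mem_bot, mul_inv_eq_one, mul_inv_eq_iff_eq_mul] at this
      exact this.symm
    have hn : (Subgroup.zpowers c).Normal := ⟨fun k hk g => by
      rwa [Subgroup.mem_center_iff.1 (Subgroup.zpowers_le.2 hcz hk), mul_inv_cancel_right]⟩
    have e := (hprime _ hn bot_le (Subgroup.zpowers_le.2 hc)).resolve_left fun e =>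
      hc1 (e.le (Subgroup.mem_zpowers c))
    rw [← e, Nat.card_zpowers]
    exact orderOf_eq_prime (Subgroup.mem_bot.1 (hexp c hc)) fun h => hc1 (h ▸ one_mem _)

/-- With cyclic centre and derived subgroup of order `p` the nonlinear characters are conjugate. -/
theorem backward (hP : IsPGroup p P) (hZ : IsCyclic (Subgroup.center P)) (hD : Nat.card (commutator P) = p) :
    ∀ χ ψ : IrrCharacter P, charDegree (χ : P → ℂ) ≠ 1 → charDegree (χ : P → ℂ) = charDegree (ψ : P → ℂ) →
      ∃ k : ℕ, Nat.Coprime k (Nat.card P) ∧ ∀ g : P, (ψ : P → ℂ) g = (χ : P → ℂ) (g ^ k) := by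
  classical
  have := Fintype.ofFinite P
  have hD1 : commutator P ≠ ⊥ := fun e => hp.out.one_lt.ne (by rw [← hD, e, Subgroup.card_bot])
  haveI := hP.isNilpotent
  have hDZ : commutator P ≤ Subgroup.center P := by
    have h1 := CfsgLib.inf_center_ne_bot_of_nilpotent hD1
    have hdvd := Subgroup.card_dvd_of_le (inf_le_left : commutator P ⊓ Subgroup.center P ≤ commutator P)
    rw [hD] at hdvd
    rcases hp.out.eq_one_or_self_of_dvd _ hdvd with e | e
    · exact absurd (Subgroup.card_eq_one.1 e) h1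
    · exact inf_eq_left.1 (Subgroup.eq_of_le_of_card_ge inf_le_left (by rw [e, hD]))
  obtain ⟨z₀, hz₀⟩ := hZ.exists_generator
  have key : ∀ χ : P → ℂ, IsIrrCharacter P χ → charDegree χ ≠ 1 →
      (∀ g, g ∉ Subgroup.center P → χ g = 0) ∧
      ∃ ω : ℂ, IsPrimitiveRoot ω (Nat.card (Subgroup.center P)) ∧
        ∀ i : ℕ, χ ((z₀ : P) ^ i) = ω ^ i * (charDegree χ : ℕ) := by
    intro χ hχ h1
    obtain ⟨m, ρ, hρ, hρc⟩ := id hχ
    haveI := hρ
    have hd1 : χ 1 = (charDegree χ : ℕ) := (charDegree_spec' hχ).1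
    have hd0 : ((charDegree χ : ℕ) : ℂ) ≠ 0 := Nat.cast_ne_zero.2 (charDegree_spec' hχ).2.ne'
    have hm : m = charDegree χ := by
      have := hd1
      rw [← congrFun hρc 1, ρ.char_one, Nat.cast_inj, Module.finrank_fin_fun] at this
      exact this
    have hsc : ∀ z ∈ Subgroup.center P, ∃ ω : ℂ, ρ z = ω • (1 : Module.End ℂ (Fin m → ℂ)) := fun z hz =>
      scalar_of_commute ρ fun y => by rw [← map_mul, ← map_mul, Subgroup.mem_center_iff.1 hz y]
    have hDker : ∀ c ∈ commutator P, ρ c = 1 → c = 1 := by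
      intro c hc hc1
      by_contra hne
      have e : Subgroup.zpowers c = commutator P := Subgroup.eq_of_le_of_card_ge (Subgroup.zpowers_le.2 hc) (by
        have hcd : orderOf c ∣ p := hD ▸ (Subgroup.orderOf_mk c hc ▸ orderOf_dvd_natCard (⟨c, hc⟩ : commutator P))
        rw [hD, Nat.card_zpowers, (hp.out.eq_one_or_self_of_dvd _ hcd).resolve_left fun e => hne (orderOf_eq_one_iff.1 e)])
      have hlin := irr_degree_one_of_kernel_commutator (commutator P) comm_mem hχ fun x hx => by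
        obtain ⟨i, hi⟩ := Subgroup.mem_zpowers_iff.1 (e.ge hx)
        have : ρ x = 1 := by
          have hk : c ∈ ρ.ker := hc1
          exact hi ▸ (zpow_mem hk i : c ^ i ∈ ρ.ker)
        rw [← hρc]; exact char_of_rep_one ρ this
      rw [hd1] at hlin
      exact h1 (by exact_mod_cast hlin)
    refine ⟨fun g hg => ?_, ?_⟩
    · obtain ⟨y, hy⟩ : ∃ y, y * g ≠ g * y := by
        by_contra hall
        push Not at hall
        exact hg (Subgroup.mem_center_iff.2 hall)
      obtain ⟨ω, hω⟩ := hsc _ (hDZ (comm_mem y g))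
      have h2 : χ (y * g * y⁻¹) = ω * χ g := by
        rw [← hρc]
        show LinearMap.trace ℂ _ (ρ (y * g * y⁻¹)) = ω * LinearMap.trace ℂ _ (ρ g)
        rw [show y * g * y⁻¹ = y * g * y⁻¹ * g⁻¹ * g by group, map_mul, hω, smul_mul_assoc, one_mul, map_smul,
          smul_eq_mul]
      rw [isClassFunction_irr hχ g y] at h2
      by_contra h0
      rw [(mul_eq_right₀ h0).1 h2.symm, one_smul] at hω
      have := hDker _ (comm_mem y g) hω
      rw [mul_inv_eq_one, mul_inv_eq_iff_eq_mul] at this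
      exact hy this
    · obtain ⟨ω, hω⟩ := hsc z₀ z₀.2
      have hval : ∀ i : ℕ, χ ((z₀ : P) ^ i) = ω ^ i * (charDegree χ : ℕ) := fun i => by
        rw [← hρc, Representation.character, map_pow, hω, smul_pow, one_pow, map_smul, LinearMap.trace_one,
          smul_eq_mul, hρc]
        simp [hm]
      have hn : Nat.card (Subgroup.center P) = orderOf (z₀ : P) := by
        rw [Subgroup.orderOf_coe, orderOf_eq_card_of_forall_mem_zpowers hz₀]
      refine ⟨ω, ⟨?_, fun l hl => ?_⟩, hval⟩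
      · have := hval (Nat.card (Subgroup.center P))
        rw [hn, pow_orderOf_eq_one, hd1] at this
        rw [hn]
        exact (mul_eq_right₀ hd0).1 this.symm
      · rw [hn, orderOf_dvd_iff_pow_eq_one]
        by_contra hne
        let S := Subgroup.zpowers ((z₀ : P) ^ l)
        have hSc : S ≤ Subgroup.center P := Subgroup.zpowers_le.2 (pow_mem z₀.2 l)
        haveI : S.Normal := ⟨fun s hs g => by rwa [Subgroup.mem_center_iff.1 (hSc hs), mul_inv_cancel_right]⟩
        have hρl : ρ ((z₀ : P) ^ l) = 1 := by rw [map_pow, hω, smul_pow, one_pow, hl, one_smul]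
        -- the subgroup of order `p` of the cyclic centre
        haveI : Nontrivial S := (Subgroup.nontrivial_iff_ne_bot S).2 fun e => hne (Subgroup.zpowers_eq_bot.1 e)
        obtain ⟨n, hn0, hn⟩ := (hP.to_subgroup S).nontrivial_iff_card.1 inferInstance
        obtain ⟨s, hs⟩ := exists_prime_orderOf_dvd_card' (G := S) p (hn ▸ dvd_pow_self p hn0.ne')
        obtain ⟨c, hc⟩ := exists_prime_orderOf_dvd_card' (G := commutator P) p (by rw [hD])
        have hcmem : (c : P) ∈ S := by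
          let s' : Subgroup.center P := ⟨(s : P), hSc s.2⟩
          let c' : Subgroup.center P := ⟨(c : P), hDZ c.2⟩
          have hs' : orderOf s' = p := by rw [← Subgroup.orderOf_coe]; show orderOf ((s : S) : P) = p; rw [Subgroup.orderOf_coe, hs]
          have hc' : orderOf c' = p := by rw [← Subgroup.orderOf_coe]; show orderOf ((c : commutator P) : P) = p; rw [Subgroup.orderOf_coe, hc]
          have hcs : c' ∈ Subgroup.zpowers s' := by
            haveI := Fintype.ofFinite (Subgroup.center P)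
            have hsub : (Subgroup.zpowers s' : Set (Subgroup.center P)).toFinset ⊆
                Finset.univ.filter fun x => x ^ p = 1 := by
              intro x hx
              rw [Set.mem_toFinset] at hx
              obtain ⟨i, rfl⟩ := Subgroup.mem_zpowers_iff.1 hx
              refine Finset.mem_filter.2 ⟨Finset.mem_univ _, ?_⟩
              rw [← zpow_natCast, ← zpow_mul, mul_comm, zpow_mul, zpow_natCast, ← hs', pow_orderOf_eq_one, one_zpow]
            have heq := Finset.eq_of_subset_of_card_le hsub ((IsCyclic.card_pow_eq_one_le hp.out.pos).trans (by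
              rw [Set.toFinset_card, ← Nat.card_eq_fintype_card]
              exact le_of_eq (hs'.symm.trans (Nat.card_zpowers s').symm)))
            have hcm : c' ∈ Finset.univ.filter fun x => x ^ p = 1 :=
              Finset.mem_filter.2 ⟨Finset.mem_univ _, by rw [← hc', pow_orderOf_eq_one]⟩
            rw [← heq, Set.mem_toFinset] at hcm
            exact hcm
          obtain ⟨i, hi⟩ := Subgroup.mem_zpowers_iff.1 hcs
          have := congrArg Subtype.val hi
          rw [SubgroupClass.coe_zpow] at this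
          exact this ▸ zpow_mem s.2 i
        obtain ⟨i, hi⟩ := Subgroup.mem_zpowers_iff.1 hcmem
        have hρc1 : ρ (c : P) = 1 := hi ▸ (zpow_mem (show (z₀ : P) ^ l ∈ ρ.ker from hρl) i : _ ∈ ρ.ker)
        have := hDker _ c.2 hρc1
        rw [OneMemClass.coe_eq_one] at this
        rw [this, orderOf_one] at hc
        exact hp.out.one_lt.ne hc
  intro χ ψ h1 hd
  obtain ⟨hvχ, ω, hω, hχz⟩ := key χ χ.2 h1
  obtain ⟨hvψ, η, hη, hψz⟩ := key ψ ψ.2 (hd ▸ h1)
  haveI : NeZero (Nat.card (Subgroup.center P)) := ⟨Nat.card_pos.ne'⟩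
  obtain ⟨k, -, hk, rfl⟩ := (hω.isPrimitiveRoot_iff).1 hη
  obtain ⟨n, hn⟩ := IsPGroup.iff_card.1 hP
  have hcop : k.Coprime (Nat.card P) := by
    rw [hn]
    refine Nat.Coprime.pow_right n (hk.coprime_dvd_right ?_)
    rw [← hD]
    exact Subgroup.card_dvd_of_le hDZ
  refine ⟨k, hcop, fun g => ?_⟩
  by_cases hg : g ∈ Subgroup.center P
  · obtain ⟨i, hi⟩ := (Submonoid.mem_powers_iff _ _).1 (mem_powers_iff_mem_zpowers.2 (hz₀ ⟨g, hg⟩))
    have hi' : (z₀ : P) ^ i = g := by rw [← SubmonoidClass.coe_pow, hi]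
    rw [← hi', ← pow_mul, hψz, hχz, ← pow_mul, mul_comm k i, hd]
  · rw [hvψ g hg, hvχ]
    intro hmem
    refine hg ?_
    obtain ⟨e, -, he⟩ := Nat.exists_mul_mod_eq_one_of_coprime (Nat.Coprime.coprime_dvd_right (orderOf_dvd_natCard g) hcop) (by
      refine Nat.lt_of_le_of_ne (orderOf_pos g) fun e => hg ?_
      rw [orderOf_eq_one_iff.1 e.symm]; exact one_mem _)
    have h' : g = (g ^ k) ^ e := by
      rw [← pow_mul, ← pow_mod_orderOf, he, pow_one]
    rw [h']
    exact pow_mem hmem e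

end GaloisDeg

end CfsgLib.CharTheory
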