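/-
Characters of maximal degree and Garrison's bound on the nilpotent length of a solvable group.
-/
import Cfsg.Agent.Lib.CharTheory.Monomial
import Cfsg.Agent.Lib.CharTheory.Clifford
import Cfsg.Agent.Lib.CharTheory.Gallagher
import Cfsg.Agent.Lib.Solvable.Frattini
import Cfsg.Agent.Lib.Basic
import Cfsg.Agent.Lib.Blocks.Central
import Cfsg.Prelude.Def_DegreeGraph

namespace CfsgLib.CharTheory.Garrison

open Cfsg CfsgLib.CharTheory
open scoped ComplexConjugate commutatorElement

universe u

variable {G : Type u} [Group G] [Fintype G]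

/-- A character of largest degree among the constituents of the induced restriction, restricting
irreducibly to `H`, vanishes on the elements of `H` outside the core of `H`. -/
theorem vanish_off_core {ψ : G → ℂ} (hψ : IsIrrCharacter G ψ)
    (H : Subgroup G) (hres : IsIrrCharacter H (fun h : H => ψ h))
    (hmax : ∀ (χ : G → ℂ) (d e : ℕ), IsIrrCharacter G χ →
      classInner (indFun H (fun h : H => ψ h)) χ ≠ 0 → χ 1 = d → ψ 1 = e → d ≤ e)
    (h : H) (hcore : (h : G) ∉ H.normalCore) : ψ h = 0 := by
  classical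
  have := Fintype.ofFinite H
  set ψH : H → ℂ := fun h => ψ h with hψH
  have hind := isCharacter_indFun H (isCharacter_of_irr hres)
  choose c hc using fun χ : IrrCharacter G => classInner_char_nat hind (isCharacter_of_irr χ.2)
  have hsum := eq_sum_irr (isClassFunction_char hind)
  simp only [hc] at hsum
  obtain ⟨e, he0, he⟩ := irr_degree_pos hψ
  have hkey : ∀ χ : IrrCharacter G, (c χ : ℂ) * (χ : G → ℂ) h = (c χ : ℂ) * ψ h := by
    intro χ
    rcases Nat.eq_zero_or_pos (c χ) with h0 | hpos
    · simp [h0]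
    have hχH := isCharacter_restrict (isCharacter_of_irr χ.2) H
    have hmult : classInner (fun x : H => (χ : G → ℂ) x) ψH = (c χ : ℂ) := by
      rw [← classInner_comm, ← frobenius_reciprocity H _ (isClassFunction_irr χ.2), hc,
        Complex.conj_natCast]
    have hsub := isCharacter_sub_irr hχH hres (by rw [hmult]; exact Nat.cast_ne_zero.mpr hpos.ne')
    obtain ⟨d, hd0, hd⟩ := irr_degree_pos χ.2
    obtain ⟨r, hr⟩ := char_one_eq_natCast hsub
    have hde := hmax _ d e χ.2 (by rw [hc]; exact Nat.cast_ne_zero.mpr hpos.ne') hd he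
    simp only [Pi.sub_apply, hψH, Subgroup.coe_one, hd, he, sub_eq_iff_eq_add] at hr
    have hr' : d = r + e := by exact_mod_cast hr
    have hz := eq_zero_of_degree_zero hsub (by
      simp only [Pi.sub_apply, hψH, Subgroup.coe_one, hd, he]
      rw [show d = e by omega, sub_self])
    have := congrFun hz h
    simp only [Pi.sub_apply, Pi.zero_apply, hψH, sub_eq_zero] at this
    rw [this]
  have h1 : indFun H ψH h = (∑ χ : IrrCharacter G, (c χ : ℂ)) * ψ h := by
    rw [hsum, Finset.sum_mul]
    simp only [Finset.sum_apply, Pi.smul_apply, smul_eq_mul]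
    exact Finset.sum_congr rfl fun χ _ => hkey χ
  have hdeg : (∑ χ : IrrCharacter G, (c χ : ℂ)) * ψ 1 = indFun H ψH 1 := by
    rw [hsum, Finset.sum_mul]
    simp only [Finset.sum_apply, Pi.smul_apply, smul_eq_mul]
    refine Finset.sum_congr rfl fun χ _ => ?_
    rcases Nat.eq_zero_or_pos (c χ) with h0 | hpos
    · simp [h0]
    have hχH := isCharacter_restrict (isCharacter_of_irr χ.2) H
    have hmult : classInner (fun x : H => (χ : G → ℂ) x) ψH = (c χ : ℂ) := by
      rw [← classInner_comm, ← frobenius_reciprocity H _ (isClassFunction_irr χ.2), hc,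
        Complex.conj_natCast]
    have hsub := isCharacter_sub_irr hχH hres (by rw [hmult]; exact Nat.cast_ne_zero.mpr hpos.ne')
    obtain ⟨d, hd0, hd⟩ := irr_degree_pos χ.2
    obtain ⟨r, hr⟩ := char_one_eq_natCast hsub
    have hde := hmax _ d e χ.2 (by rw [hc]; exact Nat.cast_ne_zero.mpr hpos.ne') hd he
    simp only [Pi.sub_apply, hψH, Subgroup.coe_one, hd, he, sub_eq_iff_eq_add] at hr
    have hr' : d = r + e := by exact_mod_cast hr
    rw [hd, he, show d = e by omega]
  have hperm : ∀ g, indFun H ψH g = indFun H (fun _ => 1) g * ψ g := fun g => by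
    rw [show ψH = (fun _ => (1 : ℂ)) * fun x : H => ψ x from funext fun x => (one_mul _).symm,
      indFun_mul H _ (isClassFunction_irr hψ)]
    rfl
  rw [hperm] at h1 hdeg
  have hS := mul_right_cancel₀ (irr_ne_zero hψ) hdeg
  rw [hS] at h1
  by_contra hne
  refine hcore fun b => ?_
  have := mem_of_indFun_one_eq H (mul_right_cancel₀ hne h1) b⁻¹
  simpa using this

/-- The commutator subgroup of a nilpotent normal subgroup lies in every maximal subgroup. -/
theorem commutator_le_coatom (F : Subgroup G) [F.Normal] (hF : Group.IsNilpotent F) {M : Subgroup G}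
    (hM : IsCoatom M) : ⁅F, F⁆ ≤ M := by
  by_contra hle
  have hsup : M ⊔ ⁅F, F⁆ = ⊤ := hM.2 _ (lt_of_le_of_ne le_sup_left fun e =>
    hle (e ▸ le_sup_right))
  have hMF : M.subgroupOf F ≠ ⊤ := fun e =>
    hle ((Subgroup.commutator_le_self F).trans (Subgroup.subgroupOf_eq_top.mp e))
  obtain ⟨K, hK, hMK⟩ := (eq_top_or_exists_le_coatom (M.subgroupOf F)).resolve_left hMF
  have := hF
  have hKn : K.Normal :=
    Subgroup.NormalizerCondition.normal_of_coatom K normalizerCondition_of_isNilpotent hK
  have hcomm : commutator F ≤ K := by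
    have hs : IsSimpleGroup (F ⧸ K) := by
      have : Nontrivial (F ⧸ K) := QuotientGroup.nontrivial_iff.mpr hK.1
      refine ⟨fun S _ => ?_⟩
      rcases eq_or_lt_of_le (QuotientGroup.le_comap_mk' K S) with h | h
      · left
        rw [← Subgroup.map_comap_eq_self_of_surjective (QuotientGroup.mk'_surjective K) S, ← h]
        exact QuotientGroup.map_mk'_self K
      · right
        rw [← Subgroup.map_comap_eq_self_of_surjective (QuotientGroup.mk'_surjective K) S, hK.2 _ h]
        exact Subgroup.map_top_of_surjective _ (QuotientGroup.mk'_surjective K)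
    have hsol : Group.IsSolvable (F ⧸ K) := inferInstance
    have hc := IsSimpleGroup.comm_iff_isSolvable.mpr hsol
    rw [commutator_def, Subgroup.commutator_le]
    intro x _ y _
    rw [← QuotientGroup.eq_one_iff]
    show ((x * y * x⁻¹ * y⁻¹ : F) : F ⧸ K) = 1
    simp only [QuotientGroup.mk_mul, QuotientGroup.mk_inv]
    rw [hc (x : F ⧸ K) y]
    group
  refine hK.1 (eq_top_iff.mpr fun x _ => ?_)
  have hx : (x : G) ∈ M ⊔ ⁅F, F⁆ := hsup ▸ Subgroup.mem_top _
  obtain ⟨m, hm, d, hd, hmd⟩ := Subgroup.mem_sup_of_normal_right.mp hx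
  have hdF : d ∈ F := Subgroup.commutator_le_self F hd
  have hmF : m ∈ F := by
    rw [eq_mul_inv_of_mul_eq hmd]
    exact F.mul_mem x.2 (F.inv_mem hdF)
  have hd' : (⟨d, hdF⟩ : F) ∈ commutator F := by
    rw [← Subgroup.map_subtype_commutator, Subgroup.mem_map] at hd
    obtain ⟨y, hy, hyd⟩ := hd
    rwa [show (⟨d, hdF⟩ : F) = y from Subtype.ext hyd.symm]
  rw [show x = ⟨m, hmF⟩ * ⟨d, hdF⟩ from Subtype.ext hmd.symm]
  exact K.mul_mem (hMK (Subgroup.mem_subgroupOf.mpr hm)) (hcomm hd')

/-- In a solvable group an element centralizing `F(G)` modulo `Φ(G)` lies in `F(G)`. -/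
theorem mem_fitting_of_commutator_mem [Group.IsSolvable G] {g : G}
    (hg : ∀ x ∈ fittingSubgroup G, ⁅g, x⁆ ∈ frattini G) : g ∈ fittingSubgroup G := by
  classical
  let F := fittingSubgroup G
  let π := QuotientGroup.mk' (frattini G)
  have hnFπ : (F.map π).Normal :=
    (inferInstance : F.Normal).map π (QuotientGroup.mk'_surjective _)
  let L := (Subgroup.centralizer (F.map π : Set (G ⧸ frattini G))).comap π
  have hLn : L.Normal := inferInstance
  have hcomm : ∀ a b : G, π a * π b = π b * π a ↔ ⁅a, b⁆ ∈ frattini G := by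
    intro a b
    rw [← QuotientGroup.eq_one_iff]
    show _ ↔ π ⁅a, b⁆ = 1
    rw [map_commutatorElement, commutatorElement_eq_one_iff_mul_comm]
  have hgL : g ∈ L := by
    rw [Subgroup.mem_comap, Subgroup.mem_centralizer_iff]
    rintro _ ⟨x, hx, rfl⟩
    exact ((hcomm g x).mpr (hg x hx)).symm
  have hLF : ⁅F, L⁆ ≤ frattini G := by
    rw [Subgroup.commutator_le]
    intro x hx y hy
    rw [← hcomm]
    exact Subgroup.mem_centralizer_iff.mp (Subgroup.mem_comap.mp hy) _
      (Subgroup.mem_map_of_mem π hx)
  suffices L ≤ F from this hgL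
  by_contra hne
  obtain ⟨k, hk⟩ := Group.IsSolvable.solvable (G := G)
  have hex : ∃ j, L ⊓ derivedSeries G j ≤ F := ⟨k, by rw [hk]; simp⟩
  obtain ⟨j, hj⟩ : ∃ j, Nat.find hex = j + 1 := by
    refine ⟨Nat.find hex - 1, ?_⟩
    have : Nat.find hex ≠ 0 := fun h0 => hne (by
      have := Nat.find_spec hex
      rw [h0, derivedSeries_zero, inf_top_eq] at this
      exact this)
    omega
  have hDF : ¬ L ⊓ derivedSeries G j ≤ F := Nat.find_min hex (by omega)
  set D := L ⊓ derivedSeries G j with hD
  have hDn : D.Normal := by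
    have := derivedSeries_normal G j
    exact Subgroup.normal_inf_normal L _
  have hDD : ⁅D, D⁆ ≤ F := by
    refine le_trans ?_ (hj ▸ Nat.find_spec hex)
    refine le_inf ((Subgroup.commutator_mono inf_le_left inf_le_left).trans
      (Subgroup.commutator_le_self L)) ?_
    rw [derivedSeries_succ]
    exact Subgroup.commutator_mono inf_le_right inf_le_right
  refine hDF ?_
  refine le_fittingSubgroup ?_
  have hBn : (D ⊓ frattini G).Normal := Subgroup.normal_inf_normal D _
  refine CfsgLib.FrattiniLemmas.isNilpotent_of_quotient (A := D) (B := D ⊓ frattini G)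
    inf_le_left inf_le_right ?_
  rw [Subgroup.nilpotent_iff_lowerCentralSeries]
  refine ⟨2, ?_⟩
  have h3 : ⁅⁅D, D⁆, D⁆ ≤ D ⊓ frattini G := by
    refine le_inf ((Subgroup.commutator_le_right _ D)) ?_
    exact (Subgroup.commutator_mono hDD inf_le_left).trans hLF
  let q := QuotientGroup.mk' ((D ⊓ frattini G).subgroupOf D)
  have hq : Function.Surjective q := QuotientGroup.mk'_surjective _
  rw [← Subgroup.map_top_of_surjective q hq, ← Subgroup.map_lowerCentralSeries,
    Subgroup.map_eq_bot_iff, QuotientGroup.ker_mk',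
    ← Subgroup.map_le_map_iff_of_injective D.subtype_injective,
    Subgroup.map_subgroupOf_eq_of_le inf_le_left, Subgroup.top_subtype_lowerCentralSeries,
    Subgroup.lowerCentralSeries_succ, Subgroup.lowerCentralSeries_succ,
    Subgroup.lowerCentralSeries_zero]
  exact h3

/-- A character with `F(G)` in its kernel is not of largest degree for all the maximal subgroups
supplementing `F(G)`, unless `G` is nilpotent. -/
theorem not_fitting_le_kernel_of_local [Group.IsSolvable G] (hF : fittingSubgroup G ≠ ⊤)
    {ψ : G → ℂ} (hψ : IsIrrCharacter G ψ)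
    (hmax : ∀ H : Subgroup G, IsCoatom H → ¬ fittingSubgroup G ≤ H →
      IsIrrCharacter H (fun h : H => ψ h) → ∀ (χ : G → ℂ) (d e : ℕ), IsIrrCharacter G χ →
      classInner (indFun H (fun h : H => ψ h)) χ ≠ 0 → χ 1 = d → ψ 1 = e → d ≤ e)
    (hker : ∀ x ∈ fittingSubgroup G, ψ x = ψ 1) : False := by
  classical
  let F := fittingSubgroup G
  have := Fintype.ofFinite F
  have hnilF : Group.IsNilpotent F := isNilpotent_fittingSubgroup
  have hvan : ∀ g : G, g ∉ F → ψ g = 0 := by
    intro g hg
    obtain ⟨x, hx, hgx⟩ : ∃ x ∈ F, ⁅g, x⁆ ∉ frattini G := by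
      by_contra hne
      push Not at hne
      exact hg (mem_fitting_of_commutator_mem hne)
    obtain ⟨H, hH, hgxH⟩ : ∃ H : Subgroup G, IsCoatom H ∧ ⁅g, x⁆ ∉ H := by
      by_contra hne
      push Not at hne
      refine hgx ?_
      simp only [frattini, Order.radical, Subgroup.mem_iInf]
      exact fun H hH => hne H hH
    have hgxF : ⁅g, x⁆ ∈ F := by
      rw [commutatorElement_def]
      exact F.mul_mem ((inferInstance : F.Normal).conj_mem x hx g) (F.inv_mem hx)
    have hsup : F ⊔ H = ⊤ := by
      rw [sup_comm]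
      exact hH.2 _ (lt_of_le_of_ne le_sup_left fun e =>
        hgxH (e.symm ▸ Subgroup.mem_sup_right hgxF))
    have hres : IsIrrCharacter H (fun h : H => ψ h) := by
      obtain ⟨φ, hφ, hφe⟩ := exists_quotient_irr F hψ hker
      have hsurj : Function.Surjective ((QuotientGroup.mk' F).comp H.subtype) := by
        intro q
        obtain ⟨y, rfl⟩ := QuotientGroup.mk'_surjective F q
        obtain ⟨f, hf, h, hh, rfl⟩ :=
          Subgroup.mem_sup_of_normal_left.mp (hsup ▸ Subgroup.mem_top y)
        refine ⟨⟨h, hh⟩, ?_⟩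
        simp [(QuotientGroup.eq_one_iff f).mpr hf]
      have := isIrrCharacter_comp_surjective hφ _ hsurj
      convert this using 1
      funext h
      rw [hφe]
      rfl
    obtain ⟨f, hf, h, hh, rfl⟩ :=
      Subgroup.mem_sup_of_normal_left.mp (hsup ▸ Subgroup.mem_top g)
    rw [apply_mul_of_kernel F (isCharacter_of_irr hψ) hker ⟨f, hf⟩ h]
    refine vanish_off_core hψ H hres (hmax H hH (fun hle => hgxH (hle hgxF)) hres) ⟨h, hh⟩ fun hc => ?_
    apply hgxH
    have hcomF : ⁅f, x⁆ ∈ H.normalCore :=
      Subgroup.normal_le_normalCore.mpr (commutator_le_coatom F hnilF hH)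
        (Subgroup.commutator_mem_commutator hf hx)
    refine H.normalCore_le ?_
    rw [show ⁅f * h, x⁆ = f * ⁅(h : G), x⁆ * f⁻¹ * ⁅f, x⁆ by
      simp only [commutatorElement_def]; group]
    refine mul_mem ((inferInstance : H.normalCore.Normal).conj_mem _ ?_ f) hcomF
    rw [commutatorElement_def, mul_assoc, mul_assoc]
    refine mul_mem hc ?_
    rw [← mul_assoc]
    exact (inferInstance : H.normalCore.Normal).conj_mem _ (inv_mem hc) x
  have h1 : classInner ψ (fun _ => (1 : ℂ)) ≠ 0 := by
    simp only [classInner, map_one, mul_one]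
    refine mul_ne_zero (inv_ne_zero (Nat.cast_ne_zero.mpr Nat.card_pos.ne')) ?_
    rw [← Finset.sum_filter_add_sum_filter_not Finset.univ (fun x : G => x ∈ F),
      Finset.sum_eq_zero (s := Finset.univ.filter fun x : G => x ∉ F)
        (fun x hx => hvan x (Finset.mem_filter.mp hx).2), add_zero,
      Finset.sum_congr rfl fun x hx => hker x (Finset.mem_filter.mp hx).2, Finset.sum_const,
      nsmul_eq_mul]
    refine mul_ne_zero (Nat.cast_ne_zero.mpr (Finset.card_ne_zero.mpr ⟨1, ?_⟩)) (irr_ne_zero hψ)
    simp [F.one_mem]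
  obtain ⟨g, hg⟩ : ∃ g, g ∉ F := not_forall.mp fun h => hF (eq_top_iff.mpr fun x _ => h x)
  have e : ψ = fun _ => (1 : ℂ) := by
    by_contra hne
    exact h1 (classInner_irr_ne hψ isIrrCharacter_one hne)
  exact one_ne_zero ((congrFun e g).symm.trans (hvan g hg))

/-- No irreducible character of maximal degree has `F(G)` in its kernel, unless `G` is nilpotent. -/
theorem not_fitting_le_kernel [Group.IsSolvable G] (hF : fittingSubgroup G ≠ ⊤) {ψ : G → ℂ}
    (hψ : IsIrrCharacter G ψ)
    (hmax : ∀ (χ : G → ℂ) (d e : ℕ), IsIrrCharacter G χ → χ 1 = d → ψ 1 = e → d ≤ e)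
    (hker : ∀ x ∈ fittingSubgroup G, ψ x = ψ 1) : False :=
  not_fitting_le_kernel_of_local hF hψ (fun _ _ _ _ χ d e hχ _ => hmax χ d e hχ) hker

/-- Garrison: the nilpotent length of a solvable group is at most the number of its character
degrees. -/
theorem exists_series (n : ℕ) : ∀ {G : Type u} [Group G] [Finite G], Group.IsSolvable G →
    (charDegrees G).ncard ≤ n → ∃ N : Fin (n + 1) → Subgroup G, N 0 = ⊥ ∧ N (Fin.last n) = ⊤ ∧
      Monotone N ∧ (∀ i, (N i).Normal) ∧
      ∀ i : Fin n, ∀ h : (N i.castSucc).subgroupOf (N i.succ) |>.Normal,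
        Group.IsNilpotent (↥(N i.succ) ⧸ (N i.castSucc).subgroupOf (N i.succ)) := by
  induction n with
  | zero =>
    intro G _ _ _ h
    exfalso
    have := Fintype.ofFinite G
    have hfin : (charDegrees G).Finite :=
      (Set.finite_range fun χ : IrrCharacter G => charDegree (χ : G → ℂ)).subset
        fun d ⟨χ, hχ⟩ => ⟨χ, hχ⟩
    have hne : (charDegrees G).Nonempty :=
      ⟨_, ⟨⟨fun _ => 1, isIrrCharacter_one⟩, rfl⟩⟩
    have := (Set.ncard_pos hfin).mpr hne
    omega
  | succ n ih =>
    intro G _ _ hsolv hcard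
    have := Fintype.ofFinite G
    let F := fittingSubgroup G
    by_cases hF : F = ⊤
    · have hnil : Group.IsNilpotent G := by
        have h := isNilpotent_fittingSubgroup (G := G)
        rw [show fittingSubgroup G = ⊤ from hF] at h
        exact Group.nilpotent_of_mulEquiv Subgroup.topEquiv
      refine ⟨fun i => if i = 0 then ⊥ else ⊤, if_pos rfl, if_neg (Fin.last_pos.ne'), ?_, ?_, ?_⟩
      · intro i j hij
        dsimp only
        split_ifs with h1 h2 h2
        · exact le_rfl
        · exact bot_le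
        · exact absurd (Fin.le_zero_iff.mp (h2 ▸ hij)) h1
        · exact le_rfl
      · intro i
        dsimp only
        split_ifs <;> infer_instance
      · intro i hn
        have : Group.IsNilpotent ↥((fun i : Fin (n + 1 + 1) => if i = 0 then (⊥ : Subgroup G) else ⊤) i.succ) :=
          inferInstance
        infer_instance
    have hsolQ : Group.IsSolvable (G ⧸ F) := inferInstance
    have := Fintype.ofFinite (G ⧸ F)
    have hfin : (charDegrees G).Finite :=
      (Set.finite_range fun χ : IrrCharacter G => charDegree (χ : G → ℂ)).subset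
        fun d ⟨χ, hχ⟩ => ⟨χ, hχ⟩
    have hne : (charDegrees G).Nonempty :=
      ⟨_, ⟨⟨fun _ => 1, isIrrCharacter_one⟩, rfl⟩⟩
    obtain ⟨m, ⟨χm, hχm⟩, hm⟩ :=
      Set.Finite.exists_maximal hfin hne
    have hsub : charDegrees (G ⧸ F) ⊆ charDegrees G \ {m} := by
      rintro d ⟨φ, rfl⟩
      have hirr : IsIrrCharacter G (fun g : G => (φ : G ⧸ F → ℂ) g) :=
        isIrrCharacter_comp_surjective φ.2 (QuotientGroup.mk' F) (QuotientGroup.mk'_surjective F)
      refine ⟨⟨⟨_, hirr⟩, rfl⟩, fun e => ?_⟩
      rw [Set.mem_singleton_iff] at e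
      refine not_fitting_le_kernel hF hirr (fun χ d' e' hχ hd' he' => ?_) fun x hx => ?_
      · have hd : charDegree χ = d' := by
          have := CfsgLib.Blocks.charDegree_cast (isCharacter_of_irr hχ)
          rw [hd'] at this
          exact_mod_cast this
        have he : charDegree (fun g : G => (φ : G ⧸ F → ℂ) g) = e' := by
          have := CfsgLib.Blocks.charDegree_cast (isCharacter_of_irr hirr)
          rw [he'] at this
          exact_mod_cast this
        have hem : e' = m := by rw [← he]; exact e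
        by_contra hlt
        push Not at hlt
        have := hm (y := charDegree χ) ⟨⟨χ, hχ⟩, rfl⟩ (by omega)
        omega
      · show (φ : G ⧸ F → ℂ) (x : G ⧸ F) = (φ : G ⧸ F → ℂ) ((1 : G) : G ⧸ F)
        rw [(QuotientGroup.eq_one_iff x).mpr hx]; rfl
    have hcardQ : (charDegrees (G ⧸ F)).ncard ≤ n := by
      have h1 := Set.ncard_le_ncard hsub hfin.diff
      rw [Set.ncard_sdiff_singleton_of_mem (show m ∈ charDegrees G from ⟨χm, hχm⟩)] at h1
      omega
    obtain ⟨N, hN0, hNl, hNm, hNn, hNq⟩ := ih hsolQ hcardQ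
    let π := QuotientGroup.mk' F
    refine ⟨Fin.cons ⊥ fun i => (N i).comap π, rfl, ?_, ?_, ?_, ?_⟩
    · rw [← Fin.succ_last, Fin.cons_succ, hNl, Subgroup.comap_top]
    · intro i j hij
      induction i using Fin.cases with
      | zero => exact bot_le
      | succ i =>
        induction j using Fin.cases with
        | zero => exact absurd (Fin.le_zero_iff.mp hij) (Fin.succ_ne_zero i)
        | succ j => exact Subgroup.comap_mono (hNm (Fin.succ_le_succ_iff.mp hij))
    · intro i
      induction i using Fin.cases with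
      | zero => exact (inferInstance : (⊥ : Subgroup G).Normal)
      | succ i => exact (hNn i).comap π
    · intro i
      induction i using Fin.cases with
      | zero =>
        show ∀ h : ((⊥ : Subgroup G).subgroupOf ((N 0).comap π)).Normal,
          Group.IsNilpotent (↥((N 0).comap π) ⧸ (⊥ : Subgroup G).subgroupOf ((N 0).comap π))
        intro h
        have : Group.IsNilpotent ↥((N 0).comap π) := by
          rw [hN0, MonoidHom.comap_bot, QuotientGroup.ker_mk']
          exact isNilpotent_fittingSubgroup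
        infer_instance
      | succ i =>
        show ∀ h : (((N i.castSucc).comap π).subgroupOf ((N i.succ).comap π)).Normal,
          Group.IsNilpotent (↥((N i.succ).comap π) ⧸
            ((N i.castSucc).comap π).subgroupOf ((N i.succ).comap π))
        intro h
        have := hNn i.castSucc
        have hnQ : ((N i.castSucc).subgroupOf (N i.succ)).Normal := inferInstance
        let f : ↥((N i.succ).comap π) →* ↥(N i.succ) ⧸ (N i.castSucc).subgroupOf (N i.succ) :=
          (QuotientGroup.mk' _).comp (π.subgroupComap (N i.succ))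
        have hf : Function.Surjective f := by
          refine (QuotientGroup.mk'_surjective _).comp ?_
          exact MonoidHom.subgroupComap_surjective_of_surjective π (N i.succ)
            (QuotientGroup.mk'_surjective F)
        have hker : f.ker = ((N i.castSucc).comap π).subgroupOf ((N i.succ).comap π) := by
          ext x
          rw [MonoidHom.mem_ker, Subgroup.mem_subgroupOf, Subgroup.mem_comap]
          exact (QuotientGroup.eq_one_iff _).trans Subgroup.mem_subgroupOf
        have hnil := hNq i hnQ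
        exact Group.nilpotent_of_mulEquiv
          ((QuotientGroup.quotientMulEquivOfEq hker.symm).trans
            (QuotientGroup.quotientKerEquivOfSurjective f hf)).symm

/-- A constituent of `(χ_H)^G` of degree larger than `χ`, where `HK = G` for `K = ker χ`, has
kernel smaller than `K`. -/
theorem kernel_lt {χ ψ : G → ℂ} (hψ : IsIrrCharacter G ψ) (H K : Subgroup G)
    (hH : IsCoatom H) (hKH : ¬ K ≤ H) (hK : ∀ g, g ∈ K ↔ χ g = χ 1)
    (hres : IsIrrCharacter H (fun h : H => χ h))
    (hc : classInner (indFun H (fun h : H => χ h)) ψ ≠ 0) (hne : χ 1 ≠ ψ 1) :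
    charKernel ψ (isCharacter_of_irr hψ) < K := by
  classical
  have := Fintype.ofFinite H
  set L := charKernel ψ (isCharacter_of_irr hψ) with hL
  have hLn : L.Normal := by rw [hL]; infer_instance
  have := Fintype.ofFinite L
  have hψH := isCharacter_restrict (isCharacter_of_irr hψ) H
  have hmult : classInner (fun x : H => ψ x) (fun x : H => χ x) ≠ 0 := by
    rw [← classInner_comm, ← frobenius_reciprocity H _ (isClassFunction_irr hψ)]
    exact (map_ne_zero _).mpr hc
  have hLH : L ≤ H := by
    by_contra hne'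
    have hsup : L ⊔ H = ⊤ := by
      rw [sup_comm]
      exact hH.2 _ (lt_of_le_of_ne le_sup_left fun e => hne' (e ▸ le_sup_right))
    obtain ⟨φ, hφ, hφe⟩ := exists_quotient_irr L hψ fun x hx => (mem_charKernel _ x).mp hx
    have hsurj : Function.Surjective ((QuotientGroup.mk' L).comp H.subtype) := by
      intro q
      obtain ⟨y, rfl⟩ := QuotientGroup.mk'_surjective L q
      obtain ⟨f, hf, h, hh, rfl⟩ :=
        Subgroup.mem_sup_of_normal_left.mp (hsup ▸ Subgroup.mem_top y)
      refine ⟨⟨h, hh⟩, ?_⟩
      simp [(QuotientGroup.eq_one_iff f).mpr hf]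
    have hirr : IsIrrCharacter H (fun x : H => ψ x) := by
      have := isIrrCharacter_comp_surjective hφ _ hsurj
      convert this using 1
      funext h
      rw [hφe]
      rfl
    have e : (fun x : H => ψ x) = fun x : H => χ x := by
      by_contra hne''
      exact hmult (classInner_irr_ne hirr hres hne'')
    exact hne (congrFun e 1).symm
  refine lt_of_le_of_ne (fun x hx => (hK x).mpr ?_) fun e => hKH (e ▸ hLH)
  have hsub := isCharacter_sub_irr hψH hres hmult
  obtain ⟨n, hn⟩ := char_one_eq_natCast hsub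
  obtain ⟨m, -, hm⟩ := irr_degree_pos hres
  have hxker : ψ x = ψ 1 := (mem_charKernel _ x).mp hx
  have b1 := norm_char_le hsub ⟨x, hLH hx⟩
  have b2 := norm_char_le (isCharacter_of_irr hres) ⟨x, hLH hx⟩
  have hm' : χ 1 = (m : ℂ) := hm
  have hn' : ψ 1 - χ 1 = (n : ℂ) := hn
  rw [hn, Complex.norm_natCast] at b1
  rw [hm, Complex.norm_natCast] at b2
  change ‖ψ x - χ x‖ ≤ (n : ℝ) at b1
  change ‖χ x‖ ≤ (m : ℝ) at b2
  have r3 := congrArg Complex.re hn'
  have r4 := congrArg Complex.re hm'
  simp only [Complex.sub_re, Complex.natCast_re] at r3 r4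
  have h1 := Complex.re_le_norm (ψ x - χ x)
  rw [hxker] at h1 b1
  simp only [Complex.sub_re] at h1
  have hrex : (χ x).re = ‖χ x‖ := by
    have := Complex.re_le_norm (χ x)
    linarith
  have him : (χ x).im = 0 := by
    have h2 : ‖χ x‖ ^ 2 = (χ x).re * (χ x).re + (χ x).im * (χ x).im := by
      rw [← Complex.normSq_apply, Complex.normSq_eq_norm_sq]
    rw [hrex] at h2
    nlinarith
  have him1 : (χ 1).im = 0 := by rw [hm']; simp
  refine Complex.ext ?_ (him.trans him1.symm)
  have := Complex.re_le_norm (χ x)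
  linarith

/-- Broline–Garrison. -/
theorem broline {χ : G → ℂ} (hχ : IsIrrCharacter G χ) (K : Subgroup G) [K.Normal]
    (hK : ∀ g, g ∈ K ↔ χ g = χ 1)
    (h : ¬ K ≤ fittingSubgroup G ∨
      (K = fittingSubgroup G ∧ Group.IsSolvable (G ⧸ K) ∧ K ≠ ⊤)) :
    ∃ ψ : G → ℂ, IsIrrCharacter G ψ ∧ (∃ d e : ℕ, χ 1 = d ∧ ψ 1 = e ∧ d < e) ∧
      ∃ hψ : IsCharacter G ψ, charKernel ψ hψ < K := by
  classical
  have := Fintype.ofFinite K
  by_contra hne
  have hkey : ∀ H : Subgroup G, IsCoatom H → ¬ K ≤ H → IsIrrCharacter H (fun h : H => χ h) →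
      ∀ (φ : G → ℂ) (d e : ℕ), IsIrrCharacter G φ →
      classInner (indFun H (fun h : H => χ h)) φ ≠ 0 → φ 1 = d → χ 1 = e → d ≤ e := by
    intro H hH hKH hres φ d e hφ hc hd he
    by_contra hlt
    push Not at hlt
    refine hne ⟨φ, hφ, ⟨e, d, he, hd, hlt⟩, isCharacter_of_irr hφ,
      kernel_lt hφ H K hH hKH hK hres hc fun heq => ?_⟩
    rw [hd, he] at heq
    exact hlt.ne (Nat.cast_injective heq)
  rcases h with h | ⟨rfl, hsol, htop⟩
  · have hnil : ¬ Group.IsNilpotent K := fun hn => h (le_fittingSubgroup hn)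
    obtain ⟨p, hp, P, hPn⟩ : ∃ (p : ℕ) (_ : Fact p.Prime) (P : Sylow p K),
        ¬ (P : Subgroup K).Normal := by
      by_contra hno
      push Not at hno
      exact hnil (((Group.isNilpotent_of_finite_tfae (G := K)).out 0 3).mpr fun p hp P => hno p hp P)
    set R := (P : Subgroup K).map K.subtype with hR
    have hnorm : Subgroup.normalizer (R : Set G) ⊔ K = ⊤ := Sylow.normalizer_sup_eq_top P
    have hNK : Subgroup.normalizer (R : Set G) ≠ ⊤ := by
      intro e
      refine hPn ⟨fun x hx g => ?_⟩
      have hg : (g : G) ∈ Subgroup.normalizer (R : Set G) := e ▸ Subgroup.mem_top _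
      have := (Subgroup.mem_normalizer_iff.mp hg (x : G)).mp (Subgroup.mem_map_of_mem _ hx)
      obtain ⟨y, hy, hyx⟩ := this
      rwa [show g * x * g⁻¹ = y from Subtype.ext hyx.symm]
    obtain ⟨H, hH, hle⟩ := (eq_top_or_exists_le_coatom _).resolve_left hNK
    have hKH : ¬ K ≤ H := fun hKH => hH.1 (top_le_iff.mp (hnorm ▸ sup_le hle hKH))
    have hsup : K ⊔ H = ⊤ := top_le_iff.mp (hnorm ▸ sup_le (hle.trans le_sup_right) le_sup_left)
    have hres : IsIrrCharacter H (fun h : H => χ h) := by
      obtain ⟨φ, hφ, hφe⟩ := exists_quotient_irr K hχ fun x hx => (hK x).mp hx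
      have hsurj : Function.Surjective ((QuotientGroup.mk' K).comp H.subtype) := by
        intro q
        obtain ⟨y, rfl⟩ := QuotientGroup.mk'_surjective K q
        obtain ⟨f, hf, h, hh, rfl⟩ :=
          Subgroup.mem_sup_of_normal_left.mp (hsup ▸ Subgroup.mem_top y)
        refine ⟨⟨h, hh⟩, ?_⟩
        simp [(QuotientGroup.eq_one_iff f).mpr hf]
      have := isIrrCharacter_comp_surjective hφ _ hsurj
      convert this using 1
      funext h
      rw [hφe]
      rfl
    set D := K ⊓ H.normalCore with hD
    have hDn : D.Normal := Subgroup.normal_inf_normal K _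
    have hKHC : K ⊓ H ≤ D := fun x hx => ⟨hx.1, by
      by_contra hxc
      have h0 := vanish_off_core hχ H hres (hkey H hH hKH hres) ⟨x, hx.2⟩ hxc
      have h1 : χ x = 0 := h0
      rw [(hK x).mp hx.1] at h1
      exact irr_ne_zero hχ h1⟩
    -- the Frattini argument inside `D`
    have hRD : R ≤ D := fun x hx => hKHC ⟨(Subgroup.map_subtype_le _) hx,
      hle (Subgroup.le_normalizer hx)⟩
    have hDK : D ≤ K := inf_le_left
    let P' : Sylow p D := P.comapOfInjective (Subgroup.inclusion hDK) (Subgroup.inclusion_injective hDK)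
      (fun y hy => ⟨⟨(y : G), hRD (Subgroup.mem_map_of_mem _ hy)⟩, Subtype.ext rfl⟩)
    have hfr := Sylow.normalizer_sup_eq_top P'
    have hPR : (P' : Subgroup D).map D.subtype = R := by
      ext y
      constructor
      · rintro ⟨z, hz, rfl⟩
        exact ⟨Subgroup.inclusion hDK z, hz, rfl⟩
      · rintro ⟨z, hz, rfl⟩
        exact ⟨⟨(z : G), hRD (Subgroup.mem_map_of_mem _ hz)⟩, hz, rfl⟩
    rw [show ((P' : Subgroup D).map D.subtype) = R from hPR] at hfr
    exact hH.1 (top_le_iff.mp (hfr ▸ sup_le hle (inf_le_right.trans H.normalCore_le)))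
  · have hnF : Group.IsNilpotent (fittingSubgroup G) := isNilpotent_fittingSubgroup
    have hsolF : Group.IsSolvable (fittingSubgroup G) := inferInstance
    have hsolG : Group.IsSolvable G :=
      Group.isSolvable_of_ker_le_range (fittingSubgroup G).subtype
        (QuotientGroup.mk' (fittingSubgroup G))
        (by rw [QuotientGroup.ker_mk', Subgroup.range_subtype])
    exact not_fitting_le_kernel_of_local htop hχ hkey fun x hx => (hK x).mp hx

end CfsgLib.CharTheory.Garrison
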