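import Cfsg.Agent.Lib.CharTheory.ExtCriteria
import Cfsg.Agent.Lib.CharTheory.PowerMap
import Cfsg.Agent.Lib.Blocks.Orth
import Mathlib.GroupTheory.Sylow

/-!
# Characters fixed by a Galois power map which inverts the elements of an odd quotient
-/

namespace CfsgLib.CharTheory.InvertingGalois

open Cfsg CfsgLib.CharTheory CfsgLib.Blocks
open scoped ComplexConjugate

set_option linter.unusedVariables false
set_option linter.unusedSimpArgs false
set_option linter.style.haveILetI false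
set_option linter.unusedSectionVars false

universe u

theorem eq_one_of_conj_inv {Q : Type u} [Group Q] [Finite Q] (hodd : Odd (Nat.card Q)) {a : Q}
    (h : IsConj a a⁻¹) : a = 1 := by
  obtain ⟨c, hc⟩ := isConj_iff.1 h
  have h2 : Commute (c ^ 2) a := by
    refine mul_inv_eq_iff_eq_mul.1 ?_
    calc c ^ 2 * a * (c ^ 2)⁻¹ = c * (c * a * c⁻¹) * c⁻¹ := by rw [pow_two]; group
      _ = c * a⁻¹ * c⁻¹ := by rw [hc]
      _ = (c * a * c⁻¹)⁻¹ := by group
      _ = a := by rw [hc, inv_inv]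
  obtain ⟨j, hj⟩ := exists_pow_eq_self_of_coprime (x := c) (n := 2)
    ((Nat.coprime_two_left.2 (hodd.of_dvd_nat (orderOf_dvd_natCard c))))
  have h3 : Commute c a := hj ▸ h2.pow_left j
  rw [h3.eq, mul_inv_cancel_right] at hc
  rw [← orderOf_eq_one_iff]
  refine Nat.eq_one_of_dvd_coprimes (Nat.coprime_two_left.2 hodd) ?_ (orderOf_dvd_natCard a)
  refine orderOf_dvd_of_pow_eq_one ?_
  rw [pow_two]
  conv_lhs => arg 2; rw [hc]
  exact mul_inv_cancel a

variable {G : Type u} [Group G] [Fintype G] {N : Subgroup G} [hN : N.Normal] [Fintype N] {k : ℕ}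

theorem hom_inverted {Q : Type u} [Group Q] [Finite Q] (f : G →* Q) (hodd : Odd (Nat.card Q))
    (hk₂ : ∀ g : G, Odd (orderOf g) → g ^ k = g⁻¹) (g : G) : f (g ^ k) = (f g)⁻¹ := by
  obtain ⟨s, m, hm, hsm⟩ := Nat.exists_eq_two_pow_mul_odd (orderOf_pos g).ne'
  have ho : Odd (orderOf (g ^ 2 ^ s)) := by
    rw [orderOf_pow_of_dvd (by positivity) (hsm ▸ dvd_mul_right _ _), hsm,
      Nat.mul_div_cancel_left _ (by positivity)]
    exact hm
  have h1 := congrArg f (hk₂ _ ho)
  rw [map_pow, map_inv, map_pow] at h1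
  rw [map_pow, eq_inv_iff_mul_eq_one, ← pow_succ, ← orderOf_eq_one_iff]
  refine Nat.eq_one_of_dvd_coprimes (Nat.Coprime.pow_left s (Nat.coprime_two_left.2 hodd))
    (orderOf_dvd_of_pow_eq_one ?_) (orderOf_dvd_natCard _)
  rw [← pow_mul, add_mul, one_mul, pow_add, mul_comm k, pow_mul, h1, inv_mul_cancel]

variable {θ : IrrCharacter N}

/-- Pairs of values of the characters over `θ` vanish when the cosets are not conjugate. -/
theorem sum_over_eq_zero {x g : G} (h : ¬ IsConj (x : G ⧸ N) (g : G ⧸ N))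
    (S : Finset (IrrCharacter G))
    (hS : ∀ χ, χ ∈ S ↔ classInner (fun n : N => (χ : G → ℂ) n) (θ : N → ℂ) ≠ 0) :
    ∑ χ ∈ S, (χ : G → ℂ) x * conj ((χ : G → ℂ) g) = 0 := by
  classical
  set f : G → ℂ := cf (ind (S : Set (IrrCharacter G))) with hf
  have hsupp : ∀ y : G, y ∉ N → f y = 0 := by
    intro y hy
    have h1 := congrFun (eq_sum_irr (isClassFunction_char
      (isCharacter_indFun N (isCharacter_of_irr θ.2)))) y
    rw [indFun_normal_apply_not_mem N _ hy] at h1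
    simp only [Finset.sum_apply, Pi.smul_apply, smul_eq_mul] at h1
    have hco : ∀ χ : IrrCharacter G, classInner (indFun N (θ : N → ℂ)) (χ : G → ℂ) =
        conj (classInner (fun n : N => (χ : G → ℂ) n) (θ : N → ℂ)) := fun χ => by
      rw [frobenius_reciprocity N _ (isClassFunction_irr χ.2), classInner_comm]
    have h2 : ∑ χ ∈ S, (χ : G → ℂ) 1 * (χ : G → ℂ) y = 0 := by
      have e : ∀ χ ∈ S, (χ : G → ℂ) 1 * (χ : G → ℂ) y =
          ((inertia N (θ : N → ℂ)).index : ℂ) * (θ : N → ℂ) 1 *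
            (classInner (indFun N (θ : N → ℂ)) (χ : G → ℂ) * (χ : G → ℂ) y) := by
        intro χ hχ
        obtain ⟨a, ha⟩ := classInner_char_nat
          (isCharacter_restrict (isCharacter_of_irr χ.2) N) (isCharacter_of_irr θ.2)
        rw [hco, clifford_degree N χ.2 θ.2 ((hS χ).1 hχ), ha, Complex.conj_natCast]
        ring
      rw [Finset.sum_congr rfl e, ← Finset.mul_sum,
        Finset.sum_subset (Finset.subset_univ S) fun χ _ hχ => by
          rw [hco, not_not.1 (mt (hS χ).2 hχ), map_zero, zero_mul], ← h1, mul_zero]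
    rw [hf, cf_ind, blockCoeff, finsum_mem_coe_finset,
      Finset.sum_congr rfl fun (χ : IrrCharacter G) (hχ : χ ∈ S) => show (χ : G → ℂ) 1 * conj ((χ : G → ℂ) y) =
        conj ((χ : G → ℂ) 1 * (χ : G → ℂ) y) by rw [map_mul, irr_one_conj],
      ← map_sum, h2, map_zero, mul_zero]
  have hfc : IsClassFunction G f := by rw [hf, cf_ind]; exact blockCoeff_isClassFunction _
  have e : ∑ χ ∈ S, (χ : G → ℂ) x * conj ((χ : G → ℂ) g) =
      ∑ χ : IrrCharacter G, (∑ y, f y * (χ : G → ℂ) (y * x)) * conj ((χ : G → ℂ) g) := by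
    rw [Finset.sum_congr rfl fun (χ : IrrCharacter G) _ =>
      congrArg (· * conj ((χ : G → ℂ) g)) (sum_classFun_mul_shift hfc χ x)]
    simp only [hf, omega_cf, ind, Set.indicator_apply, Finset.mem_coe, ite_mul, one_mul, zero_mul,
      Finset.sum_ite_mem, Finset.univ_inter]
  rw [e]
  simp only [Finset.sum_mul, mul_assoc]
  rw [Finset.sum_comm]
  refine Finset.sum_eq_zero fun y _ => ?_
  by_cases hy : y ∈ N
  · rw [← Finset.mul_sum, sum_irr_mul_conj, if_neg, mul_zero]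
    intro hc
    refine h ?_
    have := (MonoidHom.map_isConj (QuotientGroup.mk' N) hc)
    rwa [map_mul, QuotientGroup.mk'_apply, QuotientGroup.mk'_apply, QuotientGroup.mk'_apply,
      (QuotientGroup.eq_one_iff y).2 hy, one_mul] at this
  · simp only [hsupp y hy, zero_mul, Finset.sum_const_zero]

/-- Exactly one fixed character lies over a fixed character. -/
theorem existsUnique_fixed (hodd : Odd N.index) (hk : k.Coprime (Nat.card G))
    (hk₂ : ∀ g : G, Odd (orderOf g) → g ^ k = g⁻¹)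
    (hθ : ∀ n : N, (θ : N → ℂ) (n ^ k) = (θ : N → ℂ) n) :
    ∃! χ : IrrCharacter G, classInner (fun n : N => (χ : G → ℂ) n) (θ : N → ℂ) ≠ 0 ∧
      ∀ g : G, (χ : G → ℂ) (g ^ k) = (χ : G → ℂ) g := by
  classical
  set S : Finset (IrrCharacter G) := Finset.univ.filter fun χ =>
    classInner (fun n : N => (χ : G → ℂ) n) (θ : N → ℂ) ≠ 0 with hSdef
  have hS : ∀ χ, χ ∈ S ↔ classInner (fun n : N => (χ : G → ℂ) n) (θ : N → ℂ) ≠ 0 := fun χ => by
    simp [hSdef]
  set F := S.filter fun χ : IrrCharacter G => ∀ g : G, (χ : G → ℂ) (g ^ k) = (χ : G → ℂ) g with hF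
  suffices hcard : F.card = 1 by
    obtain ⟨χ, hχ⟩ := Finset.card_eq_one.1 hcard
    have hm : χ ∈ F := hχ ▸ Finset.mem_singleton_self χ
    rw [hF, Finset.mem_filter] at hm
    refine ⟨χ, ⟨(hS χ).1 hm.1, hm.2⟩, fun ψ hψ => Finset.mem_singleton.1 (hχ ▸ ?_)⟩
    exact Finset.mem_filter.2 ⟨(hS ψ).2 hψ.1, hψ.2⟩
  have hC : ∑ χ ∈ S, classInner (fun g => (χ : G → ℂ) (g ^ k)) (χ : G → ℂ) = (F.card : ℂ) := by
    rw [hF, Finset.card_filter, Nat.cast_sum]
    refine Finset.sum_congr rfl fun χ _ => ?_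
    by_cases hχ : ∀ g : G, (χ : G → ℂ) (g ^ k) = (χ : G → ℂ) g
    · rw [if_pos hχ, Nat.cast_one, funext hχ]
      exact classInner_irr_self χ.2
    · rw [if_neg hχ, Nat.cast_zero]
      exact classInner_irr_ne (isIrrCharacter_pow χ.2 hk) χ.2 fun h => hχ (congrFun h)
  have hout : ∀ g : G, g ∉ N → ∑ χ ∈ S, (χ : G → ℂ) (g ^ k) * conj ((χ : G → ℂ) g) = 0 := by
    intro g hg
    refine sum_over_eq_zero (fun hc => hg ?_) S hS
    rw [← QuotientGroup.eq_one_iff]
    refine eq_one_of_conj_inv hodd (IsConj.symm ?_)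
    rwa [show ((g : G ⧸ N))⁻¹ = ((g ^ k : G) : G ⧸ N) from
      (hom_inverted (QuotientGroup.mk' N) hodd hk₂ g).symm]
  have horb : ∀ χ ∈ S, ∀ n : N, (χ : G → ℂ) ((n : G) ^ k) = (χ : G → ℂ) n := by
    intro χ hχ n
    have hcl := clifford N χ.2 θ.2 ((hS χ).1 hχ)
    have e1 := congrFun hcl (n ^ k)
    have e2 := congrFun hcl n
    rw [Subgroup.coe_pow] at e1
    rw [e1, e2]
    simp only [Pi.smul_apply, Finset.sum_apply]
    congr 1
    refine Finset.sum_congr rfl fun ψ hψ => ?_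
    obtain ⟨g, rfl⟩ := (mem_conjOrbit N).1 hψ
    rw [conjNormFun_eq]
    show (θ : N → ℂ) (MulAut.conjNormal g (n ^ k)) = _
    rw [map_pow, hθ]
  have hin : ∀ χ ∈ S, ∑ n : N, (χ : G → ℂ) ((n : G) ^ k) * conj ((χ : G → ℂ) n) =
      (Nat.card N : ℂ) * (classInner (fun n : N => (χ : G → ℂ) n) (θ : N → ℂ) *
        (χ : G → ℂ) 1 / (θ : N → ℂ) 1) := by
    intro χ hχ
    set m := classInner (fun n : N => (χ : G → ℂ) n) (θ : N → ℂ) with hm
    obtain ⟨a, ha⟩ := classInner_char_nat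
      (isCharacter_restrict (isCharacter_of_irr χ.2) N) (isCharacter_of_irr θ.2)
    have h1 : classInner (fun n : N => (χ : G → ℂ) n) (fun n : N => (χ : G → ℂ) n) =
        conj m * ((conjOrbit N (θ : N → ℂ)).card : ℂ) * m := by
      conv_lhs => arg 2; rw [clifford N χ.2 θ.2 ((hS χ).1 hχ)]
      rw [← hm, classInner_smul_right, classInner_sum_right,
        Finset.sum_congr rfl (g := fun _ => m) fun ψ hψ => ?_, Finset.sum_const, nsmul_eq_mul,
        mul_assoc]
      obtain ⟨g, rfl⟩ := (mem_conjOrbit N).1 hψ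
      exact classInner_res_conjNormFun N g (isClassFunction_irr χ.2) _
    rw [Finset.sum_congr rfl fun (n : N) _ => congrArg (· * conj ((χ : G → ℂ) n)) (horb χ hχ n),
      clifford_degree N χ.2 θ.2 ((hS χ).1 hχ), ← hm, ← mul_assoc m,
      mul_div_cancel_right₀ _ (irr_one_ne_zero θ), show m * (m * ((inertia N (θ : N → ℂ)).index : ℂ)) =
        conj m * ((inertia N (θ : N → ℂ)).index : ℂ) * m from by
        rw [hm, ha, Complex.conj_natCast]; ring, ← card_conjOrbit, ← h1]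
    rw [classInner, mul_inv_cancel_left₀ (Nat.cast_ne_zero.2 Nat.card_pos.ne')]
  have hsum : ∑ χ ∈ S, classInner (fun n : N => (χ : G → ℂ) n) (θ : N → ℂ) * (χ : G → ℂ) 1 =
      (N.index : ℂ) * (θ : N → ℂ) 1 := by
    rw [Finset.sum_subset (Finset.subset_univ S) fun χ _ hχ => by
      rw [not_not.1 (mt (hS χ).2 hχ), zero_mul], ← indFun_apply_one]
    conv_rhs => rw [congrFun (eq_sum_irr (isClassFunction_char
      (isCharacter_indFun N (isCharacter_of_irr θ.2)))) 1]
    simp only [Finset.sum_apply, Pi.smul_apply, smul_eq_mul]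
    refine Finset.sum_congr rfl fun χ _ => ?_
    obtain ⟨a, ha⟩ := classInner_char_nat
      (isCharacter_restrict (isCharacter_of_irr χ.2) N) (isCharacter_of_irr θ.2)
    rw [frobenius_reciprocity N _ (isClassFunction_irr χ.2), ← classInner_comm (fun n : N =>
      (χ : G → ℂ) n) (θ : N → ℂ), ha, Complex.conj_natCast]
  rw [← Nat.cast_inj (R := ℂ), Nat.cast_one, ← hC]
  simp only [classInner]
  rw [← Finset.mul_sum, Finset.sum_comm,
    ← Finset.sum_filter_of_ne (p := fun g : G => g ∈ N) (fun g _ hne => by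
      by_contra hg; exact hne (hout g hg)),
    Finset.sum_subtype (p := fun g : G => g ∈ N) _ (fun g => by simp)]
  rw [Finset.sum_comm, Finset.sum_congr rfl hin, ← Finset.mul_sum, ← Finset.sum_div, hsum,
    mul_div_cancel_right₀ _ (irr_one_ne_zero θ), ← Nat.cast_mul, Subgroup.card_mul_index,
    inv_mul_cancel₀ (Nat.cast_ne_zero.2 Nat.card_pos.ne')]

/-- When the fixed character extends, its fixed extension is the fixed character over it. -/
theorem fixed_restricts (hodd : Odd N.index) (hk : k.Coprime (Nat.card G))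
    (hk₂ : ∀ g : G, Odd (orderOf g) → g ^ k = g⁻¹)
    (hθ : ∀ n : N, (θ : N → ℂ) (n ^ k) = (θ : N → ℂ) n)
    (hext : ∃ χ₀ : G → ℂ, IsIrrCharacter G χ₀ ∧ ∀ n : N, χ₀ n = (θ : N → ℂ) n)
    {χ : IrrCharacter G} (hc : classInner (fun n : N => (χ : G → ℂ) n) (θ : N → ℂ) ≠ 0)
    (hfix : ∀ g : G, (χ : G → ℂ) (g ^ k) = (χ : G → ℂ) g) (n : N) :
    (χ : G → ℂ) n = (θ : N → ℂ) n := by
  classical
  obtain ⟨χ₀, hχ₀, hres₀⟩ := hext
  have hresirr : IsIrrCharacter N (fun n : N => χ₀ n) := (funext hres₀ : _ = (θ : N → ℂ)) ▸ θ.2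
  have hG := gallagher N (isCharacter_of_irr hχ₀) hresirr
  have hσ : IsIrrCharacter G (fun g => χ₀ (g ^ k)) := isIrrCharacter_pow hχ₀ hk
  obtain ⟨lam, hlam, hlamN, hlameq⟩ := hG.2.2 _ hσ (by
    rw [show (fun n : N => χ₀ ((n : G) ^ k)) = fun n : N => χ₀ n from funext fun n => by
      rw [← Subgroup.coe_pow, hres₀, hθ, hres₀]]
    rw [classInner_irr_self hresirr]
    exact one_ne_zero)
  have h01 : χ₀ 1 ≠ 0 := irr_ne_zero hχ₀
  have hlam1 : lam 1 = 1 := by
    have := congrFun hlameq 1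
    simp only [Pi.mul_apply, one_pow] at this
    exact (mul_eq_right₀ h01).1 this.symm
  obtain ⟨φ, rfl⟩ := exists_hom_of_degree_one (isCharacter_of_irr hlam) hlam1
  have hφN : ∀ n ∈ N, φ n = 1 := fun n hn => Units.ext (by simpa using hlamN n hn)
  let ψ : G ⧸ N →* ℂˣ := QuotientGroup.lift N φ fun n hn => hφN n hn
  obtain ⟨j, hj⟩ := hodd
  set μ : G →* ℂˣ := φ ^ (j + 1) with hμ
  have hμN : ∀ n ∈ N, μ n = 1 := fun n hn => by
    rw [hμ, MonoidHom.pow_apply, hφN n hn, one_pow]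
  have hμk : ∀ g, μ (g ^ k) * φ g = μ g := by
    intro g
    have h1 : φ (g ^ k) = (φ g)⁻¹ := by
      have h := hom_inverted (QuotientGroup.mk' N) (⟨j, hj⟩) hk₂ g
      have h' := congrArg ψ h
      rw [map_inv] at h'
      exact h'
    have h2 : φ g ^ (2 * j + 1) = 1 := by
      rw [← hj, ← map_pow]
      exact hφN _ (N.pow_index_mem g)
    rw [hμ, MonoidHom.pow_apply, MonoidHom.pow_apply, h1, inv_pow, inv_mul_eq_iff_eq_mul,
      ← pow_add, show j + 1 + (j + 1) = 2 * j + 1 + 1 by ring, pow_succ, h2, one_mul]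
  have hψ : IsIrrCharacter G ((fun g => (μ g : ℂ)) * χ₀) :=
    hG.1 _ (isIrrCharacter_linear μ) fun n hn => by simp [hμN n hn]
  have hψN : ∀ n : N, ((fun g => (μ g : ℂ)) * χ₀) n = (θ : N → ℂ) n := fun n => by
    simp [hμN n n.2, hres₀]
  obtain ⟨χu, -, huniq⟩ := existsUnique_fixed ⟨j, hj⟩ hk hk₂ hθ
  rw [huniq χ ⟨hc, hfix⟩, ← huniq ⟨_, hψ⟩ ⟨?_, ?_⟩]
  · exact hψN n
  · show classInner (fun n : N => ((fun g => (μ g : ℂ)) * χ₀) n) (θ : N → ℂ) ≠ 0
    rw [funext hψN, classInner_irr_self θ.2]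
    exact one_ne_zero
  · intro g
    show (μ (g ^ k) : ℂ) * χ₀ (g ^ k) = (μ g : ℂ) * χ₀ g
    have := congrFun hlameq g
    simp only [Pi.mul_apply] at this
    rw [this, ← mul_assoc, ← Units.val_mul, hμk]

end CfsgLib.CharTheory.InvertingGalois

namespace CfsgLib.CharTheory.InvertingGalois

open Cfsg CfsgLib.CharTheory

universe u

/-- A fixed invariant character extends over an odd quotient of prime power order. -/
theorem exists_ext_primePow {q : ℕ} [Fact q.Prime] (a : ℕ) :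
    ∀ {G : Type u} [Group G] [Fintype G] {N : Subgroup G} [hN : N.Normal] [Fintype N] {k : ℕ}
      (θ : IrrCharacter N), N.index = q ^ a → Odd N.index → k.Coprime (Nat.card G) →
      (∀ g : G, Odd (orderOf g) → g ^ k = g⁻¹) →
      (∀ n : N, (θ : N → ℂ) (n ^ k) = (θ : N → ℂ) n) →
      (∀ (g : G) (n : N), (θ : N → ℂ) ⟨g * n * g⁻¹, hN.conj_mem n n.2 g⟩ = (θ : N → ℂ) n) →
      ∃ χ : G → ℂ, IsIrrCharacter G χ ∧ ∀ n : N, χ n = (θ : N → ℂ) n := by
  induction a with
  | zero =>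
    intro G _ _ N hN _ k θ hidx hodd hk hk₂ hθ hinv
    refine exists_extension_of_cyclic θ.2 hinv ?_
    have : Subsingleton (G ⧸ N) := (Nat.card_eq_one_iff_unique.1
      (show Nat.card (G ⧸ N) = 1 by rw [← Subgroup.index, hidx, pow_zero])).1
    exact isCyclic_of_subsingleton
  | succ a ih =>
    intro G _ _ N hN _ k θ hidx hodd hk hk₂ hθ hinv
    classical
    have hQ : Nat.card (G ⧸ N) = q ^ (a + 1) := hidx
    obtain ⟨K', hK'⟩ := Sylow.exists_subgroup_card_pow_prime q (n := a)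
      (show q ^ a ∣ Nat.card (G ⧸ N) from hQ ▸ pow_dvd_pow q (Nat.le_succ a))
    have hK'i : K'.index = q := by
      have h := K'.card_mul_index
      rw [hK', hQ, pow_succ] at h
      exact Nat.eq_of_mul_eq_mul_left (pow_pos (Fact.out : q.Prime).pos a) h
    haveI : K'.Normal := by
      refine Subgroup.normal_of_index_eq_minFac_card ?_
      rw [hK'i, hQ, Nat.Prime.pow_minFac Fact.out a.succ_ne_zero]
    set K : Subgroup G := K'.comap (QuotientGroup.mk' N) with hK
    haveI : K.Normal := Subgroup.normal_comap _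
    have hNK : N ≤ K := fun n hn => by
      rw [hK, Subgroup.mem_comap, QuotientGroup.mk'_apply, (QuotientGroup.eq_one_iff n).2 hn]
      exact K'.one_mem
    haveI := Fintype.ofFinite K
    haveI := Fintype.ofFinite (N.subgroupOf K)
    have hKi : K.index = q := by
      rw [hK, Subgroup.index_comap_of_surjective _ (QuotientGroup.mk'_surjective N), hK'i]
    have hidx' : (N.subgroupOf K).index = q ^ a := by
      have h := Subgroup.relIndex_mul_index hNK
      rw [hKi, hidx, pow_succ] at h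
      exact Nat.eq_of_mul_eq_mul_right (Fact.out : q.Prime).pos h
    let θ' : IrrCharacter (N.subgroupOf K) :=
      ⟨fun x => (θ : N → ℂ) ⟨(x : K), Subgroup.mem_subgroupOf.mp x.2⟩, isIrr_subgroupOf N hNK θ.2⟩
    have hk' : k.Coprime (Nat.card K) := hk.coprime_dvd_right (Subgroup.card_subgroup_dvd_card K)
    have hk₂' : ∀ g : K, Odd (orderOf g) → g ^ k = g⁻¹ := fun g hg => Subtype.ext
      (by simpa using hk₂ (g : G) (by rwa [Subgroup.orderOf_coe]))
    have hodd' : Odd (N.subgroupOf K).index :=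
      hodd.of_dvd_nat (show N.relIndex K ∣ N.index from Subgroup.relIndex_dvd_index_of_le hNK)
    have hθ' : ∀ n : N.subgroupOf K, (θ' : N.subgroupOf K → ℂ) (n ^ k) =
        (θ' : N.subgroupOf K → ℂ) n := fun n => by
      show (θ : N → ℂ) _ = (θ : N → ℂ) _
      rw [← hθ ⟨((n : K) : G), Subgroup.mem_subgroupOf.mp n.2⟩]
      exact congrArg _ (Subtype.ext (by simp))
    obtain ⟨ξ₀, hξ₀, hξ₀N⟩ := ih θ' hidx' hodd' hk' hk₂' hθ' fun g n => by
      show (θ : N → ℂ) _ = (θ : N → ℂ) _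
      rw [← hinv (g : G) ⟨((n : K) : G), Subgroup.mem_subgroupOf.mp n.2⟩]
      exact congrArg _ (Subtype.ext rfl)
    obtain ⟨ξ, ⟨hξc, hξk⟩, huniq⟩ := existsUnique_fixed hodd' hk' hk₂' hθ'
    have hξN : ∀ n : N.subgroupOf K, (ξ : K → ℂ) n = (θ' : N.subgroupOf K → ℂ) n :=
      fixed_restricts hodd' hk' hk₂' hθ' ⟨ξ₀, hξ₀, hξ₀N⟩ hξc hξk
    have hξinv : ∀ g : G, conjNormFun K g (ξ : K → ℂ) = (ξ : K → ℂ) := by
      intro g
      have hres : ∀ n : N.subgroupOf K, conjNormFun K g (ξ : K → ℂ) n =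
          (θ' : N.subgroupOf K → ℂ) n := fun n => by
        have hmem : g * ((n : K) : G) * g⁻¹ ∈ N :=
          hN.conj_mem _ (Subgroup.mem_subgroupOf.mp n.2) g
        have h1 := hξN ⟨⟨_, hNK hmem⟩, Subgroup.mem_subgroupOf.mpr hmem⟩
        show (ξ : K → ℂ) _ = (θ : N → ℂ) _
        rw [← hinv g ⟨((n : K) : G), Subgroup.mem_subgroupOf.mp n.2⟩]
        exact h1
      refine congrArg Subtype.val (huniq ⟨_, isIrr_conjNormFun K g ξ.2⟩ ⟨?_, fun x => ?_⟩)
      · rw [show (fun n : N.subgroupOf K => conjNormFun K g (ξ : K → ℂ) n) =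
          (θ' : N.subgroupOf K → ℂ) from funext hres, classInner_irr_self θ'.2]
        exact one_ne_zero
      · show (ξ : K → ℂ) _ = (ξ : K → ℂ) _
        conv_rhs => rw [← hξk]
        exact congrArg _ (Subtype.ext (by simp [conj_pow]))
    have hcyc : IsCyclic (G ⧸ K) := isCyclic_of_prime_card (p := q) hKi
    obtain ⟨χ, hχ, hχK⟩ := exists_extension_of_cyclic ξ.2
      (fun g x => congrFun (hξinv g) x) hcyc
    refine ⟨χ, hχ, fun n => ?_⟩
    rw [show (n : G) = ((⟨(n : G), hNK n.2⟩ : K) : G) from rfl, hχK]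
    exact hξN ⟨⟨(n : G), hNK n.2⟩, Subgroup.mem_subgroupOf.mpr n.2⟩

/-- A fixed invariant character extends over an odd quotient. -/
theorem exists_ext {G : Type u} [Group G] [Fintype G] {N : Subgroup G} [hN : N.Normal] [Fintype N]
    {k : ℕ} (θ : IrrCharacter N) (hodd : Odd N.index) (hk : k.Coprime (Nat.card G))
    (hk₂ : ∀ g : G, Odd (orderOf g) → g ^ k = g⁻¹)
    (hθ : ∀ n : N, (θ : N → ℂ) (n ^ k) = (θ : N → ℂ) n)
    (hinv : ∀ (g : G) (n : N), (θ : N → ℂ) ⟨g * n * g⁻¹, hN.conj_mem n n.2 g⟩ = (θ : N → ℂ) n) :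
    ∃ χ : G → ℂ, IsIrrCharacter G χ ∧ ∀ n : N, χ n = (θ : N → ℂ) n := by
  classical
  refine exists_extension_of_local θ.2 hinv fun q hq => ?_
  haveI : Fact q.Prime := ⟨hq⟩
  obtain ⟨S⟩ : Nonempty (Sylow q (G ⧸ N)) := inferInstance
  set P : Subgroup G := (S : Subgroup (G ⧸ N)).comap (QuotientGroup.mk' N) with hP
  have hNP : N ≤ P := fun n hn => by
    rw [hP, Subgroup.mem_comap, QuotientGroup.mk'_apply, (QuotientGroup.eq_one_iff n).2 hn]
    exact S.one_mem
  have hPi : P.index = (S : Subgroup (G ⧸ N)).index := by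
    rw [hP, Subgroup.index_comap_of_surjective _ (QuotientGroup.mk'_surjective N)]
  haveI := Fintype.ofFinite P
  haveI := Fintype.ofFinite (N.subgroupOf P)
  obtain ⟨a, ha⟩ := IsPGroup.exists_card_eq S.2
  have hidx : (N.subgroupOf P).index = q ^ a := by
    have h := Subgroup.relIndex_mul_index hNP
    rw [hPi, show N.index = Nat.card (S : Subgroup (G ⧸ N)) * (S : Subgroup (G ⧸ N)).index from
      (S : Subgroup (G ⧸ N)).card_mul_index.symm, ha] at h
    exact Nat.eq_of_mul_eq_mul_right (Nat.pos_of_ne_zero Subgroup.index_ne_zero_of_finite) h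
  obtain ⟨χ, hχ, hres⟩ := exists_ext_primePow (q := q) a
    (⟨fun x => (θ : N → ℂ) ⟨(x : P), Subgroup.mem_subgroupOf.mp x.2⟩, isIrr_subgroupOf N hNP θ.2⟩ :
      IrrCharacter (N.subgroupOf P)) hidx
    (hodd.of_dvd_nat (show N.relIndex P ∣ N.index from Subgroup.relIndex_dvd_index_of_le hNP))
    (k := k) (hk.coprime_dvd_right (Subgroup.card_subgroup_dvd_card P))
    (fun g hg => Subtype.ext (by simpa using hk₂ (g : G) (by rwa [Subgroup.orderOf_coe])))
    (fun n => by
      show (θ : N → ℂ) _ = (θ : N → ℂ) _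
      rw [← hθ ⟨((n : P) : G), Subgroup.mem_subgroupOf.mp n.2⟩]
      exact congrArg _ (Subtype.ext (by simp)))
    (fun g n => by
      show (θ : N → ℂ) _ = (θ : N → ℂ) _
      rw [← hinv (g : G) ⟨((n : P) : G), Subgroup.mem_subgroupOf.mp n.2⟩]
      exact congrArg _ (Subtype.ext rfl))
  exact ⟨P, hNP, χ, hPi ▸ S.not_dvd_index, isCharacter_of_irr hχ, fun n =>
    hres ⟨⟨(n : G), hNP n.2⟩, Subgroup.mem_subgroupOf.mpr n.2⟩⟩

end CfsgLib.CharTheory.InvertingGalois
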