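import Mathlib
import Cfsg.Agent.Lib.CharTheory.FrobeniusSchur
import Cfsg.Agent.Lib.CharTheory.More

/-!
Counting involutions with the indicator: Brauer–Fowler bounds.
-/

namespace CfsgLib.CharTheory

open Cfsg
open scoped ComplexConjugate

universe u

variable {G : Type u} [Group G] [Fintype G]

/-- Nonprincipal real irreducible characters carry all the involutions. -/
theorem involutions_le_sum_real_degree (t : ℕ) (ht : Nat.card {x : G // orderOf x = 2} = t) :
    ∃ S : Finset (IrrCharacter G), (∀ χ ∈ S, (χ : G → ℂ) ≠ (fun _ => 1) ∧ ∀ g, ((χ : G → ℂ) g).im = 0) ∧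
      t ≤ ∑ χ ∈ S, charDegree (χ : G → ℂ) ∧
      (∑ χ ∈ S, charDegree (χ : G → ℂ) ^ 2) + 1 ≤ Nat.card G ∧
      S.card + 1 ≤ Nat.card (ConjClasses G) := by
  classical
  let t₁ : IrrCharacter G := ⟨fun _ => 1, isIrrCharacter_one⟩
  let S : Finset (IrrCharacter G) :=
    Finset.univ.filter fun χ => χ ≠ t₁ ∧ ∀ g, ((χ : G → ℂ) g).im = 0
  have ht₁ : t₁ ∉ S := fun h => (Finset.mem_filter.1 h).2.1 rfl
  refine ⟨S, fun χ hχ => ⟨fun e => (Finset.mem_filter.1 hχ).2.1 (Subtype.ext e),
    (Finset.mem_filter.1 hχ).2.2⟩, ?_, ?_, ?_⟩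
  · let θ : G → ℂ := fun g => ∑ u : G, if u * u = g then 1 else 0
    have hθ : IsClassFunction G θ := fun g h =>
      Fintype.sum_equiv (MulAut.conj h⁻¹).toEquiv _ _ fun u => if_congr (by
        show u * u = h * g * h⁻¹ ↔ h⁻¹ * u * h⁻¹⁻¹ * (h⁻¹ * u * h⁻¹⁻¹) = g
        constructor
        · intro e
          rw [show h⁻¹ * u * h⁻¹⁻¹ * (h⁻¹ * u * h⁻¹⁻¹) = h⁻¹ * (u * u) * h by group, e]; group
        · intro e
          rw [← e]; group) rfl rfl
    have hco : ∀ χ : IrrCharacter G, classInner θ (χ : G → ℂ) =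
        (Nat.card G : ℂ)⁻¹ * conj (∑ u : G, (χ : G → ℂ) (u * u)) := fun χ => by
      simp only [classInner, θ, Finset.sum_mul, map_sum]
      rw [Finset.sum_comm]
      simp
    have h1 := congrFun (eq_sum_irr hθ) 1
    simp only [Finset.sum_apply, Pi.smul_apply, smul_eq_mul, hco] at h1
    have h0 : θ 1 = ((1 + t : ℕ) : ℂ) := by
      show (∑ u : G, if u * u = 1 then (1 : ℂ) else 0) = _
      rw [Finset.sum_boole, ← ht]
      congr 1
      have e : Finset.univ.filter (fun u : G => u * u = 1) =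
          insert 1 (Finset.univ.filter fun u : G => orderOf u = 2) := by
        ext u
        simp only [Finset.mem_filter, Finset.mem_univ, true_and, Finset.mem_insert, ← pow_two]
        constructor
        · intro h
          by_cases hu : u = 1
          · exact Or.inl hu
          · exact Or.inr (orderOf_eq_prime h hu)
        · rintro (rfl | h)
          · exact one_pow 2
          · rw [← h, pow_orderOf_eq_one]
      rw [e, Finset.card_insert_of_notMem (by simp), Nat.card_eq_fintype_card, Fintype.card_subtype,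
        add_comm]
    have hc : ∀ χ : IrrCharacter G, ((Nat.card G : ℂ)⁻¹ * conj (∑ u : G, (χ : G → ℂ) (u * u))).re ≤ 1 ∧
        ((¬ ∀ g, ((χ : G → ℂ) g).im = 0) → (Nat.card G : ℂ)⁻¹ * conj (∑ u : G, (χ : G → ℂ) (u * u)) = 0) := by
      intro χ
      obtain ⟨n, ρ, hρ, hρc⟩ := χ.2
      haveI := hρ
      rw [← hρc]
      rcases frobenius_schur ρ with ⟨-, hz⟩ | ⟨ε, hε, h2, h3, -⟩
      · rw [hz, map_zero, mul_zero]
        exact ⟨by simp, fun _ => rfl⟩
      · refine ⟨?_, fun hr => absurd (fun g => ?_) hr⟩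
        · rw [h3, map_mul, map_natCast, ← mul_assoc, mul_comm (Nat.card G : ℂ)⁻¹, mul_assoc,
            inv_mul_cancel₀ (Nat.cast_ne_zero.mpr Nat.card_pos.ne'), mul_one]
          rcases hε with rfl | rfl <;> simp
        · have hirr := isIrrCharacter_character ρ
          have hne' : classInner ρ.character (fun g => conj (ρ.character g)) ≠ 0 := by
            simp [classInner, h2]
          have he : ρ.character = fun g => conj (ρ.character g) := by
            by_contra h3
            exact hne' (classInner_irr_ne hirr (isIrrCharacter_conjChar hirr) h3)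
          exact Complex.conj_eq_iff_im.mp (congrFun he g).symm
    have hdeg : ∀ χ : IrrCharacter G, (χ : G → ℂ) 1 = ((charDegree (χ : G → ℂ) : ℕ) : ℂ) :=
      fun χ => (charDegree_spec' χ.2).1
    rw [h0] at h1
    simp only [hdeg] at h1
    have h2 := congrArg Complex.re h1
    rw [Complex.natCast_re, Complex.re_sum] at h2
    have hle : ∀ χ : IrrCharacter G,
        (((Nat.card G : ℂ)⁻¹ * conj (∑ u : G, (χ : G → ℂ) (u * u))) * ((charDegree (χ : G → ℂ) : ℕ) : ℂ)).re
          ≤ if χ ∈ insert t₁ S then (charDegree (χ : G → ℂ) : ℝ) else 0 := by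
      intro χ
      rw [Complex.mul_re, Complex.natCast_re, Complex.natCast_im, mul_zero, sub_zero]
      split_ifs with hm
      · exact mul_le_of_le_one_left (Nat.cast_nonneg _) (hc χ).1
      · have hr : ¬ ∀ g, ((χ : G → ℂ) g).im = 0 := fun hr => hm (by
          by_cases e : χ = t₁
          · rw [e]; exact Finset.mem_insert_self _ _
          · exact Finset.mem_insert_of_mem (Finset.mem_filter.2 ⟨Finset.mem_univ _, e, hr⟩))
        rw [(hc χ).2 hr]; simp
    have h3 := h2.le.trans (Finset.sum_le_sum fun χ _ => hle χ)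
    rw [Finset.sum_ite_mem, Finset.univ_inter, Finset.sum_insert ht₁] at h3
    have h4 : charDegree (t₁ : G → ℂ) = 1 := by simp [charDegree, t₁]
    rw [h4] at h3
    have h5 : (1 + t : ℝ) ≤ 1 + ((∑ χ ∈ S, charDegree (χ : G → ℂ) : ℕ) : ℝ) := by
      push_cast at h3 ⊢
      exact h3
    exact_mod_cast le_of_add_le_add_left h5
  · have h := sum_irr_degree_sq (G := G)
    simp only [fun χ : IrrCharacter G => (charDegree_spec' χ.2).1] at h
    have h' : ∑ χ : IrrCharacter G, charDegree (χ : G → ℂ) ^ 2 = Nat.card G := by exact_mod_cast h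
    have h4 : charDegree (t₁ : G → ℂ) = 1 := by simp [charDegree, t₁]
    calc (∑ χ ∈ S, charDegree (χ : G → ℂ) ^ 2) + 1
        = ∑ χ ∈ insert t₁ S, charDegree (χ : G → ℂ) ^ 2 := by
          rw [Finset.sum_insert ht₁, h4, one_pow, add_comm]
      _ ≤ _ := h' ▸ Finset.sum_le_sum_of_subset (Finset.subset_univ _)
  · rw [← card_irr_eq_card_conjClasses, Nat.card_eq_fintype_card, ← Finset.card_insert_of_notMem ht₁]
    exact Finset.card_le_univ _

/-- The bounds of Brauer and Fowler. -/
theorem brauer_fowler_real_degree (heven : Even (Nat.card G)) (t : ℕ)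
    (ht : Nat.card {x : G // orderOf x = 2} = t) :
    (∃ x : G, x ≠ 1 ∧ ((Subgroup.centralizer ({x} : Set G)).index : ℚ) ≤ (((Nat.card G : ℚ) - 1) / t) ^ 2) ∧
      ∃ χ : IrrCharacter G, (χ : G → ℂ) ≠ (fun _ => 1) ∧ (∀ g : G, ((χ : G → ℂ) g).im = 0) ∧
        (charDegree (χ : G → ℂ) : ℚ) ≤ ((Nat.card G : ℚ) - 1) / t := by
  classical
  obtain ⟨S, hS, h1, h2, h3⟩ := involutions_le_sum_real_degree t ht
  obtain ⟨z, hz⟩ := exists_prime_orderOf_dvd_card' (G := G) 2 (even_iff_two_dvd.mp heven)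
  have htpos : 0 < t := by
    rw [← ht]
    haveI : Nonempty {x : G // orderOf x = 2} := ⟨⟨z, hz⟩⟩
    exact Nat.card_pos
  have htq : (0 : ℚ) < t := by exact_mod_cast htpos
  have h1q : (t : ℚ) ≤ ∑ χ ∈ S, (charDegree (χ : G → ℂ) : ℚ) := by exact_mod_cast h1
  have h2q : (∑ χ ∈ S, (charDegree (χ : G → ℂ) : ℚ) ^ 2) ≤ (Nat.card G : ℚ) - 1 := by
    have : ((∑ χ ∈ S, charDegree (χ : G → ℂ) ^ 2 : ℕ) : ℚ) + 1 ≤ (Nat.card G : ℚ) := by exact_mod_cast h2
    push_cast at this
    linarith
  have hne : S.Nonempty := Finset.nonempty_of_ne_empty fun e => by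
    rw [e, Finset.sum_empty] at h1; omega
  have hg : 0 ≤ (Nat.card G : ℚ) - 1 := le_trans (Finset.sum_nonneg fun χ _ => sq_nonneg _) h2q
  refine ⟨?_, ?_⟩
  · have hk : (t : ℚ) ^ 2 ≤ (S.card : ℚ) * ((Nat.card G : ℚ) - 1) :=
      calc (t : ℚ) ^ 2 ≤ (∑ χ ∈ S, (charDegree (χ : G → ℂ) : ℚ)) ^ 2 := pow_le_pow_left₀ htq.le h1q 2
        _ ≤ (S.card : ℚ) * ∑ χ ∈ S, (charDegree (χ : G → ℂ) : ℚ) ^ 2 := sq_sum_le_card_mul_sum_sq
        _ ≤ _ := mul_le_mul_of_nonneg_left h2q (Nat.cast_nonneg _)
    by_contra hcon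
    push Not at hcon
    set α : ℚ := ((Nat.card G : ℚ) - 1) / t
    have hcl : ∀ C : ConjClasses G, C ≠ ConjClasses.mk 1 → α ^ 2 < (C.carrier.toFinset.card : ℚ) := by
      intro C hC
      induction C using Quotient.inductionOn with
      | _ x =>
        have hx : x ≠ 1 := fun e => hC (by rw [e]; rfl)
        have e : (ConjClasses.carrier (ConjClasses.mk x)).toFinset.card =
            (Subgroup.centralizer ({x} : Set G)).index := by
          have ha := card_isConj_mul_card_centralizer x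
          have hb := Subgroup.card_mul_index (Subgroup.centralizer ({x} : Set G))
          rw [mul_comm] at hb
          rw [Nat.eq_of_mul_eq_mul_right Nat.card_pos (hb.trans ha.symm), Nat.card_eq_fintype_card,
            Fintype.card_subtype]
          congr 1
          ext y
          rw [Set.mem_toFinset, ConjClasses.mem_carrier_iff_mk_eq, ConjClasses.mk_eq_mk_iff_isConj, isConj_comm]
          simp
        show α ^ 2 < ((ConjClasses.carrier (ConjClasses.mk x)).toFinset.card : ℚ)
        rw [e]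
        exact hcon x hx
    have hsum := sum_conjClasses_card_eq_card (G := G)
    rw [← Finset.add_sum_erase _ _ (Finset.mem_univ (ConjClasses.mk (1 : G)))] at hsum
    set T := (Finset.univ : Finset (ConjClasses G)).erase (ConjClasses.mk 1)
    have hTc : S.card ≤ T.card := by
      rw [Finset.card_erase_of_mem (Finset.mem_univ _), Finset.card_univ, ← Nat.card_eq_fintype_card]
      omega
    have hone : (ConjClasses.carrier (ConjClasses.mk (1 : G))).toFinset.card = 1 := by
      have : (ConjClasses.carrier (ConjClasses.mk (1 : G))).toFinset = {1} := by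
        ext y
        simp [ConjClasses.mem_carrier_iff_mk_eq, ConjClasses.mk_eq_mk_iff_isConj]
      rw [this, Finset.card_singleton]
    have hT : (∑ C ∈ T, (C.carrier.toFinset.card : ℚ)) = (Nat.card G : ℚ) - 1 := by
      rw [hone, ← Nat.card_eq_fintype_card] at hsum
      rw [← hsum]; push_cast; ring
    have hTne : T.Nonempty := Finset.card_pos.1 (lt_of_lt_of_le hne.card_pos hTc)
    have hlt : (T.card : ℚ) * α ^ 2 < (Nat.card G : ℚ) - 1 := by
      rw [← hT, ← nsmul_eq_mul, ← Finset.sum_const]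
      exact Finset.sum_lt_sum_of_nonempty hTne fun C hC => hcl C (Finset.mem_erase.1 hC).1
    have hSc : (S.card : ℚ) ≤ T.card := by exact_mod_cast hTc
    have hgt : (t : ℚ) ^ 2 * α ^ 2 = ((Nat.card G : ℚ) - 1) ^ 2 := by
      simp only [α]; field_simp
    have h5 : ((Nat.card G : ℚ) - 1) ^ 2 ≤ (T.card : ℚ) * α ^ 2 * ((Nat.card G : ℚ) - 1) :=
      calc ((Nat.card G : ℚ) - 1) ^ 2 = (t : ℚ) ^ 2 * α ^ 2 := hgt.symm
        _ ≤ (S.card : ℚ) * ((Nat.card G : ℚ) - 1) * α ^ 2 := mul_le_mul_of_nonneg_right hk (sq_nonneg _)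
        _ ≤ (T.card : ℚ) * ((Nat.card G : ℚ) - 1) * α ^ 2 :=
          mul_le_mul_of_nonneg_right (mul_le_mul_of_nonneg_right hSc hg) (sq_nonneg _)
        _ = _ := by ring
    rcases hg.eq_or_lt with h0 | h0
    · have := mul_nonneg (Nat.cast_nonneg (α := ℚ) T.card) (sq_nonneg α)
      linarith
    · rw [pow_two] at h5
      have := le_of_mul_le_mul_right h5 h0
      linarith
  · by_contra hcon
    push Not at hcon
    set α : ℚ := ((Nat.card G : ℚ) - 1) / t
    have hα : 0 ≤ α := div_nonneg hg htq.le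
    have hd : ∀ χ ∈ S, α < (charDegree (χ : G → ℂ) : ℚ) := fun χ hχ => hcon χ (hS χ hχ).1 (hS χ hχ).2
    have h6 : α * ∑ χ ∈ S, (charDegree (χ : G → ℂ) : ℚ) < ∑ χ ∈ S, (charDegree (χ : G → ℂ) : ℚ) ^ 2 := by
      rw [Finset.mul_sum]
      refine Finset.sum_lt_sum_of_nonempty hne fun χ hχ => ?_
      rw [pow_two]
      exact mul_lt_mul_of_pos_right (hd χ hχ) (hα.trans_lt (hd χ hχ))
    have h7 : α * t = (Nat.card G : ℚ) - 1 := div_mul_cancel₀ _ htq.ne'
    have := mul_le_mul_of_nonneg_left h1q hα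
    linarith

end CfsgLib.CharTheory
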