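import Mathlib
import Cfsg.Agent.Lib.CharTheory.FrobeniusSchur
import Cfsg.Agent.Lib.CharTheory.Monomial
import Cfsg.Agent.Lib.CharTheory.PermChar

/-! Indicators of the constituents of a permutation character. -/

namespace CfsgLib.CharTheory

open Cfsg
open scoped ComplexConjugate

universe u

variable {G : Type u} [Group G] [Fintype G]

/-- The indicator is non-zero only on real characters, and is then `1` or `-1`. -/
theorem indicator_trichotomy {χ : G → ℂ} (hχ : IsIrrCharacter G χ) :
    ((Nat.card G : ℂ)⁻¹ * ∑ g : G, χ (g * g) = 0) ∨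
      ((∀ g, conj (χ g) = χ g) ∧ ((Nat.card G : ℂ)⁻¹ * ∑ g : G, χ (g * g) = 1 ∨
        (Nat.card G : ℂ)⁻¹ * ∑ g : G, χ (g * g) = -1)) := by
  obtain ⟨n, ρ, hρ, rfl⟩ := hχ
  haveI := hρ
  rcases frobenius_schur ρ with ⟨-, hz⟩ | ⟨ε, hε, h2, h3, -⟩
  · left; rw [hz, mul_zero]
  · right
    have hirr := isIrrCharacter_character ρ
    refine ⟨?_, ?_⟩
    · have hne' : classInner ρ.character (fun g => conj (ρ.character g)) ≠ 0 := by
        simp [classInner, h2]
      have he : ρ.character = fun g => conj (ρ.character g) := by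
        by_contra h3
        exact hne' (classInner_irr_ne hirr (isIrrCharacter_conjChar hirr) h3)
      exact fun g => (congrFun he g).symm
    · rw [h3, mul_comm ε, ← mul_assoc, inv_mul_cancel₀ (Nat.cast_ne_zero.mpr Nat.card_pos.ne'), one_mul]
      exact hε

theorem unique_plus_constituent_iff (H : Subgroup G) :
    Nat.card {χ : IrrCharacter G // classInner (indFun H (fun _ : H => (1 : ℂ))) (χ : G → ℂ) ≠ 0 ∧
      (∀ g : G, conj ((χ : G → ℂ) g) = (χ : G → ℂ) g) ∧
      (Nat.card G : ℂ)⁻¹ * ∑ g : G, (χ : G → ℂ) (g * g) = 1} = 1 ↔ Odd H.normalCore.index := by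
  classical
  have := Fintype.ofFinite H
  set π := indFun H (fun _ : H => (1 : ℂ)) with hπdef
  have hG : (Nat.card G : ℂ) ≠ 0 := Nat.cast_ne_zero.mpr Nat.card_pos.ne'
  let t₁ : IrrCharacter G := ⟨fun _ => 1, isIrrCharacter_one⟩
  have hπc : IsCharacter G π := isCharacter_indFun H isCharacter_one
  have h1c : classInner π (t₁ : G → ℂ) = 1 := by
    rw [hπdef, frobenius_reciprocity H _ (isClassFunction_irr t₁.2)]
    exact classInner_irr_self (χ := fun _ : H => (1 : ℂ)) isIrrCharacter_one
  have ht₁ : classInner π (t₁ : G → ℂ) ≠ 0 ∧ (∀ g : G, conj ((t₁ : G → ℂ) g) = (t₁ : G → ℂ) g) ∧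
      (Nat.card G : ℂ)⁻¹ * ∑ g : G, (t₁ : G → ℂ) (g * g) = 1 := by
    refine ⟨by rw [h1c]; exact one_ne_zero, fun g => by simp [t₁], ?_⟩
    simp only [t₁, Finset.sum_const, Finset.card_univ, nsmul_eq_mul, mul_one, ← Nat.card_eq_fintype_card]
    exact inv_mul_cancel₀ hG
  set K := H.normalCore
  have hKker : ∀ x, x ∈ K ↔ ∀ q : G ⧸ H, x • q = q := fun x => by
    rw [show K = (MulAction.toPermHom G (G ⧸ H)).ker from Subgroup.normalCore_eq_ker H, MonoidHom.mem_ker,
      Equiv.ext_iff]
    rfl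
  constructor
  · intro h1
    by_contra hodd
    rw [Nat.not_odd_iff_even, even_iff_two_dvd] at hodd
    obtain ⟨y, hy⟩ := exists_prime_orderOf_dvd_card' (G := G ⧸ K) 2 hodd
    obtain ⟨x, rfl⟩ := QuotientGroup.mk_surjective y
    have hxK : x ∉ K := fun h => by
      rw [(QuotientGroup.eq_one_iff x).2 h, orderOf_one] at hy
      exact absurd hy (by norm_num)
    have hx2 : x * x ∈ K := by
      rw [← QuotientGroup.eq_one_iff, QuotientGroup.mk_mul, ← pow_two, ← hy, pow_orderOf_eq_one]
    -- squaring does not decrease fixed points, and increases them at `x`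
    have hle : ∀ g : G, permChar H g ≤ permChar H (g * g) := fun g => by
      unfold permChar
      rw [Nat.cast_le]
      refine Finite.card_le_of_embedding ⟨fun q => ⟨q.1, ?_⟩, fun a b e => Subtype.ext (Subtype.mk.inj e)⟩
      show (g * g) • q.1 = q.1
      rw [mul_smul, q.2, q.2]
    have hlt : permChar H x < permChar H (x * x) := by
      unfold permChar
      rw [Nat.cast_lt]
      have hall : MulAction.fixedBy (G ⧸ H) (x * x) = Set.univ := Set.eq_univ_of_forall ((hKker _).1 hx2)
      rw [hall, Nat.card_coe_set_eq, Nat.card_coe_set_eq]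
      refine Set.ncard_lt_ncard (Set.ssubset_univ_iff.2 fun e => hxK ((hKker x).2 fun q => ?_))
      have hq : q ∈ MulAction.fixedBy (G ⧸ H) x := e ▸ Set.mem_univ q
      exact hq
    have hsum : (∑ g : G, permChar H g) < ∑ g : G, permChar H (g * g) :=
      Finset.sum_lt_sum (fun g _ => hle g) ⟨x, Finset.mem_univ _, hlt⟩
    have hone : ∑ g : G, (permChar H g : ℂ) = Nat.card G := by
      have h := h1c
      simp only [classInner, t₁, map_one, mul_one, hπdef, indFun_one_eq_permChar] at h
      rw [inv_mul_eq_one₀ hG] at h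
      exact h.symm
    have hnu : ∑ χ : IrrCharacter G, classInner π (χ : G → ℂ) * ((Nat.card G : ℂ)⁻¹ * ∑ g : G, (χ : G → ℂ) (g * g)) =
        (Nat.card G : ℂ)⁻¹ * ∑ g : G, (permChar H (g * g) : ℂ) := by
      have h := eq_sum_irr (isClassFunction_char hπc)
      conv_rhs => arg 2; arg 2; ext g; rw [← indFun_one_eq_permChar, ← hπdef, congrFun h (g * g)]
      simp only [Finset.sum_apply, Pi.smul_apply, smul_eq_mul, Finset.mul_sum]
      rw [Finset.sum_comm]
      exact Finset.sum_congr rfl fun _ _ => Finset.sum_congr rfl fun _ _ => by ring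
    have huniq : ∀ χ : IrrCharacter G, classInner π (χ : G → ℂ) ≠ 0 → (∀ g : G, conj ((χ : G → ℂ) g) = (χ : G → ℂ) g) →
        (Nat.card G : ℂ)⁻¹ * ∑ g : G, (χ : G → ℂ) (g * g) = 1 → χ = t₁ := by
      intro χ a b c
      obtain ⟨hs, -⟩ := Nat.card_eq_one_iff_unique.1 h1
      exact congrArg Subtype.val (hs.elim ⟨χ, a, b, c⟩ ⟨t₁, ht₁⟩)
    have hre : ∀ χ : IrrCharacter G,
        (classInner π (χ : G → ℂ) * ((Nat.card G : ℂ)⁻¹ * ∑ g : G, (χ : G → ℂ) (g * g))).re ≤ if χ = t₁ then 1 else 0 := by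
      intro χ
      split_ifs with hχ
      · rw [hχ, h1c, ht₁.2.2, one_mul]; simp
      · obtain ⟨a, ha⟩ := classInner_char_nat hπc (isCharacter_of_irr χ.2)
        rcases indicator_trichotomy χ.2 with h0 | ⟨hr, hp | hm⟩
        · rw [h0, mul_zero]; simp
        · by_cases hz : classInner π (χ : G → ℂ) = 0
          · rw [hz, zero_mul]; simp
          · exact absurd (huniq χ hz hr hp) hχ
        · rw [hm, ha]; simp
    have h2 := Finset.sum_le_sum (s := Finset.univ) fun χ _ => hre χ
    rw [← Complex.re_sum, hnu, Finset.sum_ite_eq', if_pos (Finset.mem_univ _)] at h2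
    have hlt' : (Nat.card G : ℤ) < ∑ g : G, permChar H (g * g) := by
      have e : ∑ g : G, permChar H g = (Nat.card G : ℤ) := by exact_mod_cast hone
      rwa [e] at hsum
    have h3 : ((Nat.card G : ℂ)⁻¹ * ∑ g : G, (permChar H (g * g) : ℂ)).re =
        (Nat.card G : ℝ)⁻¹ * ((∑ g : G, permChar H (g * g) : ℤ) : ℝ) := by
      rw [show (Nat.card G : ℂ)⁻¹ * ∑ g : G, (permChar H (g * g) : ℂ) =
        (((Nat.card G : ℝ)⁻¹ * ((∑ g : G, permChar H (g * g) : ℤ) : ℝ) : ℝ) : ℂ) by push_cast; rfl, Complex.ofReal_re]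
    rw [h3, inv_mul_le_iff₀ (Nat.cast_pos.mpr Nat.card_pos), mul_one] at h2
    have h4 : ((Nat.card G : ℤ) : ℝ) < ((∑ g : G, permChar H (g * g) : ℤ) : ℝ) := Int.cast_lt.2 hlt'
    push_cast at h2 h4
    linarith
  · intro hodd
    rw [Nat.card_eq_one_iff_unique]
    refine ⟨⟨?_⟩, ⟨⟨t₁, ht₁⟩⟩⟩
    suffices ∀ χ : IrrCharacter G, classInner π (χ : G → ℂ) ≠ 0 →
        (Nat.card G : ℂ)⁻¹ * ∑ g : G, (χ : G → ℂ) (g * g) = 1 → χ = t₁ by
      rintro ⟨a, ha, -, ha'⟩ ⟨b, hb, -, hb'⟩
      exact Subtype.ext ((this a ha ha').trans (this b hb hb').symm)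
    intro χ hc hν
    have := Fintype.ofFinite K
    have hKH : K ≤ H := H.normalCore_le
    have hres : classInner (fun n : K => (χ : G → ℂ) n) (fun _ : K => (1 : ℂ)) ≠ 0 := by
      have hcH : classInner (fun h : H => (χ : G → ℂ) h) (fun _ : H => (1 : ℂ)) ≠ 0 := by
        intro e
        apply hc
        rw [hπdef, frobenius_reciprocity H _ (isClassFunction_irr χ.2), ← classInner_comm, e, map_zero]
      have hsub := isCharacter_comp (isCharacter_sub_irr (isCharacter_restrict (isCharacter_of_irr χ.2) H)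
        isIrrCharacter_one hcH) (Subgroup.inclusion hKH)
      obtain ⟨a, ha⟩ := classInner_char_nat hsub (isCharacter_one (G := K))
      intro e
      have h2 : classInner ((fun n : K => (χ : G → ℂ) n) - fun _ : K => (1 : ℂ)) (fun _ : K => (1 : ℂ)) = (a : ℂ) := ha
      rw [classInner_sub_left, e, classInner_irr_self (χ := fun _ : K => (1 : ℂ)) isIrrCharacter_one, zero_sub] at h2
      have := congrArg Complex.re h2
      simp at this
      have : (0 : ℝ) ≤ a := Nat.cast_nonneg a
      linarith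
    have hinv : ∀ g : G, conjNormFun K g (fun _ : K => (1 : ℂ)) = fun _ => 1 := fun g => by
      rw [conjNormFun_eq]
    have hcl := clifford_invariant K χ.2 isIrrCharacter_one hres hinv
    have hker : ∀ n ∈ K, (χ : G → ℂ) n = (χ : G → ℂ) 1 := fun n hn => by
      have e1 := congrFun hcl ⟨n, hn⟩
      have e2 := congrFun hcl 1
      simp only [Pi.smul_apply, smul_eq_mul, mul_one, OneMemClass.coe_one] at e1 e2
      rw [e1, e2]
    obtain ⟨ψ, -, hψe⟩ := exists_quotient_char K (isCharacter_of_irr χ.2) hker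
    by_contra hne
    have hfib : ∀ f : G ⧸ K → ℂ, ∑ g : G, f (g : G ⧸ K) = (Nat.card K : ℂ) * ∑ q : G ⧸ K, f q := by
      intro f
      have e := Subgroup.groupEquivQuotientProdSubgroup (s := K)
      rw [← Fintype.sum_fiberwise (fun g : G => (g : G ⧸ K)) (fun g => f (g : G ⧸ K)), Finset.mul_sum]
      refine Finset.sum_congr rfl fun q _ => ?_
      rw [Finset.sum_congr rfl fun (g : {g : G // (g : G ⧸ K) = q}) _ => congrArg f g.2, Finset.sum_const,
        nsmul_eq_mul, Finset.card_univ, ← Nat.card_eq_fintype_card]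
      congr 2
      obtain ⟨g₀, rfl⟩ := QuotientGroup.mk_surjective q
      exact Nat.card_congr
        { toFun := fun g => ⟨g₀⁻¹ * g.1, QuotientGroup.eq.1 g.2.symm⟩
          invFun := fun k => ⟨g₀ * k.1, by rw [QuotientGroup.mk_mul_of_mem _ k.2]⟩
          left_inv := fun g => Subtype.ext (by simp)
          right_inv := fun k => Subtype.ext (by simp) }
    have hz : ∑ g : G, (χ : G → ℂ) g = 0 := by
      have h := classInner_irr_ne χ.2 isIrrCharacter_one (fun e => hne (Subtype.ext e))
      simp only [classInner, map_one, mul_one] at h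
      exact (mul_eq_zero.1 h).resolve_left (inv_ne_zero hG)
    rw [hψe, hfib] at hz
    have hsq : ∑ g : G, (χ : G → ℂ) (g * g) = (Nat.card K : ℂ) * ∑ q : G ⧸ K, ψ q := by
      rw [hψe]
      simp only [QuotientGroup.mk_mul]
      rw [hfib (fun q => ψ (q * q))]
      congr 1
      refine Fintype.sum_bijective (fun q : G ⧸ K => q * q) ?_ _ _ fun _ => rfl
      have hcop : (Nat.card (G ⧸ K)).Coprime 2 := (Nat.coprime_two_right).2 hodd
      have hb := (powCoprime hcop).bijective
      simpa [powCoprime, pow_two] using hb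
    rw [hsq, hz, mul_zero] at hν
    exact zero_ne_one hν

end CfsgLib.CharTheory
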