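/-
The field of values at an element generating a cyclic subgroup of index two in a Sylow 2-subgroup.
-/
import Cfsg.Agent.Lib.CharTheory.Galois
import Cfsg.Agent.Lib.CharTheory.Induced
import Cfsg.Agent.Lib.CharTheory.Irr
import Cfsg.Agent.Lib.Elementary

namespace CfsgLib.CharTheory.MaxClassField

open Cfsg CfsgLib.CharTheory
open scoped commutatorElement

universe u

variable {G : Type u} [Group G] [Finite G]

/-- The field of the values of all irreducible characters at `g`. -/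
noncomputable def valField (g : G) : IntermediateField ℚ ℂ :=
  IntermediateField.adjoin ℚ {z : ℂ | ∃ χ : IrrCharacter G, (χ : G → ℂ) g = z}

theorem exists_roots (g : G) {χ : G → ℂ} (hχ : IsCharacter G χ) :
    ∃ s : Multiset ℂ, (∀ x ∈ s, x ^ orderOf g = 1) ∧
      ∀ m : ℕ, χ (g ^ m) = (s.map (· ^ m)).sum := by
  have := Fintype.ofFinite (Subgroup.zpowers g)
  obtain ⟨s, hs, hpow⟩ := exists_roots_pow (isCharacter_restrict hχ (Subgroup.zpowers g))
    (⟨g, Subgroup.mem_zpowers g⟩ : Subgroup.zpowers g)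
  exact ⟨s, fun x hx => by rw [← Nat.card_zpowers]; exact hs x hx, fun m => by rw [← hpow m]; simp⟩

theorem pow_add_pow_mem (ζ ε : ℂ) (hζ : ζ ≠ 0) (hε : ε = 1 ∨ ε = -1) (j : ℕ) :
    ζ ^ j + (ε * ζ⁻¹) ^ j ∈ IntermediateField.adjoin ℚ ({ζ + ε * ζ⁻¹} : Set ℂ) := by
  set F := IntermediateField.adjoin ℚ ({ζ + ε * ζ⁻¹} : Set ℂ)
  have hεF : ε ∈ F := by rcases hε with rfl | rfl <;> simp [neg_mem_iff, one_mem]
  induction j using Nat.twoStepInduction with
  | zero => simp only [pow_zero]; exact add_mem (one_mem _) (one_mem _)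
  | one => simp only [pow_one]; exact IntermediateField.mem_adjoin_simple_self ℚ _
  | more j h1 h2 =>
    have e : ζ ^ (j + 2) + (ε * ζ⁻¹) ^ (j + 2) =
        (ζ + ε * ζ⁻¹) * (ζ ^ (j + 1) + (ε * ζ⁻¹) ^ (j + 1)) - ε * (ζ ^ j + (ε * ζ⁻¹) ^ j) := by
      have h : ζ * (ε * ζ⁻¹) = ε := by field_simp
      rw [pow_succ, pow_succ, pow_succ (ε * ζ⁻¹) (j + 1), pow_succ (ε * ζ⁻¹) j]
      linear_combination (-(ζ ^ j + (ε * ζ⁻¹) ^ j)) * h
    rw [e]
    exact sub_mem (mul_mem (IntermediateField.mem_adjoin_simple_self ℚ _) h2) (mul_mem hεF h1)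

variable {N : ℕ} {ζ : ℂ}

/-- Values fixed by `ζ ↦ ε ζ⁻¹` lie in `ℚ(ζ + ε ζ⁻¹)`. -/
theorem valField_le (hζ : IsPrimitiveRoot ζ N) (hN : N ≠ 0) {g : G} (hg : orderOf g = N) {r : ℕ}
    {ε : ℂ} (hε : ε = 1 ∨ ε = -1) (hr : ζ ^ r = ε * ζ⁻¹)
    (hfix : ∀ χ : IrrCharacter G, (χ : G → ℂ) (g ^ r) = (χ : G → ℂ) g) :
    valField g ≤ IntermediateField.adjoin ℚ ({ζ + ε * ζ⁻¹} : Set ℂ) := by
  refine IntermediateField.adjoin_le_iff.mpr ?_
  rintro z ⟨χ, rfl⟩
  have := NeZero.mk hN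
  obtain ⟨s, hs, hpow⟩ := exists_roots g (isCharacter_of_irr χ.2)
  have h2 : 2 * (χ : G → ℂ) g = (s.map fun x => x + x ^ r).sum := by
    rw [Multiset.sum_map_add, ← hpow r, hfix χ, two_mul]
    have := hpow 1
    simp only [pow_one] at this
    rw [← this]
  have hmem : 2 * (χ : G → ℂ) g ∈ IntermediateField.adjoin ℚ ({ζ + ε * ζ⁻¹} : Set ℂ) := by
    rw [h2]
    refine multiset_sum_mem _ fun y hy => ?_
    obtain ⟨x, hx, rfl⟩ := Multiset.mem_map.mp hy
    obtain ⟨j, -, rfl⟩ := hζ.eq_pow_of_pow_eq_one (hg ▸ hs x hx)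
    rw [← pow_mul, Nat.mul_comm j r, pow_mul, hr]
    exact pow_add_pow_mem ζ ε (hζ.ne_zero hN) hε j
  show (χ : G → ℂ) g ∈ IntermediateField.adjoin ℚ ({ζ + ε * ζ⁻¹} : Set ℂ)
  have e : (χ : G → ℂ) g = (2 * (χ : G → ℂ) g) * (2 : ℂ)⁻¹ := by ring
  rw [e]
  exact mul_mem hmem (inv_mem (natCast_mem _ 2))

/-- Values at elements of small order lie in `ℚ(ζ²)`. -/
theorem valField_le_sq_of_order (hζ : IsPrimitiveRoot ζ (2 * N)) (hN : N ≠ 0) {g : G}
    (hg : orderOf g ∣ N) : valField g ≤ IntermediateField.adjoin ℚ ({ζ ^ 2} : Set ℂ) := by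
  refine IntermediateField.adjoin_le_iff.mpr ?_
  rintro z ⟨χ, rfl⟩
  obtain ⟨s, hs, hpow⟩ := exists_roots g (isCharacter_of_irr χ.2)
  have h1 := hpow 1
  simp only [pow_one, Multiset.map_id'] at h1
  show (χ : G → ℂ) g ∈ IntermediateField.adjoin ℚ ({ζ ^ 2} : Set ℂ)
  rw [h1]
  refine multiset_sum_mem _ fun x hx => ?_
  have := NeZero.mk hN
  have hsq : IsPrimitiveRoot (ζ ^ 2) N := hζ.pow (by omega) rfl
  have hxN : x ^ N = 1 := by
    obtain ⟨c, hc⟩ := hg
    calc x ^ N = (x ^ orderOf g) ^ c := by rw [← pow_mul]; exact congrArg (x ^ ·) hc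
      _ = 1 := by rw [hs x hx, one_pow]
  obtain ⟨j, -, rfl⟩ := hsq.eq_pow_of_pow_eq_one hxN
  exact pow_mem (IntermediateField.mem_adjoin_simple_self ℚ _) j

/-- Values fixed by `ζ ↦ -ζ` lie in `ℚ(ζ²)`. -/
theorem valField_le_sq_of_fix (hζ : IsPrimitiveRoot ζ N) (hN : N ≠ 0) {g : G} (hg : orderOf g = N)
    {r : ℕ} (hr : ζ ^ r = -ζ) (hfix : ∀ χ : IrrCharacter G, (χ : G → ℂ) (g ^ r) = (χ : G → ℂ) g) :
    valField g ≤ IntermediateField.adjoin ℚ ({ζ ^ 2} : Set ℂ) := by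
  refine IntermediateField.adjoin_le_iff.mpr ?_
  rintro z ⟨χ, rfl⟩
  have := NeZero.mk hN
  obtain ⟨s, hs, hpow⟩ := exists_roots g (isCharacter_of_irr χ.2)
  have h2 : 2 * (χ : G → ℂ) g = (s.map fun x => x + x ^ r).sum := by
    rw [Multiset.sum_map_add, ← hpow r, hfix χ, two_mul]
    have := hpow 1
    simp only [pow_one] at this
    rw [← this]
  have hmem : 2 * (χ : G → ℂ) g ∈ IntermediateField.adjoin ℚ ({ζ ^ 2} : Set ℂ) := by
    rw [h2]
    refine multiset_sum_mem _ fun y hy => ?_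
    obtain ⟨x, hx, rfl⟩ := Multiset.mem_map.mp hy
    obtain ⟨j, -, rfl⟩ := hζ.eq_pow_of_pow_eq_one (hg ▸ hs x hx)
    rw [← pow_mul, Nat.mul_comm j r, pow_mul, hr]
    rcases Nat.even_or_odd j with hj | hj
    · rw [hj.neg_pow]
      obtain ⟨i, rfl⟩ := hj
      rw [← two_mul i, pow_mul]
      exact add_mem (pow_mem (IntermediateField.mem_adjoin_simple_self ℚ _) i)
        (pow_mem (IntermediateField.mem_adjoin_simple_self ℚ _) i)
    · rw [hj.neg_pow, add_neg_cancel]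
      exact zero_mem _
  show (χ : G → ℂ) g ∈ IntermediateField.adjoin ℚ ({ζ ^ 2} : Set ℂ)
  have e : (χ : G → ℂ) g = (2 * (χ : G → ℂ) g) * (2 : ℂ)⁻¹ := by ring
  rw [e]
  exact mul_mem hmem (inv_mem (natCast_mem _ 2))

theorem isCharacter_sum_mem_valField (g : G) {F : G → ℂ} (hF : IsCharacter G F) :
    F g ∈ valField g := by
  have := Fintype.ofFinite G
  choose c hc using fun χ : IrrCharacter G => classInner_char_nat hF (isCharacter_of_irr χ.2)
  have h := congrFun (eq_sum_irr (isClassFunction_char hF)) g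
  simp only [Finset.sum_apply, Pi.smul_apply, smul_eq_mul, hc] at h
  rw [h]
  exact sum_mem fun χ _ => mul_mem (natCast_mem _ _) (IntermediateField.subset_adjoin ℚ _ ⟨χ, rfl⟩)

/-- If `g` is conjugate within `⟨g⟩` only to `g` and `g ^ r`, then `ζ + ζ ^ r` is a value. -/
theorem add_mem_valField (hζ : IsPrimitiveRoot ζ N) (hN : N ≠ 0) {g : G} (hg : orderOf g = N)
    {r : ℕ} {b : G} (hb : b⁻¹ * g * b = g ^ r) (hne : g ^ r ≠ g)
    (honly : ∀ x : G, x⁻¹ * g * x ∈ Subgroup.zpowers g →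
      x⁻¹ * g * x = g ∨ x⁻¹ * g * x = g ^ r) :
    ζ + ζ ^ r ∈ valField g := by
  classical
  have := Fintype.ofFinite G
  set Y := Subgroup.zpowers g with hY
  have := Fintype.ofFinite Y
  have hgen : ∀ x : Y, x ∈ Subgroup.zpowers (⟨g, Subgroup.mem_zpowers g⟩ : Y) := by
    rintro ⟨x, hx⟩
    obtain ⟨i, rfl⟩ := Subgroup.mem_zpowers_iff.mp hx
    exact Subgroup.mem_zpowers_iff.mpr ⟨i, Subtype.ext (by simp)⟩
  let u : ℂˣ := Units.mk0 ζ (hζ.ne_zero hN)
  let lam : Y →* ℂˣ := monoidHomOfForallMemZpowers hgen (g' := u) (by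
    rw [← Subgroup.orderOf_coe (⟨g, Subgroup.mem_zpowers g⟩ : Y), hg]
    refine orderOf_dvd_of_pow_eq_one (Units.ext ?_)
    simp [u, hζ.pow_eq_one])
  have hlam : lam ⟨g, Subgroup.mem_zpowers g⟩ = u :=
    monoidHomOfForallMemZpowers_apply_gen _ _
  let F := indFun Y (fun y => (lam y : ℂ))
  have hF : IsCharacter G F :=
    isCharacter_indFun _ (isCharacter_of_irr (isIrrCharacter_linear lam))
  have hext : ∀ x : G, extendByZero Y (fun y => (lam y : ℂ)) (x⁻¹ * g * x) =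
      (if x⁻¹ * g * x = g then ζ else 0) + (if x⁻¹ * g * x = g ^ r then ζ ^ r else 0) := by
    intro x
    by_cases hx : x⁻¹ * g * x ∈ Y
    · rw [extendByZero_of_mem _ _ hx]
      rcases honly x hx with e | e
      · rw [show (⟨_, hx⟩ : Y) = ⟨g, Subgroup.mem_zpowers g⟩ from Subtype.ext e, hlam]
        simp [e, hne.symm, u]
      · rw [show (⟨_, hx⟩ : Y) = ⟨g, Subgroup.mem_zpowers g⟩ ^ r from Subtype.ext (by simpa using e),
          map_pow, hlam]
        simp [e, hne, u]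
    · rw [extendByZero_of_not_mem _ _ hx, if_neg, if_neg, add_zero]
      · exact fun e => hx (e ▸ Subgroup.npow_mem_zpowers g r)
      · exact fun e => hx (e.symm ▸ Subgroup.mem_zpowers g)
  have hcnt : (Finset.univ.filter fun x : G => x⁻¹ * g * x = g ^ r).card =
      (Finset.univ.filter fun x : G => x⁻¹ * g * x = g).card := by
    refine (Finset.card_bij (fun x _ => x * b) (fun x hx => ?_) (fun x _ y _ h => mul_right_cancel h)
      fun y hy => ⟨y * b⁻¹, ?_, by simp⟩).symm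
    · rw [Finset.mem_filter] at hx ⊢
      refine ⟨Finset.mem_univ _, ?_⟩
      rw [show (x * b)⁻¹ * g * (x * b) = b⁻¹ * (x⁻¹ * g * x) * b by group, hx.2, hb]
    · rw [Finset.mem_filter] at hy ⊢
      refine ⟨Finset.mem_univ _, ?_⟩
      rw [show (y * b⁻¹)⁻¹ * g * (y * b⁻¹) = b * (y⁻¹ * g * y) * b⁻¹ by group, hy.2, ← hb]
      group
  have hval : F g = (Nat.card Y : ℂ)⁻¹ *
      ((Finset.univ.filter fun x : G => x⁻¹ * g * x = g).card : ℂ) * (ζ + ζ ^ r) := by
    simp only [F, indFun, hext, Finset.sum_add_distrib, ← Finset.sum_filter, Finset.sum_const,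
      nsmul_eq_mul, hcnt]
    ring
  set c : ℂ := (Nat.card Y : ℂ)⁻¹ *
      ((Finset.univ.filter fun x : G => x⁻¹ * g * x = g).card : ℂ) with hc
  have hc0 : c ≠ 0 := mul_ne_zero (inv_ne_zero (Nat.cast_ne_zero.mpr Nat.card_pos.ne'))
    (Nat.cast_ne_zero.mpr (Finset.card_ne_zero.mpr ⟨1, by simp⟩))
  have h := isCharacter_sum_mem_valField g hF
  rw [hval] at h
  have e : ζ + ζ ^ r = c⁻¹ * (c * (ζ + ζ ^ r)) := by rw [inv_mul_cancel_left₀ hc0]
  rw [e]
  exact mul_mem (inv_mem (mul_mem (inv_mem (natCast_mem _ _)) (natCast_mem _ _))) h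

/-- `ζ + ε ζ⁻¹` is not in `ℚ(ζ²)`. -/
theorem add_not_mem {h : ℕ} (hh : 1 < h) (hev : 2 ∣ h) (hζ : IsPrimitiveRoot ζ (2 * (2 * h))) {ε : ℂ}
    (hε : ε = 1 ∨ ε = -1) :
    ζ + ε * ζ⁻¹ ∉ IntermediateField.adjoin ℚ ({ζ ^ 2} : Set ℂ) := by
  set M := 2 * (2 * h) with hM
  have hM0 : M ≠ 0 := by omega
  have hhalf : ζ ^ (2 * h) = -1 := by
    have h1 : IsPrimitiveRoot (ζ ^ (2 * h)) 2 := hζ.pow (by omega) (by rw [hM]; ring)
    exact h1.eq_neg_one_of_two_right
  obtain ⟨σ, hσ⟩ := exists_galois_hom (n := M) (m := 2 * h + 1) hM0 (by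
    rw [hM]
    refine Nat.Coprime.mul_right (Nat.coprime_two_right.mpr ⟨h, rfl⟩)
      (Nat.Coprime.mul_right (Nat.coprime_two_right.mpr ⟨h, rfl⟩) ?_)
    rw [Nat.coprime_mul_right_add_left]
    exact Nat.coprime_one_left _)
  have hζm : ζ ∈ rootField M := mem_rootField hM0 hζ.pow_eq_one
  have hσζ : σ ⟨ζ, hζm⟩ = -ζ := by
    rw [hσ _ hζ.pow_eq_one, pow_succ, hhalf]; ring
  intro hmem
  have hfix : ∀ x (_ : x ∈ IntermediateField.adjoin ℚ ({ζ ^ 2} : Set ℂ)),
      ∃ h : x ∈ rootField M, σ ⟨x, h⟩ = x := by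
    intro x hx
    induction hx using IntermediateField.adjoin_induction with
    | mem y hy =>
      obtain rfl := Set.mem_singleton_iff.1 hy
      refine ⟨pow_mem hζm 2, ?_⟩
      have e : (⟨ζ ^ 2, pow_mem hζm 2⟩ : rootField M) = (⟨ζ, hζm⟩ : rootField M) ^ 2 :=
        Subtype.ext rfl
      rw [e]
      exact (map_pow σ _ 2).trans (by rw [hσζ]; ring)
    | algebraMap q => exact ⟨(rootField M).algebraMap_mem q, σ.commutes q⟩
    | add a b _ _ ha hb =>
      obtain ⟨ha1, ha2⟩ := ha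
      obtain ⟨hb1, hb2⟩ := hb
      exact ⟨add_mem ha1 hb1, (map_add σ ⟨a, ha1⟩ ⟨b, hb1⟩).trans (by rw [ha2, hb2])⟩
    | inv a _ ha =>
      obtain ⟨ha1, ha2⟩ := ha
      exact ⟨inv_mem ha1, (map_inv₀ σ ⟨a, ha1⟩).trans (by rw [ha2])⟩
    | mul a b _ _ ha hb =>
      obtain ⟨ha1, ha2⟩ := ha
      obtain ⟨hb1, hb2⟩ := hb
      exact ⟨mul_mem ha1 hb1, (map_mul σ ⟨a, ha1⟩ ⟨b, hb1⟩).trans (by rw [ha2, hb2])⟩
  obtain ⟨h1, h2⟩ := hfix _ hmem
  have hεm : ε ∈ rootField M := by rcases hε with rfl | rfl <;> simp [neg_mem_iff, one_mem]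
  have hσε : σ ⟨ε, hεm⟩ = ε := by
    rcases hε with rfl | rfl
    · exact (congrArg σ (Subtype.ext rfl : (⟨(1 : ℂ), hεm⟩ : rootField M) = 1)).trans (map_one σ)
    · exact (congrArg σ (Subtype.ext rfl : (⟨(-1 : ℂ), hεm⟩ : rootField M) = -1)).trans
        ((map_neg σ 1).trans (by rw [map_one]))
  have e : (⟨ζ + ε * ζ⁻¹, h1⟩ : rootField M) = ⟨ζ, hζm⟩ + ⟨ε, hεm⟩ * (⟨ζ, hζm⟩ : rootField M)⁻¹ :=
    Subtype.ext rfl
  rw [e] at h2
  have h3 : σ (⟨ζ, hζm⟩ + ⟨ε, hεm⟩ * (⟨ζ, hζm⟩ : rootField M)⁻¹) = -(ζ + ε * ζ⁻¹) := by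
    rw [map_add, map_mul, map_inv₀, hσζ, hσε]
    ring
  rw [h3, neg_eq_self] at h2
  have hz : ζ ^ 2 = -ε := by
    have := congrArg (· * ζ) h2
    simp only [add_mul, mul_assoc, inv_mul_cancel₀ (hζ.ne_zero hM0), mul_one, zero_mul] at this
    rw [sq]
    linear_combination this
  have h4 : ζ ^ (2 * 2) = 1 := by rw [pow_mul, hz]; rcases hε with rfl | rfl <;> norm_num
  have := Nat.le_of_dvd (by norm_num) (hζ.dvd_of_pow_eq_one _ h4)
  omega

/-- An element generating a subgroup of index two in a Sylow 2-subgroup: its automizer. -/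
theorem automizer_two {n : ℕ} (hn : 1 ≤ n) (P : Sylow 2 G) (hP : Nat.card P = 2 ^ n) {g : G}
    (hg : orderOf g = 2 ^ (n - 1)) {b : G} {r : ℕ} (hb : b⁻¹ * g * b = g ^ r) (hne : g ^ r ≠ g) :
    (∀ x : G, x⁻¹ * g * x ∈ Subgroup.zpowers g →
      x⁻¹ * g * x = g ∨ x⁻¹ * g * x = g ^ r) ∧
    2 ∣ (Subgroup.centralizer ({g} : Set G)).index := by
  classical
  have hcard := P.card_eq_multiplicity
  rw [hP] at hcard
  have hfac : (Nat.card G).factorization 2 = n := (Nat.pow_right_injective le_rfl hcard).symm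
  set Y := Subgroup.zpowers g with hY
  set N := Subgroup.normalizer (Y : Set G) with hN
  set C := Subgroup.centralizer (Y : Set G) with hC
  have hCg : C = Subgroup.centralizer ({g} : Set G) := by
    refine le_antisymm (Subgroup.centralizer_le (by simp [hY])) fun x hx => ?_
    rw [hC, Subgroup.mem_centralizer_iff]
    intro y hy
    obtain ⟨i, rfl⟩ := Subgroup.mem_zpowers_iff.mp hy
    exact ((show Commute x g from Subgroup.mem_centralizer_singleton_iff.mp hx).zpow_right i).symm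
  have hmemN : ∀ x : G, x⁻¹ * g * x ∈ Y → x⁻¹ ∈ N := by
    intro x hx
    have hle : Y.map (MulAut.conj x⁻¹).toMonoidHom ≤ Y := by
      rw [hY, MonoidHom.map_zpowers, Subgroup.zpowers_le]
      simpa using hx
    have heq := Subgroup.eq_of_le_of_card_ge hle (le_of_eq (Nat.card_congr
      (Subgroup.equivMapOfInjective Y _ (MulAut.conj x⁻¹).injective).toEquiv))
    rw [hN, Subgroup.mem_normalizer_iff]
    intro y
    constructor
    · intro hy
      rw [← heq]
      exact ⟨y, hy, by simp⟩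
    · intro hy
      rw [← heq] at hy
      obtain ⟨z, hz, hze⟩ := hy
      have : z = y := by simpa using hze
      exact this ▸ hz
  set f := Y.normalizerMonoidHom with hf
  have hker : f.ker = C.subgroupOf N := Subgroup.normalizerMonoidHom_ker Y
  have : IsCyclic Y := Subgroup.isCyclic_zpowers g
  have hrange : Nat.card f.range ∣ 2 ^ (n - 1) := by
    refine (Subgroup.card_subgroup_dvd_card f.range).trans ?_
    rw [IsCyclic.card_mulAut, Nat.card_zpowers, hg]
    rcases Nat.eq_zero_or_pos (n - 1) with h | h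
    · simp [h]
    · rw [Nat.totient_prime_pow Nat.prime_two h]
      simp only [Nat.add_one_sub_one, mul_one]
      exact pow_dvd_pow 2 (Nat.sub_le _ _)
  obtain ⟨e, -, he⟩ := (Nat.dvd_prime_pow Nat.prime_two).mp hrange
  have hCN : C ≤ N := by
    intro x hx
    rw [← inv_inv x]
    refine hmemN x⁻¹ ?_
    rw [inv_inv]
    rw [hCg] at hx
    have := Subgroup.mem_centralizer_singleton_iff.mp hx
    rw [this, mul_inv_cancel_right]
    exact Subgroup.mem_zpowers g
  have hcardN : Nat.card N = 2 ^ e * Nat.card C := by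
    rw [← Nat.card_congr (Subgroup.subgroupOfEquivOfLe hCN).toEquiv, ← hker, ← he,
      ← Subgroup.card_mul_index f.ker, Subgroup.index_ker, mul_comm]
  have hYC : 2 ^ (n - 1) ∣ Nat.card C := by
    rw [← hg, ← Nat.card_zpowers]
    refine Subgroup.card_dvd_of_le fun y hy => ?_
    rw [hCg]
    obtain ⟨i, rfl⟩ := Subgroup.mem_zpowers_iff.mp hy
    exact Subgroup.mem_centralizer_singleton_iff.mpr ((Commute.refl g).zpow_left i).eq
  have hbN : b⁻¹ ∈ N := hmemN b (hb ▸ Subgroup.npow_mem_zpowers g r)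
  have hbC : b⁻¹ ∉ C := by
    rw [hCg, Subgroup.mem_centralizer_singleton_iff]
    intro e'
    apply hne
    rw [← hb, show b⁻¹ * g * b = b⁻¹ * g * b⁻¹⁻¹ by group, e', mul_inv_cancel_right]
  have he1 : e = 1 := by
    have hd : 2 ^ (e + (n - 1)) ∣ Nat.card G := by
      rw [pow_add]
      exact (mul_dvd_mul_left _ hYC).trans (hcardN ▸ Subgroup.card_subgroup_dvd_card N)
    rw [Nat.prime_two.pow_dvd_iff_le_factorization Nat.card_pos.ne', hfac] at hd
    rcases Nat.eq_zero_or_pos e with rfl | h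
    · exfalso
      refine hbC ?_
      have : N = C := by
        refine (Subgroup.eq_of_le_of_card_ge hCN ?_).symm
        rw [hcardN, pow_zero, one_mul]
      exact this ▸ hbN
    · omega
  subst he1
  refine ⟨fun x hx => ?_, ?_⟩
  · have hidx : (C.subgroupOf N).index = 2 := by
      rw [← hker, Subgroup.index_ker, he, pow_one]
    have hxN := hmemN x hx
    by_cases hxC : x⁻¹ ∈ C
    · left
      rw [hCg, Subgroup.mem_centralizer_singleton_iff] at hxC
      rw [hxC, inv_mul_cancel_right]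
    · right
      have h2 : (⟨x⁻¹, hxN⟩ * ⟨b⁻¹, hbN⟩⁻¹ : N) ∈ C.subgroupOf N := by
        refine (Subgroup.mul_mem_iff_of_index_two hidx).mpr ?_
        simp only [Subgroup.inv_mem_iff, Subgroup.mem_subgroupOf]
        exact iff_of_false (fun h => hxC (C.inv_mem h)) (fun h => hbC (C.inv_mem h))
      rw [Subgroup.mem_subgroupOf, hCg, Subgroup.mem_centralizer_singleton_iff] at h2
      simp only [Subgroup.coe_mul, Subgroup.coe_inv, inv_inv] at h2
      have h3 : (x⁻¹ * b) * (b⁻¹ * g * b) = g ^ r * (x⁻¹ * b) := by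
        have h4 : Commute (x⁻¹ * b) (g ^ r) := (show Commute (x⁻¹ * b) g from h2).pow_right r
        rw [hb]; exact h4.eq
      calc x⁻¹ * g * x = (x⁻¹ * b) * (b⁻¹ * g * b) * (x⁻¹ * b)⁻¹ := by group
        _ = g ^ r := by rw [h3, mul_inv_cancel_right]
  · rw [← hCg]
    have h1 : Nat.card C * C.index = Nat.card G := C.card_mul_index
    by_contra hodd
    have hd : 2 ^ n ∣ Nat.card C := by
      have := (Nat.Coprime.pow_left n (Nat.prime_two.coprime_iff_not_dvd.mpr hodd)).dvd_mul_right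
        (k := 2 ^ n) (m := Nat.card C)
      refine this.mp ?_
      rw [h1, hcard, hfac]
      exact hfac ▸ Nat.ordProj_dvd _ _
    have hd2 : 2 ^ (n + 1) ∣ Nat.card G := by
      rw [pow_succ']
      exact (mul_dvd_mul (dvd_refl 2) hd).trans
        ((by rw [hcardN, pow_one] : Nat.card N = 2 * Nat.card C) ▸ Subgroup.card_subgroup_dvd_card N)
    rw [Nat.prime_two.pow_dvd_iff_le_factorization Nat.card_pos.ne', hfac] at hd2
    omega

end CfsgLib.CharTheory.MaxClassField
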