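import Cfsg.Agent.Lib.CharTheory.FrobQuotientDegrees

/-!
A minimal non-abelian quotient of a solvable group (Isaacs, Lemma 12.3) and what it says about the
degrees of the group (Theorem 12.4).
-/

namespace CfsgLib.CharTheory

open Cfsg
open scoped commutatorElement
open Subgroup (mem_top)

universe u

variable {G : Type u} [Group G] [Finite G]

omit [Finite G] in
theorem charDegree_mul_of {α β : G → ℂ} (hα : IsCharacter G α) (hβ : IsCharacter G β) :
    charDegree (α * β) = charDegree α * charDegree β := by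
  obtain ⟨a, ρ, rfl⟩ := hα
  obtain ⟨b, σ, rfl⟩ := hβ
  simp only [charDegree, Pi.mul_apply, Representation.char_one]
  rw [← Nat.cast_mul, Complex.natCast_re, Complex.natCast_re, Complex.natCast_re,
    Nat.floor_natCast, Nat.floor_natCast, Nat.floor_natCast]

/-- The data given by a minimal non-abelian quotient. -/
theorem minimal_nonabelian_quotient [Group.IsSolvable G] (hna : commutator G ≠ ⊥) :
    ∃ K : Subgroup G, ∃ _ : K.Normal,
      (∃ p : ℕ, p.Prime ∧ IsPGroup p (G ⧸ K) ∧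
        ∃ β : G → ℂ, IsIrrCharacter G β ∧ (∀ k ∈ K, β k = β 1) ∧ p ∣ charDegree β) ∨
      ∃ N : Subgroup G, ∃ _ : N.Normal, K ≤ N ∧ commutator G ≤ N ∧ ∃ q : ℕ, q.Prime ∧
        (∀ a ∈ N, ∀ b ∈ N, a * b * a⁻¹ * b⁻¹ ∈ K) ∧ (∀ a ∈ N, a ^ q ∈ K) ∧ ¬ q ∣ N.index ∧
        ¬ N ≤ K ∧ 1 < N.index ∧ ∀ t, t ∉ N → ∀ n ∈ N, t * n * t⁻¹ * n⁻¹ ∈ K → n ∈ K := by
  classical
  obtain ⟨K, ⟨hKn, hKc⟩, hKmax⟩ := (Set.toFinite {K : Subgroup G | K.Normal ∧ ¬ commutator G ≤ K}).exists_maximal
    ⟨⊥, inferInstance, fun h => hna (eq_bot_iff.mpr h)⟩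
  haveI := hKn
  refine ⟨K, hKn, ?_⟩
  set π := QuotientGroup.mk' K with hπ
  have hπs : Function.Surjective π := QuotientGroup.mk'_surjective K
  have hcQ : (commutator G).map π = commutator (G ⧸ K) := by
    rw [commutator_def, Subgroup.map_commutator, Subgroup.map_top_of_surjective π hπs, ← commutator_def]
  have hQ1 : commutator (G ⧸ K) ≠ ⊥ := by
    rw [← hcQ, ne_eq, Subgroup.map_eq_bot_iff, QuotientGroup.ker_mk']
    exact hKc
  have hLle : ∀ L : Subgroup (G ⧸ K), L.Normal → L ≠ ⊥ → commutator (G ⧸ K) ≤ L := by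
    intro L hL hL1
    haveI := hL
    by_contra hle
    have h1 : ¬ commutator G ≤ L.comap π := fun h => hle (by
      rw [← hcQ]; exact Subgroup.map_le_iff_le_comap.mpr h)
    have hK : K ≤ L.comap π := fun k hk => by
      rw [Subgroup.mem_comap, hπ, QuotientGroup.mk'_apply, (QuotientGroup.eq_one_iff k).mpr hk]
      exact one_mem L
    refine hL1 (eq_bot_iff.mpr ?_)
    have h2 := hKmax ⟨inferInstance, h1⟩ hK
    intro x hx
    obtain ⟨g, rfl⟩ := hπs x
    exact Subgroup.mem_bot.mpr ((QuotientGroup.eq_one_iff g).mpr (h2 hx))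
  haveI : Group.IsSolvable (G ⧸ K) := inferInstance
  by_cases hnil : Group.IsNilpotent (G ⧸ K)
  · left
    haveI := hnil
    obtain ⟨p, hp, hpd⟩ := Nat.exists_prime_and_dvd (n := Nat.card (commutator (G ⧸ K)))
      fun e => hQ1 (Subgroup.card_eq_one.mp e)
    haveI := Fact.mk hp
    have hpg : IsPGroup p (G ⧸ K) := by
      obtain ⟨d, hd⟩ := exists_prime_orderOf_dvd_card' p hpd
      refine IsPGroup.iff_card.mpr ⟨(Nat.card (G ⧸ K)).factorization p, ?_⟩
      by_contra hne
      obtain ⟨r, hr, hrd, hrp⟩ : ∃ r, r.Prime ∧ r ∣ Nat.card (G ⧸ K) ∧ r ≠ p := by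
        by_contra hc
        push Not at hc
        have h0 := Nat.eq_prime_pow_of_unique_prime_dvd (p := p) (n := Nat.card (G ⧸ K)) Nat.card_pos.ne'
          fun {r} hr hrd => hc r hr hrd
        refine hne ?_
        conv_rhs => rw [h0, hp.factorization_pow, Finsupp.single_eq_same]
        exact h0
      haveI := Fact.mk hr
      obtain ⟨R⟩ : Nonempty (Sylow r (G ⧸ K)) := inferInstance
      have hRn : (R : Subgroup (G ⧸ K)).Normal :=
        (Group.isNilpotent_of_finite_tfae (G := G ⧸ K)).out 0 3 rfl rfl |>.mp hnil r ‹_› R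
      have hR1 : (R : Subgroup (G ⧸ K)) ≠ ⊥ := R.ne_bot_of_dvd_card hrd
      have h1 : orderOf (d : commutator (G ⧸ K)) ∣ Nat.card (R : Subgroup (G ⧸ K)) := by
        have := orderOf_dvd_natCard (⟨(d : G ⧸ K), hLle _ hRn hR1 d.2⟩ : (R : Subgroup (G ⧸ K)))
        rwa [Subgroup.orderOf_mk, Subgroup.orderOf_coe] at this
      obtain ⟨k, hk⟩ := IsPGroup.iff_card.mp R.2
      rw [hd, hk] at h1
      exact hrp ((Nat.prime_dvd_prime_iff_eq hp hr).mp (hp.dvd_of_dvd_pow h1)).symm
    refine ⟨p, hp, hpg, ?_⟩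
    obtain ⟨ψ, hψ⟩ : ∃ ψ : IrrCharacter (G ⧸ K), (ψ : G ⧸ K → ℂ) 1 ≠ 1 := by
      have := Fintype.ofFinite (G ⧸ K)
      by_contra hc
      push Not at hc
      refine hQ1 ?_
      rw [commutator_def, Subgroup.commutator_eq_bot_iff_le_centralizer]
      exact fun a _ => Subgroup.mem_centralizer_iff.mpr fun b _ => commutative_iff_degree_one.mpr hc b a
    have := Fintype.ofFinite (G ⧸ K)
    have hirr := isIrrCharacter_comp_surjective ψ.2 π hπs
    refine ⟨_, hirr, fun k hk => ?_, ?_⟩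
    · show (ψ : G ⧸ K → ℂ) (π k) = (ψ : G ⧸ K → ℂ) (π 1)
      rw [map_one, hπ, QuotientGroup.mk'_apply, (QuotientGroup.eq_one_iff k).mpr hk]
    · have he : charDegree (fun x => (ψ : G ⧸ K → ℂ) (π x)) = charDegree (ψ : G ⧸ K → ℂ) := by
        simp [charDegree]
      rw [he]
      obtain ⟨a, ha⟩ := IsPGroup.iff_card.mp hpg
      have hd1 : charDegree (ψ : G ⧸ K → ℂ) ≠ 1 := fun e => hψ (by
        rw [(charDegree_spec' ψ.2).1, e, Nat.cast_one])
      have hdvd : charDegree (ψ : G ⧸ K → ℂ) ∣ Nat.card (G ⧸ K) :=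
        (charDegree_dvd_index_kernel ψ.2).trans (Subgroup.index_dvd_card _)
      rw [ha] at hdvd
      obtain ⟨i, -, hi⟩ := (Nat.dvd_prime_pow hp).mp hdvd
      rcases Nat.eq_zero_or_pos i with rfl | hi0
      · exact absurd (by simpa using hi) hd1
      · rw [hi]; exact dvd_pow_self p hi0.ne'
  · right
    have hquot : ∀ (L : Subgroup (G ⧸ K)) [L.Normal], L ≠ ⊥ → Group.IsNilpotent ((G ⧸ K) ⧸ L) := by
      intro L _ hL1
      have hle := hLle L ‹_› hL1
      refine Subgroup.nilpotent_iff_lowerCentralSeries.2 ⟨1, ?_⟩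
      rw [Subgroup.top_lowerCentralSeries_one, commutator_def,
        ← Subgroup.map_top_of_surjective (QuotientGroup.mk' L) (QuotientGroup.mk'_surjective L),
        ← Subgroup.map_commutator, Subgroup.map_eq_bot_iff, QuotientGroup.ker_mk']
      exact hle
    have hab : ∀ a ∈ commutator (G ⧸ K), ∀ b ∈ commutator (G ⧸ K), a * b = b * a := by
      have hlt : ⁅commutator (G ⧸ K), commutator (G ⧸ K)⁆ < commutator (G ⧸ K) := by
        refine lt_of_le_of_ne (Subgroup.commutator_le_self _) fun e => hQ1 ?_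
        obtain ⟨n, hn⟩ := (Group.isSolvable_def (G := G ⧸ K)).mp inferInstance
        have key : ∀ m, commutator (G ⧸ K) ≤ derivedSeries (G ⧸ K) m := by
          intro m
          induction m with
          | zero => exact le_top
          | succ m ih =>
            rw [derivedSeries_succ]
            exact e.ge.trans (Subgroup.commutator_mono ih ih)
        exact eq_bot_iff.mpr ((key n).trans hn.le)
      have hbot : ⁅commutator (G ⧸ K), commutator (G ⧸ K)⁆ = ⊥ := by
        by_contra h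
        exact hlt.not_ge (hLle _ inferInstance h)
      rw [Subgroup.commutator_eq_bot_iff_le_centralizer] at hbot
      exact fun a ha b hb => (Subgroup.mem_centralizer_iff.mp (hbot ha) b hb).symm
    obtain ⟨q, hq, hexp, hqi, hD1, hDt, hfp⟩ := minimal_nonnilpotent hnil hquot hab
    set D := commutator (G ⧸ K) with hD
    have hmem : ∀ g : G, g ∈ D.comap π ↔ (g : G ⧸ K) ∈ D := fun g => Iff.rfl
    have hidx : (D.comap π).index = D.index := Subgroup.index_comap_of_surjective D hπs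
    refine ⟨D.comap π, inferInstance, fun k hk => by
      rw [hmem, (QuotientGroup.eq_one_iff k).mpr hk]; exact one_mem D, ?_, q, hq, fun a ha b hb => ?_,
      fun a ha => ?_, hidx ▸ hqi, fun h => hD1 ?_, ?_, fun t ht n hn hc => ?_⟩
    · rw [← Subgroup.map_le_iff_le_comap, hcQ]
    · rw [← QuotientGroup.eq_one_iff]
      simp only [QuotientGroup.mk_mul, QuotientGroup.mk_inv]
      rw [hab (a : G ⧸ K) ha (b : G ⧸ K) hb]; group
    · rw [← QuotientGroup.eq_one_iff, QuotientGroup.mk_pow]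
      exact hexp _ ha
    · refine eq_bot_iff.mpr fun x hx => ?_
      obtain ⟨g, rfl⟩ := hπs x
      exact Subgroup.mem_bot.mpr ((QuotientGroup.eq_one_iff g).mpr (h hx))
    · rw [hidx]
      exact Subgroup.one_lt_index_of_ne_top hDt
    · rw [← QuotientGroup.eq_one_iff]
      refine hfp _ ht _ hn ?_
      rw [← QuotientGroup.eq_one_iff] at hc
      simp only [QuotientGroup.mk_mul, QuotientGroup.mk_inv, mul_inv_eq_one] at hc
      calc (t : G ⧸ K) * n = (t : G ⧸ K) * n * (t : G ⧸ K)⁻¹ * t := by group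
        _ = (n : G ⧸ K) * t := by rw [hc]

/-- In the `p`-group case, `p` joins every degree: either `p` divides the degree or `p` times it divides
another degree. -/
theorem exists_degree_mul_of_pQuotient {p : ℕ} (hp : p.Prime) (K : Subgroup G) [K.Normal]
    (hpg : IsPGroup p (G ⧸ K)) {β : G → ℂ} (hβ : IsIrrCharacter G β) (hβK : ∀ k ∈ K, β k = β 1)
    {χ : G → ℂ} (hχ : IsIrrCharacter G χ) :
    p ∣ charDegree χ ∨ ∃ ψ : G → ℂ, IsIrrCharacter G ψ ∧ charDegree ψ = charDegree β * charDegree χ := by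
  classical
  have := Fintype.ofFinite G
  have := Fintype.ofFinite K
  by_cases hpd : p ∣ charDegree χ
  · exact Or.inl hpd
  · right
    have hres := isCharacter_restrict (isCharacter_of_irr hχ) K
    obtain ⟨θ, hθ, hc⟩ := exists_constituent hres fun e => irr_ne_zero hχ (congrFun e 1)
    obtain ⟨e, he, hdvd⟩ := degree_ratio_dvd hχ hθ hc
    rw [(charDegree_spec' hχ).1, (charDegree_spec' hθ).1, ← Nat.cast_mul, Nat.cast_inj] at he
    have he1 : e = 1 := by
      haveI := Fact.mk hp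
      obtain ⟨a, ha⟩ := IsPGroup.iff_card.mp hpg
      rw [Subgroup.index_eq_card, ha] at hdvd
      obtain ⟨i, -, hi⟩ := (Nat.dvd_prime_pow hp).mp hdvd
      rcases Nat.eq_zero_or_pos i with rfl | hi0
      · simpa using hi
      · exact absurd (he ▸ dvd_mul_of_dvd_left (hi ▸ dvd_pow_self p hi0.ne') _) hpd
    have heq : (fun n : K => χ n) = θ := by
      obtain ⟨m, hm⟩ := classInner_char_nat hres (isCharacter_of_irr hθ)
      have h1 := congrFun (clifford K hχ hθ hc) 1
      have h2 : χ 1 = θ 1 := by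
        rw [(charDegree_spec' hχ).1, (charDegree_spec' hθ).1, he, he1, one_mul]
      have hd := clifford_degree K hχ hθ hc
      rw [hm, h2, ← Nat.cast_mul] at hd
      have h3 : ((m * (inertia K θ).index : ℕ) : ℂ) = (1 : ℕ) := by
        rw [Nat.cast_one]; exact (mul_eq_right₀ (irr_ne_zero hθ)).mp hd.symm
      obtain ⟨hm1, hi1⟩ := mul_eq_one.mp (Nat.cast_injective h3)
      have hinv : ∀ g : G, conjNormFun K g θ = θ := fun g =>
        (mem_inertia K).mp ((Subgroup.index_eq_one.mp hi1).symm ▸ mem_top g)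
      have := clifford_invariant K hχ hθ hc hinv
      rwa [hm, hm1, Nat.cast_one, one_smul] at this
    refine ⟨β * χ, (gallagher K (isCharacter_of_irr hχ) (heq ▸ hθ)).1 β hβ hβK, ?_⟩
    exact charDegree_mul_of (isCharacter_of_irr hβ) (isCharacter_of_irr hχ)

/-- In the Frobenius case a degree is `q`-divisible or has its prime divisors in an `f`-divisible degree. -/
theorem exists_degree_of_frobQuotient (N K : Subgroup G) [N.Normal] [K.Normal] {q : ℕ} (hq : q.Prime)
    (hcomm : ∀ a ∈ N, ∀ b ∈ N, a * b * a⁻¹ * b⁻¹ ∈ K) (hexp : ∀ a ∈ N, a ^ q ∈ K)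
    (hNK : ¬ N ≤ K) (hfp : ∀ t, t ∉ N → ∀ n ∈ N, t * n * t⁻¹ * n⁻¹ ∈ K → n ∈ K)
    {χ : G → ℂ} (hχ : IsIrrCharacter G χ) :
    q ∣ charDegree χ ∨ ∃ ψ : G → ℂ, IsIrrCharacter G ψ ∧ N.index ∣ charDegree ψ ∧
      charDegree χ ∣ charDegree ψ := by
  classical
  have := Fintype.ofFinite G
  have := Fintype.ofFinite N
  have hres := isCharacter_restrict (isCharacter_of_irr hχ) N
  obtain ⟨θ, hθ, hc⟩ := exists_constituent hres fun e => irr_ne_zero hχ (congrFun e 1)
  obtain ⟨e, he, hdvd⟩ := degree_ratio_dvd hχ hθ hc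
  rw [(charDegree_spec' hχ).1, (charDegree_spec' hθ).1, ← Nat.cast_mul, Nat.cast_inj] at he
  by_cases hqd : q ∣ charDegree θ
  · exact Or.inl (he ▸ dvd_mul_of_dvd_right hqd e)
  · obtain ⟨ψ, hψ, hd⟩ := exists_degree_index_mul N K hq hcomm hexp hNK hfp hθ hqd
    exact Or.inr ⟨ψ, hψ, hd ▸ dvd_mul_right _ _, by rw [he, hd]; exact Nat.mul_dvd_mul_right hdvd _⟩

end CfsgLib.CharTheory
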