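import Mathlib
import Cfsg.Agent.Lib.CharTheory.More
import Cfsg.Agent.Lib.CharTheory.Monomial
import Cfsg.Agent.Lib.CharTheory.AbelianInertia
import Cfsg.Agent.Lib.CharTheory.Degree
import Cfsg.Agent.Lib.Transfer

/-!
# Characters irreducible on a normal subgroup with abelian Sylow subgroups are monomial
-/

set_option autoImplicit false

namespace CfsgLib.CharTheory.MonomialASylow

open Cfsg CfsgLib.CharTheory
open scoped ComplexConjugate commutatorElement

set_option linter.unusedVariables false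
set_option linter.unusedSectionVars false
set_option linter.style.haveILetI false

universe u

/-- The derived series of a subgroup, inside the ambient group. -/
def dser {H : Type u} [Group H] (N : Subgroup H) : ℕ → Subgroup H
  | 0 => N
  | n + 1 => ⁅dser N n, dser N n⁆

theorem dser_le {H : Type u} [Group H] (N : Subgroup H) : ∀ n, dser N n ≤ N
  | 0 => le_rfl
  | n + 1 => (Subgroup.commutator_le_self _).trans (dser_le N n)

theorem dser_le_derived {H : Type u} [Group H] (N : Subgroup H) : ∀ n, dser N n ≤ derivedSeries H n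
  | 0 => le_top
  | n + 1 => Subgroup.commutator_mono (dser_le_derived N n) (dser_le_derived N n)

theorem dser_normal {H : Type u} [Group H] (N : Subgroup H) [hN : N.Normal] : ∀ n, (dser N n).Normal
  | 0 => hN
  | n + 1 => by
    haveI := dser_normal N n
    exact Subgroup.commutator_normal _ _

/-- Every `p`-subgroup of `N` is abelian. -/
def ASyl {H : Type u} [Group H] (N : Subgroup H) : Prop :=
  ∀ (p : ℕ) [Fact p.Prime] (P : Subgroup H), P ≤ N → IsPGroup p P → ∀ a ∈ P, ∀ b ∈ P, a * b = b * a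

theorem monomial : ∀ (n : ℕ) (H : Type u) [Group H] [Fintype H] [Group.IsSolvable H], Nat.card H = n →
    ∀ (N : Subgroup H) [N.Normal], ASyl N → ∀ ψ : H → ℂ, IsIrrCharacter H ψ →
      IsIrrCharacter N (fun x : N => ψ x) → IsMonomialChar ψ := by
  intro n
  induction n using Nat.strong_induction_on with
  | _ n ih =>
  intro H _ _ _ hn N _ hA ψ hψ hψN
  classical
  haveI : Fintype N := Fintype.ofFinite N
  obtain ⟨d, hd0, hd⟩ := irr_degree_pos hψ
  have hψc := isCharacter_of_irr hψ
  have hψ' := hψ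
  obtain ⟨m, ρ, hρ, hρψ⟩ := hψ'
  haveI := hρ
  have hfr : Module.finrank ℂ (Fin m → ℂ) = d := by
    have e := ρ.char_one
    rw [hρψ, hd] at e
    exact_mod_cast e.symm
  have hscal : ∀ x, (∃ ω : ℂ, ρ x = ω • LinearMap.id) → ‖ψ x‖ = (d : ℝ) := fun x hx => by
    have := (norm_character_eq_iff ρ x).2 hx
    rwa [hρψ, hfr] at this
  let Z : Subgroup H :=
    { carrier := {x | x ∈ N ∧ ∃ ω : ℂ, ρ x = ω • LinearMap.id}
      one_mem' := ⟨N.one_mem, 1, by rw [map_one, one_smul, Module.End.one_eq_id]⟩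
      mul_mem' := by
        rintro x y ⟨hx, a, ha⟩ ⟨hy, b, hb⟩
        exact ⟨N.mul_mem hx hy, a * b, by
          rw [map_mul, ha, hb, ← Module.End.one_eq_id, smul_mul_smul_comm, one_mul]⟩
      inv_mem' := by
        rintro x ⟨hx, a, ha⟩
        refine ⟨N.inv_mem hx, ?_⟩
        refine (norm_character_eq_iff ρ x⁻¹).1 ?_
        rw [hρψ, char_apply_inv hψc, Complex.norm_conj, hscal x ⟨a, ha⟩, hfr] }
  haveI hZn : Z.Normal := ⟨by
    rintro x ⟨hx, a, ha⟩ g
    refine ⟨(inferInstance : N.Normal).conj_mem x hx g, a, ?_⟩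
    rw [map_mul, map_mul, ha, ← Module.End.one_eq_id, mul_smul_comm, mul_one, smul_mul_assoc,
      ← map_mul, mul_inv_cancel, map_one]⟩
  by_cases hNZ : N ≤ Z
  · refine isMonomialChar_linear hψc ?_
    have h1 := sum_mul_conj_irr hψN
    rw [Finset.sum_congr rfl fun (x : N) _ => show ψ x * conj (ψ x) = ((d : ℂ) ^ 2) by
      rw [Complex.mul_conj', hscal x (hNZ x.2).2, Complex.ofReal_natCast],
      Finset.sum_const, Finset.card_univ, nsmul_eq_mul, ← Nat.card_eq_fintype_card] at h1
    have h2 : (d : ℂ) ^ 2 = 1 := by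
      refine mul_left_cancel₀ (Nat.cast_ne_zero.2 (Nat.card_pos (α := N)).ne') ?_
      rw [h1, mul_one]
    have h3 : d ^ 2 = 1 := by exact_mod_cast h2
    rw [hd, (Nat.pow_eq_one.1 h3).resolve_right (by norm_num), Nat.cast_one]
  -- an abelian section outside `Z`
  have hex : ∃ i, dser N i ≤ Z := by
    obtain ⟨k, hk⟩ := Group.IsSolvable.solvable (G := H)
    exact ⟨k, ((dser_le_derived N k).trans hk.le).trans bot_le⟩
  obtain ⟨j, hj⟩ : ∃ j, Nat.find hex = j + 1 := by
    rcases Nat.eq_zero_or_pos (Nat.find hex) with h0 | h0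
    · have := Nat.find_spec hex
      rw [h0] at this
      exact absurd this hNZ
    · exact ⟨Nat.find hex - 1, by omega⟩
  set D := dser N j with hD
  have hDZ : ¬ D ≤ Z := Nat.find_min hex (by omega)
  have hDD : ⁅D, D⁆ ≤ Z := by
    have := Nat.find_spec hex
    rwa [hj] at this
  haveI : D.Normal := dser_normal N j
  set π := QuotientGroup.mk' Z with hπ
  set Db := D.map π with hDb
  have hDcomm : ∀ a ∈ Db, ∀ b ∈ Db, a * b = b * a := by
    rintro _ ⟨a, ha, rfl⟩ _ ⟨b, hb, rfl⟩
    rw [← map_mul, ← map_mul, QuotientGroup.mk'_apply, QuotientGroup.mk'_apply, QuotientGroup.eq]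
    have := hDD (Subgroup.commutator_mem_commutator (D.inv_mem hb) (D.inv_mem ha))
    simpa [commutatorElement_def, mul_assoc] using this
  obtain ⟨x₀, hx₀, hx₀Z⟩ := SetLike.not_le_iff_exists.1 hDZ
  have hord : orderOf (π x₀) ≠ 1 := fun e => hx₀Z ((QuotientGroup.eq_one_iff x₀).1 (orderOf_eq_one_iff.1 e))
  obtain ⟨p, hp, hpd⟩ := Nat.exists_prime_and_dvd hord
  haveI : Fact p.Prime := ⟨hp⟩
  let Mb : Subgroup (H ⧸ Z) :=
    { carrier := {y | y ∈ Db ∧ ∃ k, y ^ p ^ k = 1}
      one_mem' := ⟨Db.one_mem, 0, one_pow _⟩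
      mul_mem' := by
        rintro a b ⟨ha, i, hi⟩ ⟨hb, k, hk⟩
        refine ⟨Db.mul_mem ha hb, i + k, ?_⟩
        rw [(show Commute a b from hDcomm a ha b hb).mul_pow]
        conv_lhs => arg 1; rw [pow_add, pow_mul, hi, one_pow]
        conv_lhs => arg 2; rw [add_comm, pow_add, pow_mul, hk, one_pow]
        rw [one_mul]
      inv_mem' := by
        rintro a ⟨ha, i, hi⟩
        exact ⟨Db.inv_mem ha, i, by rw [inv_pow, hi, inv_one]⟩ }
  set M : Subgroup H := Mb.comap π with hM
  haveI hMn : M.Normal := ⟨fun x hx g => by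
    obtain ⟨⟨a, ha, hax⟩, k, hk⟩ := hx
    refine ⟨⟨g * a * g⁻¹, (inferInstance : D.Normal).conj_mem a ha g, ?_⟩, k, ?_⟩
    · rw [map_mul, map_mul, hax, ← map_mul, ← map_mul]
    · rw [map_mul, map_mul, map_inv, conj_pow, hk]; group⟩
  have hZM : Z ≤ M := fun z hz => by
    show π z ∈ Mb
    rw [hπ, QuotientGroup.mk'_apply, (QuotientGroup.eq_one_iff z).2 hz]
    exact Mb.one_mem
  have hMN : M ≤ N := fun x hx => by
    obtain ⟨⟨a, ha, hax⟩, -⟩ := hx
    have h2 : a⁻¹ * x ∈ Z := QuotientGroup.eq.1 hax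
    have := N.mul_mem (dser_le N j ha) h2.1
    rwa [mul_inv_cancel_left] at this
  have hMZ : ¬ M ≤ Z := by
    intro hle
    set y := x₀ ^ (orderOf (π x₀) / p) with hy
    have hym : y ∈ M := by
      refine ⟨⟨y, D.pow_mem hx₀ _, rfl⟩, 1, ?_⟩
      rw [hy, map_pow, pow_one, ← pow_mul, Nat.div_mul_cancel hpd, pow_orderOf_eq_one]
    have h1 : (π x₀) ^ (orderOf (π x₀) / p) = 1 := by
      rw [← map_pow]; exact (QuotientGroup.eq_one_iff y).2 (hle hym)
    have h2 := orderOf_dvd_of_pow_eq_one h1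
    have hpos : 0 < orderOf (π x₀) / p :=
      Nat.div_pos (Nat.le_of_dvd (orderOf_pos _) hpd) hp.pos
    exact absurd (Nat.le_of_dvd hpos h2) (not_le.2 (Nat.div_lt_self (orderOf_pos _) hp.one_lt))
  -- `ρ M` is commutative
  obtain ⟨P⟩ := (inferInstance : Nonempty (Sylow p M))
  haveI : (Z.subgroupOf M).Normal := Subgroup.Normal.subgroupOf hZn M
  have hPZ : (P : Subgroup M) ⊔ Z.subgroupOf M = ⊤ := by
    refine CfsgLib.Transfer.sylow_sup_eq_top_of_isPGroup_quotient P _ fun q => ?_
    obtain ⟨x, rfl⟩ := QuotientGroup.mk'_surjective (Z.subgroupOf M) q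
    obtain ⟨-, k, hk⟩ := x.2
    refine ⟨k, ?_⟩
    rw [← map_pow, QuotientGroup.mk'_apply, QuotientGroup.eq_one_iff, Subgroup.mem_subgroupOf,
      Subgroup.coe_pow, ← QuotientGroup.eq_one_iff, ← QuotientGroup.mk'_apply, map_pow]
    exact hk
  have hPab := hA p ((P : Subgroup M).map M.subtype)
    ((Subgroup.map_subtype_le _).trans hMN) (P.2.map _)
  have hMcomm : ∀ a b : M, ρ (a : H) * ρ (b : H) = ρ (b : H) * ρ (a : H) := by
    intro a b
    have ha : a ∈ (P : Subgroup M) ⊔ Z.subgroupOf M := hPZ ▸ Subgroup.mem_top a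
    have hb : b ∈ (P : Subgroup M) ⊔ Z.subgroupOf M := hPZ ▸ Subgroup.mem_top b
    rw [← SetLike.mem_coe, Subgroup.mul_normal] at ha hb
    obtain ⟨u, hu, z, hz, rfl⟩ := ha
    obtain ⟨v, hv, w, hw, rfl⟩ := hb
    obtain ⟨-, α, hα⟩ := hz
    obtain ⟨-, β, hβ⟩ := hw
    simp only [Subgroup.coe_mul, map_mul]
    rw [show ρ (z : H) = α • LinearMap.id from hα, show ρ (w : H) = β • LinearMap.id from hβ,
      ← Module.End.one_eq_id]
    simp only [mul_smul_comm, mul_one, smul_mul_smul_comm]
    rw [smul_mul_assoc, smul_mul_assoc, ← map_mul, ← map_mul, show (u : H) * (v : H) = v * u from hPab _ ⟨u, hu, rfl⟩ _ ⟨v, hv, rfl⟩, smul_comm]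
  haveI : Fintype M := Fintype.ofFinite M
  obtain ⟨θ, hθ, hc⟩ := exists_constituent (isCharacter_restrict hψc M)
    (fun e => irr_ne_zero hψ (congrFun e 1))
  have hT : inertia M θ ≠ ⊤ := by
    intro htop
    have hres := clifford_invariant M hψ hθ hc fun g => by
      rw [← mem_inertia M, htop]; exact Subgroup.mem_top g
    obtain ⟨e, he⟩ := classInner_char_nat (isCharacter_restrict hψc M) (isCharacter_of_irr hθ)
    rw [he] at hres hc
    have hresx : ∀ x : M, ψ x = (e : ℂ) * θ x := fun x => by simpa using congrFun hres x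
    have hlin : θ 1 = 1 := by
      refine irr_degree_one_of_kernel_commutator (charKernel θ (isCharacter_of_irr hθ))
        (fun x y => (mem_charKernel _ _).2 (mul_left_cancel₀ hc ?_)) hθ
        (fun k hk => (mem_charKernel _ k).1 hk)
      have h2 : ρ ((x * y * x⁻¹ * y⁻¹ : M) : H) = 1 := by
        simp only [Subgroup.coe_mul, Subgroup.coe_inv]
        rw [map_mul, map_mul, map_mul, hMcomm x y]
        simp only [mul_assoc, ← map_mul, mul_inv_cancel_left]
        simp
      rw [← hresx, ← hresx, ← hρψ]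
      show LinearMap.trace ℂ _ (ρ _) = LinearMap.trace ℂ _ (ρ _)
      rw [h2, Subgroup.coe_one, map_one ρ]
    obtain ⟨φ, hφ⟩ := exists_hom_of_degree_one (isCharacter_of_irr hθ) hlin
    have hed : (e : ℝ) = d := by
      have := hresx 1
      rw [hlin, mul_one, Subgroup.coe_one, hd] at this
      exact_mod_cast this.symm
    refine hMZ fun x hx => ⟨hMN hx, (norm_character_eq_iff ρ x).1 ?_⟩
    rw [hρψ, hfr, show x = ((⟨x, hx⟩ : M) : H) from rfl, hresx, hφ, norm_mul, Complex.norm_natCast,
      Complex.norm_eq_one_of_pow_eq_one (n := Nat.card M) ?_ Nat.card_pos.ne', mul_one, hed]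
    rw [← Units.val_pow_eq_pow_val, ← map_pow, pow_card_eq_one', map_one, Units.val_one]
  set T := inertia M θ with hTdef
  haveI : Fintype T := Fintype.ofFinite T
  obtain ⟨η, hη, -, hind⟩ := exists_clifford_pre M hθ (le_inertia M (isClassFunction_irr hθ)) hTdef hψ hc
  have hlt : Nat.card T < n := hn ▸ lt_of_le_of_ne (Subgroup.card_le_card_group T)
    fun e => hT (Subgroup.eq_top_of_card_eq T e)
  have hmon : IsMonomialChar η := by
    haveI : (N.subgroupOf T).Normal := Subgroup.Normal.subgroupOf inferInstance T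
    refine ih _ hlt T rfl (N.subgroupOf T) (fun q _ Q hQ hQp a ha b hb => ?_) η hη ?_
    · exact Subtype.ext (hA q (Q.map T.subtype) (fun x hx => by
        obtain ⟨y, hy, rfl⟩ := hx
        exact hQ hy) (hQp.map _) _ ⟨a, ha, rfl⟩ _ ⟨b, hb, rfl⟩)
    -- irreducibility on `N ⊓ T`
    set S := T.subgroupOf N with hS
    haveI : Fintype S := Fintype.ofFinite S
    let toT : S →* T := MonoidHom.mk' (fun x => ⟨((x : N) : H), Subgroup.mem_subgroupOf.1 x.2⟩) fun _ _ => rfl
    have hηS := isCharacter_comp (isCharacter_of_irr hη) toT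
    obtain ⟨α, hα, hαne⟩ := exists_constituent hηS (fun e => irr_ne_zero hη (congrFun e 1))
    have hψT := isCharacter_restrict hψc T
    have hne1 : classInner (fun t : T => ψ t) η ≠ 0 := by
      rw [← frobenius_reciprocity' T η (isClassFunction_irr hψ), hind, classInner_irr_self hψ]
      exact one_ne_zero
    have hrestS := isCharacter_comp (isCharacter_sub_irr hψT hη hne1) toT
    have hψS : classInner (fun s : S => ψ ((s : N) : H)) α ≠ 0 := by
      obtain ⟨a, ha⟩ := classInner_char_nat hηS (isCharacter_of_irr hα)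
      obtain ⟨b, hb⟩ := classInner_char_nat hrestS (isCharacter_of_irr hα)
      have e : (fun s : S => ψ ((s : N) : H)) = (fun s => η (toT s)) +
          fun s => ((fun t : T => ψ t) - η) (toT s) := by
        funext s; simp [toT]
      rw [e, classInner_add_left, ha, hb]
      intro h0
      refine hαne ?_
      rw [ha]
      have : a + b = 0 := by exact_mod_cast h0
      rw [show a = 0 by omega, Nat.cast_zero]
    have hindS : classInner (indFun S α) (fun x : N => ψ x) ≠ 0 := by
      rw [frobenius_reciprocity S α (isClassFunction_irr hψN), ← classInner_comm]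
      exact (map_ne_zero _).2 hψS
    obtain ⟨a, ha⟩ := char_one_eq_natCast (isCharacter_of_irr hα)
    obtain ⟨b, hb⟩ := char_one_eq_natCast (isCharacter_of_irr hη)
    have hle1 := classInner_mono_degree (isCharacter_indFun S (isCharacter_of_irr hα))
      (isCharacter_of_irr hψN) (isCharacter_sub_irr (isCharacter_indFun S (isCharacter_of_irr hα)) hψN hindS)
    have hψ1 : ψ 1 = (T.index : ℂ) * η 1 := by rw [← hind, indFun_apply_one]
    rw [indFun_apply_one, ha, Subgroup.coe_one, hψ1, hb, ← Nat.cast_mul, ← Nat.cast_mul,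
      Complex.natCast_re, Complex.natCast_re, Nat.cast_le] at hle1
    have hidx : S.index ≤ T.index :=
      Subgroup.relIndex_le_of_le_right (le_top : N ≤ ⊤) (by
        rw [Subgroup.relIndex_top_right]; exact Subgroup.index_ne_zero_of_finite) |>.trans
        (Subgroup.relIndex_top_right T).le
    have hba : b ≤ a := Nat.le_of_mul_le_mul_left (hle1.trans (Nat.mul_le_mul_right a hidx))
      (Nat.pos_of_ne_zero Subgroup.index_ne_zero_of_finite)
    have hrest := isCharacter_sub_irr hηS hα hαne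
    obtain ⟨c, hc'⟩ := char_one_eq_natCast hrest
    have hc0 : c = 0 := by
      rw [Pi.sub_apply, map_one, hb, ha] at hc'
      have : (b : ℂ) = ((a + c : ℕ) : ℂ) := by push_cast; linear_combination hc'
      have h2 : b = a + c := Nat.cast_injective this
      omega
    have heq := sub_eq_zero.1 (eq_zero_of_degree_zero hrest (by rw [hc', hc0, Nat.cast_zero]))
    have hirrS : IsIrrCharacter S (fun s => η (toT s)) := heq ▸ hα
    exact isIrrCharacter_comp_surjective hirrS
      (MonoidHom.mk' (fun x : N.subgroupOf T => (⟨⟨((x : T) : H), Subgroup.mem_subgroupOf.1 x.2⟩,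
        Subgroup.mem_subgroupOf.2 (x : T).2⟩ : S)) fun _ _ => rfl)
      (fun s => ⟨⟨toT s, Subgroup.mem_subgroupOf.2 (s : N).2⟩, rfl⟩)
  rw [← hind]
  exact isMonomialChar_indFun hmon

end CfsgLib.CharTheory.MonomialASylow
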