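/-
Ordinary character theory: restrictions and vanishing cosets, products of classes, perfect groups
and prime codegrees.
-/
import Cfsg.Agent.Lib.CharTheory.More
import Mathlib.GroupTheory.Perm.Cycle.Type
import Mathlib.GroupTheory.SpecificGroups.Cyclic

namespace CfsgLib.CharTheory

open Cfsg
open scoped ComplexConjugate

set_option maxHeartbeats 400000

universe u

variable {G : Type u} [Group G]

/-- Totally positive algebraic integers with natural sum `T` are at most `T` in number. -/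
theorem card_le_of_sum_pos {n : ℕ} [NeZero n] {ι : Type*} (S : Finset ι) (z : ι → rootField n)
    (hint : ∀ i ∈ S, IsIntegral ℤ (z i : ℂ))
    (hpos : ∀ i ∈ S, ∀ σ : rootField n →ₐ[ℚ] ℂ, ∃ r : ℝ, 0 < r ∧ σ (z i) = (r : ℂ))
    (T : ℕ) (hT : ∑ i ∈ S, (z i : ℂ) = (T : ℂ)) : S.card ≤ T := by
  have hsum : ∑ i ∈ S, z i = (T : rootField n) := Subtype.ext (by push_cast; exact hT)
  have hN : (0 : ℝ) < Fintype.card (rootField n →ₐ[ℚ] ℂ) := by
    exact_mod_cast Fintype.card_pos_iff.2 ⟨(rootField n).val⟩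
  have h1 : (S.card : ℝ) * Fintype.card (rootField n →ₐ[ℚ] ℂ) ≤
      (T : ℝ) * Fintype.card (rootField n →ₐ[ℚ] ℂ) := by
    calc (S.card : ℝ) * Fintype.card (rootField n →ₐ[ℚ] ℂ)
        = ∑ _i ∈ S, (Fintype.card (rootField n →ₐ[ℚ] ℂ) : ℝ) := by simp
      _ ≤ ∑ i ∈ S, ∑ σ : rootField n →ₐ[ℚ] ℂ, (σ (z i)).re :=
          Finset.sum_le_sum fun i hi => card_le_sum_pos _ (hint i hi) (hpos i hi)
      _ = ∑ σ : rootField n →ₐ[ℚ] ℂ, ∑ i ∈ S, (σ (z i)).re := Finset.sum_comm
      _ = _ := by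
          rw [Finset.sum_congr rfl fun σ _ => show ∑ i ∈ S, (σ (z i)).re = (T : ℝ) by
            rw [← Complex.re_sum, ← map_sum, hsum, map_natCast, Complex.natCast_re],
            Finset.sum_const, Finset.card_univ, nsmul_eq_mul, mul_comm]
  exact_mod_cast le_of_mul_le_mul_right h1 hN

/-- A reducible restriction to a normal subgroup forces a coset of zeros. -/
theorem exists_coset_zeros [Finite G] (N : Subgroup G) [N.Normal] {χ : G → ℂ}
    (hχ : IsIrrCharacter G χ) (hN : ¬ IsIrrCharacter N (fun n : N => χ n)) :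
    ∃ x : G, ∀ n : N, χ ((n : G) * x) = 0 := by
  classical
  have := Fintype.ofFinite G
  haveI : NeZero (Nat.card G) := ⟨Nat.card_pos.ne'⟩
  by_contra hno
  push Not at hno
  have hc := isCharacter_of_irr hχ
  set f := cosetAvg N (χ * fun g => conj (χ g)) with hf
  have hfc : IsCharacter G f := isCharacter_cosetAvg N (isCharacter_mul hc (isCharacter_conj hc))
  have hpos : ∀ g : G, ∃ r : ℝ, 0 < r ∧ f g = (r : ℂ) := by
    intro g
    refine ⟨(Nat.card N : ℝ)⁻¹ * ∑ n : N, Complex.normSq (χ ((n : G) * g)), ?_, ?_⟩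
    · refine mul_pos (inv_pos.mpr (Nat.cast_pos.mpr Nat.card_pos)) ?_
      obtain ⟨n, hn⟩ := hno g
      exact Finset.sum_pos' (fun n _ => Complex.normSq_nonneg _)
        ⟨n, Finset.mem_univ _, Complex.normSq_pos.mpr hn⟩
    · simp only [f, cosetAvg, Pi.mul_apply, Complex.mul_conj]
      push_cast
      rfl
  obtain ⟨m, hm⟩ := classInner_char_nat (isCharacter_restrict hc N) (isCharacter_restrict hc N)
  have hf1 : ∀ g ∈ N, f g = (m : ℂ) := by
    intro g hg
    have h := cosetAvg_mul_left N (χ * fun g => conj (χ g)) ⟨g, hg⟩ 1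
    rw [mul_one] at h
    rw [show f g = cosetAvg N (χ * fun g => conj (χ g)) 1 from h, ← hm]
    simp [cosetAvg, classInner]
  have hall : ∑ g : G, f g = (Nat.card G : ℂ) := by
    rw [← sum_mul_conj_irr hχ]
    simp only [f, cosetAvg, ← Finset.mul_sum, Pi.mul_apply]
    rw [Finset.sum_comm]
    have e : ∀ n : N, ∑ g : G, χ ((n : G) * g) * conj (χ ((n : G) * g)) = ∑ g : G, χ g * conj (χ g) :=
      fun n => Fintype.sum_equiv (Equiv.mulLeft (n : G)) _ _ fun g => rfl
    simp only [e, Finset.sum_const, Finset.card_univ, nsmul_eq_mul, Nat.card_eq_fintype_card]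
    rw [← mul_assoc, inv_mul_cancel₀ (Nat.cast_ne_zero.mpr Fintype.card_ne_zero), one_mul]
  rw [← Finset.sum_filter_add_sum_filter_not Finset.univ (fun g : G => g ∈ N),
    Finset.sum_congr rfl fun g (hg : g ∈ Finset.univ.filter fun g : G => g ∈ N) =>
      hf1 g (Finset.mem_filter.mp hg).2, Finset.sum_const, nsmul_eq_mul,
    ← Fintype.card_subtype, ← Nat.card_eq_fintype_card] at hall
  set S := Finset.univ.filter (fun g : G => ¬ g ∈ N) with hS
  have hre : ((Nat.card N : ℝ) * m) + ∑ g ∈ S, (f g).re = (Nat.card G : ℝ) := by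
    have := congrArg Complex.re hall
    simpa using this
  have hnn : 0 ≤ ∑ g ∈ S, (f g).re := Finset.sum_nonneg fun g _ => by
    obtain ⟨r, hr, e⟩ := hpos g
    rw [e, Complex.ofReal_re]
    exact hr.le
  have hle0 : Nat.card N * m ≤ Nat.card G := by
    exact_mod_cast (show ((Nat.card N * m : ℕ) : ℝ) ≤ Nat.card G by push_cast; linarith)
  have hcard := card_le_of_sum_pos S (fun g => ⟨f g, char_mem_rootField hfc g⟩)
    (fun g _ => isIntegral_of_char hfc g) (fun g _ σ => by
      obtain ⟨k, hk, hσ⟩ := exists_pow_of_galois_hom Nat.card_pos.ne' σ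
      obtain ⟨r, hr, e⟩ := hpos (g ^ k)
      exact ⟨r, hr, by rw [galois_apply_char hfc g σ hσ, e]⟩)
    (Nat.card G - Nat.card N * m) (by
      rw [Nat.cast_sub hle0]; push_cast
      linear_combination hall)
  have hSc : S.card + Nat.card N = Nat.card G := by
    have h1 := Finset.card_filter_add_card_filter_not (s := (Finset.univ : Finset G))
      (fun g : G => g ∈ N)
    rw [Finset.card_univ, ← Nat.card_eq_fintype_card, ← Fintype.card_subtype,
      ← Nat.card_eq_fintype_card, add_comm] at h1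
    exact h1
  have hm0 : m ≠ 0 := by
    intro h0
    obtain ⟨r, hr, e⟩ := hpos 1
    rw [hf1 1 (one_mem N), h0, Nat.cast_zero, eq_comm, Complex.ofReal_eq_zero] at e
    exact hr.ne' e
  have hm1 : m = 1 := by
    have hN0 : 0 < Nat.card N := Nat.card_pos
    have : Nat.card N * m ≤ Nat.card N * 1 := by omega
    have := Nat.le_of_mul_le_mul_left this hN0
    omega
  exact hN (irr_of_char_norm_one (isCharacter_restrict hc N) (by rw [hm, hm1, Nat.cast_one]))

/-- Values on products of two classes all agreeing make them one class. -/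
theorem class_mul_of_const [Finite G] {x y : G}
    (h : ∀ (a b : G) (χ : IrrCharacter G),
      (χ : G → ℂ) (a * x * a⁻¹ * (b * y * b⁻¹)) = (χ : G → ℂ) (x * y)) (z : G) :
    IsConj (x * y) z ↔ ∃ a b : G, z = a * x * a⁻¹ * (b * y * b⁻¹) := by
  constructor
  · intro hz
    obtain ⟨k, rfl⟩ := isConj_iff.mp hz
    exact ⟨k, k, by group⟩
  · rintro ⟨a, b, rfl⟩
    exact (isConj_of_forall_irr fun χ => h a b χ).symm

theorem class_mul_value [Finite G] {x y : G}
    (h : ∀ z : G, IsConj (x * y) z ↔ ∃ a b : G, z = a * x * a⁻¹ * (b * y * b⁻¹))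
    {χ : G → ℂ} (hχ : IsIrrCharacter G χ) (a b : G) :
    χ 1 * χ (a * x * a⁻¹ * (b * y * b⁻¹)) = χ x * χ y := by
  classical
  have := Fintype.ofFinite G
  have hcf := isClassFunction_iff_isConj.mp (isClassFunction_irr hχ)
  rw [← hcf _ _ ((h _).mpr ⟨a, b, rfl⟩)]
  have h1 := sum_conj_mul_char hχ x y
  rw [Finset.sum_congr rfl fun a _ => (hcf (x * y) (a * x * a⁻¹ * y)
      ((h _).mpr ⟨a, 1, by simp⟩)).symm, Finset.sum_const, Finset.card_univ, nsmul_eq_mul,
    ← Nat.card_eq_fintype_card] at h1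
  have h2 := irr_ne_zero hχ
  have h3 : (Nat.card G : ℂ) ≠ 0 := Nat.cast_ne_zero.mpr Nat.card_pos.ne'
  field_simp at h1
  linear_combination h1

/-- A perfect group has no character of prime codegree. -/
theorem not_prime_codegree_of_perfect [Finite G] (hG : commutator G = ⊤) {χ : G → ℂ}
    (hχ : IsIrrCharacter G χ) :
    ¬ ((charKernel χ (isCharacter_of_irr hχ)).index / charDegree χ).Prime := by
  classical
  intro hq
  set K := charKernel χ (isCharacter_of_irr hχ) with hK
  obtain ⟨ψ, hψ, e⟩ := exists_quotient_irr K hχ fun n hn => (mem_charKernel _ n).mp hn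
  have : Fintype (G ⧸ K) := Fintype.ofFinite _
  have hperf : commutator (G ⧸ K) = ⊤ := by
    rw [commutator_def, ← Subgroup.map_top_of_surjective (QuotientGroup.mk' K)
      (QuotientGroup.mk'_surjective K), ← Subgroup.map_commutator, ← commutator_def, hG]
  have hfaith : ∀ z, ψ z = ψ 1 → z = 1 := by
    intro z hz
    obtain ⟨g, rfl⟩ := QuotientGroup.mk_surjective z
    rw [QuotientGroup.eq_one_iff, hK, mem_charKernel, congrFun e g, congrFun e 1]
    exact hz
  have hd : charDegree ψ = charDegree χ := by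
    simp only [charDegree, congrFun e 1]
    rfl
  set d := charDegree χ with hdef
  set q := K.index / d with hqdef
  obtain ⟨hψ1, hdpos⟩ := charDegree_spec' hψ
  rw [hd] at hψ1 hdpos
  have hcard : Nat.card (G ⧸ K) = d * q := (Nat.mul_div_cancel' (charDegree_dvd_index_kernel hχ)).symm
  have hhom : ∀ (f : (G ⧸ K) →* ℂˣ) (z : G ⧸ K), f z = 1 := fun f z => by
    have : commutator (G ⧸ K) ≤ f.ker := Abelianization.commutator_subset_ker f
    rw [hperf] at this
    exact this (Subgroup.mem_top z)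
  have hd2 : 2 ≤ d := by
    by_contra hlt
    have hd1 : d = 1 := by omega
    obtain ⟨f, hf⟩ := exists_hom_of_degree_one (isCharacter_of_irr hψ)
      (by rw [hψ1, hd1, Nat.cast_one])
    have hall : ∀ z, ψ z = ψ 1 := fun z => by
      rw [hf]
      simp only [hhom f z, map_one]
    have : Subsingleton (G ⧸ K) := ⟨fun a b => (hfaith a (hall a)).trans (hfaith b (hall b)).symm⟩
    rw [Nat.card_unique, hd1, one_mul] at hcard
    exact hq.one_lt.ne hcard
  have hlt : d < q := by
    have hs := sum_irr_degree_sq (G := G ⧸ K)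
    let t : IrrCharacter (G ⧸ K) := ⟨fun _ => 1, isIrrCharacter_one⟩
    have hs' : ∑ φ : IrrCharacter (G ⧸ K), charDegree (φ : G ⧸ K → ℂ) ^ 2 = Nat.card (G ⧸ K) := by
      rw [Finset.sum_congr rfl fun (φ : IrrCharacter (G ⧸ K)) _ => by
        rw [(charDegree_spec' φ.2).1, ← Nat.cast_pow]] at hs
      exact_mod_cast hs
    have hne : t ≠ ⟨ψ, hψ⟩ := fun he => by
      have h1 := congrArg (fun φ : IrrCharacter (G ⧸ K) => (φ : G ⧸ K → ℂ) 1) he
      simp only [t, hψ1] at h1
      have : d = 1 := by exact_mod_cast h1.symm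
      omega
    have h2 : charDegree (t : G ⧸ K → ℂ) ^ 2 + charDegree ψ ^ 2 ≤ Nat.card (G ⧸ K) := by
      rw [← hs', ← Finset.sum_pair (f := fun φ : IrrCharacter (G ⧸ K) =>
        charDegree (φ : G ⧸ K → ℂ) ^ 2) hne]
      exact Finset.sum_le_sum_of_subset (Finset.subset_univ _)
    rw [show charDegree (t : G ⧸ K → ℂ) = 1 by simp [charDegree, t], hd, hcard] at h2
    by_contra hge
    have : d * q ≤ d * d := Nat.mul_le_mul_left d (by omega)
    rw [← pow_two] at this
    omega
  haveI : Fact q.Prime := ⟨hq⟩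
  obtain ⟨z, hz⟩ := exists_prime_orderOf_dvd_card' (G := G ⧸ K) q (hcard ▸ dvd_mul_left q d)
  have hzpow : ∀ w : G ⧸ K, w ^ q = 1 → w ∈ Subgroup.zpowers z := by
    intro w hw
    by_contra hnot
    have hinj : Function.Injective
        (fun p : Subgroup.zpowers z × Subgroup.zpowers w => (p.1 : G ⧸ K) * p.2) := by
      refine Subgroup.mul_injective_of_disjoint ?_
      rw [disjoint_iff, ← Subgroup.card_eq_one]
      have h1 := Subgroup.card_dvd_of_le (inf_le_left : Subgroup.zpowers z ⊓ Subgroup.zpowers w ≤ _)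
      rw [Nat.card_zpowers, hz] at h1
      refine (hq.eq_one_or_self_of_dvd _ h1).resolve_right fun h2 => ?_
      have h3 : Subgroup.zpowers w = Subgroup.zpowers z ⊓ Subgroup.zpowers w := by
        refine (Subgroup.eq_of_le_of_card_ge inf_le_right ?_).symm
        rw [h2, Nat.card_zpowers]
        exact Nat.le_of_dvd hq.pos (orderOf_dvd_of_pow_eq_one hw)
      exact hnot ((h3.le (Subgroup.mem_zpowers w)).1)
    have hle := Nat.card_le_card_of_injective _ hinj
    have hw1 : orderOf w = q := orderOf_eq_prime hw fun h1 => hnot (h1 ▸ one_mem _)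
    rw [Nat.card_prod, Nat.card_zpowers, Nat.card_zpowers, hz, hw1, hcard] at hle
    exact absurd (Nat.le_of_mul_le_mul_right hle hq.pos) (by omega)
  have hcent : z ∈ Subgroup.center (G ⧸ K) := by
    have hconj : ∀ g : G ⧸ K, ∃ a : ℤ, g * z * g⁻¹ = z ^ a := fun g => by
      obtain ⟨a, ha⟩ := Subgroup.mem_zpowers_iff.mp (hzpow (g * z * g⁻¹)
        (by rw [conj_pow, show z ^ q = 1 from hz ▸ pow_orderOf_eq_one z]; group))
      exact ⟨a, ha.symm⟩
    have hle : commutator (G ⧸ K) ≤ Subgroup.centralizer {z} := by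
      rw [commutator_def, Subgroup.commutator_le]
      intro g _ h _
      rw [Subgroup.mem_centralizer_singleton_iff, commutatorElement_def]
      obtain ⟨a', ha'⟩ := hconj g⁻¹
      obtain ⟨b', hb'⟩ := hconj h⁻¹
      have key' : g⁻¹ * h⁻¹ * z * (g⁻¹ * h⁻¹)⁻¹ = h⁻¹ * g⁻¹ * z * (h⁻¹ * g⁻¹)⁻¹ := by
        calc g⁻¹ * h⁻¹ * z * (g⁻¹ * h⁻¹)⁻¹ = MulAut.conj g⁻¹ (h⁻¹ * z * h⁻¹⁻¹) := by
              rw [MulAut.conj_apply]; group
          _ = (g⁻¹ * z * g⁻¹⁻¹) ^ b' := by rw [hb', map_zpow, MulAut.conj_apply]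
          _ = (h⁻¹ * z * h⁻¹⁻¹) ^ a' := by rw [ha', hb', ← zpow_mul, ← zpow_mul, mul_comm]
          _ = MulAut.conj h⁻¹ (g⁻¹ * z * g⁻¹⁻¹) := by rw [ha', map_zpow, MulAut.conj_apply]
          _ = h⁻¹ * g⁻¹ * z * (h⁻¹ * g⁻¹)⁻¹ := by rw [MulAut.conj_apply]; group
      calc g * h * g⁻¹ * h⁻¹ * z
          = g * h * (g⁻¹ * h⁻¹ * z * (g⁻¹ * h⁻¹)⁻¹) * (g⁻¹ * h⁻¹) := by group
        _ = g * h * (h⁻¹ * g⁻¹ * z * (h⁻¹ * g⁻¹)⁻¹) * (g⁻¹ * h⁻¹) := by rw [key']
        _ = z * (g * h * g⁻¹ * h⁻¹) := by group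
    rw [hperf, top_le_iff] at hle
    rw [Subgroup.mem_center_iff]
    intro g
    exact Subgroup.mem_centralizer_singleton_iff.mp (hle ▸ Subgroup.mem_top g)
  obtain ⟨n, ρ, hρ, hρψ⟩ := hψ
  obtain ⟨ω, hω⟩ : ∃ ω : ℂ, ρ z = ω • (1 : Module.End ℂ (Fin n → ℂ)) :=
    ⟨_, eq_smul_id_of_commute ρ (ρ z) fun k => by
      rw [← map_mul, ← map_mul, Subgroup.mem_center_iff.mp hcent k]⟩
  have hn : n = d := by
    have := congrFun hρψ 1
    rw [ρ.char_one, hψ1, Nat.cast_inj, Module.finrank_fin_fun] at this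
    exact this
  have hne : Nontrivial (Fin n → ℂ) := by
    have : NeZero n := ⟨by omega⟩
    infer_instance
  have hωq : ω ^ q = 1 := by
    have h1 : (ρ z) ^ q = 1 := by
      rw [← map_pow, show z ^ q = 1 from hz ▸ pow_orderOf_eq_one z, map_one]
    rw [hω, smul_pow, one_pow] at h1
    exact smul_left_injective ℂ (one_ne_zero (α := Module.End ℂ (Fin n → ℂ)))
      (h1.trans (one_smul ℂ 1).symm)
  have hωd : ω ^ d = 1 := by
    let f : (G ⧸ K) →* ℂˣ := MonoidHom.toHomUnits (LinearMap.det.comp ρ)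
    have h1 : LinearMap.det (ρ z) = 1 := congrArg Units.val (hhom f z)
    rwa [hω, LinearMap.det_smul, map_one, mul_one, Module.finrank_fin_fun, hn] at h1
  have hω1 : ω = 1 := by
    have hco : Nat.Coprime q d := (hq.coprime_iff_not_dvd).mpr fun hdv =>
      absurd (Nat.le_of_dvd (by omega) hdv) (by omega)
    have h1 := pow_gcd_eq_one.mpr ⟨hωq, hωd⟩
    rwa [hco, pow_one] at h1
  have hz1 : z = 1 := hfaith z (by
    rw [← hρψ]; simp only [Representation.character, hω, hω1, one_smul, map_one])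
  rw [hz1, orderOf_one] at hz
  exact hq.one_lt.ne hz

end CfsgLib.CharTheory
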