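import Cfsg.Agent.Lib.CharTheory.ThreeDegrees
import Cfsg.Agent.Lib.CharTheory.Schur
import Cfsg.Agent.Lib.CharTheory.Fixed
import Cfsg.Agent.Lib.Coprime
import Cfsg.Agent.Lib.Frobenius.Complement

/-!
Groups whose irreducible characters are multiplicative on elements of coprime prime power orders.

Averaging over conjugates shows that a nonlinear character vanishes on all nontrivial elements of
prime power order for all primes but one, so a single Sylow subgroup is normal with abelian
complement, and the nonlinear characters are induced from it.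
-/

namespace CfsgLib.CharTheory.MultCoprime

open Cfsg CfsgLib.CharTheory
open scoped ComplexConjugate commutatorElement

universe u

variable {G : Type u} [Group G] [Finite G]

/-- Multiplicativity on pairs of nontrivial elements of coprime prime power orders. -/
def Mult (G : Type u) [Group G] : Prop :=
  ∀ (x y : G) (χ : IrrCharacter G), x ≠ 1 → y ≠ 1 →
    (∃ p q a b : ℕ, p.Prime ∧ q.Prime ∧ p ≠ q ∧ orderOf x = p ^ a ∧ orderOf y = q ^ b) →
    (χ : G → ℂ) (x * y) = (χ : G → ℂ) x * (χ : G → ℂ) y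

/-- A nonlinear character kills one element of each pair. -/
theorem mul_eq_zero_of_mult (h : Mult G) {χ : IrrCharacter G} (hd : 1 < charDegree (χ : G → ℂ))
    {x y : G} (hx : x ≠ 1) (hy : y ≠ 1)
    (ho : ∃ p q a b : ℕ, p.Prime ∧ q.Prime ∧ p ≠ q ∧ orderOf x = p ^ a ∧ orderOf y = q ^ b) :
    (χ : G → ℂ) x * (χ : G → ℂ) y = 0 := by
  classical
  have := Fintype.ofFinite G
  have h1 := sum_conj_mul_char χ.2 x y
  have h2 : ∀ a : G, (χ : G → ℂ) (a * x * a⁻¹ * y) = (χ : G → ℂ) x * (χ : G → ℂ) y := fun a => by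
    rw [h (a * x * a⁻¹) y χ (fun e => hx ((conj_eq_one_iff).mp e)) hy (by
      obtain ⟨p, q, i, j, hp, hq, hpq, hxo, hyo⟩ := ho
      refine ⟨p, q, i, j, hp, hq, hpq, ?_, hyo⟩
      rw [show a * x * a⁻¹ = MulAut.conj a x from rfl, MulEquiv.orderOf_eq, hxo]),
      isClassFunction_irr χ.2 x a]
  rw [Finset.sum_congr rfl fun a _ => h2 a, Finset.sum_const, Finset.card_univ,
    ← Nat.card_eq_fintype_card, nsmul_eq_mul, (charDegree_spec' χ.2).1] at h1
  by_contra hne
  rw [mul_div_assoc, mul_right_inj' (Nat.cast_ne_zero.mpr Nat.card_pos.ne'), eq_div_iff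
    (Nat.cast_ne_zero.mpr (charDegree_spec' χ.2).2.ne'), mul_eq_left₀ hne, Nat.cast_eq_one] at h1
  omega

/-- Vanishing on the nontrivial elements of a Sylow subgroup makes its order divide the degree. -/
theorem card_dvd_degree_of_vanish (P : Subgroup G) {χ : G → ℂ} (hχ : IsIrrCharacter G χ)
    (hv : ∀ x ∈ P, x ≠ 1 → χ x = 0) : Nat.card P ∣ charDegree χ := by
  classical
  have := Fintype.ofFinite G
  have := Fintype.ofFinite P
  obtain ⟨m, hm⟩ := classInner_char_nat (isCharacter_restrict (isCharacter_of_irr hχ) P)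
    (isCharacter_one (G := P))
  refine ⟨m, ?_⟩
  rw [classInner, Finset.sum_eq_single (1 : P) (fun u _ hu => by
      rw [hv u u.2 (fun e => hu (Subtype.ext e)), zero_mul]) (by simp), OneMemClass.coe_one,
    (charDegree_spec' hχ).1, map_one, mul_one,
    inv_mul_eq_iff_eq_mul₀ (Nat.cast_ne_zero.mpr Nat.card_pos.ne'), ← Nat.cast_mul, Nat.cast_inj] at hm
  exact hm

theorem degree_sq_lt {χ : G → ℂ} (hχ : IsIrrCharacter G χ) (hd : charDegree χ ≠ 1) :
    charDegree χ ^ 2 < Nat.card G := by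
  classical
  have := Fintype.ofFinite G
  have h := sum_irr_degree_sq (G := G)
  have e : ∀ ψ : IrrCharacter G, ((ψ : G → ℂ) 1) ^ 2 = ((charDegree (ψ : G → ℂ) ^ 2 : ℕ) : ℂ) := fun ψ => by
    rw [(charDegree_spec' ψ.2).1]; push_cast; ring
  simp only [e] at h
  rw [← Nat.cast_sum, Nat.cast_inj] at h
  rw [← h]
  refine Finset.single_lt_sum (f := fun ψ : IrrCharacter G => charDegree (ψ : G → ℂ) ^ 2)
    (i := ⟨χ, hχ⟩) (j := ⟨fun _ => 1, isIrrCharacter_one⟩) ?_ (Finset.mem_univ _) (Finset.mem_univ _) ?_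
    (fun _ _ _ => Nat.zero_le _)
  · intro e'
    have := congrArg (fun ψ : IrrCharacter G => charDegree (ψ : G → ℂ)) e'
    simp [charDegree] at this
    exact hd this.symm
  · simp [charDegree]

/-- The structure of the exceptional groups. -/
def Structure (G : Type u) [Group G] : Prop :=
  ∃ (p : ℕ) (_ : Fact p.Prime) (P : Sylow p G) (A : Subgroup G), (P : Subgroup G).Normal ∧
    IsCyclic ↥A ∧ A ≠ ⊥ ∧ (Nat.card ↥A).Coprime p ∧ A ⊔ (P : Subgroup G) = ⊤ ∧
    IsMulCommutative ↥((P : Subgroup G) ⊓ Subgroup.centralizer (A : Set G)) ∧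
    (⁅A, (P : Subgroup G)⁆).Normal ∧
    ((P : Subgroup G) ⊓ Subgroup.centralizer (A : Set G)) ⊔ ⁅A, (P : Subgroup G)⁆ = (P : Subgroup G) ∧
    ((P : Subgroup G) ⊓ Subgroup.centralizer (A : Set G)) ⊓ ⁅A, (P : Subgroup G)⁆ = ⊥ ∧
    ∀ a ∈ A, a ≠ 1 → ∀ d ∈ ⁅A, (P : Subgroup G)⁆, a * d = d * a → d = 1

/-- The forward direction. -/
theorem structure_of_mult (h : Mult G) (hnp : ¬ ∃ p : ℕ, p.Prime ∧ IsPGroup p G)
    (hna : ¬ IsMulCommutative G) : Structure G := by
  classical
  have := Fintype.ofFinite G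
  obtain ⟨χ₀, hχ₀⟩ : ∃ χ : IrrCharacter G, charDegree (χ : G → ℂ) ≠ 1 := by
    by_contra hc
    push Not at hc
    refine hna ⟨⟨commutative_iff_degree_one.mpr fun χ : IrrCharacter G => ?_⟩⟩
    rw [(charDegree_spec' χ.2).1, hc χ, Nat.cast_one]
  -- each nonlinear character has its prime
  have hprime : ∀ χ : IrrCharacter G, charDegree (χ : G → ℂ) ≠ 1 → ∃ p : ℕ, p.Prime ∧
      ∀ (q : ℕ) (Q : Sylow q G), q.Prime → q ≠ p → Nat.card (Q : Subgroup G) ∣ charDegree (χ : G → ℂ) := by
    intro χ hχ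
    have hd : 1 < charDegree (χ : G → ℂ) := by
      have := (charDegree_spec' χ.2).2; omega
    suffices hh : ∃ p : ℕ, p.Prime ∧ ∀ q : ℕ, q.Prime → q ≠ p → ∀ y : G, y ≠ 1 →
        (∃ b, orderOf y = q ^ b) → (χ : G → ℂ) y = 0 by
      obtain ⟨p, hp, hv⟩ := hh
      refine ⟨p, hp, fun q Q hq hqp => card_dvd_degree_of_vanish _ χ.2 fun y hy hy1 => ?_⟩
      haveI := Fact.mk hq
      obtain ⟨b, hb⟩ := IsPGroup.iff_orderOf.mp Q.2 ⟨y, hy⟩
      exact hv q hq hqp y hy1 ⟨b, by rw [← hb, Subgroup.orderOf_mk]⟩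
    by_cases hex : ∃ p : ℕ, p.Prime ∧ ∃ x : G, x ≠ 1 ∧ (∃ a, orderOf x = p ^ a) ∧ (χ : G → ℂ) x ≠ 0
    · obtain ⟨p, hp, x, hx1, ⟨a, ha⟩, hx0⟩ := hex
      refine ⟨p, hp, fun q hq hqp y hy1 ⟨b, hb⟩ => ?_⟩
      exact (mul_eq_zero.mp (mul_eq_zero_of_mult h hd hx1 hy1
        ⟨p, q, a, b, hp, hq, hqp.symm, ha, hb⟩)).resolve_left hx0
    · push Not at hex
      exact ⟨2, Nat.prime_two, fun q hq _ y hy1 hb => hex q hq y hy1 hb⟩
  obtain ⟨p, hp, hpall⟩ := hprime χ₀ hχ₀
  haveI := Fact.mk hp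
  obtain ⟨P⟩ : Nonempty (Sylow p G) := inferInstance
  have hidx : ∀ {r : ℕ} (hr : r.Prime) (R : Sylow r G) (d : ℕ), 0 < d →
      (∀ (q : ℕ) (Q : Sylow q G), q.Prime → q ≠ r → Nat.card (Q : Subgroup G) ∣ d) →
      (R : Subgroup G).index ∣ d := by
    intro r hr R d hd0 hall
    haveI := Fact.mk hr
    rw [← Nat.factorization_prime_le_iff_dvd Subgroup.index_ne_zero_of_finite hd0.ne']
    intro q hq
    by_cases hqr : q = r
    · subst hqr
      rw [Nat.factorization_eq_zero_of_not_dvd R.not_dvd_index]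
      exact Nat.zero_le _
    · haveI := Fact.mk hq
      obtain ⟨Q⟩ : Nonempty (Sylow q G) := inferInstance
      have h1 := hall q Q hq hqr
      rw [Sylow.card_eq_multiplicity, hq.pow_dvd_iff_le_factorization hd0.ne'] at h1
      exact le_trans ((Nat.factorization_le_iff_dvd Subgroup.index_ne_zero_of_finite Nat.card_pos.ne').mpr
        (Subgroup.index_dvd_card _) q) h1
  set n := (P : Subgroup G).index with hn
  have hn0 : 0 < n := Nat.pos_of_ne_zero Subgroup.index_ne_zero_of_finite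
  have hsmall : ∀ {r : ℕ} (R : Sylow r G) (d : ℕ), d ^ 2 < Nat.card G → 0 < d →
      (R : Subgroup G).index ∣ d → (R : Subgroup G).index < Nat.card (R : Subgroup G) := by
    intro r R d hd hd0 hdvd
    have h1 := Nat.le_of_dvd hd0 hdvd
    have h2 : (R : Subgroup G).index * (R : Subgroup G).index < Nat.card G :=
      lt_of_le_of_lt (by rw [sq]; exact Nat.mul_le_mul h1 h1) hd
    rw [← Subgroup.card_mul_index (R : Subgroup G)] at h2
    exact Nat.lt_of_mul_lt_mul_right h2
  have hnlt : n < Nat.card (P : Subgroup G) :=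
    hsmall P _ (degree_sq_lt χ₀.2 hχ₀) (charDegree_spec' χ₀.2).2
      (hidx hp P _ (charDegree_spec' χ₀.2).2 hpall)
  -- the same prime works for all nonlinear characters
  have hdiv : ∀ χ : G → ℂ, IsIrrCharacter G χ → charDegree χ ≠ 1 → n ∣ charDegree χ := by
    intro χ hχ hd
    obtain ⟨r, hr, hrall⟩ := hprime ⟨χ, hχ⟩ hd
    have hd0 := (charDegree_spec' hχ).2
    by_cases hrp : r = p
    · subst hrp
      exact hidx hp P _ hd0 hrall
    exfalso
    haveI := Fact.mk hr
    obtain ⟨R⟩ : Nonempty (Sylow r G) := inferInstance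
    have hlt := hsmall R _ (degree_sq_lt hχ hd) hd0 (hidx hr R _ hd0 hrall)
    have hcop : (Nat.card (R : Subgroup G)).Coprime (Nat.card (P : Subgroup G)) := by
      rw [Sylow.card_eq_multiplicity, Sylow.card_eq_multiplicity]
      exact Nat.Coprime.pow _ _ ((Nat.coprime_primes hr hp).mpr hrp)
    have h1 : Nat.card (R : Subgroup G) ∣ n := by
      refine hcop.dvd_of_dvd_mul_left ?_
      rw [hn, Subgroup.card_mul_index]; exact Subgroup.card_subgroup_dvd_card _
    have h2 : Nat.card (P : Subgroup G) ∣ (R : Subgroup G).index := by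
      refine hcop.symm.dvd_of_dvd_mul_left ?_
      rw [Subgroup.card_mul_index]; exact Subgroup.card_subgroup_dvd_card _
    have h3 := Nat.le_of_dvd hn0 h1
    have h4 := Nat.le_of_dvd (Nat.pos_of_ne_zero Subgroup.index_ne_zero_of_finite) h2
    omega
  have hn1 : n ≠ 1 := fun e => hnp ⟨p, hp, by
    have : (P : Subgroup G) = ⊤ := Subgroup.index_eq_one.mp e
    exact (this ▸ P.2).of_equiv Subgroup.topEquiv⟩
  -- the Sylow subgroup is normal
  haveI hPn : (P : Subgroup G).Normal := by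
    have hcompl : ∀ q : n.primeFactors, ∃ N : Subgroup G, N.Normal ∧ (Nat.card N).Coprime q ∧
        ∃ k : ℕ, N.index = (q : ℕ) ^ k := fun q =>
      Cfsg.Agent.S4456.result (G := G) q (Nat.prime_of_mem_primeFactors q.2) fun χ h1 =>
        (Nat.dvd_of_mem_primeFactors q.2).trans (hdiv χ χ.2 h1)
    choose N hNn hNc k hk using hcompl
    set M : Subgroup G := ⨅ q, N q with hM
    haveI : M.Normal := Subgroup.normal_iInf_normal hNn
    have hPM : (P : Subgroup G) ≤ M := by
      refine le_iInf fun q x hx => ?_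
      haveI := hNn q
      have hqp : (q : ℕ) ≠ p := fun e => P.not_dvd_index
        ((congrArg (· ∣ n) e).mp (Nat.dvd_of_mem_primeFactors q.2))
      obtain ⟨j, hj⟩ := IsPGroup.iff_orderOf.mp P.2 ⟨x, hx⟩
      rw [Subgroup.orderOf_mk] at hj
      rw [← QuotientGroup.eq_one_iff, ← orderOf_eq_one_iff]
      refine Nat.eq_one_of_dvd_coprimes (Nat.Coprime.pow j (k q)
        ((Nat.coprime_primes hp (Nat.prime_of_mem_primeFactors q.2)).mpr hqp.symm))
        (hj ▸ orderOf_map_dvd (QuotientGroup.mk' (N q)) x) ?_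
      rw [← hk q, Subgroup.index_eq_card]
      exact orderOf_dvd_natCard _
    have hMp : (P : Subgroup G).relIndex M = 1 := by
      by_contra h1
      obtain ⟨q, hq, hqd⟩ := Nat.exists_prime_and_dvd h1
      have hqn : q ∈ n.primeFactors :=
        Nat.mem_primeFactors.mpr ⟨hq, hqd.trans (Subgroup.relIndex_dvd_index_of_le hPM), hn0.ne'⟩
      have h2 : q ∣ Nat.card (N ⟨q, hqn⟩) := by
        refine dvd_trans ?_ (Subgroup.card_dvd_of_le (iInf_le N ⟨q, hqn⟩))
        rw [← hM]
        have h3 := Subgroup.card_mul_index ((P : Subgroup G).subgroupOf M)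
        exact h3 ▸ dvd_mul_of_dvd_right hqd _
      exact hq.not_dvd_one ((hNc ⟨q, hqn⟩) ▸ Nat.dvd_gcd h2 dvd_rfl)
    have : M = (P : Subgroup G) := le_antisymm (Subgroup.relIndex_eq_one.mp hMp) hPM
    exact this ▸ (inferInstanceAs M.Normal)
  -- abelian quotient and complement
  haveI : Fintype (G ⧸ (P : Subgroup G)) := Fintype.ofFinite _
  have hQab : ∀ a b : G ⧸ (P : Subgroup G), a * b = b * a := by
    refine commutative_iff_degree_one.mpr (fun φ : IrrCharacter (G ⧸ (P : Subgroup G)) => ?_)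
    rw [(charDegree_spec' φ.2).1, Nat.cast_eq_one]
    by_contra hd
    obtain ⟨χ, hχ, -, hχd⟩ := ThreeDegrees.quotient_degree _ φ.2
    have h1 := degree_sq_lt φ.2 hd
    rw [← Subgroup.index_eq_card, ← hn] at h1
    have h2 := Nat.le_of_dvd (charDegree_spec' φ.2).2 (hχd ▸ hdiv χ hχ (hχd ▸ hd))
    nlinarith
  obtain ⟨A, hA⟩ := Subgroup.exists_right_complement'_of_coprime (N := (P : Subgroup G)) P.card_coprime_index
  have hAcard : Nat.card A = n := hA.symm.index_eq_card.symm
  have hAne : A ≠ ⊥ := fun e => hn1 (by rw [← hAcard, e, Subgroup.card_bot])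
  have hAP : A ⊔ (P : Subgroup G) = ⊤ := hA.symm.sup_eq_top
  have hAcomm : ∀ a ∈ A, ∀ b ∈ A, a * b = b * a := by
    intro a ha b hb
    have h1 : a * b * a⁻¹ * b⁻¹ ∈ (P : Subgroup G) := by
      rw [← QuotientGroup.eq_one_iff]
      simp only [QuotientGroup.mk_mul, QuotientGroup.mk_inv]
      rw [hQab (a : G ⧸ (P : Subgroup G)) (b : G ⧸ (P : Subgroup G))]; group
    have h2 := Subgroup.disjoint_def.mp hA.disjoint h1 (mul_mem (mul_mem (mul_mem ha hb) (inv_mem ha)) (inv_mem hb))
    calc a * b = (a * b * a⁻¹ * b⁻¹) * (b * a) := by group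
      _ = b * a := by rw [h2, one_mul]
  have hcop : (Nat.card A).Coprime (Nat.card (P : Subgroup G)) := by
    rw [hAcard]; exact P.card_coprime_index.symm
  have hAnorm : A ≤ Subgroup.normalizer ((P : Subgroup G) : Set G) := by
    rw [Subgroup.normalizer_eq_top]; exact le_top
  have hsolv : Group.IsSolvable A ∨ Group.IsSolvable (P : Subgroup G) :=
    Or.inl (Group.isSolvable_of_comm fun a b => Subtype.ext (hAcomm a a.2 b b.2))
  set D := ⁅A, (P : Subgroup G)⁆ with hD
  set C := (P : Subgroup G) ⊓ Subgroup.centralizer (A : Set G) with hC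
  have hDP : D ≤ (P : Subgroup G) := Subgroup.commutator_le_right _ _
  have hCD : C ⊔ D = (P : Subgroup G) := by
    rw [hD, Subgroup.commutator_comm, sup_comm]
    exact coprime_commutator_sup hAnorm hcop hsolv
  haveI hDn : D.Normal := by
    rw [← Subgroup.normalizer_eq_top_iff, eq_top_iff, ← hAP, hD, Subgroup.commutator_comm]
    exact sup_le (right_le_normalizer_commutator _ _) (left_le_normalizer_commutator _ _)
  have hDG : D ≤ commutator G := Subgroup.commutator_mono le_top le_top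
  haveI := Fintype.ofFinite (P : Subgroup G)
  set D' := D.subgroupOf (P : Subgroup G) with hD'
  -- dichotomy for the characters of `P`
  have hdich : ∀ θ : ↥(P : Subgroup G) → ℂ, IsIrrCharacter (P : Subgroup G) θ →
      (charDegree θ = 1 ∧ ∀ d ∈ D', θ d = θ 1) ∨
      ∀ g : G, conjNormFun (P : Subgroup G) g θ = θ → g ∈ (P : Subgroup G) := by
    intro θ hθ
    obtain ⟨χ, hχ, hc⟩ := exists_irr_above (G := G) hθ
    obtain ⟨e, he, hed⟩ := degree_ratio_dvd hχ hθ hc
    rw [(charDegree_spec' hχ).1, (charDegree_spec' hθ).1, ← Nat.cast_mul, Nat.cast_inj] at he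
    have hθp : Nat.Coprime (charDegree θ) n :=
      Nat.Coprime.coprime_dvd_left (ThreeDegrees.degree_dvd_card hθ) P.card_coprime_index
    by_cases hd : charDegree χ = 1
    · left
      rw [hd] at he
      refine ⟨Nat.eq_one_of_mul_eq_one_left he.symm, fun d hd' => ?_⟩
      refine ThreeDegrees.constituent_eq (isCharacter_restrict (isCharacter_of_irr hχ) _) hθ hc ?_
      show χ d = χ ((1 : (P : Subgroup G)) : G)
      rw [OneMemClass.coe_one, ThreeDegrees.linear_apply hχ hd _ (hDG (Subgroup.mem_subgroupOf.mp hd')),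
        (charDegree_spec' hχ).1, hd, Nat.cast_one]
    · right
      have hen : n ∣ e := hθp.symm.dvd_of_dvd_mul_right (he ▸ hdiv χ hχ hd)
      have he' : e = n := Nat.dvd_antisymm hed hen
      obtain ⟨m, hm⟩ := classInner_char_nat (isCharacter_restrict (isCharacter_of_irr hχ) _)
        (isCharacter_of_irr hθ)
      have hdeg := clifford_degree (P : Subgroup G) hχ hθ hc
      rw [hm, (charDegree_spec' hχ).1, (charDegree_spec' hθ).1, ← Nat.cast_mul, ← Nat.cast_mul,
        Nat.cast_inj, he, he'] at hdeg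
      have hmi : n = m * (inertia (P : Subgroup G) θ).index :=
        Nat.eq_of_mul_eq_mul_right (charDegree_spec' hθ).2 hdeg
      obtain ⟨c, hcc, -, hsum⟩ := ThreeDegrees.decomp (isCharacter_indFun (P : Subgroup G) (isCharacter_of_irr hθ))
      have h1 := hsum (n * charDegree θ) (by
        rw [indFun_apply_one, (charDegree_spec' hθ).1, ← hn, Nat.cast_mul])
      have hcm : c ⟨χ, hχ⟩ = m := by
        have h2 := hcc ⟨χ, hχ⟩
        rw [frobenius_reciprocity _ θ (isClassFunction_irr hχ), ← classInner_comm, hm, map_natCast,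
          Nat.cast_inj] at h2
        exact h2.symm
      have h3 : c ⟨χ, hχ⟩ * charDegree χ ≤ n * charDegree θ := by
        rw [← h1]
        exact Finset.single_le_sum (f := fun φ : IrrCharacter G => c φ * charDegree (φ : G → ℂ))
          (fun _ _ => Nat.zero_le _) (Finset.mem_univ _)
      rw [hcm, he, he'] at h3
      have hm1 : m = 1 := by
        have h4 : m ≤ 1 := Nat.le_of_mul_le_mul_right (by simpa using h3)
          (Nat.mul_pos hn0 (charDegree_spec' hθ).2)
        have h5 : m ≠ 0 := fun e => hc (by rw [hm, e, Nat.cast_zero])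
        omega
      rw [hm1, one_mul] at hmi
      intro g hg
      have hT : (P : Subgroup G) = inertia (P : Subgroup G) θ := by
        refine Subgroup.eq_of_le_of_card_ge (le_inertia _ (isClassFunction_irr hθ)) (le_of_eq ?_)
        refine Nat.eq_of_mul_eq_mul_right hn0 ?_
        nth_rewrite 1 [hmi]
        rw [Subgroup.card_mul_index, hn, Subgroup.card_mul_index]
      rw [hT]
      exact (mem_inertia _).mpr hg
  haveI : Fintype ((P : Subgroup G) ⧸ D') := Fintype.ofFinite _
  have hPDab : ∀ x y : (P : Subgroup G) ⧸ D', x * y = y * x := by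
    refine commutative_iff_degree_one.mpr (fun φ : IrrCharacter ((P : Subgroup G) ⧸ D') => ?_)
    rw [(charDegree_spec' φ.2).1, Nat.cast_eq_one]
    obtain ⟨θ, hθ, hker, hd⟩ := ThreeDegrees.quotient_degree _ φ.2
    rcases hdich θ hθ with ⟨h1, -⟩ | hin
    · rw [← hd]; exact h1
    · exfalso
      refine hAne (eq_bot_iff.mpr fun a ha => Subgroup.mem_bot.mpr
        (Subgroup.disjoint_def.mp hA.disjoint (hin a ?_) ha))
      funext x
      show θ _ = θ x
      obtain ⟨ψ, hψ, e⟩ := exists_quotient_irr D' hθ hker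
      rw [e]
      refine congrArg ψ ((QuotientGroup.eq_iff_div_mem).mpr ?_)
      rw [Subgroup.mem_subgroupOf]
      have h1 : ⁅a, (x : G)⁆ ∈ D := Subgroup.commutator_mem_commutator ha x.2
      simpa [div_eq_mul_inv, commutatorElement_def, conjNormFun_eq] using h1
  -- no fixed points on `D`
  have hfpf : ∀ a ∈ A, a ≠ 1 → ∀ d ∈ D, a * d = d * a → d = 1 := by
    intro a ha ha1 d hd hcomm
    by_contra hd1
    let φ : MulAut (P : Subgroup G) := MulAut.conjNormal a
    let π : ConjClasses (P : Subgroup G) → ConjClasses (P : Subgroup G) := ConjClasses.map φ.toMonoidHom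
    let τ : IrrCharacter (P : Subgroup G) → IrrCharacter (P : Subgroup G) := fun θ =>
      ⟨fun x => (θ : ↥(P : Subgroup G) → ℂ) (φ.toMonoidHom x),
        isIrrCharacter_comp_surjective θ.2 φ.toMonoidHom φ.surjective⟩
    have key := card_fixed_irr_eq_card_fixed_classes π τ fun θ x x' hx => by
      show (θ : ↥(P : Subgroup G) → ℂ) (φ.toMonoidHom x) = _
      exact (isClassFunction_iff_isConj.mp (isClassFunction_irr θ.2)) _ _
        (ConjClasses.mk_eq_mk_iff_isConj.mp hx).symm
    have hle : Nat.card {θ : IrrCharacter (P : Subgroup G) // τ θ = θ} ≤ Nat.card ((P : Subgroup G) ⧸ D') := by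
      refine le_trans (Nat.card_le_card_of_injective
        (fun θ => (⟨θ.1, fun x hx => ?_⟩ :
          {χ : IrrCharacter (P : Subgroup G) // ∀ n ∈ D', (χ : ↥(P : Subgroup G) → ℂ) n = (χ : ↥(P : Subgroup G) → ℂ) 1}))
        fun θ θ' e => ?_) ?_
      · rcases hdich θ.1 θ.1.2 with ⟨-, h2⟩ | hin
        · exact h2 x hx
        · refine absurd (Subgroup.disjoint_def.mp hA.disjoint (hin a ?_) ha) ha1
          funext y
          have e := congrFun (congrArg Subtype.val θ.2) y
          rw [conjNormFun_eq]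
          refine Eq.trans (congrArg _ (Subtype.ext ?_)) e
          simp [φ, MulAut.conjNormal_apply]
      · apply Subtype.ext
        have := congrArg Subtype.val e
        exact this
      · rw [← Nat.card_congr (quotientIrrEquiv D'), Nat.card_eq_fintype_card, ← Nat.card_eq_fintype_card,
          card_irr_eq_card_conjClasses]
        exact Nat.card_le_card_of_surjective ConjClasses.mk ConjClasses.mk_surjective
    have hrep : ∀ q : (P : Subgroup G) ⧸ D', ∃ c : (P : Subgroup G), (c : G) ∈ C ∧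
        (c : (P : Subgroup G) ⧸ D') = q := by
      intro q
      obtain ⟨x, rfl⟩ := QuotientGroup.mk_surjective q
      have hx : (x : G) ∈ C ⊔ D := by rw [hCD]; exact x.2
      obtain ⟨c, hc, d', hd', hcd⟩ := Subgroup.mem_sup_of_normal_right.mp hx
      refine ⟨⟨c, hc.1⟩, hc, ?_⟩
      rw [QuotientGroup.eq, Subgroup.mem_subgroupOf]
      simpa [← hcd] using hd'
    choose r hr hrq using hrep
    let f : Option ((P : Subgroup G) ⧸ D') → {K : ConjClasses (P : Subgroup G) // π K = K} := fun o =>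
      match o with
      | none => ⟨ConjClasses.mk ⟨d, hDP hd⟩, by
          show ConjClasses.mk _ = _
          refine congrArg ConjClasses.mk (Subtype.ext ?_)
          show a * d * a⁻¹ = d
          rw [hcomm, mul_inv_cancel_right]⟩
      | some q => ⟨ConjClasses.mk (if q = 1 then 1 else r q), by
          show ConjClasses.mk _ = _
          refine congrArg ConjClasses.mk ?_
          split
          · exact map_one φ
          · apply Subtype.ext
            show a * (r q : G) * a⁻¹ = r q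
            rw [Subgroup.mem_centralizer_iff.mp (hr q).2 a ha, mul_inv_cancel_right]⟩
    have himg : ∀ q, ((if q = 1 then 1 else r q : (P : Subgroup G)) : (P : Subgroup G) ⧸ D') = q := by
      intro q
      split
      · rename_i e; rw [e]; rfl
      · exact hrq q
    have hproj : ∀ x y : (P : Subgroup G), ConjClasses.mk x = ConjClasses.mk y →
        (x : (P : Subgroup G) ⧸ D') = y := by
      intro x y e
      obtain ⟨g, hg⟩ := isConj_iff.mp (ConjClasses.mk_eq_mk_iff_isConj.mp e)
      rw [← hg, QuotientGroup.mk_mul, QuotientGroup.mk_mul, hPDab (g : (P : Subgroup G) ⧸ D'),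
        mul_assoc, ← QuotientGroup.mk_mul, mul_inv_cancel, QuotientGroup.mk_one, mul_one]
    have hdq : ((⟨d, hDP hd⟩ : (P : Subgroup G)) : (P : Subgroup G) ⧸ D') = 1 :=
      (QuotientGroup.eq_one_iff _).mpr (Subgroup.mem_subgroupOf.mpr hd)
    have hinj : Function.Injective f := by
      have hne : ∀ q, ConjClasses.mk (⟨d, hDP hd⟩ : (P : Subgroup G)) ≠ ConjClasses.mk (if q = 1 then 1 else r q) := by
        intro q e
        have h1 := hproj _ _ e
        rw [hdq, himg] at h1
        rw [if_pos h1.symm, ConjClasses.mk_eq_mk_iff_isConj, isConj_one_left] at e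
        exact hd1 (congrArg Subtype.val e)
      rintro (_ | q) (_ | q') e
      · rfl
      · exact absurd (congrArg Subtype.val e) (hne q')
      · exact absurd (congrArg Subtype.val e).symm (hne q)
      · have h1 := hproj _ _ (congrArg Subtype.val e)
        rw [himg, himg] at h1
        rw [h1]
    have h1 := Nat.card_le_card_of_injective f hinj
    rw [Finite.card_option, ← key] at h1
    omega
  have hCDbot : C ⊓ D = ⊥ := by
    obtain ⟨a, ha, ha1⟩ := (Subgroup.bot_or_exists_ne_one A).resolve_left hAne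
    exact eq_bot_iff.mpr fun x hx => Subgroup.mem_bot.mpr
      (hfpf a ha ha1 x hx.2 (Subgroup.mem_centralizer_iff.mp hx.1.2 a ha))
  have hCcomm : IsMulCommutative C := ⟨⟨fun x y => Subtype.ext (by
    have h1 : (x : G) * y * (x : G)⁻¹ * (y : G)⁻¹ ∈ D := by
      have h2 := hPDab ((⟨x, x.2.1⟩ : (P : Subgroup G)) : _ ⧸ D') ((⟨y, y.2.1⟩ : (P : Subgroup G)) : _ ⧸ D')
      rw [← mul_inv_eq_one, mul_inv_rev, ← mul_assoc] at h2
      simp only [← QuotientGroup.mk_mul, ← QuotientGroup.mk_inv, QuotientGroup.eq_one_iff,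
        Subgroup.mem_subgroupOf] at h2
      exact h2
    have h3 : (x : G) * y * (x : G)⁻¹ * (y : G)⁻¹ ∈ C ⊓ D :=
      ⟨C.mul_mem (C.mul_mem (C.mul_mem x.2 y.2) (C.inv_mem x.2)) (C.inv_mem y.2), h1⟩
    rw [hCDbot, Subgroup.mem_bot] at h3
    show (x : G) * y = y * x
    calc (x : G) * y = ((x : G) * y * (x : G)⁻¹ * (y : G)⁻¹) * (y * x) := by group
      _ = y * x := by rw [h3, one_mul])⟩⟩
  have hDne : D ≠ ⊥ := by
    intro e
    refine hna ⟨⟨fun x y => ?_⟩⟩
    have hPC : (P : Subgroup G) = C := by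
      conv_lhs => rw [← hCD, e, sup_bot_eq]
    have hx : x ∈ A ⊔ (P : Subgroup G) := hAP ▸ Subgroup.mem_top x
    have hy : y ∈ A ⊔ (P : Subgroup G) := hAP ▸ Subgroup.mem_top y
    obtain ⟨a, ha, u, hu, rfl⟩ := Subgroup.mem_sup_of_normal_right.mp hx
    obtain ⟨b, hb, v, hv, rfl⟩ := Subgroup.mem_sup_of_normal_right.mp hy
    rw [hPC] at hu hv
    have huv : u * v = v * u := congrArg Subtype.val (hCcomm.is_comm.comm ⟨u, hu⟩ ⟨v, hv⟩)
    have hau : Commute a v := Subgroup.mem_centralizer_iff.mp hv.2 a ha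
    have hbu : Commute b u := Subgroup.mem_centralizer_iff.mp hu.2 b hb
    exact (((show Commute a b from hAcomm a ha b hb).mul_right hau).mul_left
      ((hbu.symm).mul_right (show Commute u v from huv))).eq
  refine ⟨p, ⟨hp⟩, P, A, hPn, ?_, hAne, ?_, hAP, hCcomm, hDn, hCD, hCDbot, hfpf⟩
  · set V := D ⊓ Subgroup.centralizer (D : Set G) with hV
    have : IsMulCommutative V := ⟨⟨fun x y => Subtype.ext
      (Subgroup.mem_centralizer_iff.mp y.2.2 x x.2.1)⟩⟩
    have hVne : V ≠ ⊥ := by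
      haveI : Nontrivial D := (Subgroup.nontrivial_iff_ne_bot D).mpr hDne
      haveI := ((P.2.to_le hDP) : IsPGroup p D).center_nontrivial
      obtain ⟨⟨⟨z, hz⟩, hzc⟩, hz1⟩ := exists_ne (1 : Subgroup.center D)
      intro e
      have : z ∈ V := ⟨hz, Subgroup.mem_centralizer_iff.mpr fun y hy =>
        congrArg Subtype.val (Subgroup.mem_center_iff.mp hzc ⟨y, hy⟩)⟩
      rw [e, Subgroup.mem_bot] at this
      exact hz1 (Subtype.ext (Subtype.ext this))
    haveI : IsMulCommutative A := ⟨⟨fun a b => Subtype.ext (hAcomm a a.2 b b.2)⟩⟩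
    refine CfsgLib.Frob.isCyclic_of_fpf_comm hVne ?_ fun a ha ha1 => eq_bot_iff.mpr fun v hv => ?_
    · haveI : V.Normal := inferInstance
      rw [Subgroup.normalizer_eq_top]; exact le_top
    · rw [Subgroup.mem_bot]
      exact hfpf a ha ha1 v hv.1.1 (Subgroup.mem_centralizer_singleton_iff.mp hv.2).symm
  · rw [hAcard]
    exact ((hp.coprime_iff_not_dvd).mpr P.not_dvd_index).symm

/-- The converse direction. -/
theorem mult_of_structure (hs : Structure G) : Mult G := by
  classical
  have := Fintype.ofFinite G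
  obtain ⟨p, hp, P, A, hPn, hAc, hAne, hAp, hAP, hC, hDn, hCD, hCDbot, hfpf⟩ := hs
  haveI := hp
  haveI := hPn
  haveI := hDn
  set D := ⁅A, (P : Subgroup G)⁆ with hD
  set C := (P : Subgroup G) ⊓ Subgroup.centralizer (A : Set G) with hCdef
  haveI : IsMulCommutative A := hAc.commutative
  have hAcomm : ∀ a ∈ A, ∀ b ∈ A, a * b = b * a := fun a ha b hb =>
    congrArg Subtype.val ((IsMulCommutative.is_comm (M := A)).comm ⟨a, ha⟩ ⟨b, hb⟩)
  have hDP : D ≤ (P : Subgroup G) := Subgroup.commutator_le_right _ _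
  have hAPd : Disjoint A (P : Subgroup G) := by
    rw [disjoint_iff]
    refine Subgroup.inf_eq_bot_of_coprime ?_
    obtain ⟨j, hj⟩ := IsPGroup.iff_card.mp P.2
    rw [hj]; exact hAp.pow_right j
  have hdec : ∀ y : G, ∃ a ∈ A, ∃ c ∈ C, ∃ d ∈ D, y = c * a * d := by
    intro y
    have hy : y ∈ A ⊔ (P : Subgroup G) := hAP ▸ Subgroup.mem_top y
    obtain ⟨a, ha, u, hu, rfl⟩ := Subgroup.mem_sup_of_normal_right.mp hy
    rw [← hCD] at hu
    obtain ⟨c, hc, d, hd, rfl⟩ := Subgroup.mem_sup_of_normal_right.mp hu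
    exact ⟨a, ha, c, hc, d, hd, by rw [← mul_assoc, Subgroup.mem_centralizer_iff.mp hc.2 a ha]⟩
  -- `G' ≤ D`, and the index
  have hGD : commutator G ≤ D := by
    rw [commutator_def, Subgroup.commutator_le]
    intro x _ y _
    obtain ⟨a, ha, c, hc, d, hd, rfl⟩ := hdec x
    obtain ⟨b, hb, e, he, f, hf, rfl⟩ := hdec y
    rw [← QuotientGroup.eq_one_iff]
    have hcomm : Commute (c * a) (e * b) := by
      have h1 : Commute c e := congrArg Subtype.val (hC.is_comm.comm ⟨c, hc⟩ ⟨e, he⟩)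
      have h2 : Commute c b := (Subgroup.mem_centralizer_iff.mp hc.2 b hb).symm
      have h3 : Commute a e := Subgroup.mem_centralizer_iff.mp he.2 a ha
      exact (h1.mul_right h2).mul_left (h3.mul_right (hAcomm a ha b hb))
    rw [show ((⁅c * a * d, e * b * f⁆ : G) : G ⧸ D) = ⁅((c * a * d : G) : G ⧸ D), ((e * b * f : G) : G ⧸ D)⁆ from
      map_commutatorElement (QuotientGroup.mk' D) _ _]
    rw [QuotientGroup.mk_mul_of_mem _ hd, QuotientGroup.mk_mul_of_mem _ hf,
      show ⁅((c * a : G) : G ⧸ D), ((e * b : G) : G ⧸ D)⁆ = ((⁅c * a, e * b⁆ : G) : G ⧸ D) from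
        (map_commutatorElement (QuotientGroup.mk' D) _ _).symm,
      commutatorElement_eq_one_iff_commute.mpr hcomm, QuotientGroup.mk_one]
  have hDG : D ≤ commutator G := Subgroup.commutator_mono le_top le_top
  -- no fixed points of `c a` on `D`
  have hca : ∀ a ∈ A, a ≠ 1 → ∀ c ∈ C, ∀ d ∈ D, c * a * d = d * (c * a) → d = 1 := by
    intro a ha ha1 c hc d hd he
    obtain ⟨j, hj⟩ := IsPGroup.iff_orderOf.mp P.2 ⟨c, hc.1⟩
    rw [Subgroup.orderOf_mk] at hj
    have hpw : Commute ((c * a) ^ p ^ j) d := (show Commute (c * a) d from he).pow_left _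
    have hcac : Commute c a := (Subgroup.mem_centralizer_iff.mp hc.2 a ha).symm
    rw [hcac.mul_pow, show c ^ p ^ j = 1 by rw [← hj, pow_orderOf_eq_one], one_mul] at hpw
    refine hfpf _ (pow_mem ha _) (fun e => ha1 ?_) d hd hpw.eq
    rw [← orderOf_eq_one_iff]
    refine Nat.eq_one_of_dvd_coprimes (Nat.Coprime.pow_right j ?_) dvd_rfl (orderOf_dvd_of_pow_eq_one e)
    refine hAp.coprime_dvd_left ?_
    rw [← Subgroup.orderOf_mk a ha]; exact orderOf_dvd_natCard _
  have hfix : ∀ y : G, y ∉ (P : Subgroup G) → D ⊓ Subgroup.centralizer {y} = ⊥ := by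
    intro y hy
    obtain ⟨a, ha, c, hc, d, hd, rfl⟩ := hdec y
    have ha1 : a ≠ 1 := fun e => hy (by rw [e, mul_one]; exact mul_mem hc.1 (hDP hd))
    set w := c * a
    let f : D → D := fun e => ⟨w⁻¹ * e * w * (e : G)⁻¹,
      mul_mem (by simpa using hDn.conj_mem e e.2 w⁻¹) (inv_mem e.2)⟩
    have hinj : Function.Injective f := by
      intro e₁ e₂ h
      have h1 : w⁻¹ * (e₁ : G) * w * (e₁ : G)⁻¹ = w⁻¹ * (e₂ : G) * w * (e₂ : G)⁻¹ := congrArg Subtype.val h
      have h2 : w * ((e₂ : G)⁻¹ * e₁) = ((e₂ : G)⁻¹ * e₁) * w := by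
        calc w * ((e₂ : G)⁻¹ * e₁) = (e₂ : G)⁻¹ * (w * (w⁻¹ * (e₂ : G) * w * (e₂ : G)⁻¹)) * e₁ := by group
          _ = (e₂ : G)⁻¹ * (w * (w⁻¹ * (e₁ : G) * w * (e₁ : G)⁻¹)) * e₁ := by rw [h1]
          _ = ((e₂ : G)⁻¹ * e₁) * w := by group
      have h3 := hca a ha ha1 c hc _ (mul_mem (inv_mem e₂.2) e₁.2) h2
      exact Subtype.ext (inv_mul_eq_one.mp h3).symm
    obtain ⟨⟨e, he⟩, hfe⟩ := (Finite.injective_iff_surjective.mp hinj) ⟨d, hd⟩
    have hd' : w⁻¹ * e * w * e⁻¹ = d := congrArg Subtype.val hfe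
    have hy' : w * d = e * w * e⁻¹ := by rw [← hd']; group
    rw [eq_bot_iff]
    rintro x ⟨hxD, hxc⟩
    rw [Subgroup.mem_bot]
    have hxc' := Subgroup.mem_centralizer_singleton_iff.mp hxc
    rw [hy'] at hxc'
    have h3 := hca a ha ha1 c hc (e⁻¹ * x * e) (by simpa using hDn.conj_mem x hxD e⁻¹) (by
      calc w * (e⁻¹ * x * e) = e⁻¹ * ((e * w * e⁻¹) * x) * e := by group
        _ = e⁻¹ * (x * (e * w * e⁻¹)) * e := by rw [hxc']
        _ = (e⁻¹ * x * e) * w := by group)
    calc x = e * (e⁻¹ * x * e) * e⁻¹ := by group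
      _ = 1 := by rw [h3]; group
  -- nonlinear characters vanish outside `P`
  have hvan : ∀ χ : IrrCharacter G, charDegree (χ : G → ℂ) ≠ 1 → ∀ y ∉ (P : Subgroup G), (χ : G → ℂ) y = 0 := by
    intro χ hχ y hy
    have hcard : Nat.card (Subgroup.centralizer ({y} : Set G)) ≤ (commutator G).index := by
      rw [le_antisymm hGD hDG, Subgroup.index_eq_card]
      refine Nat.card_le_card_of_injective (fun x => ((x : G) : G ⧸ D)) fun x x' e => ?_
      have h1 : (x : G)⁻¹ * x' ∈ D ⊓ Subgroup.centralizer ({y} : Set G) :=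
        ⟨QuotientGroup.eq.mp e, (Subgroup.centralizer ({y} : Set G)).mul_mem ((Subgroup.centralizer ({y} : Set G)).inv_mem x.2) x'.2⟩
      rw [hfix y hy, Subgroup.mem_bot, inv_mul_eq_one] at h1
      exact Subtype.ext h1
    have hsum := sum_irr_mul_conj y y
    rw [if_pos (IsConj.refl y)] at hsum
    simp only [Complex.mul_conj] at hsum
    have hsum' : ∑ φ : IrrCharacter G, Complex.normSq ((φ : G → ℂ) y) =
        (Nat.card (Subgroup.centralizer ({y} : Set G)) : ℝ) := by exact_mod_cast hsum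
    have hlin : ∀ φ : IrrCharacter G, (φ : G → ℂ) 1 = 1 → Complex.normSq ((φ : G → ℂ) y) = 1 := by
      intro φ h1
      obtain ⟨f, hf⟩ := exists_hom_of_degree_one (isCharacter_of_irr φ.2) h1
      rw [hf, Complex.normSq_eq_norm_sq, Complex.norm_eq_one_of_pow_eq_one (n := orderOf y)
        (by rw [← Units.val_pow_eq_pow_val, ← map_pow, pow_orderOf_eq_one, map_one, Units.val_one])
        (orderOf_pos y).ne', one_pow]
    set S := (Finset.univ : Finset (IrrCharacter G)).filter (fun φ : IrrCharacter G => (φ : G → ℂ) 1 = 1) with hS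
    have hScard : (S.card : ℝ) = ((commutator G).index : ℝ) := by
      rw [← card_linear, Nat.card_eq_fintype_card, Fintype.card_subtype]
    have hχS : χ ∉ S := fun h1 => hχ (by
      have h2 := (Finset.mem_filter.mp h1).2
      rw [(charDegree_spec' χ.2).1, Nat.cast_eq_one] at h2
      exact h2)
    have hle : ∑ φ ∈ insert χ S, Complex.normSq ((φ : G → ℂ) y) ≤
        ∑ φ : IrrCharacter G, Complex.normSq ((φ : G → ℂ) y) :=
      Finset.sum_le_sum_of_subset_of_nonneg (Finset.subset_univ _) fun _ _ _ => Complex.normSq_nonneg _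
    rw [Finset.sum_insert hχS, Finset.sum_congr rfl fun φ hφ => hlin φ (Finset.mem_filter.mp hφ).2,
      Finset.sum_const, nsmul_one, hScard, hsum'] at hle
    have h3 : (Nat.card (Subgroup.centralizer ({y} : Set G)) : ℝ) ≤ ((commutator G).index : ℝ) := by
      exact_mod_cast hcard
    exact Complex.normSq_eq_zero.mp (le_antisymm (by linarith) (Complex.normSq_nonneg _))
  intro x y χ hx hy ⟨q, r, i, j, hq, hr, hqr, hxo, hyo⟩
  by_cases hd : charDegree (χ : G → ℂ) = 1
  · obtain ⟨f, hf⟩ := exists_hom_of_degree_one (isCharacter_of_irr χ.2)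
      (by rw [(charDegree_spec' χ.2).1, hd, Nat.cast_one])
    rw [hf]; simp
  have hmem : ∀ {z : G} {s k : ℕ}, s.Prime → z ≠ 1 → orderOf z = s ^ k → z ∈ (P : Subgroup G) → s = p := by
    intro z s k hs hz ho hzP
    obtain ⟨l, hl⟩ := IsPGroup.iff_orderOf.mp P.2 ⟨z, hzP⟩
    rw [Subgroup.orderOf_mk, ho] at hl
    by_contra hsp
    have h1 : s ^ k = 1 := Nat.eq_one_of_dvd_coprimes
      (Nat.Coprime.pow k l ((Nat.coprime_primes hs hp.out).mpr hsp)) dvd_rfl (hl ▸ dvd_rfl)
    exact hz (orderOf_eq_one_iff.mp (ho.trans h1))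
  by_cases hxP : x ∈ (P : Subgroup G)
  · have hyP : y ∉ (P : Subgroup G) := fun hyP => hqr ((hmem hq hx hxo hxP).trans (hmem hr hy hyo hyP).symm)
    rw [hvan χ hd y hyP, hvan χ hd (x * y) (fun h => hyP ((Subgroup.mul_mem_cancel_left _ hxP).mp h)), mul_zero]
  · by_cases hyP : y ∈ (P : Subgroup G)
    · rw [hvan χ hd x hxP, hvan χ hd (x * y) (fun h => hxP ((Subgroup.mul_mem_cancel_right _ hyP).mp h)), zero_mul]
    · rw [hvan χ hd x hxP, zero_mul]
      refine hvan χ hd _ fun h => hxP ?_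
      have e : ((x : G) : G ⧸ (P : Subgroup G)) * (y : G ⧸ (P : Subgroup G)) = 1 := by
        rw [← QuotientGroup.mk_mul, QuotientGroup.eq_one_iff]; exact h
      rw [← QuotientGroup.eq_one_iff, ← orderOf_eq_one_iff]
      refine Nat.eq_one_of_dvd_coprimes (Nat.Coprime.pow i j ((Nat.coprime_primes hq hr).mpr hqr))
        (hxo ▸ orderOf_map_dvd (QuotientGroup.mk' _) x) ?_
      rw [eq_inv_of_mul_eq_one_left e, orderOf_inv, ← hyo]
      exact orderOf_map_dvd (QuotientGroup.mk' _) y

end CfsgLib.CharTheory.MultCoprime
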