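/-
The derived length of a Sylow subgroup and the number of characters of degree divisible by `p`.
-/
import Cfsg.Agent.Lib.Blocks.ItoPSolvable
import Cfsg.Agent.Lib.PLocal.Offender.Dual
import Cfsg.Agent.Lib.PResidual
import Cfsg.Agent.Lib.Blocks.DefectZeroProducts

namespace CfsgLib.CharTheory.PDivDerived

open Cfsg CfsgLib CfsgLib.CharTheory CfsgLib.Blocks
open scoped commutatorElement

universe u

/-- The number of irreducible characters of degree divisible by `p`. -/
noncomputable def numDiv (p : ℕ) (G : Type u) [Group G] : ℕ :=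
  Nat.card {χ : IrrCharacter G // p ∣ charDegree (χ : G → ℂ)}

variable {G : Type u} [Group G] [Finite G] {p : ℕ} [hp : Fact p.Prime]

/-- Inflation as a map on the characters of degree divisible by `p`. -/
noncomputable def inflate (K : Subgroup G) [K.Normal] :
    {ψ : IrrCharacter (G ⧸ K) // p ∣ charDegree (ψ : G ⧸ K → ℂ)} →
      {χ : IrrCharacter G // p ∣ charDegree (χ : G → ℂ)} :=
  fun ψ => ⟨(quotientIrrEquiv K ψ.1).1, ψ.2⟩

omit hp in
theorem inflate_injective (K : Subgroup G) [K.Normal] :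
    Function.Injective (inflate (p := p) K) := fun _ _ h =>
  Subtype.ext ((quotientIrrEquiv K).injective
    (Subtype.ext (congrArg Subtype.val h : _)))

omit hp in
theorem numDiv_quotient_le (K : Subgroup G) [K.Normal] : numDiv p (G ⧸ K) ≤ numDiv p G := by
  have := Fintype.ofFinite G
  exact Nat.card_le_card_of_injective _ (inflate_injective K)

omit hp in
theorem numDiv_quotient_lt (K : Subgroup G) [K.Normal] {χ : G → ℂ} (hχ : IsIrrCharacter G χ)
    (hdvd : p ∣ charDegree χ) {k : G} (hk : k ∈ K) (hne : χ k ≠ χ 1) :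
    numDiv p (G ⧸ K) < numDiv p G := by
  classical
  have := Fintype.ofFinite G
  have := Fintype.ofFinite {ψ : IrrCharacter (G ⧸ K) // p ∣ charDegree (ψ : G ⧸ K → ℂ)}
  have := Fintype.ofFinite {χ : IrrCharacter G // p ∣ charDegree (χ : G → ℂ)}
  unfold numDiv
  rw [Nat.card_eq_fintype_card, Nat.card_eq_fintype_card]
  refine Fintype.card_lt_of_injective_not_surjective _ (inflate_injective K) fun hs => ?_
  obtain ⟨ψ, hψ⟩ := hs ⟨⟨χ, hχ⟩, hdvd⟩
  have e : ((quotientIrrEquiv K ψ.1).1 : G → ℂ) = χ := congrArg (fun z => (z.1 : G → ℂ)) hψ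
  have h2 := (quotientIrrEquiv K ψ.1).2 k hk
  rw [e] at h2
  exact hne h2

/-- The image of a Sylow subgroup controls the derived series modulo `K`. -/
theorem derived_le_ker (K : Subgroup G) [K.Normal] (P : Sylow p G) {j : ℕ}
    (h : derivedSeries ↥(P.mapSurjective (QuotientGroup.mk'_surjective K) :
      Subgroup (G ⧸ K)) j = ⊥) :
    derivedSeries ↥(P : Subgroup G) j ≤ K.subgroupOf (P : Subgroup G) := by
  intro x hx
  have hmem : QuotientGroup.mk' K (x : G) ∈
      (P.mapSurjective (QuotientGroup.mk'_surjective K) : Subgroup (G ⧸ K)) := by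
    rw [Sylow.coe_mapSurjective]; exact Subgroup.mem_map_of_mem _ x.2
  let f : ↥(P : Subgroup G) →* ↥(P.mapSurjective (QuotientGroup.mk'_surjective K) :
      Subgroup (G ⧸ K)) :=
    ((QuotientGroup.mk' K).comp (P : Subgroup G).subtype).codRestrict _ fun y => by
      rw [Sylow.coe_mapSurjective]; exact Subgroup.mem_map_of_mem _ y.2
  have hfx := map_derivedSeries_le_derivedSeries f j (Subgroup.mem_map_of_mem f hx)
  rw [h, Subgroup.mem_bot] at hfx
  exact (QuotientGroup.eq_one_iff (x : G)).mp (congrArg Subtype.val hfx)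

/-- Derived series past an abelian normal subgroup. -/
theorem derived_succ_eq_bot (Z : Subgroup G) (hab : ∀ x ∈ Z, ∀ y ∈ Z, x * y = y * x)
    (P : Subgroup G) {j : ℕ} (h : derivedSeries ↥P j ≤ Z.subgroupOf P) :
    derivedSeries ↥P (j + 1) = ⊥ := by
  rw [derivedSeries_succ, eq_bot_iff, Subgroup.commutator_le]
  intro x hx y hy
  rw [Subgroup.mem_bot, commutatorElement_eq_one_iff_mul_comm]
  exact Subtype.ext (hab _ (h hx) _ (h hy))

/-- A `p`-group with nonabelian `O_p`: an irreducible character of degree divisible by `p` not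
trivial on the last derived subgroup. -/
theorem exists_of_nonabelian (hU : ¬ ∀ x ∈ pCore p G, ∀ y ∈ pCore p G, x * y = y * x) :
    ∃ Z : Subgroup G, Z.Normal ∧ (∀ x ∈ Z, ∀ y ∈ Z, x * y = y * x) ∧ Z ≠ ⊥ ∧
      ∃ (χ : G → ℂ) (_ : IsIrrCharacter G χ), p ∣ charDegree χ ∧ ∃ z ∈ Z, χ z ≠ χ 1 := by
  classical
  haveI := Fintype.ofFinite G
  set U := pCore p G with hUdef
  haveI hUn : U.Normal := pCore_normal' (G := G) (p := p)
  haveI := Fintype.ofFinite U
  have hUp : IsPGroup p U := isPGroup_pCore (G := G) p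
  haveI : Group.IsNilpotent U := hUp.isNilpotent
  obtain ⟨k, hk⟩ := (inferInstance : Group.IsSolvable U).solvable
  have hex : ∃ j, derivedSeries U j = ⊥ := ⟨k, hk⟩
  have hj2 : 2 ≤ Nat.find hex := by
    by_contra hlt
    push Not at hlt
    have hspec := Nat.find_spec hex
    have h1 : derivedSeries U 1 = ⊥ := by
      rw [eq_bot_iff, ← hspec]
      exact derivedSeries_antitone U (Nat.lt_succ_iff.mp hlt)
    refine hU fun x hx y hy => ?_
    have : ⁅(⟨x, hx⟩ : U), ⟨y, hy⟩⁆ ∈ derivedSeries U 1 := by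
      rw [derivedSeries_succ, derivedSeries_zero]
      exact Subgroup.commutator_mem_commutator (Subgroup.mem_top _) (Subgroup.mem_top _)
    rw [h1, Subgroup.mem_bot, commutatorElement_eq_one_iff_mul_comm] at this
    exact congrArg Subtype.val this
  obtain ⟨j, hj⟩ : ∃ j, Nat.find hex = j + 1 := ⟨Nat.find hex - 1, by omega⟩
  have hjne : derivedSeries U j ≠ ⊥ := Nat.find_min hex (by omega)
  have hjc : derivedSeries U (j + 1) = ⊥ := hj ▸ Nat.find_spec hex
  set Z := (derivedSeries U j).map U.subtype with hZ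
  haveI : (derivedSeries U j).Characteristic := derivedSeries_characteristic U j
  haveI hZn : Z.Normal := inferInstance
  refine ⟨Z, hZn, ?_, ?_, ?_⟩
  · rintro _ ⟨x, hx, rfl⟩ _ ⟨y, hy, rfl⟩
    have : ⁅x, y⁆ ∈ derivedSeries U (j + 1) := by
      rw [derivedSeries_succ]; exact Subgroup.commutator_mem_commutator hx hy
    rw [hjc, Subgroup.mem_bot, commutatorElement_eq_one_iff_mul_comm] at this
    exact congrArg Subtype.val this
  · rwa [hZ, Ne, Subgroup.map_eq_bot_iff_of_injective _ U.subtype_injective]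
  obtain ⟨z, hz, hz1⟩ := (Subgroup.bot_or_exists_ne_one (derivedSeries U j)).resolve_left hjne
  obtain ⟨χ, hχne⟩ : ∃ χ : IrrCharacter G, (χ : G → ℂ) (z : G) ≠ (χ : G → ℂ) 1 := by
    by_contra hne
    push Not at hne
    exact hz1 (Subtype.ext (isConj_one_right.mp (isConj_of_forall_irr fun χ => hne χ).symm))
  refine ⟨χ, χ.2, ?_, (z : G), Subgroup.mem_map_of_mem _ hz, hχne⟩
  by_contra hdvd
  apply hχne
  obtain ⟨θ, hθ, hθc⟩ := exists_constituent (isCharacter_restrict (isCharacter_of_irr χ.2) U)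
    (fun h => irr_ne_zero χ.2 (congrFun h 1))
  have hlin : ∀ ψ : IrrCharacter U, classInner (fun u : U => (χ : G → ℂ) u) (ψ : U → ℂ) ≠ 0 →
      (ψ : U → ℂ) 1 = 1 := by
    intro ψ hψ
    obtain ⟨e, he, -⟩ := degree_ratio_dvd χ.2 ψ.2 hψ
    rw [(charDegree_spec' χ.2).1, (charDegree_spec' ψ.2).1] at he
    have he' : charDegree (χ : G → ℂ) = e * charDegree (ψ : U → ℂ) := by exact_mod_cast he
    have hd := charDegree_dvd_card ψ
    obtain ⟨a, ha⟩ := IsPGroup.iff_card.mp hUp
    rw [ha] at hd
    obtain ⟨i, -, hi⟩ := (Nat.dvd_prime_pow hp.out).mp hd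
    rcases i with _ | i
    · rw [(charDegree_spec' ψ.2).1, hi]; simp
    · refine absurd ?_ hdvd
      rw [he', hi]
      exact (dvd_pow_self p (Nat.succ_ne_zero i)).mul_left e
  have hres := congrFun (eq_sum_irr (isClassFunction_char
    (isCharacter_restrict (isCharacter_of_irr χ.2) U))) z
  have hres1 := congrFun (eq_sum_irr (isClassFunction_char
    (isCharacter_restrict (isCharacter_of_irr χ.2) U))) 1
  simp only [Finset.sum_apply, Pi.smul_apply, smul_eq_mul] at hres hres1
  show (χ : G → ℂ) ((z : U) : G) = (χ : G → ℂ) 1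
  rw [hres, show (χ : G → ℂ) 1 = (χ : G → ℂ) ((1 : U) : G) from rfl, hres1]
  refine Finset.sum_congr rfl fun ψ _ => ?_
  by_cases hψ : classInner (fun u : U => (χ : G → ℂ) u) (ψ : U → ℂ) = 0
  · rw [hψ, zero_mul, zero_mul]
  obtain ⟨φ, hφ⟩ := exists_hom_of_degree_one (isCharacter_of_irr ψ.2) (hlin ψ hψ)
  congr 1
  rw [hφ]
  have hzc : z ∈ φ.ker := by
    refine Abelianization.commutator_subset_ker φ ?_
    rw [← derivedSeries_one]
    refine derivedSeries_antitone U ?_ hz
    omega
  simp [MonoidHom.mem_ker.mp hzc]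

/-- With `O_p = 1` some character of degree divisible by `p` is nontrivial on `O_{p'}`. -/
theorem exists_over_pPrimeCore (hsolv : IsPSolvable p G) (hO : pCore p G = ⊥)
    (hpG : p ∣ Nat.card G) :
    ∃ (χ : G → ℂ) (_ : IsIrrCharacter G χ), p ∣ charDegree χ ∧
      ∃ k ∈ pPrimeCore p G, χ k ≠ χ 1 := by
  classical
  haveI := Fintype.ofFinite G
  set R := pPrimeCore p G with hR
  haveI := Fintype.ofFinite R
  have hRp : ¬ p ∣ Nat.card R := not_dvd_card_pPrimeCore'
  have hCR : Subgroup.centralizer (R : Set G) ≤ R :=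
    CfsgLib.Offender.centralizer_pPrimeCore_le hsolv hO
  have hRt : R ≠ ⊤ := fun e => hRp (by rw [e, Subgroup.card_top]; exact hpG)
  haveI : Fintype (G ⧸ R) := Fintype.ofFinite _
  have hQ : pCore p (G ⧸ R) ≠ ⊥ := fun e => by
    have h := hall_higman (PSolvableClosure.of_surjective _ (QuotientGroup.mk'_surjective R) hsolv)
      (pPrimeCore_quotient_eq_bot p)
    rw [e] at h
    refine hRt (eq_top_iff.mpr fun g _ => ?_)
    rw [← QuotientGroup.eq_one_iff]
    exact Subgroup.mem_bot.mp (h (Subgroup.mem_centralizer_iff.mpr fun y hy => by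
      rw [Subgroup.mem_bot.mp hy, one_mul, mul_one]))
  obtain ⟨yb, hyb, hyb1⟩ := (Subgroup.bot_or_exists_ne_one _).resolve_left hQ
  obtain ⟨y, rfl⟩ := QuotientGroup.mk_surjective yb
  -- an element of `p`-power order outside `R`
  obtain ⟨a, m, hm, hord⟩ := Nat.exists_eq_pow_mul_and_not_dvd (orderOf_pos y).ne' p hp.out.ne_one
  set x := y ^ m with hx
  have hxp : IsPGroup p (Subgroup.zpowers x) := by
    refine IsPGroup.of_card (n := a) ?_
    have hm0 : m ≠ 0 := fun h => hm (by rw [h]; exact dvd_zero p)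
    rw [Nat.card_zpowers, hx, orderOf_pow' y hm0, hord,
      Nat.gcd_mul_left_left, Nat.mul_div_cancel _ (Nat.pos_of_ne_zero hm0)]
  have hxR : x ∉ R := by
    intro h
    apply hyb1
    obtain ⟨i, hi⟩ := IsPGroup.iff_orderOf.mp (isPGroup_pCore (G := G ⧸ R) p) ⟨_, hyb⟩
    rw [Subgroup.orderOf_mk] at hi
    rw [← QuotientGroup.eq_one_iff, QuotientGroup.mk_pow] at h
    have h2 := orderOf_dvd_of_pow_eq_one h
    rw [hi] at h2
    have h3 := Nat.eq_one_of_dvd_coprimes ((hp.out.coprime_iff_not_dvd.mpr hm).pow_left i)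
      dvd_rfl h2
    rwa [← hi, orderOf_eq_one_iff] at h3
  have hxQ : (x : G ⧸ R) ∈ pCore p (G ⧸ R) := by
    rw [hx, QuotientGroup.mk_pow]; exact pow_mem hyb m
  -- a character of `R` moved by `x`
  obtain ⟨θ, hθ⟩ : ∃ θ : IrrCharacter R, x ∉ inertia R (θ : R → ℂ) := by
    by_contra hne
    push Not at hne
    apply hxR
    apply hCR
    let φ : Subgroup.zpowers x →* MulAut R :=
      (MulAut.conjNormal : G →* MulAut R).comp (Subgroup.zpowers x).subtype
    have hfix := fixed_of_fixed_chars hRp hxp φ fun θ s k => by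
      obtain ⟨s, hs⟩ := s
      have hs' : s ∈ inertia R (θ : R → ℂ) :=
        (Subgroup.zpowers_le.mpr (hne θ)) hs
      refine Eq.trans (congrArg _ (Subtype.ext ?_)) (congrFun ((mem_inertia R).mp hs') k)
      exact MulAut.conjNormal_apply _ _
    rw [Subgroup.mem_centralizer_iff]
    intro k hk
    have h1 : x * k * x⁻¹ = k :=
      congrArg Subtype.val (hfix ⟨x, Subgroup.mem_zpowers x⟩ ⟨k, hk⟩)
    exact (mul_inv_eq_iff_eq_mul.mp h1).symm
  have hidx : p ∣ (inertia R (θ : R → ℂ)).index := by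
    by_contra hidx
    obtain ⟨S⟩ : Nonempty (Sylow p (inertia R (θ : R → ℂ))) := inferInstance
    set S' := (S : Subgroup (inertia R (θ : R → ℂ))).map (inertia R (θ : R → ℂ)).subtype with hS'
    have hS'p : IsPGroup p S' := S.isPGroup'.map _
    have hS'i : ¬ p ∣ S'.index := by
      rw [hS', Subgroup.index_map_subtype]
      exact hp.out.not_dvd_mul S.not_dvd_index hidx
    let Sy : Sylow p G := hS'p.toSylow hS'i
    have hle : pCore p (G ⧸ R) ≤
        (Sy.mapSurjective (QuotientGroup.mk'_surjective R) : Subgroup (G ⧸ R)) := by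
      set T := (Sy.mapSurjective (QuotientGroup.mk'_surjective R) : Sylow p (G ⧸ R))
      have hT : IsPGroup p ((T : Subgroup (G ⧸ R)) ⊔ pCore p (G ⧸ R) : Subgroup (G ⧸ R)) :=
        T.isPGroup'.to_sup_of_normal_right (isPGroup_pCore (G := G ⧸ R) p)
      exact le_sup_right.trans (T.is_maximal' hT le_sup_left).le
    have h := hle hxQ
    rw [Sylow.coe_mapSurjective] at h
    obtain ⟨s, hs, hsx⟩ := h
    apply hθ
    have hsT : s ∈ inertia R (θ : R → ℂ) := Subgroup.map_subtype_le _ hs
    have hr : s⁻¹ * x ∈ R := QuotientGroup.eq.mp hsx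
    have := Subgroup.mul_mem _ hsT (le_inertia R (isClassFunction_irr θ.2) hr)
    rwa [mul_inv_cancel_left] at this
  obtain ⟨χ, hχ, hne⟩ := exists_irr_above θ.2
  refine ⟨χ, hχ, ?_, ?_⟩
  · have hd := clifford_degree R hχ θ.2 hne
    obtain ⟨e, he⟩ := classInner_char_nat (isCharacter_restrict (isCharacter_of_irr hχ) R)
      (isCharacter_of_irr θ.2)
    rw [he, (charDegree_spec' hχ).1, (charDegree_spec' θ.2).1] at hd
    have hd' : charDegree χ = e * (inertia R (θ : R → ℂ)).index * charDegree θ.1 := by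
      exact_mod_cast hd
    rw [hd']
    exact (hidx.mul_left e).mul_right _
  · by_contra hall
    push Not at hall
    apply hθ
    have hθ1 : (θ : R → ℂ) = fun _ => 1 := by
      by_contra hne1
      apply hne
      have e : (fun n : R => χ n) = χ 1 • fun _ => (1 : ℂ) :=
        funext fun n => by simp [hall n n.2]
      rw [e, classInner_smul_left, classInner_irr_ne isIrrCharacter_one θ.2 (fun h => hne1 h.symm),
        mul_zero]
    rw [mem_inertia, hθ1]
    rfl

/-- Both bounds. -/
theorem bounds : ∀ (n : ℕ) (G : Type u) [Group G] [Finite G], Nat.card G ≤ n →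
    IsPSolvable p G → ∀ P : Sylow p G,
      (pCore p G = ⊥ → derivedSeries ↥(P : Subgroup G) (numDiv p G) = ⊥) ∧
      derivedSeries ↥(P : Subgroup G) (numDiv p G + 1) = ⊥ := by
  intro n
  induction n with
  | zero => intro G _ _ h; exact absurd h (by have := Nat.card_pos (α := G); omega)
  | succ n ih =>
    intro G _ _ hle hsolv P
    classical
    have hmono : ∀ {i j : ℕ}, i ≤ j → derivedSeries ↥(P : Subgroup G) i = ⊥ →
        derivedSeries ↥(P : Subgroup G) j = ⊥ := fun hij h =>
      eq_bot_iff.mpr (h ▸ derivedSeries_antitone _ hij)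
    have hsmall : ∀ (K : Subgroup G) [K.Normal], K ≠ ⊥ → Nat.card (G ⧸ K) ≤ n := by
      intro K _ hK
      have h1 : 1 < Nat.card K := (Subgroup.one_lt_card_iff_ne_bot K).mpr hK
      have h2 := K.card_eq_card_quotient_mul_card_subgroup
      have h3 : 0 < Nat.card (G ⧸ K) := Nat.card_pos
      nlinarith
    have hb : pCore p G = ⊥ → derivedSeries ↥(P : Subgroup G) (numDiv p G) = ⊥ := by
      intro hO
      by_cases hpG : p ∣ Nat.card G
      swap
      · refine hmono (Nat.zero_le _) ?_
        have hP1 : (P : Subgroup G) = ⊥ := by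
          obtain ⟨a, ha⟩ := IsPGroup.iff_card.mp P.isPGroup'
          refine Subgroup.eq_bot_of_card_le _ (le_of_eq ?_)
          rcases a with _ | a
          · rw [ha, pow_zero]
          · exact absurd ((dvd_pow_self p (Nat.succ_ne_zero a)).trans
              (ha ▸ Subgroup.card_subgroup_dvd_card _)) hpG
        haveI : Subsingleton ↥(P : Subgroup G) := by rw [hP1]; infer_instance
        exact Subsingleton.elim _ _
      obtain ⟨χ, hχ, hdvd, k, hk, hne⟩ := exists_over_pPrimeCore hsolv hO hpG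
      set R := pPrimeCore p G with hR
      have hR1 : R ≠ ⊥ := fun e => hne (by
        rw [e] at hk
        rw [Subgroup.mem_bot.mp hk])
      have hlt := numDiv_quotient_lt R hχ hdvd hk hne
      have h := (ih (G ⧸ R) (hsmall R hR1)
        (PSolvableClosure.of_surjective _ (QuotientGroup.mk'_surjective R) hsolv)
        (P.mapSurjective (QuotientGroup.mk'_surjective R))).2
      refine hmono (show numDiv p (G ⧸ R) + 1 ≤ numDiv p G by omega) ?_
      rw [eq_bot_iff]
      intro x hx
      have hxR : (x : G) ∈ R := derived_le_ker R P h hx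
      have hdisj := Subgroup.disjoint_of_coprime_natCard (H := R) (K := (P : Subgroup G)) (by
        rw [P.card_eq_multiplicity]
        exact ((hp.out.coprime_iff_not_dvd.mpr not_dvd_card_pPrimeCore').pow_left _).symm)
      exact Subgroup.mem_bot.mpr (Subtype.ext (Subgroup.disjoint_def.1 hdisj hxR x.2))
    refine ⟨hb, ?_⟩
    by_cases hO : pCore p G = ⊥
    · exact hmono (Nat.le_succ _) (hb hO)
    haveI := pCore_normal' (G := G) (p := p)
    by_cases hU : ∀ x ∈ pCore p G, ∀ y ∈ pCore p G, x * y = y * x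
    · set U := pCore p G with hUdef
      have hQ : pCore p (G ⧸ U) = ⊥ := by
        rw [← Subgroup.map_comap_eq_self_of_surjective (QuotientGroup.mk'_surjective U)
          (pCore p (G ⧸ U)), PResidual.comap_pCore_quotient U (isPGroup_pCore (G := G) p)]
        exact QuotientGroup.map_mk'_self U
      have h := (ih (G ⧸ U) (hsmall U hO)
        (PSolvableClosure.of_surjective _ (QuotientGroup.mk'_surjective U) hsolv)
        (P.mapSurjective (QuotientGroup.mk'_surjective U))).1 hQ
      exact hmono (Nat.succ_le_succ (numDiv_quotient_le U))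
        (derived_succ_eq_bot U hU _ (derived_le_ker U P h))
    · obtain ⟨Z, hZn, hZab, hZ1, χ, hχ, hdvd, z, hz, hne⟩ := exists_of_nonabelian hU
      haveI := hZn
      have hlt := numDiv_quotient_lt Z hχ hdvd hz hne
      have h := (ih (G ⧸ Z) (hsmall Z hZ1)
        (PSolvableClosure.of_surjective _ (QuotientGroup.mk'_surjective Z) hsolv)
        (P.mapSurjective (QuotientGroup.mk'_surjective Z))).2
      exact hmono (show numDiv p (G ⧸ Z) + 1 + 1 ≤ numDiv p G + 1 by omega)
        (derived_succ_eq_bot Z hZab _ (derived_le_ker Z P h))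

end CfsgLib.CharTheory.PDivDerived
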