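/-
The order of a `p`-group with a faithful irreducible character of given degree and field of values.
-/
import Cfsg.Agent.Lib.CharTheory.Monomial
import Cfsg.Agent.Lib.CharTheory.PowerMap
import Cfsg.Agent.Lib.CharTheory.Clifford
import Cfsg.Agent.Lib.CharTheory.Galois

namespace CfsgLib.CharTheory.FieldBound

open Cfsg CfsgLib.CharTheory
open scoped ComplexConjugate

universe u

variable {P : Type u} [Group P] [Fintype P]

/-- The Galois conjugates of a character of a `p`-group, as functions. -/
def powSet (p : ℕ) (χ : P → ℂ) : Set (P → ℂ) :=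
  Set.range fun m : {m : ℕ // ¬ p ∣ m} => fun g => χ (g ^ (m : ℕ))

theorem powSet_finite (p : ℕ) (χ : P → ℂ) : (powSet p χ).Finite := by
  refine (Set.finite_range fun i : Fin (Nat.card P) => fun g => χ (g ^ (i : ℕ))).subset ?_
  rintro _ ⟨m, rfl⟩
  exact ⟨⟨(m : ℕ) % Nat.card P, Nat.mod_lt _ Nat.card_pos⟩, funext fun g => by
    simp only [pow_mod_natCard]⟩

variable {p a : ℕ}

theorem coprime_of_not_dvd (hp : p.Prime) (hP : Nat.card P = p ^ a) {m : ℕ} (hm : ¬ p ∣ m) :
    m.Coprime (Nat.card P) := by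
  rw [hP]
  exact ((hp.coprime_iff_not_dvd.mpr hm).pow_left a).symm

theorem card_powSet_le_finrank (hp : p.Prime) (hP : Nat.card P = p ^ a) {χ : P → ℂ}
    (hχ : IsCharacter P χ) :
    Nat.card (powSet p χ) ≤ Module.finrank ℚ (IntermediateField.adjoin ℚ (Set.range χ)) := by
  classical
  let K := IntermediateField.adjoin ℚ (Set.range χ)
  have hle : K ≤ rootField (Nat.card P) :=
    IntermediateField.adjoin_le_iff.mpr (Set.range_subset_iff.mpr fun g => char_mem_rootField hχ g)
  have : FiniteDimensional ℚ (rootField (Nat.card P)) :=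
    IntermediateField.adjoin.finiteDimensional (isIntegral_exp Nat.card_pos.ne')
  have : FiniteDimensional ℚ K :=
    FiniteDimensional.of_injective (IntermediateField.inclusion hle).toLinearMap
      (IntermediateField.inclusion hle).injective
  have hex : ∀ F : powSet p χ, ∃ τ : K →ₐ[ℚ] ℂ, ∀ g : P,
      τ ⟨χ g, IntermediateField.subset_adjoin ℚ _ ⟨g, rfl⟩⟩ = (F : P → ℂ) g := by
    rintro ⟨_, ⟨m, hm⟩, rfl⟩
    obtain ⟨σ, hσ⟩ := exists_galois_hom (n := Nat.card P) Nat.card_pos.ne'
      (coprime_of_not_dvd hp hP hm)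
    exact ⟨σ.comp (IntermediateField.inclusion hle), fun g => galois_apply_char hχ g σ hσ⟩
  choose τ hτ using hex
  have hinj : Function.Injective τ := fun F F' h => Subtype.ext (funext fun g => by
    rw [← hτ F g, ← hτ F' g, h])
  refine (Nat.card_le_card_of_injective τ hinj).trans (le_of_eq ?_)
  rw [Nat.card_eq_fintype_card]
  exact AlgHom.card ℚ K ℂ

theorem linear_bound (hp : p.Prime) (hP : Nat.card P = p ^ a) {χ : P → ℂ} (hχ : IsCharacter P χ)
    (h1 : χ 1 = 1) (hf : ∀ g, χ g = χ 1 → g = 1) {t : ℕ}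
    (ht : Nat.card (powSet p χ) ≤ (p - 1) * p ^ t) : a ≤ t + 1 := by
  classical
  rcases Nat.eq_zero_or_pos a with rfl | ha
  · exact Nat.zero_le _
  obtain ⟨φ, hφ⟩ := exists_hom_of_degree_one hχ h1
  have hinj : Function.Injective φ := (injective_iff_map_eq_one φ).mpr fun g hg => hf g (by
    rw [hφ]; simp [hg])
  let φ' : P →* ℂ := (Units.coeHom ℂ).comp φ
  have hinj' : Function.Injective φ' := fun x y h => hinj (Units.ext h)
  have : IsCyclic P := isCyclic_of_subgroup_isDomain φ' hinj'
  obtain ⟨g, hg⟩ := IsCyclic.exists_ofOrder_eq_natCard (α := P)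
  have : NeZero (p ^ a) := ⟨pow_ne_zero _ hp.ne_zero⟩
  have hu : ∀ m : (ZMod (p ^ a))ˣ, ¬ p ∣ (m : ZMod (p ^ a)).val := fun m hd => by
    have hc := ZMod.val_coe_unit_coprime m
    rw [Nat.coprime_pow_right_iff ha] at hc
    exact hp.coprime_iff_not_dvd.mp hc.symm hd
  let F : (ZMod (p ^ a))ˣ → powSet p χ := fun m => ⟨_, ⟨⟨_, hu m⟩, rfl⟩⟩
  have hF : Function.Injective F := fun m m' h => by
    have e : χ (g ^ (m : ZMod (p ^ a)).val) = χ (g ^ (m' : ZMod (p ^ a)).val) :=
      congrFun (congrArg Subtype.val h) g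
    rw [hφ] at e
    have e2 := hinj' (a₁ := g ^ (m : ZMod (p ^ a)).val) (a₂ := g ^ (m' : ZMod (p ^ a)).val) e
    rw [pow_eq_pow_iff_modEq, hg, hP] at e2
    refine Units.ext (ZMod.val_injective _ ?_)
    exact e2.eq_of_lt_of_lt (ZMod.val_lt _) (ZMod.val_lt _)
  have := (powSet_finite p χ).to_subtype
  have h := (Nat.card_le_card_of_injective F hF).trans ht
  rw [Nat.card_eq_fintype_card, ZMod.card_units_eq_totient, Nat.totient_prime_pow hp ha,
    mul_comm] at h
  have h2 := (Nat.pow_le_pow_iff_right hp.one_lt).mp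
    (Nat.le_of_mul_le_mul_left h (Nat.sub_pos_of_lt hp.one_lt))
  omega

/-- A nonlinear irreducible character of a `p`-group is induced from a normal subgroup of index
`p`. -/
theorem exists_induced (hp : p.Prime) (hP : Nat.card P = p ^ a) {χ : P → ℂ}
    (hχ : IsIrrCharacter P χ) (h1 : χ 1 ≠ 1) :
    ∃ (N : Subgroup P) (_ : N.Normal) (θ : N → ℂ), N.index = p ∧ IsIrrCharacter N θ ∧
      χ = indFun N θ ∧ inertia N θ = N := by
  classical
  have : Fact p.Prime := ⟨hp⟩
  have hPp : IsPGroup p P := IsPGroup.of_card hP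
  have : Group.IsNilpotent P := hPp.isNilpotent
  obtain ⟨H, lam, hlam⟩ := isMonomialChar_of_nilpotent hχ
  have hH : H ≠ ⊤ := by
    rintro rfl
    apply h1
    rw [hlam, indFun_apply_one]
    simp [Subgroup.index_top]
  obtain ⟨N, hN, hle⟩ := (eq_top_or_exists_le_coatom H).resolve_left hH
  have hnc : NormalizerCondition P := normalizerCondition_of_isNilpotent
  have : N.Normal := Subgroup.NormalizerCondition.normal_of_coatom N hnc hN
  have hidx : N.index = p := by
    obtain ⟨k, hk⟩ := hPp.index N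
    have hk0 : k ≠ 0 := fun h => hN.1 (Subgroup.index_eq_one.mp (by rw [hk, h, pow_zero]))
    have hd : p ∣ Nat.card (P ⧸ N) := by
      rw [← Subgroup.index_eq_card, hk]; exact dvd_pow_self p hk0
    obtain ⟨x, hx⟩ := exists_prime_orderOf_dvd_card' p hd
    let L := (Subgroup.zpowers x).comap (QuotientGroup.mk' N)
    have hLt : N < L := by
      refine lt_of_le_of_ne ?_ ?_
      · intro n hn
        show (n : P ⧸ N) ∈ Subgroup.zpowers x
        rw [(QuotientGroup.eq_one_iff n).mpr hn]
        exact one_mem _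
      · intro e
        obtain ⟨y, rfl⟩ := QuotientGroup.mk_surjective x
        have hy : y ∈ L := Subgroup.mem_zpowers _
        rw [← e, ← QuotientGroup.eq_one_iff] at hy
        rw [hy, orderOf_one] at hx
        exact hp.one_lt.ne hx
    have hL := hN.2 L hLt
    have hz : Subgroup.zpowers x = ⊤ := by
      rw [← Subgroup.map_comap_eq_self_of_surjective (QuotientGroup.mk'_surjective N)
        (Subgroup.zpowers x)]
      rw [show (Subgroup.zpowers x).comap (QuotientGroup.mk' N) = ⊤ from hL,
        Subgroup.map_top_of_surjective _ (QuotientGroup.mk'_surjective N)]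
    rw [Subgroup.index_eq_card, ← hx, ← Nat.card_zpowers, hz, Subgroup.card_top]
  have := Fintype.ofFinite N
  have := Fintype.ofFinite (H.subgroupOf N)
  let θ : N → ℂ := indFun (H.subgroupOf N)
    (fun x => (lam ⟨((x : N) : P), Subgroup.mem_subgroupOf.mp x.2⟩ : ℂ))
  have hθc : IsCharacter N θ := by
    refine isCharacter_indFun _ (isCharacter_of_irr ?_)
    exact isIrrCharacter_linear (lam.comp (Subgroup.subgroupOfEquivOfLe hle).toMonoidHom)
  have hind : indFun N θ = χ := by
    rw [hlam]
    exact indFun_trans H N hle (fun h => (lam h : ℂ))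
  clear_value θ
  have hconj : ∀ x : P, IsCharacter N (conjNormFun N x θ) := fun x => by
    rw [conjNormFun_eq]
    exact isCharacter_comp hθc (MulAut.conjNormal x : N ≃* N).toMonoidHom
  choose c hc using fun x : P => classInner_char_nat hθc (hconj x)
  have hself := classInner_indFun_indFun N θ θ
  rw [hind, classInner_irr_self hχ, Finset.sum_congr rfl fun x _ => hc x, eq_comm,
    inv_mul_eq_iff_eq_mul₀ (Nat.cast_ne_zero.mpr Nat.card_pos.ne'), mul_one] at hself
  have hsum : ∑ x : P, c x = Nat.card N := by exact_mod_cast hself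
  have hcN : ∀ x ∈ N, c x = c 1 := fun x hx => by
    have e : (c x : ℂ) = c 1 := by
      rw [← hc x, ← hc 1, conjNormFun_of_mem N hx (isClassFunction_char hθc), conjNormFun_one]
    exact_mod_cast e
  have hc1 : 0 < c 1 := by
    refine Nat.pos_of_ne_zero fun h0 => ?_
    have e := hc 1
    rw [conjNormFun_one, h0, Nat.cast_zero] at e
    have hne : θ ≠ 0 := fun h => irr_ne_zero hχ (by
      rw [← hind, h, indFun_zero]; rfl)
    obtain ⟨ψ, hψ, hψ'⟩ := exists_constituent hθc hne
    exact classInner_ne_zero_of_common hθc hθc hψ hψ' hψ' e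
  have hcard : (Finset.univ.filter fun x : P => x ∈ N).card = Nat.card N := by
    rw [← Fintype.card_subtype, ← Nat.card_eq_fintype_card]
  have hsplit := Finset.sum_filter_add_sum_filter_not Finset.univ (fun x : P => x ∈ N) c
  rw [hsum, Finset.sum_congr rfl fun x hx => hcN x (Finset.mem_filter.mp hx).2, Finset.sum_const,
    hcard, smul_eq_mul] at hsplit
  have hc11 : c 1 = 1 := by
    by_contra hne
    have : Nat.card N * 2 ≤ Nat.card N * c 1 := Nat.mul_le_mul_left _ (by omega)
    have := Nat.card_pos (α := N)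
    omega
  have hθ : IsIrrCharacter N θ := irr_of_char_norm_one hθc (by
    have e := hc 1
    rwa [conjNormFun_one, hc11, Nat.cast_one] at e)
  refine ⟨N, ‹N.Normal›, θ, hidx, hθ, hind.symm, le_antisymm (fun x hx => ?_)
    (le_inertia N (isClassFunction_char hθc))⟩
  by_contra hxN
  rw [hc11, mul_one, Nat.add_eq_left] at hsplit
  have h0 := Finset.sum_eq_zero_iff.mp hsplit x (Finset.mem_filter.mpr ⟨Finset.mem_univ _, hxN⟩)
  have e := hc x
  rw [(mem_inertia N).mp hx, h0, Nat.cast_zero, classInner_irr_self hθ] at e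
  exact one_ne_zero e

theorem indFun_powFun (hp : p.Prime) (hP : Nat.card P = p ^ a) (N : Subgroup P) (θ : N → ℂ)
    {m : ℕ} (hm : ¬ p ∣ m) :
    indFun N (fun n => θ (n ^ m)) = fun g => indFun N θ (g ^ m) :=
  funext fun g => (indFun_pow N θ (coprime_of_not_dvd hp hP hm) g).symm

theorem eq_one_of_conj_mem_kernel (N : Subgroup P) [N.Normal] {θ : N → ℂ} {χ : P → ℂ}
    (hind : χ = indFun N θ) (hf : ∀ g, χ g = χ 1 → g = 1) (n : N)
    (h : ∀ x : P, θ ⟨x⁻¹ * n * x, by simpa using (inferInstance : N.Normal).conj_mem _ n.2 x⁻¹⟩ =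
      θ 1) : n = 1 := by
  refine Subtype.ext (hf _ ?_)
  rw [hind]
  simp only [indFun]
  congr 1
  refine Finset.sum_congr rfl fun x _ => ?_
  rw [extendByZero_of_mem _ _ (show x⁻¹ * (n : P) * x ∈ N by
      simpa using (inferInstance : N.Normal).conj_mem _ n.2 x⁻¹), h x]
  rw [extendByZero_of_mem _ _ (show x⁻¹ * (1 : P) * x ∈ N by simp)]
  exact congrArg θ (Subtype.ext (by simp))

/-- The bound, with the field degree replaced by the number of Galois conjugates. -/
theorem order_bound (hp : p.Prime) : ∀ (a : ℕ) (P : Type u) [Group P] [Fintype P] (χ : P → ℂ)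
    (f t : ℕ), Nat.card P = p ^ a → IsIrrCharacter P χ → (∀ g, χ g = χ 1 → g = 1) →
    χ 1 = (f : ℂ) → Nat.card (powSet p χ) ≤ (p - 1) * p ^ t →
    (p - 1) * a ≤ (f - 1) + (p - 1) * (t + 1) * f := by
  intro a
  induction a using Nat.strong_induction_on with
  | _ a ih =>
  intro P _ _ χ f t hP hχ hfaith hf1 ht
  classical
  have hc := isCharacter_of_irr hχ
  by_cases h1 : χ 1 = 1
  · have hf : f = 1 := by
      have : (f : ℂ) = 1 := hf1 ▸ h1
      exact_mod_cast this
    subst hf
    have := Nat.mul_le_mul_left (p - 1) (linear_bound hp hP hc h1 hfaith ht)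
    simpa using this
  obtain ⟨N, hN, θ, hidx, hθ, hind, hI⟩ := exists_induced hp hP hχ h1
  have := Fintype.ofFinite N
  have hθc := isCharacter_of_irr hθ
  obtain ⟨f', hf'0, hf'⟩ := irr_degree_pos hθ
  have hff : f = p * f' := by
    have e : (f : ℂ) = (p : ℂ) * f' := by
      rw [← hf1, hind, indFun_apply_one, hidx, hf']
    exact_mod_cast e
  have ha : 0 < a := by
    rcases Nat.eq_zero_or_pos a with rfl | h
    · exfalso
      have h2 := N.index_mul_card
      rw [hidx, hP, pow_zero] at h2
      exact hp.one_lt.ne' (Nat.eq_one_of_mul_eq_one_right h2)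
    · exact h
  have hcardN : Nat.card N = p ^ (a - 1) := by
    have h := N.index_mul_card
    rw [hidx, hP] at h
    refine Nat.eq_of_mul_eq_mul_left hp.pos (h.trans ?_)
    rw [← pow_succ', Nat.sub_add_cancel ha]
  have hcast1 : (1 : ℕ) ≤ p - 1 := Nat.le_sub_one_of_lt hp.one_lt
  have hirr : ∀ {m : ℕ}, ¬ p ∣ m → IsIrrCharacter N (fun n => θ (n ^ m)) := fun hm =>
    isIrrCharacter_pow hθ (coprime_of_not_dvd hp hcardN hm)
  have := (powSet_finite p θ).to_subtype
  have := (powSet_finite p χ).to_subtype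
  let Φ : powSet p θ → powSet p χ := fun F => ⟨indFun N (F : N → ℂ), by
    obtain ⟨⟨m, hm⟩, hF⟩ := F.2
    refine ⟨⟨m, hm⟩, ?_⟩
    rw [← hF, indFun_powFun hp hP N θ hm, ← hind]⟩
  by_cases hΦ : Function.Injective Φ
  · -- the field does not grow
    let K := charKernel θ hθc
    let A := K.map N.subtype
    have : Fintype (N ⧸ K) := Fintype.ofFinite _
    obtain ⟨a', -, ha'⟩ : ∃ a', a' ≤ a - 1 ∧ Nat.card (N ⧸ K) = p ^ a' :=
      (Nat.dvd_prime_pow hp).mp (hcardN ▸ Subgroup.card_quotient_dvd_card K)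
    have hlt : a' < a := by
      have : p ^ a' ≤ p ^ (a - 1) := by
        rw [← ha', ← hcardN]; exact Nat.le_of_dvd Nat.card_pos (Subgroup.card_quotient_dvd_card K)
      have := (Nat.pow_le_pow_iff_right hp.one_lt).mp this
      omega
    obtain ⟨ψ, hψ, hψe⟩ := exists_quotient_irr K hθ fun n hn => (mem_charKernel hθc n).mp hn
    have hψ1 : ψ 1 = (f' : ℂ) := (congrFun hψe 1).symm.trans hf'
    have hψf : ∀ q, ψ q = ψ 1 → q = 1 := by
      intro q
      induction q using QuotientGroup.induction_on with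
      | _ n =>
        intro h
        rw [QuotientGroup.eq_one_iff, mem_charKernel hθc]
        exact ((congrFun hψe n).trans h).trans (congrFun hψe 1).symm
    have hψo : Nat.card (powSet p ψ) ≤ (p - 1) * p ^ t := by
      refine le_trans ?_ ((Nat.card_le_card_of_injective Φ hΦ).trans ht)
      refine Nat.card_le_card_of_injective
        (fun F => ⟨fun n => (F : (N ⧸ K) → ℂ) n, by
          obtain ⟨m, hm⟩ := F.2
          exact ⟨m, funext fun n => (congrFun hψe (n ^ (m : ℕ))).trans (congrFun hm (n : N ⧸ K))⟩⟩) ?_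
      intro F F' h
      refine Subtype.ext (funext fun q => ?_)
      induction q using QuotientGroup.induction_on with
      | _ n => exact congrFun (congrArg Subtype.val h) n
    have hb := ih a' hlt (N ⧸ K) ψ f' t ha' hψ hψf hψ1 hψo
    -- the intersection of the conjugate kernels
    let f₀ : (P ⧸ N) → Subgroup N := fun q => K.comap (MulAut.conjNormal (q.out)⁻¹ : N ≃* N).toMonoidHom
    have hbot : (⨅ q, f₀ q) = ⊥ := by
      rw [eq_bot_iff]
      intro n hn
      rw [Subgroup.mem_bot]
      refine eq_one_of_conj_mem_kernel N hind hfaith n fun x => ?_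
      have hq := Subgroup.mem_iInf.mp hn (x : P ⧸ N)
      rw [Subgroup.mem_comap, mem_charKernel hθc] at hq
      obtain ⟨k, hk⟩ : ∃ k : N, (x : P ⧸ N).out * k = x := by
        refine ⟨⟨(x : P ⧸ N).out⁻¹ * x, ?_⟩, by simp⟩
        rw [← QuotientGroup.eq]; simp
      rw [← hq]
      have hcl := isClassFunction_char hθc
      refine Eq.trans (congrArg θ (Subtype.ext ?_)) (hcl ((MulAut.conjNormal (x : P ⧸ N).out⁻¹ : N ≃* N) n) k⁻¹)
      simp only [Subgroup.coe_mul, Subgroup.coe_inv, MulAut.conjNormal_apply, inv_inv]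
      conv_lhs => rw [← hk]
      group
    have hbound : Nat.card N ≤ (p ^ a') ^ p := by
      rw [← Subgroup.index_bot (G := N), ← hbot]
      refine (Subgroup.index_iInf_le _).trans (le_of_eq ?_)
      have : ∀ q, (f₀ q).index = p ^ a' := fun q => by
        refine (Subgroup.index_comap_of_surjective K
          (f := (MulAut.conjNormal (q.out)⁻¹ : N ≃* N).toMonoidHom)
          (MulAut.conjNormal (q.out)⁻¹ : N ≃* N).surjective).trans ?_
        rw [Subgroup.index_eq_card, ha']
      simp only [this, Finset.prod_const, Finset.card_univ, ← Nat.card_eq_fintype_card,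
        ← Subgroup.index_eq_card, hidx]
    rw [hcardN, ← pow_mul] at hbound
    have hab := (Nat.pow_le_pow_iff_right hp.one_lt).mp hbound
    subst hff
    have h2 : (p - 1) * a ≤ (p - 1) * (1 + a' * p) := Nat.mul_le_mul_left _ (by omega)
    obtain ⟨k, rfl⟩ : ∃ k, f' = k + 1 := ⟨f' - 1, by omega⟩
    obtain ⟨r, rfl⟩ : ∃ r, p = r + 1 := ⟨p - 1, by omega⟩
    simp only [Nat.add_sub_cancel] at *
    rw [show (r + 1) * (k + 1) - 1 = r + (r + 1) * k by
      rw [mul_add, mul_one]; omega]
    nlinarith [Nat.mul_le_mul_left (r + 1) hb]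
  · -- the field grows, and then `θ` is faithful
    rw [Function.not_injective_iff] at hΦ
    obtain ⟨⟨_, ⟨m, hm⟩, rfl⟩, ⟨_, ⟨m', hm'⟩, rfl⟩, heq, hne⟩ := hΦ
    replace heq : indFun N (fun n => θ (n ^ m)) = indFun N (fun n => θ (n ^ m')) :=
      congrArg Subtype.val heq
    obtain ⟨g, hg⟩ : ∃ g : P, conjNormFun N g (fun n => θ (n ^ m')) = fun n => θ (n ^ m) := by
      by_contra hno
      have h0 := indFun_orthogonal_of_not_conj N (hirr hm) (hirr hm') hno
      rw [← heq, indFun_powFun hp hP N θ hm, ← hind,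
        classInner_pow (coprime_of_not_dvd hp hP hm), classInner_irr_self hχ] at h0
      exact one_ne_zero h0
    have hgN : g ∉ N := fun hgN => hne (Subtype.ext
      ((show (fun n => θ (n ^ m)) = fun n => θ (n ^ m') by
        rw [← hg, conjNormFun_of_mem N hgN (isClassFunction_irr (hirr hm'))])))
    let K := charKernel θ hθc
    let A := K.map N.subtype
    have hK : ∀ n : N, n ∈ K ↔ (MulAut.conjNormal g : N ≃* N) n ∈ K := by
      intro n
      have e := congrFun hg n
      rw [conjNormFun_eq] at e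
      have e1 : n ∈ K ↔ θ (n ^ m) = θ 1 := by
        rw [← mem_charKernel hθc]
        exact (pow_mem_iff_of_coprime (coprime_of_not_dvd hp hcardN hm)).symm
      have e2 : (MulAut.conjNormal g : N ≃* N) n ∈ K ↔
          θ ((MulAut.conjNormal g : N ≃* N) n ^ m') = θ 1 := by
        rw [← mem_charKernel hθc]
        exact (pow_mem_iff_of_coprime (coprime_of_not_dvd hp hcardN hm')).symm
      rw [e1, e2]
      exact Iff.of_eq (congrArg (· = θ 1) e.symm)
    let S : Subgroup P :=
      { carrier := {y | ∀ n : N, n ∈ K ↔ (MulAut.conjNormal y : N ≃* N) n ∈ K}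
        one_mem' := fun n => by rw [map_one, MulAut.one_apply]
        mul_mem' := fun {y z} hy hz n => by
          rw [map_mul, MulAut.mul_apply, hz n]; exact hy _
        inv_mem' := fun {y} hy n => by
          rw [map_inv, hy ((MulAut.conjNormal y : N ≃* N)⁻¹ n), MulAut.apply_inv_self] }
    have hNS : N ≤ S := fun y hy n => by
      have hKn : K.Normal := inferInstance
      have e : (MulAut.conjNormal y : N ≃* N) n = ⟨y, hy⟩ * n * ⟨y, hy⟩⁻¹ :=
        Subtype.ext (by simp)
      rw [e]
      constructor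
      · intro hn
        exact hKn.conj_mem n hn ⟨y, hy⟩
      · intro hn
        have := hKn.conj_mem _ hn ⟨y, hy⟩⁻¹
        simpa [mul_assoc] using this
    have hS : S = ⊤ := by
      rcases (Nat.dvd_prime hp).mp ((Subgroup.index_dvd_of_le hNS).trans hidx.dvd) with h | h
      · exact Subgroup.index_eq_one.mp h
      · exfalso
        have e := Subgroup.relIndex_mul_index hNS
        rw [h, hidx] at e
        exact hgN (Subgroup.relIndex_eq_one.mp
          (Nat.eq_of_mul_eq_mul_right hp.pos (e.trans (one_mul _).symm)) hK)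
    have hθf : ∀ n, θ n = θ 1 → n = 1 := by
      intro n hn
      refine eq_one_of_conj_mem_kernel N hind hfaith n fun x => ?_
      rw [← mem_charKernel hθc] at hn ⊢
      have := (show x⁻¹ ∈ S from hS ▸ Subgroup.mem_top _) n
      convert this.mp hn using 1
      exact Subtype.ext (by simp)
    have hfib : ∀ F : powSet p χ, Nat.card {F' : powSet p θ // Φ F' = F} ≤ p := by
      intro F
      rcases isEmpty_or_nonempty {F' : powSet p θ // Φ F' = F} with he | ⟨⟨F₀, hF₀⟩⟩
      · simp
      obtain ⟨⟨m₀, hm₀⟩, hF0⟩ := F₀.2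
      have hirr0 : IsIrrCharacter N (F₀ : N → ℂ) := hF0 ▸ hirr hm₀
      have hmem : ∀ F' : {F' : powSet p θ // Φ F' = F}, (F'.1 : N → ℂ) ∈ conjOrbit N (F₀ : N → ℂ) := by
        rintro ⟨F', hF'⟩
        obtain ⟨⟨m₁, hm₁⟩, hF1⟩ := F'.2
        rw [mem_conjOrbit]
        by_contra hno
        have h0 := indFun_orthogonal_of_not_conj N (hF1 ▸ hirr hm₁ : IsIrrCharacter N (F' : N → ℂ))
          hirr0 hno
        have e : indFun N (F' : N → ℂ) = indFun N (F₀ : N → ℂ) :=
          congrArg Subtype.val (hF'.trans hF₀.symm)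
        rw [e, ← hF0, indFun_powFun hp hP N θ hm₀, ← hind,
          classInner_pow (coprime_of_not_dvd hp hP hm₀), classInner_irr_self hχ] at h0
        exact one_ne_zero h0
      refine (Nat.card_le_card_of_injective (β := conjOrbit N (F₀ : N → ℂ))
        (fun F' => ⟨_, hmem F'⟩) (fun x y h => ?_)).trans ?_
      · exact Subtype.ext (Subtype.ext (congrArg Subtype.val h :))
      · rw [Nat.card_eq_fintype_card, Fintype.card_coe, card_conjOrbit]
        exact Nat.le_of_dvd hp.pos
          ((Subgroup.index_dvd_of_le (le_inertia N (isClassFunction_irr hirr0))).trans hidx.dvd)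
    have hord : Nat.card (powSet p θ) ≤ (p - 1) * p ^ (t + 1) := by
      have := Fintype.ofFinite (powSet p χ)
      rw [← Nat.card_congr (Equiv.sigmaFiberEquiv Φ), Nat.card_sigma]
      refine (Finset.sum_le_card_nsmul _ _ p fun F _ => hfib F).trans ?_
      rw [Finset.card_univ, smul_eq_mul, ← Nat.card_eq_fintype_card, pow_succ, ← mul_assoc]
      exact Nat.mul_le_mul_right _ ht
    have hb := ih (a - 1) (by omega) N θ f' (t + 1) hcardN hθ hθf hf' hord
    subst hff
    obtain ⟨k, rfl⟩ : ∃ k, f' = k + 1 := ⟨f' - 1, by omega⟩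
    obtain ⟨r, rfl⟩ : ∃ r, p = r + 1 := ⟨p - 1, by omega⟩
    obtain ⟨b, rfl⟩ : ∃ b, a = b + 1 := ⟨a - 1, by omega⟩
    simp only [Nat.add_sub_cancel] at *
    rw [show (r + 1) * (k + 1) - 1 = r + (r + 1) * k by
      rw [mul_add, mul_one]; omega]
    nlinarith [Nat.zero_le (r * k), Nat.zero_le (r * t * k * r), Nat.zero_le (r * r * k),
      Nat.zero_le (r * r * t), mul_le_mul_of_nonneg_left hcast1 (Nat.zero_le (r * (t + 1) * (k + 1)))]

end CfsgLib.CharTheory.FieldBound
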