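import Cfsg.Agent.Lib.CharTheory.PowerMap
import Cfsg.Agent.Lib.CharTheory.Irr

/-!
# Rationality on `p`-elements and Schur's bound
-/

namespace CfsgLib.CharTheory

open Cfsg Polynomial
open scoped IntermediateField

set_option linter.unusedVariables false
set_option linter.style.haveILetI false
set_option linter.unusedSectionVars false

universe u

variable {G : Type u} [Group G] [Fintype G]

/-- Values in a cyclotomic field of order prime to `p` are unchanged by Galois action on `p`-elements. -/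
theorem pow_invariant_of_mem_adjoin {χ : G → ℂ} (hχ : IsCharacter G χ) {p r : ℕ} (hp : p.Prime)
    (hr : 0 < r) (hpr : ¬ p ∣ r) {g : G} {e : ℕ} (hg : orderOf g = p ^ e)
    (hmem : χ g ∈ IntermediateField.adjoin ℚ ({Complex.exp (2 * Real.pi * Complex.I / r)} : Set ℂ))
    {m : ℕ} (hm : ¬ p ∣ m) : χ (g ^ m) = χ g := by
  classical
  set R := p ^ e * r with hR
  have hR0 : R ≠ 0 := Nat.mul_ne_zero (pow_ne_zero _ hp.ne_zero) hr.ne'
  have hcopR : (p ^ e).Coprime r := (hp.coprime_iff_not_dvd.2 hpr).pow_left e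
  obtain ⟨m', hm1, hm2⟩ := Nat.chineseRemainder hcopR m 1
  have hm'cop : m'.Coprime R := by
    refine Nat.Coprime.mul_right ?_ ?_
    · rcases Nat.eq_zero_or_pos e with rfl | he
      · rw [pow_zero]; exact Nat.coprime_one_right _
      refine Nat.Coprime.pow_right e ((hp.coprime_iff_not_dvd.2 fun hd => hm ?_).symm)
      exact (hm1.of_dvd (dvd_pow_self p he.ne')).symm.dvd_iff dvd_rfl |>.2 hd
    · exact Nat.coprime_of_mul_modEq_one 1 (by rw [mul_one]; exact hm2)
  obtain ⟨σ, hσ⟩ := exists_galois_hom hR0 hm'cop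
  -- the value as a sum of roots of unity
  set Y := Subgroup.zpowers g
  haveI := Fintype.ofFinite Y
  have hresY := isCharacter_restrict hχ Y
  obtain ⟨s, hs, hpow⟩ := exists_roots_pow hresY (⟨g, Subgroup.mem_zpowers g⟩ : Y)
  have hcardY : Nat.card Y = p ^ e := by rw [Nat.card_zpowers, hg]
  have hsR : ∀ x ∈ s, x ^ R = 1 := fun x hx => by
    rw [hR, pow_mul, ← hcardY, hs x hx, one_pow]
  have hval : ∀ j : ℕ, χ (g ^ j) = (s.map (· ^ j)).sum := fun j => by
    rw [← hpow j]; simp
  let t : Multiset (rootField R) := s.attach.map fun x => ⟨x.1, mem_rootField hR0 (hsR x.1 x.2)⟩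
  have ht : ((t.sum : rootField R) : ℂ) = χ g := by
    show algebraMap (rootField R) ℂ t.sum = χ g
    rw [map_multiset_sum, Multiset.map_map]
    have h1 := hval 1
    simp only [pow_one, Multiset.map_id'] at h1
    rw [h1]
    exact congrArg Multiset.sum (Multiset.attach_map_val s)
  have hσt : σ t.sum = χ (g ^ m') := by
    rw [map_multiset_sum, Multiset.map_map, hval m']
    refine congrArg Multiset.sum ?_
    conv_rhs => rw [← Multiset.attach_map_val s, Multiset.map_map]
    exact Multiset.map_congr rfl fun x _ => hσ _ (hsR x.1 x.2)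
  -- the smaller field is fixed
  set ζ := Complex.exp (2 * Real.pi * Complex.I / r) with hζ
  have hζr : ζ ^ r = 1 := (isPrimitiveRoot_exp' hr.ne').pow_eq_one
  have hζR : ζ ∈ rootField R := mem_rootField hR0 (by rw [hR, mul_comm, pow_mul, hζr, one_pow])
  have hσζ : σ ⟨ζ, hζR⟩ = ζ := by
    rw [hσ ⟨ζ, hζR⟩ (by show ζ ^ R = 1; rw [hR, mul_comm, pow_mul, hζr, one_pow])]
    show ζ ^ m' = ζ
    rw [(isPrimitiveRoot_exp' hr.ne').eq_orderOf] at hm2
    rw [← pow_mod_orderOf, show m' % orderOf ζ = 1 % orderOf ζ from hm2, pow_mod_orderOf, pow_one]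
  have hfix : ∀ x (hx : x ∈ IntermediateField.adjoin ℚ ({ζ} : Set ℂ)), ∃ h : x ∈ rootField R, σ ⟨x, h⟩ = x := by
    intro x hx
    induction hx using IntermediateField.adjoin_induction with
    | mem y hy =>
      obtain rfl := Set.mem_singleton_iff.1 hy
      exact ⟨hζR, hσζ⟩
    | algebraMap q =>
      exact ⟨(rootField R).algebraMap_mem q, σ.commutes q⟩
    | add a b _ _ ha hb =>
      obtain ⟨ha1, ha2⟩ := ha
      obtain ⟨hb1, hb2⟩ := hb
      exact ⟨add_mem ha1 hb1, (map_add σ ⟨a, ha1⟩ ⟨b, hb1⟩).trans (by rw [ha2, hb2])⟩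
    | inv a _ ha =>
      obtain ⟨ha1, ha2⟩ := ha
      exact ⟨inv_mem ha1, (map_inv₀ σ ⟨a, ha1⟩).trans (by rw [ha2])⟩
    | mul a b _ _ ha hb =>
      obtain ⟨ha1, ha2⟩ := ha
      obtain ⟨hb1, hb2⟩ := hb
      exact ⟨mul_mem ha1 hb1, (map_mul σ ⟨a, ha1⟩ ⟨b, hb1⟩).trans (by rw [ha2, hb2])⟩
  obtain ⟨h1, h2⟩ := hfix _ hmem
  rw [show (⟨χ g, h1⟩ : rootField R) = t.sum from Subtype.ext ht.symm, hσt] at h2
  rw [← h2]
  congr 1
  rw [pow_eq_pow_iff_modEq, hg]
  exact hm1.symm

/-- A rational character of a `p`-group with trivial kernel: Schur's bound. -/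
theorem schur_bound {P : Type u} [Group P] [Fintype P] {p a n : ℕ} (hp : p.Prime)
    (hP : Nat.card P = p ^ a) {χ : P → ℂ} (hχ : IsCharacter P χ) (hn : χ 1 = n)
    (hfaith : ∀ g : P, χ g = χ 1 → g = 1)
    (hrat : ∀ (g : P) (m : ℕ), ¬ p ∣ m → χ (g ^ m) = χ g) :
    p ^ a ∣ p ^ (n / (p - 1)) * Nat.factorial (n / (p - 1)) := by
  classical
  haveI : Fact p.Prime := ⟨hp⟩
  have hp1 : 0 < p - 1 := by have := hp.two_le; omega
  have hpe : ∀ g : P, ∃ e, orderOf g = p ^ e := fun g => by
    obtain ⟨e, -, he⟩ := (Nat.dvd_prime_pow hp).1 (hP ▸ orderOf_dvd_natCard g)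
    exact ⟨e, he⟩
  have hint : ∀ g : P, ∃ z : ℤ, χ g = z := fun g => rational_int_of_invariant hχ g fun m hm => by
    rcases eq_or_ne a 0 with rfl | ha
    · haveI : Subsingleton P := (Nat.card_eq_one_iff_unique.1 (by rw [hP, pow_zero])).1
      rw [Subsingleton.elim (g ^ m) g]
    refine hrat g m fun hd => ?_
    rw [hP, Nat.coprime_pow_right_iff (Nat.pos_of_ne_zero ha), Nat.coprime_comm,
      hp.coprime_iff_not_dvd] at hm
    exact hm hd
  choose z hz using hint
  set k := n / (p - 1) with hk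
  -- the possible values
  have hrange : ∀ g : P, g ≠ 1 → ∃ j ∈ Finset.Icc 1 k, z g = (n : ℤ) - p * j := by
    intro g hg
    obtain ⟨e, he⟩ := hpe g
    have he0 : e ≠ 0 := fun h => hg (orderOf_eq_one_iff.1 (by rw [he, h, pow_zero]))
    have hcong : (n : ℤ) ≡ z g [ZMOD p] := by
      refine genChar_frob_modEq (isGenChar_of_char hχ) g e (hz g) ?_
      rw [← he, pow_orderOf_eq_one, hn, Int.cast_natCast]
    obtain ⟨j, hj⟩ : (p : ℤ) ∣ (n : ℤ) - z g := Int.ModEq.dvd hcong.symm
    -- the fixed points of the two cyclic groups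
    let Y := Subgroup.zpowers g
    let Y1 := Subgroup.zpowers (g ^ p)
    haveI := Fintype.ofFinite Y
    haveI := Fintype.ofFinite Y1
    have hfix : ∀ Z : Subgroup P, ∀ [Fintype Z], ∃ f : ℕ, f ≤ n ∧
        ∑ x : Z, χ x = (Nat.card Z : ℂ) * f := by
      intro Z _
      have hres := isCharacter_restrict hχ Z
      choose c hc using fun ψ : IrrCharacter Z => classInner_char_nat hres (isCharacter_of_irr ψ.2)
      let o : IrrCharacter Z := ⟨fun _ => 1, isIrrCharacter_one⟩
      refine ⟨c o, ?_, ?_⟩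
      · choose d hd0 hd using fun ψ : IrrCharacter Z => irr_degree_pos ψ.2
        have h := congrFun (eq_sum_irr (isClassFunction_char hres)) 1
        simp only [Finset.sum_apply, Pi.smul_apply, smul_eq_mul, hc, hd, Subgroup.coe_one, hn] at h
        have h' : n = ∑ ψ, c ψ * d ψ := by exact_mod_cast h
        rw [h']
        exact (Nat.le_mul_of_pos_right _ (hd0 o)).trans
          (Finset.single_le_sum (f := fun ψ => c ψ * d ψ) (fun _ _ => Nat.zero_le _) (Finset.mem_univ o))
      · have h := hc o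
        simp only [classInner, o, map_one, mul_one] at h
        rw [inv_mul_eq_iff_eq_mul₀ (Nat.cast_ne_zero.2 Nat.card_pos.ne')] at h
        exact h
    obtain ⟨f, hfn, hf⟩ := hfix Y
    obtain ⟨f1, hf1n, hf1⟩ := hfix Y1
    have hY : Nat.card Y = p ^ e := by rw [Nat.card_zpowers, he]
    have hY1 : Nat.card Y1 = p ^ (e - 1) := by
      rw [Nat.card_zpowers, orderOf_pow' g hp.ne_zero, he, Nat.gcd_eq_right (dvd_pow_self p he0)]
      obtain ⟨e', rfl⟩ := Nat.exists_eq_succ_of_ne_zero he0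
      rw [pow_succ, Nat.mul_div_cancel _ hp.pos]; rfl
    have hle : Y1 ≤ Y := Subgroup.zpowers_le.2 (Subgroup.npow_mem_zpowers g p)
    have hsum : ∑ x : Y, χ x = ∑ x : Y1, χ x + ((p ^ e - p ^ (e - 1) : ℕ) : ℂ) * (z g : ℂ) := by
      rw [← Finset.sum_filter_add_sum_filter_not Finset.univ (fun x : Y => (x : P) ∈ Y1)]
      congr 1
      · refine Finset.sum_bij (fun x hx => (⟨(x : P), (Finset.mem_filter.1 hx).2⟩ : Y1))
          (fun _ _ => Finset.mem_univ _) (fun _ _ _ _ h => Subtype.ext (congrArg Subtype.val h :)) ?_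
          (fun _ _ => rfl)
        intro y _
        exact ⟨⟨(y : P), hle y.2⟩, Finset.mem_filter.2 ⟨Finset.mem_univ _, y.2⟩, rfl⟩
      · rw [Finset.sum_congr rfl fun (x : Y) hx => show χ (x : P) = (z g : ℂ) from ?_, Finset.sum_const,
          nsmul_eq_mul]
        · congr 2
          have h1 : (Finset.univ.filter fun x : Y => (x : P) ∈ Y1).card = Nat.card Y1 :=
            (Nat.subtype_card _ (fun x => by simp [Subgroup.mem_subgroupOf])).symm.trans
              (Nat.card_congr (Subgroup.subgroupOfEquivOfLe hle).toEquiv)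
          have h2 := Finset.card_filter_add_card_filter_not (s := (Finset.univ : Finset Y))
            (fun x : Y => (x : P) ∈ Y1)
          rw [h1, hY1, Finset.card_univ, ← Nat.card_eq_fintype_card, hY] at h2
          omega
        · obtain ⟨i, hi⟩ : ∃ i : ℕ, g ^ i = (x : P) :=
            mem_powers_iff_mem_zpowers.2 x.2
          rw [← hi, ← hz g]
          refine hrat g i fun hd => (Finset.mem_filter.1 hx).2 ?_
          obtain ⟨c, rfl⟩ := hd
          rw [← hi, pow_mul]
          exact Subgroup.npow_mem_zpowers _ _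
    rw [hf, hf1, hY, hY1] at hsum
    have hsum' : (p : ℤ) ^ e * f = (p : ℤ) ^ (e - 1) * f1 + ((p : ℤ) ^ e - (p : ℤ) ^ (e - 1)) * z g := by
      have hle2 : p ^ (e - 1) ≤ p ^ e := Nat.pow_le_pow_right hp.pos (Nat.sub_le e 1)
      push_cast [Nat.cast_sub hle2] at hsum
      exact_mod_cast hsum
    obtain ⟨e', rfl⟩ := Nat.exists_eq_succ_of_ne_zero he0
    rw [Nat.succ_sub_one, pow_succ] at hsum'
    have hpp : (0 : ℤ) < (p : ℤ) ^ e' := pow_pos (by exact_mod_cast hp.pos) _
    have hrel : (p : ℤ) * f = f1 + ((p : ℤ) - 1) * z g := by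
      apply mul_left_cancel₀ hpp.ne'
      linear_combination hsum'
    have hf1z : (f1 : ℤ) ≤ n := by exact_mod_cast hf1n
    have hfz : (f : ℤ) ≤ n := by exact_mod_cast hfn
    have hp2 : (2 : ℤ) ≤ p := by exact_mod_cast hp.two_le
    have hzg : z g ≠ n := fun h => hg (hfaith g (by rw [hz, hn, h, Int.cast_natCast]))
    have hzle : z g ≤ n := by
      have hnorm := norm_char_le hχ g
      rw [hz, hn, Complex.norm_intCast, Complex.norm_natCast] at hnorm
      have : |z g| ≤ (n : ℤ) := by exact_mod_cast hnorm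
      exact (le_abs_self _).trans this
    have hj1 : 1 ≤ j := by nlinarith [lt_of_le_of_ne hzle hzg]
    have hjn : j * ((p : ℤ) - 1) ≤ n := by nlinarith
    refine ⟨j.toNat, Finset.mem_Icc.2 ⟨by omega, ?_⟩, ?_⟩
    · rw [hk, Nat.le_div_iff_mul_le hp1]
      have hjn' : ((j.toNat * (p - 1) : ℕ) : ℤ) ≤ (n : ℤ) := by
        push_cast [Nat.cast_sub hp.one_le]
        rw [Int.toNat_of_nonneg (by omega : (0 : ℤ) ≤ j)]
        linarith
      exact_mod_cast hjn'
    · rw [Int.toNat_of_nonneg (by omega)]; linarith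
  -- the product
  have hfac : ∀ m : ℕ, ∏ j ∈ Finset.Icc 1 m, j = Nat.factorial m := by
    intro m
    induction m with
    | zero => simp
    | succ m ih => rw [Finset.prod_Icc_succ_top (by omega), ih, Nat.factorial_succ, mul_comm]
  set f : P → ℂ := fun g => ∏ j ∈ Finset.Icc 1 k, (χ g - ((n : ℂ) - p * j)) with hf
  have hf1 : f 1 = ((p ^ k * Nat.factorial k : ℕ) : ℂ) := by
    have h1 : ∀ j ∈ Finset.Icc 1 k, χ 1 - ((n : ℂ) - p * j) = ((p * j : ℕ) : ℂ) := fun j _ => by
      rw [hn]; push_cast; ring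
    rw [hf]
    simp only
    rw [Finset.prod_congr rfl h1, ← Nat.cast_prod, Finset.prod_mul_distrib, Finset.prod_const,
      Nat.card_Icc, Nat.add_sub_cancel, hfac]
  have hf0 : ∀ g : P, g ≠ 1 → f g = 0 := fun g hg => by
    obtain ⟨j, hj, e⟩ := hrange g hg
    exact Finset.prod_eq_zero hj (by rw [hz, e]; push_cast; ring)
  have hgen : ∀ S : Finset ℕ, IsGeneralizedCharacter P
      (fun g => ∏ j ∈ S, (χ g - ((n : ℂ) - p * j))) := by
    intro S
    induction S using Finset.induction with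
    | empty => simpa using isGenChar_of_char (isCharacter_one (G := P))
    | insert x S hxS ih =>
      have hrw : (fun g => ∏ j ∈ insert x S, (χ g - ((n : ℂ) - p * j))) =
          (fun g => χ g - ((n : ℂ) - p * x)) * fun g => ∏ j ∈ S, (χ g - ((n : ℂ) - p * j)) := by
        funext g; rw [Pi.mul_apply, Finset.prod_insert hxS]
      rw [hrw]
      refine isGenChar_mul ?_ ih
      refine ⟨χ + ((p * x : ℕ) : ℂ) • (fun _ : P => (1 : ℂ)), (n : ℂ) • (fun _ : P => (1 : ℂ)),
        isCharacter_add hχ (isCharacter_nsmul isCharacter_one _), isCharacter_nsmul isCharacter_one _, ?_⟩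
      funext g
      simp only [Pi.sub_apply, Pi.add_apply, Pi.smul_apply, smul_eq_mul, mul_one, Nat.cast_mul]
      ring
  obtain ⟨φ, ψ, hφ, hψ, hfe⟩ := hgen (Finset.Icc 1 k)
  obtain ⟨u, hu⟩ := classInner_char_nat hφ (isCharacter_one (G := P))
  obtain ⟨v, hv⟩ := classInner_char_nat hψ (isCharacter_one (G := P))
  have h := classInner_sub_left φ ψ (fun _ : P => (1 : ℂ))
  rw [← hfe, hu, hv] at h
  change classInner f (fun _ : P => (1 : ℂ)) = _ at h
  simp only [classInner, map_one, mul_one] at h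
  rw [Finset.sum_eq_single_of_mem (1 : P) (Finset.mem_univ _) (fun g _ hg => hf0 g hg), hf1,
    inv_mul_eq_iff_eq_mul₀ (Nat.cast_ne_zero.2 Nat.card_pos.ne'), hP] at h
  have h' : ((p ^ k * k.factorial : ℕ) : ℤ) = (p ^ a : ℕ) * ((u : ℤ) - v) := by exact_mod_cast h
  exact Int.natCast_dvd_natCast.1 ⟨_, h'⟩

end CfsgLib.CharTheory
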