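import Cfsg.Agent.Lib.Glauberman.CoprimeCount
import Cfsg.Agent.Lib.Glauberman.Invariant
import Cfsg.Agent.Lib.Blocks.FongReduction
import Cfsg.Agent.Lib.JordanCover
import Cfsg.Agent.Lib.Coprime
import Cfsg.Agent.S3744

/-!
# Invariant Sylow subgroups and degrees of invariant characters

If a `p`-group `P` acts on a normal `p'`-subgroup `R` of a `q`-solvable group and every
`P`-invariant irreducible character of `R` has degree prime to `q`, then `R` has only one
`P`-invariant Sylow `q`-subgroup.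
-/

namespace CfsgLib.CharTheory.PrimeSep

open Cfsg CfsgLib CfsgLib.CharTheory CfsgLib.Glauberman CfsgLib.Blocks
open scoped Pointwise commutatorElement

set_option autoImplicit false
set_option linter.unusedSectionVars false
set_option linter.style.haveILetI false

universe u

variable {G : Type u} [Group G]

/-- A Sylow `q`-subgroup of `R`, as a subgroup of the ambient group. -/
def IsSylowIn (q : ℕ) (R Q : Subgroup G) : Prop :=
  Q ≤ R ∧ Nat.card Q = q ^ (Nat.card R).factorization q

variable [Finite G] {p q : ℕ}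

theorem IsSylowIn.isPGroup [Fact q.Prime] {R Q : Subgroup G} (h : IsSylowIn q R Q) : IsPGroup q Q :=
  IsPGroup.of_card h.2

theorem isSylowIn_map [Fact q.Prime] {R : Subgroup G} (S : Sylow q R) :
    IsSylowIn q R ((S : Subgroup R).map R.subtype) :=
  ⟨Subgroup.map_subtype_le _, by
    rw [Subgroup.card_map_of_injective R.subtype_injective, S.card_eq_multiplicity]⟩

theorem IsSylowIn.exists_sylow [Fact q.Prime] {R Q : Subgroup G} (h : IsSylowIn q R Q) :
    ∃ S : Sylow q R, (S : Subgroup R).map R.subtype = Q := by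
  refine ⟨Sylow.ofCard (Q.subgroupOf R) ?_, ?_⟩
  · rw [Nat.card_congr (Subgroup.subgroupOfEquivOfLe h.1).toEquiv, h.2]
  · rw [Sylow.coe_ofCard, Subgroup.map_subgroupOf_eq_of_le h.1]

theorem factorization_eq_of_between [Fact q.Prime] {R T Q : Subgroup G} (h : IsSylowIn q R Q)
    (hQT : Q ≤ T) (hTR : T ≤ R) : (Nat.card T).factorization q = (Nat.card R).factorization q := by
  refine le_antisymm ((Nat.factorization_le_iff_dvd Nat.card_pos.ne' Nat.card_pos.ne').2
    (Subgroup.card_dvd_of_le hTR) q) ?_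
  have h1 := (Nat.factorization_le_iff_dvd Nat.card_pos.ne' Nat.card_pos.ne').2
    (Subgroup.card_dvd_of_le hQT) q
  rwa [h.2, Nat.Prime.factorization_pow (Fact.out : q.Prime), Finsupp.single_eq_same] at h1

theorem IsSylowIn.down [Fact q.Prime] {R T Q : Subgroup G} (h : IsSylowIn q R Q) (hQT : Q ≤ T)
    (hTR : T ≤ R) : IsSylowIn q T Q :=
  ⟨hQT, by rw [factorization_eq_of_between h hQT hTR]; exact h.2⟩

theorem IsSylowIn.eq_of_le [Fact q.Prime] {R Q Q' : Subgroup G} (h : IsSylowIn q R Q)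
    (hle : Q ≤ Q') (hQ' : Q' ≤ R) (hp : IsPGroup q Q') : Q = Q' := by
  refine Subgroup.eq_of_le_of_card_ge hle ?_
  obtain ⟨k, hk⟩ := IsPGroup.iff_card.1 hp
  have hkR : k ≤ (Nat.card R).factorization q :=
    ((Fact.out : q.Prime).pow_dvd_iff_le_factorization Nat.card_pos.ne').1
      (hk ▸ Subgroup.card_dvd_of_le hQ')
  rw [hk, h.2]
  exact Nat.pow_le_pow_right (Fact.out : q.Prime).pos hkR

theorem IsSylowIn.map [Fact q.Prime] {H : Type u} [Group H] [Finite H] {f : G →* H}
    {R Q : Subgroup G} (h : IsSylowIn q R Q) : IsSylowIn q (R.map f) (Q.map f) := by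
  obtain ⟨S, hS⟩ := h.exists_sylow
  let g : R →* R.map f := f.subgroupMap R
  have hg : Function.Surjective g := f.subgroupMap_surjective R
  have e : ((S.mapSurjective hg : Sylow q (R.map f)) : Subgroup (R.map f)).map (R.map f).subtype =
      Q.map f := by
    rw [Sylow.coe_mapSurjective, Subgroup.map_map, ← hS, Subgroup.map_map]
    rfl
  exact e ▸ isSylowIn_map _

/-- A minimal normal subgroup of a `q`-solvable group is a `q`-group or a `q'`-group. -/
theorem minimal_normal_dichotomy [Fact q.Prime] (h : IsPSolvable q G) {M : Subgroup G} [hMn : M.Normal]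
    (hM0 : M ≠ ⊥) (hmin : ∀ K : Subgroup G, K.Normal → K ≤ M → K = ⊥ ∨ K = M) :
    IsPGroup q M ∨ ¬ q ∣ Nat.card M := by
  classical
  obtain ⟨n, H, h0, h1, hm, hn, hf⟩ := h
  suffices key : ∀ i : Fin (n + 1), H i ⊓ M = ⊥ ∨ (IsPGroup q M ∨ ¬ q ∣ Nat.card M) by
    rcases key (Fin.last n) with h2 | h2
    · rw [h1, top_inf_eq] at h2; exact absurd h2 hM0
    · exact h2
  intro i
  induction i using Fin.induction with
  | zero => exact Or.inl (by rw [h0, bot_inf_eq])
  | succ i ih =>
    rcases ih with hb | hd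
    · haveI := hn i.succ
      haveI := hn i.castSucc
      rcases hmin (H i.succ ⊓ M) (Subgroup.normal_inf_normal _ _) inf_le_right with he | he
      · exact Or.inl he
      · right
        have hle : M ≤ H i.succ := inf_eq_right.1 he
        have hd : (H i.castSucc).relIndex M ∣ (H i.castSucc).relIndex (H i.succ) := by
          rw [← Subgroup.relIndex_subgroupOf (H := H i.castSucc) hle]
          exact Subgroup.relIndex_dvd_index_of_normal _ _
        have e : (H i.castSucc).relIndex M = Nat.card M := by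
          rw [← Subgroup.inf_relIndex_right, hb, Subgroup.relIndex_bot_left]
        rw [e] at hd
        rcases hf i with ⟨m, hm'⟩ | hc
        · obtain ⟨j, -, hj⟩ := (Nat.dvd_prime_pow (Fact.out : q.Prime)).1 (hm' ▸ hd)
          exact Or.inl (IsPGroup.of_card hj)
        · exact Or.inr fun hq => (Fact.out : q.Prime).not_dvd_one
            (Nat.Coprime.eq_one_of_dvd (hc.coprime_dvd_left hd).symm hq ▸ dvd_rfl)
    · exact Or.inr hd

/-- The invariant characters of a normal subgroup under a coprime solvable group of operators. -/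
theorem card_inv_classes (M S : Subgroup G) [M.Normal] (hsolv : Group.IsSolvable S)
    (hcop : (Nat.card M).Coprime (Nat.card S)) :
    Nat.card {φ : IrrCharacter M // S ≤ inertia M (φ : M → ℂ)} =
      Nat.card (ConjClasses ↥(M ⊓ Subgroup.centralizer (S : Set G))) := by
  classical
  have hnorm : ∀ s ∈ S, ∀ g ∈ M, s * g * s⁻¹ ∈ M := fun s _ g hg =>
    (inferInstance : M.Normal).conj_mem g hg s
  obtain ⟨φ, hφ⟩ : ∃ φ, φ = conjHom M S hnorm := ⟨_, rfl⟩
  haveI : Group.IsSolvable φ.range := solvable_of_surjective φ.rangeRestrict_surjective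
  haveI := Fintype.ofFinite M
  have hc : (Nat.card φ.range).Coprime (Nat.card M) :=
    Nat.Coprime.coprime_dvd_left (Subgroup.card_range_dvd φ) hcop.symm
  have hiff : ∀ θ : IrrCharacter M, S ≤ inertia M (θ : M → ℂ) ↔ Inv φ.range.subtype (θ : M → ℂ) := by
    intro θ
    rw [← inv_range_iff]
    subst hφ
    exact ⟨fun h s n => congrFun (h s.2) n, fun h s hs => funext fun n => h ⟨s, hs⟩ n⟩
  rw [Nat.card_congr (Equiv.subtypeEquivRight hiff),
    card_inv_eq_card_fixed_classes (Nat.card φ.range) M φ.range rfl hc,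
    card_fixed_classes_eq_fixedSub (Nat.card φ.range) M φ.range rfl hc]
  exact card_conjClasses_congr
    { toFun := fun c => ⟨((c : M) : G), (c : M).2, fun s hs => by
        have h := congrArg Subtype.val (c.2 _ ⟨⟨s, hs⟩, rfl⟩)
        subst hφ
        exact mul_inv_eq_iff_eq_mul.1 h⟩
      invFun := fun g => ⟨⟨g, g.2.1⟩, by
        rintro _ ⟨s, rfl⟩
        subst hφ
        exact Subtype.ext (mul_inv_eq_iff_eq_mul.2 (g.2.2 s s.2))⟩
      left_inv := fun c => rfl
      right_inv := fun g => rfl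
      map_mul' := fun _ _ => rfl }

/-- If every `P`-invariant character of `M` is `Q`-invariant then `Q` centralises `C_M(P)`. -/
theorem centralizer_le_of_inv (M P Q : Subgroup G) [M.Normal] (hsolv : Group.IsSolvable ↥(P ⊔ Q))
    (hcop : (Nat.card M).Coprime (Nat.card ↥(P ⊔ Q)))
    (h : ∀ φ : IrrCharacter M, P ≤ inertia M (φ : M → ℂ) → Q ≤ inertia M (φ : M → ℂ)) :
    M ⊓ Subgroup.centralizer (P : Set G) ≤ Subgroup.centralizer (Q : Set G) := by
  classical
  set S := P ⊔ Q with hS
  have hP : Group.IsSolvable P := Group.isSolvable_of_isSolvable_injective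
    (f := Subgroup.inclusion (le_sup_left : P ≤ S)) (Subgroup.inclusion_injective _)
  set C₁ := M ⊓ Subgroup.centralizer (P : Set G) with hC₁
  set C₂ := M ⊓ Subgroup.centralizer (S : Set G) with hC₂
  have hle : C₂ ≤ C₁ := inf_le_inf_left M
    (Subgroup.centralizer_le (SetLike.coe_subset_coe.2 le_sup_left))
  have hk : Nat.card (ConjClasses C₁) = Nat.card (ConjClasses C₂) := by
    rw [← card_inv_classes M P hP (hcop.coprime_dvd_right (Subgroup.card_dvd_of_le le_sup_left)),
      ← card_inv_classes M S hsolv hcop]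
    exact Nat.card_congr (Equiv.subtypeEquivRight fun φ =>
      ⟨fun hφ => sup_le hφ (h φ hφ), fun hφ => le_sup_left.trans hφ⟩)
  have hSM : S ≤ Subgroup.normalizer (M : Set G) := fun s _ => by
    rw [Subgroup.normalizer_eq_top (H := M)]; trivial
  let f : ConjClasses C₂ → ConjClasses C₁ := ConjClasses.map (Subgroup.inclusion hle)
  have hinj : Function.Injective f := by
    intro a b hab
    obtain ⟨x, rfl⟩ := ConjClasses.mk_surjective a
    obtain ⟨y, rfl⟩ := ConjClasses.mk_surjective b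
    obtain ⟨m, hm⟩ := isConj_iff.1 (ConjClasses.mk_eq_mk_iff_isConj.1 hab)
    have hm' : (m : G) * x * (m : G)⁻¹ = y := congrArg Subtype.val hm
    set W := M ⊓ Subgroup.centralizer ({(x : G)} : Set G) with hW
    have hxS : ∀ s ∈ S, s * (x : G) = x * s := fun s hs => x.2.2 s hs
    have hyS : ∀ s ∈ S, s * (y : G) = y * s := fun s hs => y.2.2 s hs
    have hSW : S ≤ Subgroup.normalizer (W : Set G) := by
      intro s hs
      have hsx : s ∈ Subgroup.centralizer ({(x : G)} : Set G) :=
        Subgroup.mem_centralizer_singleton_iff.2 (hxS s hs)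
      rw [Subgroup.mem_normalizer_iff]
      intro z
      simp only [hW, Subgroup.mem_inf]
      rw [← (Subgroup.mem_normalizer_iff.1 (hSM hs) z)]
      refine and_congr_right fun _ => ⟨fun hz => mul_mem (mul_mem hsx hz) (inv_mem hsx), fun hz => ?_⟩
      have := mul_mem (mul_mem (inv_mem hsx) hz) hsx
      simpa [mul_assoc] using this
    obtain ⟨w, hw, hc⟩ := coprime_key hSM hcop.symm (Or.inl hsolv) inf_le_left hSW
      (k := (m : G)) m.2.1 (fun s hs => by
        have h1 : (m : G)⁻¹ * s * (m : G) * s⁻¹ ∈ W := by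
          refine ⟨?_, Subgroup.mem_centralizer_singleton_iff.2 ?_⟩
          · have := M.mul_mem (M.inv_mem m.2.1)
              ((inferInstance : M.Normal).conj_mem _ m.2.1 s)
            simpa [mul_assoc] using this
          · have e1 : s⁻¹ * (x : G) = x * s⁻¹ := hxS _ (inv_mem hs)
            have e2 : (m : G) * x = y * m := by rw [← hm']; group
            have e3 : (m : G)⁻¹ * y = x * (m : G)⁻¹ := by rw [← hm']; group
            calc (m : G)⁻¹ * s * m * s⁻¹ * x
                = (m : G)⁻¹ * s * (m * x) * s⁻¹ := by rw [mul_assoc, e1]; group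
              _ = (m : G)⁻¹ * (s * y) * m * s⁻¹ := by rw [e2]; group
              _ = ((m : G)⁻¹ * y) * s * m * s⁻¹ := by rw [hyS s hs]; group
              _ = x * ((m : G)⁻¹ * s * m * s⁻¹) := by rw [e3]; group
        simpa [mul_assoc] using Subgroup.mul_mem_sup h1 hs)
    refine ConjClasses.mk_eq_mk_iff_isConj.2 (isConj_iff.2
      ⟨⟨(m : G) * w, M.mul_mem m.2.1 hw.1, hc⟩, Subtype.ext ?_⟩)
    show (m : G) * w * x * ((m : G) * w)⁻¹ = y
    have hwx : w * (x : G) = x * w := Subgroup.mem_centralizer_singleton_iff.1 hw.2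
    rw [← hm', mul_inv_rev, show (m : G) * w * x = m * (x * w) by rw [mul_assoc, hwx]]
    group
  have hsurj : Function.Surjective f :=
    (hinj.bijective_of_nat_card_le (le_of_eq hk)).surjective
  have htop : C₂.subgroupOf C₁ = ⊤ := by
    refine eq_top_of_conj_cover _ fun g => ?_
    obtain ⟨a, ha⟩ := hsurj (ConjClasses.mk g)
    obtain ⟨x, rfl⟩ := ConjClasses.mk_surjective a
    obtain ⟨c, hc⟩ := isConj_iff.1 (ConjClasses.mk_eq_mk_iff_isConj.1 ha.symm)
    exact ⟨c, by rw [hc]; exact x.2⟩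
  intro x hx
  have : (⟨x, hx⟩ : C₁) ∈ C₂.subgroupOf C₁ := htop ▸ Subgroup.mem_top _
  exact fun y hy => (Subgroup.mem_subgroupOf.1 this).2 y (Subgroup.mem_sup_right hy)

/-- The join of a `p`-group with a `q`-group it normalises. -/
theorem sup_two_groups [Fact p.Prime] [Fact q.Prime] {P Q : Subgroup G} (hP : IsPGroup p P)
    (hQ : IsPGroup q Q) (hPQ : P ≤ Subgroup.normalizer (Q : Set G)) :
    Group.IsSolvable ↥(P ⊔ Q) ∧
      ∃ a b : ℕ, Nat.card ↥(P ⊔ Q) ∣ p ^ a * q ^ b := by
  classical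
  set S := P ⊔ Q
  set Q' := Q.subgroupOf S
  haveI : Q'.Normal := (Subgroup.normal_subgroupOf_iff_le_normalizer le_sup_right).2
    (sup_le hPQ Subgroup.le_normalizer)
  let f : P →* S ⧸ Q' := (QuotientGroup.mk' Q').comp (Subgroup.inclusion le_sup_left)
  have hf : Function.Surjective f := by
    intro y
    obtain ⟨y, rfl⟩ := QuotientGroup.mk'_surjective Q' y
    obtain ⟨w, hw, a, ha, hwa⟩ := mem_sup_of_le_normalizer hPQ
      (show (y : G) ∈ Q ⊔ P by rw [sup_comm]; exact y.2)
    refine ⟨⟨a, ha⟩, QuotientGroup.eq.2 ?_⟩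
    show a⁻¹ * (y : G) ∈ Q
    rw [← hwa]
    have := (Subgroup.mem_normalizer_iff.1 (hPQ (inv_mem ha)) w).1 hw
    simpa [mul_assoc] using this
  haveI : Group.IsNilpotent P := hP.isNilpotent
  haveI : Group.IsNilpotent Q := hQ.isNilpotent
  refine ⟨?_, ?_⟩
  · haveI : Group.IsSolvable (S ⧸ Q') := Group.isSolvable_of_surjective hf
    haveI : Group.IsSolvable Q' := Group.isSolvable_of_isSolvable_injective
      (f := (Subgroup.subgroupOfEquivOfLe (le_sup_right : Q ≤ S)).toMonoidHom)
      (Subgroup.subgroupOfEquivOfLe _).injective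
    exact Group.isSolvable_of_ker_le_range Q'.subtype (QuotientGroup.mk' Q') (by
      rw [QuotientGroup.ker_mk', Subgroup.range_subtype])
  · obtain ⟨a, ha⟩ := IsPGroup.iff_card.1 hP
    obtain ⟨b, hb⟩ := IsPGroup.iff_card.1 hQ
    refine ⟨a, b, ?_⟩
    rw [Subgroup.card_eq_card_quotient_mul_card_subgroup Q',
      Nat.card_congr (Subgroup.subgroupOfEquivOfLe (le_sup_right : Q ≤ S)).toEquiv, ← ha, ← hb]
    exact mul_dvd_mul_right (Subgroup.card_dvd_of_surjective f hf) _

/-- At most one invariant Sylow `q`-subgroup. -/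
theorem invariant_sylow_unique [Fact p.Prime] [Fact q.Prime] (hpq : p ≠ q) :
    ∀ (n : ℕ) (G : Type u) [Group G] [Finite G], Nat.card G ≤ n → IsPSolvable q G →
    ∀ (R P : Subgroup G) [R.Normal], IsPGroup p P → ¬ p ∣ Nat.card R →
    (∀ θ : IrrCharacter R, P ≤ inertia R (θ : R → ℂ) → ¬ q ∣ charDegree (θ : R → ℂ)) →
    ∀ Q₁ Q₂ : Subgroup G, IsSylowIn q R Q₁ → IsSylowIn q R Q₂ →
    P ≤ Subgroup.normalizer (Q₁ : Set G) → P ≤ Subgroup.normalizer (Q₂ : Set G) → Q₁ = Q₂ := by
  intro n
  induction n using Nat.strong_induction_on with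
  | _ n ih =>
  intro G _ _ hn hqs R P _ hP hpR hθ Q₁ Q₂ h₁ h₂ hP₁ hP₂
  classical
  by_cases hR : R = ⊥
  · subst hR
    rw [le_bot_iff.1 h₁.1, le_bot_iff.1 h₂.1]
  obtain ⟨M, hMn, hMR, hM0, hmin⟩ := exists_minimal_normal hR
  haveI := hMn
  set π := QuotientGroup.mk' M with hπ
  have hsurj := QuotientGroup.mk'_surjective M
  haveI : (R.map π).Normal := Subgroup.Normal.map inferInstance π hsurj
  have hlt : Nat.card (G ⧸ M) < n := by
    refine lt_of_lt_of_le ?_ hn
    rw [Subgroup.card_eq_card_quotient_mul_card_subgroup M]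
    exact lt_mul_of_one_lt_right Nat.card_pos (M.one_lt_card_iff_ne_bot.2 hM0)
  have hquot : ∀ X Y : Subgroup G, IsSylowIn q R X → IsSylowIn q R Y →
      P ≤ Subgroup.normalizer (X : Set G) → P ≤ Subgroup.normalizer (Y : Set G) → X ⊔ M = Y ⊔ M := by
    intro X Y hX hY hPX hPY
    have e := ih _ hlt (G ⧸ M) le_rfl (Cfsg.Agent.S3744.isPSolvable_quotient hqs M) (R.map π)
      (P.map π) (hP.map π) (fun hd => hpR (hd.trans (Subgroup.card_map_dvd R π)))
      (fun θ hθi => by
        let g : R →* R.map π := π.subgroupMap R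
        have hg : Function.Surjective g := π.subgroupMap_surjective R
        have h0 := hθ ⟨fun x => (θ : R.map π → ℂ) (g x), isIrrCharacter_comp_surjective θ.2 g hg⟩
          (fun s hs => by
            rw [mem_inertia]
            funext x
            have h2 := congrFun ((mem_inertia (R.map π)).1 (hθi (Subgroup.mem_map_of_mem π hs))) (g x)
            refine Eq.trans ?_ h2
            show (θ : R.map π → ℂ) (g _) = _
            exact congrArg (θ : R.map π → ℂ) (Subtype.ext (by simp [g])))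
        have e1 : charDegree (fun x : R => (θ : R.map π → ℂ) (g x)) =
            charDegree (θ : R.map π → ℂ) := by
          show ⌊((θ : R.map π → ℂ) (g 1)).re⌋₊ = _
          rw [map_one]; rfl
        exact e1 ▸ h0)
      (X.map π) (Y.map π) hX.map hY.map
      ((Subgroup.map_mono hPX).trans (Subgroup.le_normalizer_map π))
      ((Subgroup.map_mono hPY).trans (Subgroup.le_normalizer_map π))
    have e' := congrArg (Subgroup.comap π) e
    rwa [Subgroup.comap_map_eq, Subgroup.comap_map_eq, QuotientGroup.ker_mk'] at e'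
  have hK := hquot Q₁ Q₂ h₁ h₂ hP₁ hP₂
  rcases minimal_normal_dichotomy hqs hM0 hmin with hMq | hMq
  · have e₁ := h₁.eq_of_le (Q' := Q₁ ⊔ M) le_sup_left (sup_le h₁.1 hMR)
      (h₁.isPGroup.to_sup_of_normal_right hMq)
    have e₂ := h₂.eq_of_le (Q' := Q₂ ⊔ M) le_sup_left (sup_le h₂.1 hMR)
      (h₂.isPGroup.to_sup_of_normal_right hMq)
    rw [e₁, e₂, hK]
  have hpp : p.Prime := Fact.out
  have hqp : q.Prime := Fact.out
  have hPsol : Group.IsSolvable P := by
    haveI : Group.IsNilpotent P := hP.isNilpotent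
    infer_instance
  have hPR : P ≤ Subgroup.normalizer (R : Set G) := fun s _ => by
    rw [Subgroup.normalizer_eq_top (H := R)]; trivial
  have hcopR : (Nat.card P).Coprime (Nat.card R) := by
    obtain ⟨k, hk⟩ := IsPGroup.iff_card.1 hP
    rw [hk]; exact (hpp.coprime_iff_not_dvd.2 hpR).pow_left k
  -- the invariant characters of `M` are fixed by `Q₁`
  have hfix : ∀ φ : IrrCharacter M, P ≤ inertia M (φ : M → ℂ) → Q₁ ≤ inertia M (φ : M → ℂ) := by
    intro φ hφ
    haveI := Fintype.ofFinite R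
    set M' := M.subgroupOf R with hM'
    haveI : M'.Normal := Subgroup.normal_subgroupOf
    haveI := Fintype.ofFinite M'
    have hnorm : ∀ s ∈ P, ∀ g ∈ R, s * g * s⁻¹ ∈ R := fun s _ g hg =>
      (inferInstance : R.Normal).conj_mem g hg s
    set a := conjHom R P hnorm with ha
    haveI : Group.IsSolvable a.range := solvable_of_surjective a.rangeRestrict_surjective
    let e : M' ≃* M := Subgroup.subgroupOfEquivOfLe hMR
    let φ' : IrrCharacter M' := ⟨fun x => (φ : M → ℂ) (e x),
      isIrrCharacter_comp_surjective φ.2 e.toMonoidHom e.surjective⟩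
    obtain ⟨χ, hχ, hmult⟩ := exists_inv_over (Nat.card a.range) R a.range rfl
      (hcopR.coprime_dvd_left (Subgroup.card_range_dvd a)) M'
      (by
        rintro _ ⟨s, rfl⟩ x hx
        exact hMn.conj_mem _ hx (s : G))
      φ' (by
        rintro _ ⟨s, rfl⟩ x y hxy
        have h2 := congrFun ((mem_inertia M).1 (hφ s.2)) (e x)
        refine Eq.trans ?_ h2
        exact congrArg (φ : M → ℂ) (Subtype.ext (congrArg (fun z : R => (z : G)) hxy)))
    have hdeg := hθ χ (fun s hs => (mem_inertia R).2 (funext fun x => hχ ⟨_, ⟨s, hs⟩, rfl⟩ x))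
    have hcl : classInner (fun x : M' => (χ : R → ℂ) x) (φ' : M' → ℂ) ≠ 0 := by
      have := mult_spec M'.subtype χ φ'
      rw [show (fun x : M' => (χ : R → ℂ) x) = fun x => (χ : R → ℂ) (M'.subtype x) from rfl, this]
      exact_mod_cast hmult
    set I := inertia M' (φ' : M' → ℂ) with hI
    have hidx : ¬ q ∣ I.index := by
      intro hd
      apply hdeg
      obtain ⟨c, hc⟩ := classInner_char_nat (isCharacter_restrict (isCharacter_of_irr χ.2) M')
        (isCharacter_of_irr φ'.2)
      obtain ⟨d, -, hd'⟩ := irr_degree_pos φ'.2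
      have h1 := clifford_degree M' χ.2 φ'.2 hcl
      rw [hc, hd', ← irr_charDegree_cast] at h1
      have h2 : charDegree (χ : R → ℂ) = c * I.index * d := by exact_mod_cast h1
      rw [h2]
      exact dvd_mul_of_dvd_left (dvd_mul_of_dvd_right hd _) _
    set I' := I.map R.subtype with hI'
    have hMI : M ≤ I' := fun x hx =>
      ⟨⟨x, hMR hx⟩, le_inertia M' (isClassFunction_irr φ'.2) hx, rfl⟩
    have hPI : P ≤ Subgroup.normalizer (I' : Set G) := by
      have key : ∀ s ∈ P, ∀ x ∈ I', s * x * s⁻¹ ∈ I' := by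
        rintro s hs _ ⟨x, hx, rfl⟩
        refine ⟨⟨s * x * s⁻¹, hnorm s hs x x.2⟩, ?_, rfl⟩
        show _ ∈ inertia M' (φ' : M' → ℂ)
        rw [mem_inertia]
        funext m
        -- conjugate back by `s`
        set m₁ : M' := ⟨⟨s⁻¹ * ((m : R) : G) * s, by
          simpa using hnorm s⁻¹ (inv_mem hs) _ (m : R).2⟩, by
          show s⁻¹ * ((m : R) : G) * s ∈ M
          simpa using hMn.conj_mem _ m.2 s⁻¹⟩ with hm₁
        have h2 := congrFun ((mem_inertia M').1 hx) m₁
        have h3 := congrFun ((mem_inertia M).1 (hφ hs))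
        have h4 := h3 (e m₁)
        have h5 := h3 (e (⟨(x : R) * (m₁ : R) * (x : R)⁻¹, Subgroup.Normal.conj_mem inferInstance _ m₁.2 _⟩ : M'))
        have e1 : (φ' : M' → ℂ) m₁ = (φ' : M' → ℂ) m := by
          refine h4.symm.trans (congrArg (φ : M → ℂ) (Subtype.ext ?_))
          show s * (s⁻¹ * ((m : R) : G) * s) * s⁻¹ = ((m : R) : G)
          group
        rw [← e1, ← h2]
        refine Eq.trans ?_ h5
        refine congrArg (φ : M → ℂ) (Subtype.ext ?_)
        show (s * (x : G) * s⁻¹) * ((m : R) : G) * (s * (x : G) * s⁻¹)⁻¹ =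
          s * ((x : G) * (s⁻¹ * ((m : R) : G) * s) * (x : G)⁻¹) * s⁻¹
        group
      intro s hs
      rw [Subgroup.mem_normalizer_iff]
      intro x
      refine ⟨key s hs x, fun hx => ?_⟩
      have := key s⁻¹ (inv_mem hs) _ hx
      simpa [mul_assoc] using this
    have hI'R : I' ≤ R := Subgroup.map_subtype_le _
    have hcardI : (Nat.card I').factorization q = (Nat.card R).factorization q := by
      rw [hI', Subgroup.card_map_of_injective R.subtype_injective, ← Subgroup.card_mul_index I,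
        Nat.factorization_mul Nat.card_pos.ne' Subgroup.index_ne_zero_of_finite, Finsupp.add_apply,
        Nat.factorization_eq_zero_of_not_dvd hidx, add_zero]
    obtain ⟨S, hS⟩ := coprime_exists_invariant_sylow hPI
      (hcopR.coprime_dvd_right (Subgroup.card_dvd_of_le hI'R)) (Or.inl hPsol) q
    have hS' : IsSylowIn q R ((S : Subgroup I').map I'.subtype) :=
      ⟨(Subgroup.map_subtype_le _).trans hI'R, by rw [← hcardI]; exact (isSylowIn_map S).2⟩
    have h3 := hquot _ _ h₁ hS' hP₁ hS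
    intro y hy
    have hyI : y ∈ I' :=
      (h3 ▸ sup_le (Subgroup.map_subtype_le _) hMI : Q₁ ⊔ M ≤ I') (Subgroup.mem_sup_left hy)
    obtain ⟨x, hx, rfl⟩ := hyI
    rw [mem_inertia]
    funext m
    have h4 := congrFun ((mem_inertia M').1 hx) (e.symm m)
    refine Eq.trans ?_ (h4.trans (congrArg (φ : M → ℂ) (e.apply_symm_apply m)))
    exact congrArg (φ : M → ℂ) (Subtype.ext rfl)
  obtain ⟨hsol, a, b, hab⟩ := sup_two_groups hP h₁.isPGroup hP₁
  have hcopM : (Nat.card M).Coprime (Nat.card ↥(P ⊔ Q₁)) := by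
    refine Nat.Coprime.coprime_dvd_right hab (Nat.Coprime.mul_right (Nat.Coprime.pow_right _ ?_)
      (Nat.Coprime.pow_right _ ?_))
    · exact (hpp.coprime_iff_not_dvd.2 fun hd => hpR (hd.trans (Subgroup.card_dvd_of_le hMR))).symm
    · exact (hqp.coprime_iff_not_dvd.2 hMq).symm
  have hcent := centralizer_le_of_inv M P Q₁ hsol hcopM hfix
  -- conjugation inside `Q₁M`
  set K := Q₁ ⊔ M with hKdef
  have hKR : K ≤ R := sup_le h₁.1 hMR
  have hPK : P ≤ Subgroup.normalizer (K : Set G) := by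
    have key : ∀ s ∈ P, ∀ x ∈ K, s * x * s⁻¹ ∈ K := by
      intro s hs x hx
      obtain ⟨y, hy, z, hz, rfl⟩ := Subgroup.mem_sup_of_normal_right.1 hx
      rw [show s * (y * z) * s⁻¹ = (s * y * s⁻¹) * (s * z * s⁻¹) by group]
      exact mul_mem (Subgroup.mem_sup_left ((Subgroup.mem_normalizer_iff.1 (hP₁ hs) y).1 hy))
        (Subgroup.mem_sup_right (hMn.conj_mem z hz s))
    intro s hs
    rw [Subgroup.mem_normalizer_iff]
    intro x
    refine ⟨key s hs x, fun hx => ?_⟩
    have := key s⁻¹ (inv_mem hs) _ hx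
    simpa [mul_assoc] using this
  obtain ⟨S₁, hS₁⟩ := (h₁.down (T := K) le_sup_left hKR).exists_sylow
  obtain ⟨S₂, hS₂⟩ := (h₂.down (T := K) (hK.symm ▸ le_sup_left) hKR).exists_sylow
  obtain ⟨d, hd, hdS⟩ := coprime_invariant_sylow_conj hPK
    (hcopR.coprime_dvd_right (Subgroup.card_dvd_of_le hKR)) (Or.inl hPsol) S₁ S₂
    (hS₁.symm ▸ hP₁) (hS₂.symm ▸ hP₂)
  obtain ⟨y, hy, z, hz, hyz⟩ := Subgroup.mem_sup_of_normal_right.1 d.2
  have hdis : Disjoint Q₁ M := by
    refine Subgroup.disjoint_of_coprime_natCard ?_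
    rw [h₁.2]
    exact (hqp.coprime_iff_not_dvd.2 hMq).pow_left _
  have hzc : z ∈ M ⊓ Subgroup.centralizer (P : Set G) := by
    refine ⟨hz, fun s hs => ?_⟩
    have h1 : y⁻¹ * (s * y * s⁻¹) = z * (s * z * s⁻¹)⁻¹ := by
      have h2 := hd s hs
      rw [← hyz] at h2
      calc y⁻¹ * (s * y * s⁻¹) = y⁻¹ * (s * (y * z)) * z⁻¹ * s⁻¹ := by group
        _ = y⁻¹ * ((y * z) * s) * z⁻¹ * s⁻¹ := by rw [h2]
        _ = z * (s * z * s⁻¹)⁻¹ := by group
    have h3 : y⁻¹ * (s * y * s⁻¹) = 1 := Subgroup.disjoint_def.1 hdis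
      (mul_mem (inv_mem hy) ((Subgroup.mem_normalizer_iff.1 (hP₁ hs) y).1 hy))
      (h1 ▸ mul_mem hz (inv_mem (hMn.conj_mem z hz s)))
    rw [h3, eq_comm, mul_inv_eq_one] at h1
    exact (mul_inv_eq_iff_eq_mul.1 h1.symm)
  have hzQ : ∀ w ∈ Q₁, z * w * z⁻¹ = w := fun w hw => by
    rw [← hcent hzc w hw, mul_inv_cancel_right]
  ext w
  rw [← hS₂, ← hdS]
  constructor
  · intro hw
    have hw' : y⁻¹ * w * y ∈ Q₁ := mul_mem (mul_mem (inv_mem hy) hw) hy
    refine ⟨⟨w, Subgroup.mem_sup_left hw⟩, ?_, rfl⟩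
    show _ ∈ MulAut.conj d • (S₁ : Subgroup K)
    rw [mem_conj_smul_iff]
    have h5 : (y * z)⁻¹ * w * (y * z) ∈ (S₁ : Subgroup K).map K.subtype := by
      rw [hS₁, show (y * z)⁻¹ * w * (y * z) = z⁻¹ * (y⁻¹ * w * y) * z by group]
      rw [show z⁻¹ * (y⁻¹ * w * y) * z = y⁻¹ * w * y from by
        conv_lhs => rw [← hzQ _ hw']
        group]
      exact hw'
    obtain ⟨v, hv, hve⟩ := h5
    have : v = d⁻¹ * ⟨w, Subgroup.mem_sup_left hw⟩ * d := Subtype.ext (by
      simp only [Subgroup.coe_mul, Subgroup.coe_inv, ← hyz]; exact hve)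
    exact this ▸ hv
  · rintro ⟨v, hv, rfl⟩
    change v ∈ MulAut.conj d • (S₁ : Subgroup K) at hv
    rw [mem_conj_smul_iff] at hv
    have h5 : ((d⁻¹ * v * d : K) : G) ∈ Q₁ := hS₁ ▸ Subgroup.mem_map_of_mem _ hv
    have h6 : (d : G) * (d⁻¹ * v * d : K) * (d : G)⁻¹ ∈ Q₁ := by
      rw [← hyz, show y * z * ((d⁻¹ * v * d : K) : G) * (y * z)⁻¹ =
        y * (z * ((d⁻¹ * v * d : K) : G) * z⁻¹) * y⁻¹ by group, hzQ _ h5]
      exact mul_mem (mul_mem hy h5) (inv_mem hy)
    simpa [mul_assoc] using h6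

end CfsgLib.CharTheory.PrimeSep
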