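import Cfsg.Agent.Lib.CharTheory.Clifford
import Cfsg.Agent.Lib.CharTheory.FrobeniusSchur
import Cfsg.Agent.Lib.CharTheory.Linear

/-!
# Real characters over a real character of a normal subgroup of odd index
-/

namespace CfsgLib.CharTheory.RealOver

open Cfsg
open scoped ComplexConjugate

set_option linter.unusedVariables false
set_option linter.style.haveILetI false
set_option linter.unusedSectionVars false

universe u

variable {G : Type u} [Group G] [Fintype G] (N : Subgroup G) [N.Normal] [Fintype N]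

/-- The characters of `G` over `φ`. -/
noncomputable def overSet (φ : N → ℂ) : Finset (IrrCharacter G) := by
  classical
  exact Finset.univ.filter fun χ : IrrCharacter G => classInner (fun n : N => (χ : G → ℂ) n) φ ≠ 0

theorem mem_overSet {φ : N → ℂ} {χ : IrrCharacter G} :
    χ ∈ overSet N φ ↔ classInner (fun n : N => (χ : G → ℂ) n) φ ≠ 0 := by
  classical
  simp [overSet]

/-- Multiplying by a character trivial on `N` keeps the span of the characters over `φ`. -/
theorem inner_mul_eq_zero {φ : N → ℂ} (hφ : IsIrrCharacter N φ) {ψ : G → ℂ} (hψ : IsCharacter G ψ)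
    (hk : ∀ n : N, ψ n = ψ 1) {χ χ' : IrrCharacter G} (hχ : χ ∈ overSet N φ) (hχ' : χ' ∉ overSet N φ) :
    classInner (fun g => ψ g * (χ : G → ℂ) g) (χ' : G → ℂ) = 0 := by
  classical
  by_contra hne
  rw [mem_overSet] at hχ hχ'
  set c : G → ℂ := fun g => conj (ψ g) * (χ' : G → ℂ) g with hc
  have hcc : IsCharacter G c := isCharacter_mul (isCharacter_conj hψ) (isCharacter_of_irr χ'.2)
  have e : classInner (fun g => ψ g * (χ : G → ℂ) g) (χ' : G → ℂ) = classInner (χ : G → ℂ) c := by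
    simp only [classInner, hc, map_mul, Complex.conj_conj]
    exact congrArg _ (Finset.sum_congr rfl fun g _ => by ring)
  rw [e] at hne
  have hce : classInner c (χ : G → ℂ) ≠ 0 := fun h => hne (by rw [← classInner_comm, h, map_zero])
  have hsub := isCharacter_sub_irr hcc χ.2 hce
  obtain ⟨n₁, h₁⟩ := classInner_char_nat (isCharacter_restrict hsub N) (isCharacter_of_irr hφ)
  obtain ⟨n₂, h₂⟩ := classInner_char_nat (isCharacter_restrict (isCharacter_of_irr χ.2) N)
    (isCharacter_of_irr hφ)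
  have h3 : classInner (fun n : N => c n) φ = (n₁ : ℂ) + (n₂ : ℂ) := by
    rw [← h₁, ← h₂, ← classInner_add_left]
    congr 1
    funext n
    simp [Pi.sub_apply]
  have h4 : classInner (fun n : N => c n) φ =
      conj (ψ 1) * classInner (fun n : N => (χ' : G → ℂ) n) φ := by
    rw [← classInner_smul_left]
    congr 1
    funext n
    simp [hc, hk n]
  rw [not_not] at hχ'
  rw [h4, hχ', mul_zero] at h3
  have : n₁ + n₂ = 0 := by exact_mod_cast h3.symm
  exact hχ (by rw [h₂, show n₂ = 0 by omega, Nat.cast_zero])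

/-- The kernel of the projection commutes with characters trivial on `N`. -/
theorem kernel_mul {φ : N → ℂ} (hφ : IsIrrCharacter N φ) {ψ : G → ℂ} (hψ : IsCharacter G ψ)
    (hk : ∀ n : N, ψ n = ψ 1) (x y : G) :
    (ψ x - ψ y) * ∑ χ ∈ overSet N φ, (χ : G → ℂ) x * conj ((χ : G → ℂ) y) = 0 := by
  classical
  have hψc := isClassFunction_char hψ
  have hexp : ∀ (ψ : G → ℂ), IsCharacter G ψ → (∀ n : N, ψ n = ψ 1) → ∀ χ ∈ overSet N φ, ∀ g : G,
      ψ g * (χ : G → ℂ) g = ∑ χ' ∈ overSet N φ,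
        classInner (fun g => ψ g * (χ : G → ℂ) g) (χ' : G → ℂ) * (χ' : G → ℂ) g := by
    intro ψ hψ hk χ hχ g
    have hcl : IsClassFunction G (fun g => ψ g * (χ : G → ℂ) g) :=
      isClassFunction_char (isCharacter_mul hψ (isCharacter_of_irr χ.2))
    have h := congrFun (eq_sum_irr hcl) g
    simp only [Finset.sum_apply, Pi.smul_apply, smul_eq_mul] at h
    rw [Finset.sum_subset (Finset.subset_univ (overSet N φ)) (fun χ' _ h' => by
      rw [inner_mul_eq_zero N hφ hψ hk hχ h', zero_mul])]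
    exact h
  have hψ' : IsCharacter G (fun g => conj (ψ g)) := isCharacter_conj hψ
  have hk' : ∀ n : N, (fun g => conj (ψ g)) n = (fun g => conj (ψ g)) 1 := fun n => by
    simp [hk n]
  have h1 : ∑ χ ∈ overSet N φ, ψ x * (χ : G → ℂ) x * conj ((χ : G → ℂ) y) =
      ∑ χ ∈ overSet N φ, ∑ χ' ∈ overSet N φ,
        classInner (fun g => ψ g * (χ : G → ℂ) g) (χ' : G → ℂ) *
          ((χ' : G → ℂ) x * conj ((χ : G → ℂ) y)) := by
    refine Finset.sum_congr rfl fun χ hχ => ?_
    rw [hexp ψ hψ hk χ hχ x, Finset.sum_mul]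
    exact Finset.sum_congr rfl fun χ' _ => by ring
  have h2 : ∑ χ ∈ overSet N φ, ψ y * (χ : G → ℂ) x * conj ((χ : G → ℂ) y) =
      ∑ χ ∈ overSet N φ, ∑ χ' ∈ overSet N φ,
        classInner (fun g => ψ g * (χ : G → ℂ) g) (χ' : G → ℂ) *
          ((χ' : G → ℂ) x * conj ((χ : G → ℂ) y)) := by
    rw [Finset.sum_comm]
    refine Finset.sum_congr rfl fun χ hχ => ?_
    have e := congrArg conj (hexp _ hψ' hk' χ hχ y)
    simp only [map_mul, map_sum, Complex.conj_conj] at e
    rw [show ψ y * (χ : G → ℂ) x * conj ((χ : G → ℂ) y) =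
      (ψ y * conj ((χ : G → ℂ) y)) * (χ : G → ℂ) x by ring, e, Finset.sum_mul]
    refine Finset.sum_congr rfl fun χ' _ => ?_
    have : conj (classInner (fun g => conj (ψ g) * (χ : G → ℂ) g) (χ' : G → ℂ)) =
        classInner (fun g => ψ g * (χ' : G → ℂ) g) (χ : G → ℂ) := by
      rw [classInner_comm]
      simp only [classInner, map_mul, Complex.conj_conj]
      exact congrArg _ (Finset.sum_congr rfl fun g _ => by ring)
    rw [this]; ring
  rw [Finset.mul_sum, Finset.sum_congr rfl (fun (χ : IrrCharacter G) _ => show (ψ x - ψ y) * ((χ : G → ℂ) x * conj ((χ : G → ℂ) y)) =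
    ψ x * (χ : G → ℂ) x * conj ((χ : G → ℂ) y) - ψ y * (χ : G → ℂ) x * conj ((χ : G → ℂ) y) by ring),
    Finset.sum_sub_distrib, h1, h2, sub_self]

/-- In a quotient of odd order the irreducible characters separate an element from its inverse. -/
theorem exists_separating (hodd : Odd N.index) {x : G} (hx : x ∉ N) :
    ∃ ψ : G → ℂ, IsCharacter G ψ ∧ (∀ n : N, ψ n = ψ 1) ∧ ψ x ≠ ψ x⁻¹ := by
  classical
  haveI : Fintype (G ⧸ N) := Fintype.ofFinite _
  set a : G ⧸ N := (x : G ⧸ N) with ha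
  have hnc : ¬ IsConj a a⁻¹ := by
    intro h
    obtain ⟨c, hc⟩ := isConj_iff.1 h
    have hcc : Commute (c * c) a := by
      have e2 : c * a⁻¹ * c⁻¹ = a := by
        rw [show c * a⁻¹ * c⁻¹ = (c * a * c⁻¹)⁻¹ by group, hc, inv_inv]
      show c * c * a = a * (c * c)
      calc c * c * a = c * (c * a * c⁻¹) * c⁻¹ * (c * c) := by group
        _ = a * (c * c) := by rw [hc, e2]
    have hoc : Nat.Coprime 2 (orderOf c) := Nat.coprime_two_left.2
      (hodd.of_dvd_nat (Subgroup.index_eq_card N ▸ orderOf_dvd_natCard c))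
    obtain ⟨j, hj⟩ := exists_pow_eq_self_of_coprime hoc
    have h1 : Commute c a := by
      rw [← hj, pow_two]; exact hcc.pow_left j
    rw [h1.eq, mul_inv_cancel_right, ← mul_eq_one_iff_eq_inv, ← pow_two] at hc
    have ho : orderOf a = 1 := Nat.dvd_one.1 (by
      rw [← Nat.coprime_iff_gcd_eq_one.1 (Nat.coprime_two_left.2
        (hodd.of_dvd_nat (Subgroup.index_eq_card N ▸ orderOf_dvd_natCard a)))]
      exact Nat.dvd_gcd (orderOf_dvd_of_pow_eq_one hc) dvd_rfl)
    rw [orderOf_eq_one_iff, ha, QuotientGroup.eq_one_iff] at ho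
    exact hx ho
  by_contra hno
  push Not at hno
  let f : G ⧸ N → ℂ := fun b => if IsConj a b then 1 else 0
  have hf : IsClassFunction (G ⧸ N) f := fun b c => by
    simp only [f]
    have hb : IsConj b (c * b * c⁻¹) := isConj_iff.2 ⟨c, rfl⟩
    exact if_congr ⟨fun h => h.trans hb.symm, fun h => h.trans hb⟩ rfl rfl
  have h := eq_sum_irr hf
  have h1 := congrFun h a
  have h2 := congrFun h a⁻¹
  simp only [Finset.sum_apply, Pi.smul_apply, smul_eq_mul] at h1 h2
  have h3 : ∀ ψ : IrrCharacter (G ⧸ N), (ψ : G ⧸ N → ℂ) a = (ψ : G ⧸ N → ℂ) a⁻¹ := by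
    intro ψ
    have h4 := hno (fun g : G => (ψ : G ⧸ N → ℂ) (g : G ⧸ N))
      (isCharacter_comp (isCharacter_of_irr ψ.2) (QuotientGroup.mk' N))
      (fun n => by
        show (ψ : G ⧸ N → ℂ) ((n : G) : G ⧸ N) = (ψ : G ⧸ N → ℂ) ((1 : G) : G ⧸ N)
        rw [(QuotientGroup.eq_one_iff _).2 n.2]; rfl)
    simpa [ha] using h4
  rw [Finset.sum_congr rfl fun ψ _ => by rw [← h3 ψ]] at h2
  rw [← h2] at h1
  simp only [f] at h1
  rw [if_pos (IsConj.refl a), if_neg hnc] at h1
  exact one_ne_zero h1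

/-- The sum of `χ g * χ g` over the characters above `φ` vanishes outside `N`. -/
theorem sum_sq_eq_zero {φ : N → ℂ} (hφ : IsIrrCharacter N φ) (hodd : Odd N.index) {g : G} (hg : g ∉ N) :
    ∑ χ ∈ overSet N φ, (χ : G → ℂ) g * (χ : G → ℂ) g = 0 := by
  obtain ⟨ψ, hψ, hk, hne⟩ := exists_separating N hodd hg
  have h := (mul_eq_zero.1 (kernel_mul N hφ hψ hk g g⁻¹)).resolve_left (sub_ne_zero.2 hne)
  rw [← h]
  refine Finset.sum_congr rfl fun χ _ => ?_
  rw [char_apply_inv (isCharacter_of_irr χ.2), Complex.conj_conj]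

/-- An irreducible character with nonzero indicator is real. -/
theorem real_of_indicator {H : Type*} [Group H] [Fintype H] (φ : IrrCharacter H)
    (h : ∑ a : H, (φ : H → ℂ) (a * a) ≠ 0) (a : H) : conj ((φ : H → ℂ) a) = (φ : H → ℂ) a := by
  obtain ⟨k, ρ, hρ, hρφ⟩ := φ.2
  haveI := hρ
  rcases frobenius_schur ρ with ⟨-, h1⟩ | ⟨ε, -, h1, -⟩
  · exact absurd (hρφ ▸ h1) h
  rw [hρφ] at h1
  by_contra hne
  have hci : IsIrrCharacter H (fun a => conj ((φ : H → ℂ) a)) := isIrrCharacter_conjChar φ.2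
  have h0 := classInner_irr_ne φ.2 hci (fun e => hne (congrFun e a).symm)
  simp only [classInner, Complex.conj_conj, h1, mul_eq_zero, inv_eq_zero, Nat.cast_eq_zero] at h0
  exact Nat.card_pos.ne' (h0.elim id id)

/-- **Unique real character over a real character of a normal subgroup of odd index.** -/
theorem exists_unique_indicator_one (hodd : Odd N.index) (φ : IrrCharacter N)
    (hφ : ∑ a : N, (φ : N → ℂ) (a * a) = (Nat.card N : ℂ)) :
    ∃! χ : IrrCharacter G, (∑ g : G, (χ : G → ℂ) (g * g) = (Nat.card G : ℂ)) ∧ χ ∈ overSet N (φ : N → ℂ) := by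
  classical
  have hNc : (Nat.card N : ℂ) ≠ 0 := Nat.cast_ne_zero.2 Nat.card_pos.ne'
  have hGc : (Nat.card G : ℂ) ≠ 0 := Nat.cast_ne_zero.2 Nat.card_pos.ne'
  have hreal : ∀ a : N, conj ((φ : N → ℂ) a) = (φ : N → ℂ) a :=
    real_of_indicator φ (by rw [hφ]; exact hNc)
  set s : ℕ := (conjOrbit N (φ : N → ℂ)).card with hs
  choose e he using fun χ : IrrCharacter G =>
    classInner_char_nat (isCharacter_restrict (isCharacter_of_irr χ.2) N) (isCharacter_of_irr φ.2)
  have hres : ∀ χ ∈ overSet N (φ : N → ℂ), ∀ n : N,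
      (χ : G → ℂ) (n : G) = (e χ : ℂ) * ∑ θ ∈ conjOrbit N (φ : N → ℂ), θ n := by
    intro χ hχ n
    have h := congrFun (clifford N χ.2 φ.2 ((mem_overSet N).1 hχ)) n
    simp only [Pi.smul_apply, Finset.sum_apply, smul_eq_mul, he] at h
    exact h
  have hOreal : ∀ n : N, conj (∑ θ ∈ conjOrbit N (φ : N → ℂ), θ n) = ∑ θ ∈ conjOrbit N (φ : N → ℂ), θ n := by
    intro n
    rw [map_sum]
    refine Finset.sum_congr rfl fun θ hθ => ?_
    obtain ⟨g, rfl⟩ := (mem_conjOrbit N).1 hθ
    exact hreal _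
  have hnorm : ∀ χ ∈ overSet N (φ : N → ℂ),
      ∑ n : N, (χ : G → ℂ) n * (χ : G → ℂ) n = (Nat.card N : ℂ) * ((e χ : ℂ) ^ 2 * (s : ℂ)) := by
    intro χ hχ
    have h2 : classInner (fun n : N => (χ : G → ℂ) n) (fun n : N => (χ : G → ℂ) n) =
        (e χ : ℂ) ^ 2 * (s : ℂ) := by
      rw [show classInner (fun n : N => (χ : G → ℂ) n) (fun n : N => (χ : G → ℂ) n) = _ from
        congrArg (classInner (fun n : N => (χ : G → ℂ) n)) (clifford N χ.2 φ.2 ((mem_overSet N).1 hχ))]
      rw [classInner_smul_right, classInner_sum_right, he, map_natCast]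
      rw [Finset.sum_congr rfl fun θ hθ => show classInner (fun n : N => (χ : G → ℂ) n) θ = (e χ : ℂ) by
        obtain ⟨g, rfl⟩ := (mem_conjOrbit N).1 hθ
        rw [classInner_res_conjNormFun N g (isClassFunction_irr χ.2), he], Finset.sum_const, nsmul_eq_mul]
      ring
    rw [← h2, classInner, mul_inv_cancel_left₀ hNc]
    refine Finset.sum_congr rfl fun n _ => ?_
    congr 1
    rw [hres χ hχ n, map_mul, map_natCast, hOreal]
  have hind : ∀ g : G, indFun N (φ : N → ℂ) g = ∑ χ ∈ overSet N (φ : N → ℂ), (e χ : ℂ) * (χ : G → ℂ) g := by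
    intro g
    have h := congrFun (eq_sum_irr (indFun_isClassFunction N (φ : N → ℂ))) g
    have e1 : ∀ χ : IrrCharacter G, classInner (indFun N (φ : N → ℂ)) (χ : G → ℂ) = (e χ : ℂ) := by
      intro χ
      rw [frobenius_reciprocity N _ (isClassFunction_irr χ.2), ← classInner_comm, he, map_natCast]
    simp only [Finset.sum_apply, Pi.smul_apply, smul_eq_mul, e1] at h
    rw [h]
    refine (Finset.sum_subset (Finset.subset_univ _) fun χ _ hχ => ?_).symm
    rw [mem_overSet, not_not, he] at hχ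
    rw [hχ, zero_mul]
  have hse : (s : ℂ) * ∑ χ ∈ overSet N (φ : N → ℂ), (e χ : ℂ) ^ 2 = (N.index : ℂ) := by
    have h := hind 1
    rw [indFun_apply_one] at h
    have h0 : (φ : N → ℂ) 1 ≠ 0 := irr_ne_zero φ.2
    apply mul_right_cancel₀ h0
    rw [h, Finset.mul_sum, Finset.sum_mul]
    refine Finset.sum_congr rfl fun χ hχ => ?_
    have h1 := hres χ hχ 1
    rw [Subgroup.coe_one] at h1
    rw [h1, Finset.sum_congr rfl fun θ hθ => show θ (1 : N) = (φ : N → ℂ) 1 by
      obtain ⟨g, rfl⟩ := (mem_conjOrbit N).1 hθ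
      exact conjNormFun_apply_one N g _, Finset.sum_const, nsmul_eq_mul, ← hs]
    ring
  -- exactly one real character over `φ`
  have hT : ∑ χ ∈ overSet N (φ : N → ℂ), ∑ g : G, (χ : G → ℂ) g * (χ : G → ℂ) g = (Nat.card G : ℂ) := by
    rw [Finset.sum_comm]
    rw [show ∑ g : G, ∑ χ ∈ overSet N (φ : N → ℂ), (χ : G → ℂ) g * (χ : G → ℂ) g =
        ∑ n : N, ∑ χ ∈ overSet N (φ : N → ℂ), (χ : G → ℂ) n * (χ : G → ℂ) n from ?_]
    · rw [Finset.sum_comm, Finset.sum_congr rfl hnorm, ← Finset.mul_sum, ← Finset.sum_mul,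
        mul_comm _ (s : ℂ), hse, ← Nat.cast_mul, Subgroup.card_mul_index]
    rw [← Finset.sum_subset (Finset.subset_univ (Finset.univ.filter (fun g : G => g ∈ N)))
      (fun g _ hg => sum_sq_eq_zero N φ.2 hodd (by simpa using hg))]
    exact Finset.sum_subtype _ (fun g => by simp) _
  have hsq : ∀ χ : IrrCharacter G, (∀ g, conj ((χ : G → ℂ) g) = (χ : G → ℂ) g) →
      ∑ g : G, (χ : G → ℂ) g * (χ : G → ℂ) g = (Nat.card G : ℂ) := by
    intro χ hr
    have h := classInner_irr_self χ.2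
    simp only [classInner, hr] at h
    field_simp at h
    simpa only [pow_two] using h
  have hns : ∀ χ : IrrCharacter G, ¬ (∀ g, conj ((χ : G → ℂ) g) = (χ : G → ℂ) g) →
      ∑ g : G, (χ : G → ℂ) g * (χ : G → ℂ) g = 0 := by
    intro χ hr
    have h := classInner_irr_ne χ.2 (isIrrCharacter_conjChar χ.2) (fun e => hr fun g => (congrFun e g).symm)
    simp only [classInner, Complex.conj_conj, mul_eq_zero, inv_eq_zero, hGc, false_or] at h
    exact h
  set R := (overSet N (φ : N → ℂ)).filter (fun χ : IrrCharacter G => ∀ g, conj ((χ : G → ℂ) g) = (χ : G → ℂ) g) with hR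
  have hR1 : R.card = 1 := by
    rw [← Finset.sum_filter_add_sum_filter_not (overSet N (φ : N → ℂ))
      (fun χ : IrrCharacter G => ∀ g, conj ((χ : G → ℂ) g) = (χ : G → ℂ) g), ← hR,
      Finset.sum_congr rfl (fun χ hχ => hsq χ (Finset.mem_filter.1 hχ).2),
      Finset.sum_eq_zero (s := Finset.filter (fun χ : IrrCharacter G =>
        ¬ ∀ g, conj ((χ : G → ℂ) g) = (χ : G → ℂ) g) (overSet N (φ : N → ℂ)))
        (fun χ hχ => hns χ (Finset.mem_filter.1 hχ).2),
      add_zero, Finset.sum_const, nsmul_eq_mul, mul_eq_right₀ hGc] at hT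
    exact_mod_cast hT
  obtain ⟨χ₀, hχ₀⟩ := Finset.card_eq_one.1 hR1
  have hχ₀m : χ₀ ∈ overSet N (φ : N → ℂ) :=
    (Finset.mem_filter.1 (show χ₀ ∈ R by rw [hχ₀]; exact Finset.mem_singleton_self _)).1
  have honly : ∀ χ ∈ overSet N (φ : N → ℂ), ∑ g : G, (χ : G → ℂ) (g * g) ≠ 0 → χ = χ₀ := by
    intro χ hχ hne
    have : χ ∈ R := Finset.mem_filter.2 ⟨hχ, real_of_indicator χ hne⟩
    rwa [hχ₀, Finset.mem_singleton] at this
  -- the indicators of the constituents of the induced character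
  have hV : ∑ g : G, indFun N (φ : N → ℂ) (g * g) = (Nat.card G : ℂ) := by
    rw [← Finset.sum_subset (Finset.subset_univ (Finset.univ.filter (fun g : G => g ∈ N)))
      (fun g _ hg => ?_), Finset.sum_subtype _ (p := fun g : G => g ∈ N) (fun g => by simp) _]
    · rw [show ∑ a : N, indFun N (φ : N → ℂ) ((a : G) * (a : G)) =
          ∑ a : N, (Nat.card N : ℂ)⁻¹ * ∑ x : G, (φ : N → ℂ) ((MulAut.conjNormal x a : N) * (MulAut.conjNormal x a : N)) from
        Finset.sum_congr rfl fun a _ => by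
          rw [show ((a : G) * (a : G)) = ((a * a : N) : G) from rfl, indFun_normal_apply]
          refine congrArg _ (Finset.sum_congr rfl fun x _ => congrArg _ (Subtype.ext ?_))
          simp [MulAut.conjNormal_apply]]
      rw [← Finset.mul_sum, Finset.sum_comm,
        Finset.sum_congr rfl fun x _ => show ∑ a : N, (φ : N → ℂ) ((MulAut.conjNormal x a : N) * (MulAut.conjNormal x a : N)) =
          (Nat.card N : ℂ) from (Fintype.sum_equiv (MulAut.conjNormal x : N ≃* N).toEquiv _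
            (fun b : N => (φ : N → ℂ) (b * b)) fun a => rfl).trans hφ,
        Finset.sum_const, Finset.card_univ, nsmul_eq_mul, Nat.card_eq_fintype_card (α := G)]
      field_simp
    · simp only [Finset.mem_filter, Finset.mem_univ, true_and] at hg
      refine indFun_normal_apply_not_mem N _ fun h2 => hg ?_
      have hoc : Nat.Coprime 2 (orderOf (g : G ⧸ N)) := Nat.coprime_two_left.2
        (hodd.of_dvd_nat (Subgroup.index_eq_card N ▸ orderOf_dvd_natCard _))
      obtain ⟨j, hj⟩ := exists_pow_eq_self_of_coprime hoc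
      rw [← QuotientGroup.eq_one_iff, ← hj, ← QuotientGroup.mk_pow, (QuotientGroup.eq_one_iff _).2 (by rwa [pow_two]), one_pow]
  rw [Finset.sum_congr rfl fun g _ => hind (g * g), Finset.sum_comm] at hV
  simp only [← Finset.mul_sum] at hV
  rw [Finset.sum_eq_single_of_mem χ₀ hχ₀m (fun χ hχ hne => by
    rw [by_contra fun h => hne (honly χ hχ h), mul_zero])] at hV
  obtain ⟨k, ρ, hρ, hρχ⟩ := χ₀.2
  haveI := hρ
  have hν : ∑ g : G, (χ₀ : G → ℂ) (g * g) = (Nat.card G : ℂ) := by
    rcases frobenius_schur ρ with ⟨-, h⟩ | ⟨ε, hε, -, h, -⟩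
    · rw [hρχ] at h
      rw [h, mul_zero] at hV
      exact absurd hV.symm hGc
    · rw [hρχ] at h
      rcases hε with rfl | rfl
      · rwa [one_mul] at h
      · rw [h] at hV
        have : ((e χ₀ * Nat.card G + Nat.card G : ℕ) : ℂ) = 0 := by
          push_cast; linear_combination (-1 : ℂ) * hV
        rw [Nat.cast_eq_zero] at this
        have := Nat.card_pos (α := G); omega
  refine ⟨χ₀, ⟨hν, hχ₀m⟩, fun χ hχ => honly χ hχ.2 ?_⟩
  rw [hχ.1]; exact hGc

end CfsgLib.CharTheory.RealOver
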