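import Mathlib
import Cfsg.Agent.Lib.CharTheory.BilinearIndicator
import Cfsg.Agent.Lib.CharTheory.Linear
import Cfsg.Agent.Lib.CharTheory.FrobeniusSchur

/-!
Indicator `+1` is the same as being afforded by a real representation.
-/

namespace CfsgLib.CharTheory

open Cfsg Matrix
open scoped ComplexConjugate ComplexOrder

universe u

variable {G : Type u} [Group G] [Fintype G]

private noncomputable abbrev cMat {n : ℕ} (A : Matrix (Fin n) (Fin n) ℂ) : Matrix (Fin n) (Fin n) ℂ :=
  A.map (starRingEnd ℂ)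

private theorem star_mulVec' {n : ℕ} (A : Matrix (Fin n) (Fin n) ℂ) (w : Fin n → ℂ) :
    star (A *ᵥ w) = cMat A *ᵥ star w := by
  ext i
  simp [cMat, Matrix.mulVec, dotProduct]

private theorem cMat_cMat {n : ℕ} (A : Matrix (Fin n) (Fin n) ℂ) : cMat (cMat A) = A := by
  ext i j
  simp [cMat]

private theorem dot_mulVec_comm {n : ℕ} (S : Matrix (Fin n) (Fin n) ℂ) (x y : Fin n → ℂ) :
    x ⬝ᵥ (S *ᵥ y) = y ⬝ᵥ (Sᵀ *ᵥ x) := by
  rw [Matrix.dotProduct_mulVec, dotProduct_comm, Matrix.mulVec_transpose]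

theorem isIrreducible_of_character {n : ℕ} (σ : Representation ℂ G (Fin n → ℂ))
    (h : IsIrrCharacter G σ.character) : σ.IsIrreducible := by
  obtain ⟨m, τ, hτ, hτσ⟩ := h
  obtain ⟨e⟩ := nonempty_equiv_of_character_eq τ σ hτσ
  haveI := hτ
  exact isIrreducible_of_equiv e

/-- An irreducible real representation has indicator `1`. -/
theorem indicator_eq_one_of_real {χ : G → ℂ} (hχ : IsIrrCharacter G χ) (n : ℕ)
    (ρ : Representation ℝ G (Fin n → ℝ))
    (h : ∀ g : G, ((LinearMap.trace ℝ (Fin n → ℝ) (ρ g) : ℝ) : ℂ) = χ g) :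
    (Nat.card G : ℂ)⁻¹ * ∑ s : G, χ (s * s) = 1 := by
  classical
  set M : G → Matrix (Fin n) (Fin n) ℝ := fun g => LinearMap.toMatrix' (ρ g) with hM
  have hM1 : M 1 = 1 := by
    simp only [hM, map_one]; exact LinearMap.toMatrix'_one
  have hMm : ∀ g k, M (g * k) = M g * M k := fun g k => by
    simp only [hM, map_mul]; exact LinearMap.toMatrix'_mul _ _
  let σ : Representation ℂ G (Fin n → ℂ) :=
    { toFun := fun g => Matrix.toLin' ((M g).map Complex.ofRealHom)
      map_one' := by
        rw [hM1, Matrix.map_one _ (map_zero _) (map_one _), Matrix.toLin'_one]; rfl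
      map_mul' := fun g k => by
        rw [hMm, Matrix.map_mul, Matrix.toLin'_mul]; rfl }
  have hσm : ∀ g, LinearMap.toMatrix' (σ g) = (M g).map Complex.ofRealHom := fun g =>
    LinearMap.toMatrix'_toLin' _
  have hσ : σ.character = χ := by
    funext g
    rw [← h g]
    show LinearMap.trace ℂ _ (σ g) = _
    rw [LinearMap.trace_eq_matrix_trace ℂ (Pi.basisFun ℂ (Fin n)), LinearMap.trace_eq_matrix_trace ℝ (Pi.basisFun ℝ (Fin n)),
      LinearMap.toMatrix_eq_toMatrix', LinearMap.toMatrix_eq_toMatrix', hσm]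
    simp [Matrix.trace, hM]
  have hirr : σ.IsIrreducible := isIrreducible_of_character σ (by rw [hσ]; exact hχ)
  have hreal : ∀ g, (σ.character g).im = 0 := fun g => by rw [hσ, ← h g]; exact Complex.ofReal_im _
  have hn : 0 < n := by
    rcases Nat.eq_zero_or_pos n with rfl | hn
    · exfalso
      have h1 := classInner_irr_self hχ
      have h0 : χ = 0 := by
        funext g; rw [← h g]
        simp [LinearMap.trace_eq_matrix_trace ℝ (Pi.basisFun ℝ (Fin 0)), Matrix.trace]
      rw [h0, classInner_zero_left] at h1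
      exact zero_ne_one h1
    · exact hn
  -- the averaged form
  set P : Matrix (Fin n) (Fin n) ℝ := ∑ k : G, (M k)ᵀ * M k with hP
  have hPinv : ∀ g, (M g)ᵀ * P * M g = P := fun g => by
    simp only [hP, Finset.mul_sum, Finset.sum_mul]
    refine Fintype.sum_equiv (Equiv.mulRight g) _ _ fun k => ?_
    simp only [Equiv.coe_mulRight, hMm, Matrix.transpose_mul, Matrix.mul_assoc]
  have hPT : Pᵀ = P := by
    rw [hP, Matrix.transpose_sum]
    simp [Matrix.transpose_mul]
  have hPne : P ≠ 0 := fun e => by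
    have h1 : P ⟨0, hn⟩ ⟨0, hn⟩ = 0 := by rw [e]; rfl
    rw [hP, Matrix.sum_apply] at h1
    have h2 := (Finset.sum_eq_zero_iff_of_nonneg (fun k _ => ?_)).1 h1 1 (Finset.mem_univ _)
    · rw [hM1, Matrix.transpose_one, Matrix.one_mul, Matrix.one_apply_eq] at h2
      exact one_ne_zero h2
    · rw [Matrix.mul_apply]
      exact Finset.sum_nonneg fun j _ => mul_self_nonneg _
  obtain ⟨-, hall⟩ := exists_form_and_symmetry n σ hirr hreal
  have h2 := hall (P.map Complex.ofRealHom) fun g => by
    rw [hσm, ← Matrix.transpose_map, ← Matrix.map_mul, ← Matrix.map_mul, hPinv]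
  rw [← Matrix.transpose_map, hPT, hσ] at h2
  have h3 : ((Nat.card G : ℂ)⁻¹ * ∑ s : G, χ (s * s) - 1) • P.map Complex.ofRealHom = 0 := by
    rw [sub_smul, one_smul, ← h2, sub_self]
  refine sub_eq_zero.1 ((smul_eq_zero.1 h3).resolve_right fun e => hPne ?_)
  ext i j
  have := congrFun (congrFun e i) j
  simpa using this

/-- Indicator `1` gives a real form. -/
theorem exists_real_of_indicator {χ : G → ℂ} (hχ : IsIrrCharacter G χ)
    (hν : (Nat.card G : ℂ)⁻¹ * ∑ s : G, χ (s * s) = 1) :
    ∃ (m : ℕ) (ρW : Representation ℝ G (Fin m → ℝ)),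
      ∀ g : G, ((LinearMap.trace ℝ (Fin m → ℝ) (ρW g) : ℝ) : ℂ) = χ g := by
  classical
  obtain ⟨n, ρ, hirr, rfl⟩ := hχ
  haveI := hirr
  set b := Pi.basisFun ℂ (Fin n)
  have hne : ∑ s : G, ρ.character s * ρ.character s ≠ 0 := by
    intro h0
    rcases frobenius_schur ρ with ⟨-, h1⟩ | ⟨ε', -, h1, -⟩
    · rw [h1, mul_zero] at hν
      exact zero_ne_one hν
    · rw [h0] at h1
      exact Nat.cast_ne_zero.mpr (Nat.card_pos (α := G)).ne' h1.symm
  obtain ⟨B, ε, hε2, hB, hBT, hs⟩ := invariant_form_symmetry ρ b (by simp) hne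
  have hε : ε = 1 := by
    rw [hs, mul_comm ε, ← mul_assoc, inv_mul_cancel₀ (Nat.cast_ne_zero.mpr Nat.card_pos.ne'), one_mul] at hν
    exact hν
  rw [hε, one_smul] at hBT
  have hmat : ∀ g, LinearMap.toMatrix b b (ρ g) = LinearMap.toMatrix' (ρ g) := fun g => by
    rw [← LinearMap.toMatrix_eq_toMatrix']
  simp only [hmat] at hB
  set r : G → Matrix (Fin n) (Fin n) ℂ := fun g => LinearMap.toMatrix' (ρ g) with hr
  have hrv : ∀ g v, ρ g v = r g *ᵥ v := fun g v => (LinearMap.toMatrix'_mulVec (ρ g) v).symm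
  have hr1 : r 1 = 1 := by
    simp only [hr, map_one]; exact LinearMap.toMatrix'_one
  have hrm : ∀ g k, r (g * k) = r g * r k := fun g k => by
    simp only [hr, map_mul]; exact LinearMap.toMatrix'_mul _ _
  have hn : 0 < n := by
    rcases Nat.eq_zero_or_pos n with rfl | hn
    · exfalso
      exact hne (Finset.sum_eq_zero fun s _ => by
        simp [Representation.character, LinearMap.trace_eq_matrix_trace ℂ b, Matrix.trace])
    · exact hn
  set P : Matrix (Fin n) (Fin n) ℂ := ∑ k : G, (r k)ᴴ * r k with hP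
  have hPinv : ∀ g, (r g)ᴴ * P * r g = P := fun g => by
    simp only [hP, Finset.mul_sum, Finset.sum_mul]
    refine Fintype.sum_equiv (Equiv.mulRight g) _ _ fun k => ?_
    simp only [Equiv.coe_mulRight, hrm, Matrix.conjTranspose_mul, Matrix.mul_assoc]
  have hPd : P.PosDef := by
    have : P = (r 1)ᴴ * r 1 + ∑ k ∈ Finset.univ.erase (1 : G), (r k)ᴴ * r k :=
      (Finset.add_sum_erase _ _ (Finset.mem_univ _)).symm
    rw [this, hr1]
    refine Matrix.PosDef.add_posSemidef (by simpa using Matrix.PosDef.one) ?_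
    exact Matrix.posSemidef_sum _ fun k _ => Matrix.posSemidef_conjTranspose_mul_self _
  -- the conjugate-linear map
  let J : (Fin n → ℂ) → (Fin n → ℂ) := fun v => B.1 *ᵥ (cMat P *ᵥ star v)
  have hJg : ∀ g v, J (ρ g v) = ρ g (J v) := by
    intro g v
    have h1 : cMat P = (r g)ᵀ * cMat P * cMat (r g) := by
      have h2 := congrArg cMat (hPinv g)
      simp only [cMat, Matrix.map_mul] at h2
      rw [show ((r g)ᴴ).map (starRingEnd ℂ) = (r g)ᵀ from by
        ext i j; simp [Matrix.conjTranspose_apply]] at h2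
      exact h2.symm
    have h3 : star (r g *ᵥ v) = cMat (r g) *ᵥ star v := by
      ext i
      simp [cMat, Matrix.mulVec, dotProduct]
    show B.1 *ᵥ (cMat P *ᵥ star (ρ g v)) = ρ g (B.1 *ᵥ (cMat P *ᵥ star v))
    rw [hrv, hrv, h3]
    conv_rhs => rw [h1]
    simp only [Matrix.mulVec_mulVec, ← Matrix.mul_assoc]
    rw [hB g]
  have hJadd : ∀ v w, J (v + w) = J v + J w := fun v w => by
    simp only [J, star_add, Matrix.mulVec_add]
  have hJsmul : ∀ (c : ℂ) v, J (c • v) = conj c • J v := fun c v => by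
    show B.1 *ᵥ (cMat P *ᵥ star (c • v)) = conj c • (B.1 *ᵥ (cMat P *ᵥ star v))
    rw [star_smul, Matrix.mulVec_smul, Matrix.mulVec_smul]
    rfl
  let T : Module.End ℂ (Fin n → ℂ) :=
    { toFun := fun v => J (J v)
      map_add' := fun v w => by rw [hJadd, hJadd]
      map_smul' := fun c v => by rw [hJsmul, hJsmul, Complex.conj_conj]; rfl }
  have hT := eq_smul_id_of_commute ρ T fun g => LinearMap.ext fun v => by
    show J (J (ρ g v)) = ρ g (J (J v))
    rw [hJg, hJg]
  obtain ⟨lam, hlam⟩ : ∃ lam : ℂ, ∀ v, J (J v) = lam • v :=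
    ⟨_, fun v => LinearMap.congr_fun hT v⟩
  -- positivity
  have hPh : Pᴴ = P := hPd.1
  have hcPh : (cMat P)ᵀ = P := by
    conv_rhs => rw [← hPh]
    rfl
  obtain ⟨v, hv⟩ : ∃ v : Fin n → ℂ, v ≠ 0 := ⟨fun _ => 1, fun e => one_ne_zero (congrFun e ⟨0, hn⟩)⟩
  have hpos : star (J v) ⬝ᵥ (P *ᵥ J v) = lam * (star v ⬝ᵥ (P *ᵥ v)) := by
    have hS : (P * B.1 * cMat P)ᵀ = P * B.1 * cMat P := by
      rw [Matrix.transpose_mul, Matrix.transpose_mul, hcPh, hBT,
        show Pᵀ = cMat P from by simpa using (congrArg Matrix.transpose hcPh).symm, Matrix.mul_assoc]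
    have e1 : star (J v) = cMat B.1 *ᵥ (P *ᵥ v) := by
      show star (B.1 *ᵥ (cMat P *ᵥ star v)) = _
      rw [star_mulVec', star_mulVec', cMat_cMat, star_star]
    have e2 : P *ᵥ J v = (P * B.1 * cMat P) *ᵥ star v := by
      show P *ᵥ (B.1 *ᵥ (cMat P *ᵥ star v)) = _
      rw [Matrix.mulVec_mulVec, Matrix.mulVec_mulVec, Matrix.mul_assoc]
    have e3 : (P * B.1 * cMat P) *ᵥ star (J v) = P *ᵥ J (J v) := by
      show _ = P *ᵥ (B.1 *ᵥ (cMat P *ᵥ star (J v)))
      rw [Matrix.mulVec_mulVec, Matrix.mulVec_mulVec, Matrix.mul_assoc]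
    rw [e2, dot_mulVec_comm, hS, e3, hlam, Matrix.mulVec_smul, dotProduct_smul, smul_eq_mul]
  have hq : 0 < star v ⬝ᵥ (P *ᵥ v) := hPd.dotProduct_mulVec_pos hv
  have hJv : J v ≠ 0 := fun e => by
    have h0 := hlam v
    rw [e] at h0
    have hz : J 0 = 0 := by simp [J]
    rw [hz] at h0
    have hlam0 : lam = 0 := (smul_eq_zero.1 h0.symm).resolve_right hv
    have h1 : cMat P *ᵥ star v = 0 := by
      have := congrArg (fun w => (↑B⁻¹ : Matrix (Fin n) (Fin n) ℂ) *ᵥ w) e
      simpa [J, Matrix.mulVec_mulVec, ← Matrix.mul_assoc] using this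
    have h2 : P *ᵥ v = 0 := by
      have := congrArg star h1
      ext i
      have hi := congrFun this i
      simpa [cMat, Matrix.mulVec, dotProduct] using hi
    rw [h2, dotProduct_zero] at hq
    exact lt_irrefl _ hq
  have hq2 : 0 < star (J v) ⬝ᵥ (P *ᵥ J v) := hPd.dotProduct_mulVec_pos hJv
  rw [hpos] at hq2
  obtain ⟨hqr, hqi⟩ := Complex.pos_iff.1 hq
  obtain ⟨hlr, hli⟩ := Complex.pos_iff.1 hq2
  rw [Complex.mul_re, ← hqi, mul_zero, sub_zero] at hlr
  rw [Complex.mul_im, ← hqi, mul_zero, zero_add] at hli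
  have hlim : lam.im = 0 := (mul_eq_zero.1 hli.symm).resolve_right hqr.ne'
  have hlpos : 0 < lam.re := by
    by_contra hle
    exact absurd hlr (not_lt.2 (mul_nonpos_of_nonpos_of_nonneg (not_lt.1 hle) hqr.le))
  set t : ℝ := (Real.sqrt lam.re)⁻¹ with ht
  let K : (Fin n → ℂ) → (Fin n → ℂ) := fun v => (t : ℂ) • J v
  have hKK : ∀ v, K (K v) = v := fun v => by
    show (t : ℂ) • J ((t : ℂ) • J v) = v
    rw [hJsmul, Complex.conj_ofReal, hlam, smul_smul, smul_smul]
    have e1 : (t : ℂ) * ((t : ℂ) * lam) = 1 := by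
      rw [show lam = ((lam.re : ℝ) : ℂ) from Complex.ext rfl (by simp [hlim]), ← Complex.ofReal_mul, ← Complex.ofReal_mul]
      rw [ht, ← mul_assoc, ← mul_inv, Real.mul_self_sqrt hlpos.le, inv_mul_cancel₀ hlpos.ne']
      norm_num
    first
    | rw [e1, one_smul]
    | rw [mul_assoc, e1, one_smul]
  have hKg : ∀ g v, K (ρ g v) = ρ g (K v) := fun g v => by
    show (t : ℂ) • J (ρ g v) = ρ g ((t : ℂ) • J v)
    rw [hJg, map_smul]
  have hKadd : ∀ v w, K (v + w) = K v + K w := fun v w => by
    show (t : ℂ) • J (v + w) = _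
    rw [hJadd, smul_add]
  have hKsmul : ∀ (c : ℂ) v, K (c • v) = conj c • K v := fun c v => by
    show (t : ℂ) • J (c • v) = conj c • ((t : ℂ) • J v)
    rw [hJsmul, smul_comm]
  let W : Submodule ℝ (Fin n → ℂ) :=
    { carrier := {v | K v = v}
      add_mem' := fun {v w} (hv : K v = v) (hw : K w = w) => by
        show K (v + w) = v + w
        rw [hKadd, hv, hw]
      zero_mem' := by
        show K 0 = 0
        rw [← zero_smul ℂ (0 : Fin n → ℂ), hKsmul, map_zero, zero_smul, zero_smul]
      smul_mem' := fun c v (hv : K v = v) => by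
        show K (c • v) = c • v
        rw [← Complex.coe_smul, hKsmul, Complex.conj_ofReal, hv] }
  set bW := Module.finBasis ℝ W
  set m := Module.finrank ℝ W
  let σW : Representation ℝ G W :=
    { toFun := fun g => ((ρ g).restrictScalars ℝ).restrict (fun v (hv : K v = v) => by
        show K (ρ g v) = ρ g v
        rw [hKg, hv])
      map_one' := LinearMap.ext fun v => Subtype.ext (by simp)
      map_mul' := fun g k => LinearMap.ext fun v => Subtype.ext (by simp) }
  have hσv : ∀ g (v : W), ((σW g v : W) : Fin n → ℂ) = ρ g v := fun _ _ => rfl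
  -- the real basis is a complex basis
  let c : Fin m → (Fin n → ℂ) := fun i => (bW i : Fin n → ℂ)
  have hli : LinearIndependent ℂ c := by
    rw [Fintype.linearIndependent_iff]
    intro f hf i
    have hcc : ∀ i, K (c i) = c i := fun i => (bW i).2
    have hK0 : ∑ j, conj (f j) • c j = 0 := by
      have h := congrArg K hf
      have hz : K 0 = 0 := W.zero_mem
      rw [hz] at h
      let Ka : (Fin n → ℂ) →+ (Fin n → ℂ) := AddMonoidHom.mk' K hKadd
      have e : K (∑ j, f j • c j) = ∑ j, K (f j • c j) := map_sum Ka _ _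
      rw [e] at h
      simpa only [hKsmul, hcc] using h
    have key : ∀ a : Fin m → ℝ, ∑ j, ((a j : ℂ)) • c j = 0 → a = 0 := by
      intro a ha
      funext j
      refine Fintype.linearIndependent_iff.1 bW.linearIndependent a (Subtype.ext ?_) j
      rw [AddSubmonoidClass.coe_finsetSum]
      simpa [c, Complex.coe_smul] using ha
    have hre : (fun j => (f j).re) = 0 := key _ (by
      have e : ∀ j, ((f j).re : ℂ) • c j = (2⁻¹ : ℂ) • (f j • c j + conj (f j) • c j) := fun j => by
        rw [← add_smul, smul_smul, Complex.add_conj]; congr 1; push_cast; ring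
      rw [Finset.sum_congr rfl fun j _ => e j, ← Finset.smul_sum, Finset.sum_add_distrib, hf, hK0, add_zero, smul_zero])
    have him : (fun j => (f j).im) = 0 := key _ (by
      have e : ∀ j, ((f j).im : ℂ) • c j = ((2 * Complex.I)⁻¹ : ℂ) • (f j • c j - conj (f j) • c j) := fun j => by
        rw [← sub_smul, smul_smul, Complex.sub_conj]; congr 1
        field_simp
        push_cast; ring
      rw [Finset.sum_congr rfl fun j _ => e j, ← Finset.smul_sum, Finset.sum_sub_distrib, hf, hK0, sub_zero, smul_zero])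
    exact Complex.ext (congrFun hre i) (congrFun him i)
  have hsp : ⊤ ≤ Submodule.span ℂ (Set.range c) := by
    intro v _
    have hmem : ∀ w : Fin n → ℂ, K w = w → w ∈ Submodule.span ℂ (Set.range c) := by
      intro w hw
      have h := congrArg Subtype.val (bW.sum_repr ⟨w, hw⟩)
      rw [AddSubmonoidClass.coe_finsetSum] at h
      have h' : ∑ j, ((bW.repr ⟨w, hw⟩ j : ℝ) : ℂ) • c j = w := by
        simpa [c, Complex.coe_smul] using h
      rw [← h']
      exact Submodule.sum_mem _ fun j _ => Submodule.smul_mem _ _ (Submodule.subset_span ⟨j, rfl⟩)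
    have h1 : K (v + K v) = v + K v := by rw [hKadd, hKK, add_comm]
    have h2 : K (Complex.I • (v - K v)) = Complex.I • (v - K v) := by
      rw [hKsmul, Complex.conj_I]
      have : K (v - K v) = K v - v := by
        rw [sub_eq_add_neg, ← neg_one_smul ℂ (K v), hKadd, hKsmul, hKK]; simp [sub_eq_add_neg]
      rw [this, ← neg_sub v (K v), smul_neg, neg_smul, neg_neg]
    have e : v = (2⁻¹ : ℂ) • ((v + K v) + (-Complex.I) • (Complex.I • (v - K v))) := by
      rw [smul_smul, neg_mul, Complex.I_mul_I, neg_neg, one_smul]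
      module
    rw [e]
    exact Submodule.smul_mem _ _ (Submodule.add_mem _ (hmem _ h1) (Submodule.smul_mem _ _ (hmem _ h2)))
  set bc := Module.Basis.mk hli hsp
  have htrace : ∀ g, ((LinearMap.trace ℝ W (σW g) : ℝ) : ℂ) = ρ.character g := by
    intro g
    show _ = LinearMap.trace ℂ _ (ρ g)
    rw [LinearMap.trace_eq_matrix_trace ℝ bW, LinearMap.trace_eq_matrix_trace ℂ bc, Matrix.trace, Matrix.trace,
      Complex.ofReal_sum]
    refine Finset.sum_congr rfl fun i _ => ?_
    rw [Matrix.diag_apply, Matrix.diag_apply, LinearMap.toMatrix_apply, LinearMap.toMatrix_apply]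
    have h := congrArg Subtype.val (bW.sum_repr (σW g (bW i)))
    rw [AddSubmonoidClass.coe_finsetSum] at h
    have h' : ρ g (bc i) = ∑ j, ((bW.repr (σW g (bW i)) j : ℝ) : ℂ) • bc j := by
      simp only [bc, Module.Basis.mk_apply]
      show ρ g (c i) = _
      rw [← hσv]
      refine Eq.trans h.symm ?_
      simp [c, Complex.coe_smul]
    rw [h', map_sum, Finsupp.finsetSum_apply]
    simp [-Complex.coe_smul, map_smul, Finsupp.single_apply]
  refine ⟨m, { toFun := fun g => bW.equivFun.conj (σW g)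
               map_one' := LinearMap.ext fun v => by
                 show bW.equivFun (σW 1 (bW.equivFun.symm v)) = v
                 rw [map_one]; exact LinearEquiv.apply_symm_apply _ v
               map_mul' := fun g k => LinearMap.ext fun v => by simp [LinearEquiv.conj_apply] }, fun g => ?_⟩
  show ((LinearMap.trace ℝ _ (bW.equivFun.conj (σW g)) : ℝ) : ℂ) = _
  rw [LinearMap.trace_conj']
  exact htrace g

end CfsgLib.CharTheory
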