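import Mathlib
import Cfsg.Agent.Lib.CharTheory.Brauer

/-!
# Realizability over the field of roots of unity of the exponent
-/

set_option autoImplicit false

namespace CfsgLib.CharTheory.Realizable

open Cfsg CfsgLib.CharTheory
open scoped ComplexConjugate

set_option linter.unusedVariables false
set_option linter.unusedSectionVars false
set_option linter.style.haveILetI false

universe u

variable {G : Type u} [Group G] [Fintype G] {K : Type} [Field K] (ι : K →+* ℂ)

/-- The complex function attached to a character over `K`. -/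
noncomputable def chC {V : Type*} [AddCommGroup V] [Module K V] (ρ : Representation K G V) : G → ℂ :=
  fun g => ι (ρ.character g)

/-- `f` is the character of a representation over `K`. -/
def Real' (f : G → ℂ) : Prop :=
  ∃ (n : ℕ) (ρ : Representation K G (Fin n → K)), chC ι ρ = f

/-- A basis turns a representation into a matrix one. -/
theorem real_of_rep {V : Type*} [AddCommGroup V] [Module K V] [FiniteDimensional K V]
    (ρ : Representation K G V) : Real' ι (chC ι ρ) := by
  let e : V ≃ₗ[K] (Fin (Module.finrank K V) → K) := (Module.finBasis K V).equivFun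
  refine ⟨_, MonoidHom.mk ⟨fun g => e.conj (ρ g), by simp [Module.End.one_eq_id]⟩ fun a b => ?_, ?_⟩
  · simp only [map_mul]
    refine LinearMap.ext fun x => ?_
    simp [LinearEquiv.conj_apply]
  · funext g
    simp only [chC, Representation.character]
    exact congrArg ι (LinearMap.trace_conj' (ρ g) e)

theorem real_add {f f' : G → ℂ} (h : Real' ι f) (h' : Real' ι f') : Real' ι (f + f') := by
  obtain ⟨n, ρ, rfl⟩ := h
  obtain ⟨m, σ, rfl⟩ := h'
  have e : chC ι (ρ.prod σ) = chC ι ρ + chC ι σ := funext fun g => by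
    simp only [chC, Pi.add_apply, Representation.character, ← map_add]
    exact congrArg ι (LinearMap.trace_prodMap' (ρ g) (σ g))
  exact e ▸ real_of_rep ι (ρ.prod σ)

theorem real_zero : Real' ι (0 : G → ℂ) :=
  ⟨0, 1, funext fun g => by simp [chC, Representation.character, Subsingleton.elim ((1 : Representation K G (Fin 0 → K)) g) 0]⟩

/-- Extension of scalars of a matrix representation. -/
noncomputable def extC {n : ℕ} (ρ : Representation K G (Fin n → K)) : Representation ℂ G (Fin n → ℂ) where
  toFun g := Matrix.toLin' ((LinearMap.toMatrix' (ρ g)).map ι)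
  map_one' := by
    rw [map_one, LinearMap.toMatrix'_one, Matrix.map_one ι (map_zero ι) (map_one ι), Matrix.toLin'_one]
    rfl
  map_mul' a b := by
    rw [map_mul, LinearMap.toMatrix'_mul, Matrix.map_mul, Matrix.toLin'_mul]
    rfl

theorem extC_character {n : ℕ} (ρ : Representation K G (Fin n → K)) : (extC ι ρ).character = chC ι ρ := by
  funext g
  show LinearMap.trace ℂ _ (Matrix.toLin' _) = ι (LinearMap.trace K _ (ρ g))
  rw [LinearMap.trace_eq_matrix_trace ℂ (Pi.basisFun ℂ (Fin n)),
    LinearMap.trace_eq_matrix_trace K (Pi.basisFun K (Fin n)),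
    LinearMap.toMatrix_eq_toMatrix', LinearMap.toMatrix_eq_toMatrix', LinearMap.toMatrix'_toLin']
  simp [Matrix.trace, map_sum]

theorem real_isChar {f : G → ℂ} (h : Real' ι f) : IsCharacter G f := by
  obtain ⟨n, ρ, rfl⟩ := h
  exact ⟨n, extC ι ρ, extC_character ι ρ⟩

variable [CharZero K]

theorem inner_eq {n m : ℕ} (ρ : Representation K G (Fin n → K)) (σ : Representation K G (Fin m → K)) :
    classInner (chC ι σ) (chC ι ρ) = (Module.finrank K (Representation.IntertwiningMap ρ σ) : ℂ) := by
  haveI : Invertible (Nat.card G : K) := invertibleOfNonzero (Nat.cast_ne_zero.2 Nat.card_pos.ne')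
  have h := congrArg ι (Representation.card_inv_mul_sum_char_mul_char_eq_finrank ρ σ)
  rw [map_natCast, map_mul, map_inv₀, map_natCast, map_sum] at h
  rw [← h, classInner]
  congr 1
  refine Finset.sum_congr rfl fun g _ => ?_
  rw [← char_apply_inv (real_isChar ι ⟨n, ρ, rfl⟩) g, map_mul]
  rfl

theorem exists_isCompl {V : Type*} [AddCommGroup V] [Module K V]
    (ρ : Representation K G V) (p : Subrepresentation ρ) :
    ∃ q : Subrepresentation ρ, IsCompl p.toSubmodule q.toSubmodule := by
  have : NeZero (Nat.card G : K) := ⟨Nat.cast_ne_zero.mpr Nat.card_pos.ne'⟩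
  obtain ⟨q, hq⟩ := ComplementedLattice.exists_isCompl p
  refine ⟨q, ?_, ?_⟩
  · rw [disjoint_iff]; exact congrArg Subrepresentation.toSubmodule (disjoint_iff.mp hq.1)
  · rw [codisjoint_iff]; exact congrArg Subrepresentation.toSubmodule (codisjoint_iff.mp hq.2)

/-- A reducible representation splits. -/
theorem split {n : ℕ} (ρ : Representation K G (Fin n → K)) (hn : n ≠ 0) (hi : ¬ ρ.IsIrreducible) :
    ∃ (a b : ℕ) (σ : Representation K G (Fin a → K)) (τ : Representation K G (Fin b → K)),
      a < n ∧ b < n ∧ chC ι ρ = chC ι σ + chC ι τ := by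
  have : ∃ p : Subrepresentation ρ, p ≠ ⊥ ∧ p ≠ ⊤ := by
    by_contra hc
    push Not at hc
    refine hi (@IsSimpleOrder.mk _ _ _ ⟨⊥, ⊤, fun e => ?_⟩
      fun p => or_iff_not_imp_left.mpr (hc p))
    haveI : NeZero n := ⟨hn⟩
    exact bot_ne_top (α := Submodule K (Fin n → K)) (congrArg Subrepresentation.toSubmodule e)
  obtain ⟨p, hp0, hp1⟩ := this
  obtain ⟨q, hq⟩ := exists_isCompl ρ p
  have hpb : p.toSubmodule ≠ ⊥ := fun e => hp0 (Subrepresentation.toSubmodule_injective e)
  have hpt : p.toSubmodule ≠ ⊤ := fun e => hp1 (Subrepresentation.toSubmodule_injective e)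
  have hsum := Submodule.finrank_add_eq_of_isCompl hq
  rw [Module.finrank_fintype_fun_eq_card, Fintype.card_fin] at hsum
  have h1 : 0 < Module.finrank K p.toSubmodule :=
    Nat.pos_of_ne_zero (Submodule.finrank_eq_zero.not.mpr hpb)
  have h2 := Submodule.finrank_lt hpt
  rw [Module.finrank_fintype_fun_eq_card, Fintype.card_fin] at h2
  obtain ⟨a, σ, hσ⟩ := real_of_rep ι p.toRepresentation
  obtain ⟨b, τ, hτ⟩ := real_of_rep ι q.toRepresentation
  have ha : a = Module.finrank K p.toSubmodule := by
    have := congrFun hσ 1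
    simp only [chC, Representation.char_one, map_natCast, Module.finrank_fintype_fun_eq_card,
      Fintype.card_fin, Nat.cast_inj] at this
    exact this
  have hb : b = Module.finrank K q.toSubmodule := by
    have := congrFun hτ 1
    simp only [chC, Representation.char_one, map_natCast, Module.finrank_fintype_fun_eq_card,
      Fintype.card_fin, Nat.cast_inj] at this
    exact this
  refine ⟨a, b, σ, τ, by omega, by omega, ?_⟩
  rw [hσ, hτ]
  funext g
  have key : (p.toSubmodule.prodEquivOfIsCompl q.toSubmodule hq).conj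
      ((p.toRepresentation g).prodMap (q.toRepresentation g)) = ρ g := by
    refine LinearMap.ext fun x => ?_
    obtain ⟨⟨a, b⟩, rfl⟩ := (p.toSubmodule.prodEquivOfIsCompl q.toSubmodule hq).surjective x
    simp [LinearEquiv.conj_apply, Subrepresentation.toRepresentation, LinearMap.restrict_apply]
  simp only [chC, Pi.add_apply, Representation.character]
  rw [← key, LinearMap.trace_conj', LinearMap.trace_prodMap', map_add]

/-- Inner products with an irreducible `K`-representation are multiples of its norm. -/
theorem inner_multiple {t : ℕ} (T : Representation K G (Fin t → K)) [T.IsIrreducible] :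
    ∀ (n : ℕ) (σ : Representation K G (Fin n → K)), ∃ k : ℕ, classInner (chC ι σ) (chC ι T) =
      (k : ℂ) * (Module.finrank K (Representation.IntertwiningMap T T) : ℂ) := by
  intro n
  induction n using Nat.strong_induction_on with
  | _ n ih =>
  intro σ
  by_cases hi : σ.IsIrreducible
  · haveI := hi
    by_cases hne : Nonempty (Representation.Equiv T σ)
    · obtain ⟨φ⟩ := hne
      refine ⟨1, ?_⟩
      have : chC ι σ = chC ι T := funext fun g => congrArg ι (congrFun (Representation.char_iso φ).symm g)
      rw [this, inner_eq, Nat.cast_one, one_mul]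
    · haveI : IsEmpty (Representation.Equiv T σ) := not_nonempty_iff.1 hne
      refine ⟨0, ?_⟩
      rw [inner_eq, Module.finrank_zero_of_subsingleton]
      simp
  · rcases eq_or_ne n 0 with rfl | hn
    · refine ⟨0, ?_⟩
      have : chC ι σ = 0 := funext fun g => by
        simp [chC, Representation.character, Subsingleton.elim (σ g) 0]
      rw [this]
      simp [classInner]
    · obtain ⟨a, b, α, β, ha, hb, e⟩ := split ι σ hn hi
      obtain ⟨k, hk⟩ := ih a ha α
      obtain ⟨l, hl⟩ := ih b hb β
      exact ⟨k + l, by rw [e, classInner_add_left, hk, hl]; push_cast; ring⟩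

/-- Monomial characters with values in `K` are realizable. -/
theorem real_monomial (H : Subgroup G) (lam : H →* ℂˣ) (hlam : ∀ h : H, ∃ k : K, ι k = ((lam h : ℂˣ) : ℂ)) :
    Real' ι (indFun H (fun h => ((lam h : ℂˣ) : ℂ))) := by
  classical
  haveI : Fintype H := Fintype.ofFinite H
  choose l hl using hlam
  have hl1 : l 1 = 1 := ι.injective (by rw [hl, map_one, map_one, Units.val_one])
  have hlm : ∀ a b, l (a * b) = l a * l b := fun a b => ι.injective (by
    rw [hl, map_mul, Units.val_mul, map_mul, hl, hl])
  let c : K := (Nat.card H : K)⁻¹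
  let P : (G → K) →ₗ[K] (G → K) :=
    { toFun := fun f x => c * ∑ h : H, l h * f (x * (h : G))
      map_add' := fun f f' => funext fun x => by
        simp [mul_add, Finset.sum_add_distrib]
      map_smul' := fun r f => funext fun x => by
        simp [Finset.mul_sum, mul_left_comm, mul_assoc] }
  let L : Representation K G (G → K) :=
    { toFun := fun g =>
        { toFun := fun f x => f (g⁻¹ * x)
          map_add' := fun _ _ => rfl
          map_smul' := fun _ _ => rfl }
      map_one' := LinearMap.ext fun f => funext fun x => by simp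
      map_mul' := fun a b => LinearMap.ext fun f => funext fun x => by simp [mul_assoc] }
  have hPP : ∀ f, P (P f) = P f := fun f => funext fun x => by
    show c * ∑ h : H, l h * (c * ∑ k : H, l k * f (x * (h : G) * (k : G))) = c * ∑ h : H, l h * f (x * (h : G))
    have e : ∀ h : H, l h * (c * ∑ k : H, l k * f (x * (h : G) * (k : G))) =
        c * ∑ k : H, l k * f (x * (k : G)) := fun h => by
      rw [mul_left_comm, Finset.mul_sum (a := l h)]
      congr 1
      exact Fintype.sum_equiv (Equiv.mulLeft h) _ _ fun k => by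
        simp [hlm, mul_assoc]
    rw [Finset.sum_congr rfl fun h _ => e h, Finset.sum_const, Finset.card_univ, nsmul_eq_mul,
      ← Nat.card_eq_fintype_card, ← mul_assoc (Nat.card H : K), mul_inv_cancel₀ (Nat.cast_ne_zero.2 Nat.card_pos.ne'), one_mul]
  have hcomm : ∀ g f, L g (P f) = P (L g f) := fun g f => funext fun x => by
    show c * ∑ h : H, l h * f (g⁻¹ * x * (h : G)) = c * ∑ h : H, l h * f (g⁻¹ * (x * (h : G)))
    simp [mul_assoc]
  let S : Subrepresentation L := ⟨LinearMap.range P, fun g v hv => by
    obtain ⟨f, rfl⟩ := hv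
    exact ⟨L g f, (hcomm g f).symm⟩⟩
  suffices h : chC ι S.toRepresentation = indFun H (fun h => ((lam h : ℂˣ) : ℂ)) from h ▸ real_of_rep ι S.toRepresentation
  funext g
  have hmem : ∀ f, (L g * P) f ∈ LinearMap.range P := fun f => S.apply_mem_toSubmodule g ⟨f, rfl⟩
  have hres : S.toRepresentation g = (L g * P).restrict (fun f _ => hmem f) := by
    ext v : 1
    apply Subtype.ext
    obtain ⟨f, hf⟩ := v.2
    show L g v.1 = L g (P v.1)
    rw [← hf, hPP]
  simp only [chC, Representation.character]
  rw [hres, LinearMap.trace_restrict_eq_of_forall_mem _ _ hmem,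
    LinearMap.trace_eq_matrix_trace K (Pi.basisFun K G)]
  simp only [Matrix.trace, Matrix.diag, LinearMap.toMatrix_apply, Pi.basisFun_repr,
    Pi.basisFun_apply, Module.End.mul_apply]
  rw [map_sum]
  simp only [indFun]
  rw [Finset.mul_sum]
  refine Finset.sum_congr rfl fun x _ => ?_
  show ι (c * ∑ h : H, l h * (Pi.single x (1 : K) : G → K) (g⁻¹ * x * (h : G))) = _
  rw [map_mul, map_inv₀, map_natCast]
  congr 1
  by_cases hx : x⁻¹ * g * x ∈ H
  · rw [extendByZero_of_mem H _ hx, Finset.sum_eq_single ⟨x⁻¹ * g * x, hx⟩]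
    · simp [hl, mul_assoc]
    · intro h _ hne
      rw [Pi.single_apply, if_neg, mul_zero]
      intro e
      refine hne (Subtype.ext ?_)
      show (h : G) = x⁻¹ * g * x
      calc (h : G) = x⁻¹ * g * (g⁻¹ * x * h) := by group
        _ = x⁻¹ * g * x := by rw [e]
    · simp
  · rw [extendByZero_of_not_mem H _ hx, Finset.sum_eq_zero, map_zero]
    intro h _
    rw [Pi.single_apply, if_neg, mul_zero]
    intro e
    refine hx ?_
    have : x⁻¹ * g * x = (h : G) := by
      calc x⁻¹ * g * x = x⁻¹ * g * (g⁻¹ * x * h) := by rw [e]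
        _ = (h : G) := by group
    rw [this]; exact h.2

/-- Every character is realizable if all linear characters of subgroups have values in `K`. -/
theorem real_of_char (hroots : ∀ (H : Subgroup G) (lam : H →* ℂˣ) (h : H), ∃ k : K, ι k = ((lam h : ℂˣ) : ℂ))
    {χ : G → ℂ} (hχ : IsCharacter G χ) : Real' ι χ := by
  classical
  have hvirt : ∀ f ∈ linSpan G, ∃ a b, Real' ι a ∧ Real' ι b ∧ f = a - b := by
    intro f hf
    induction hf using AddSubgroup.closure_induction with
    | mem f hf =>
      obtain ⟨E, lam, p, -, -, rfl⟩ := hf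
      exact ⟨_, 0, real_monomial ι E lam (hroots E lam), real_zero ι, by simp⟩
    | zero => exact ⟨0, 0, real_zero ι, real_zero ι, by simp⟩
    | add f f' _ _ h h' =>
      obtain ⟨a, b, ha, hb, rfl⟩ := h
      obtain ⟨a', b', ha', hb', rfl⟩ := h'
      exact ⟨a + a', b + b', real_add ι ha ha', real_add ι hb hb', by abel⟩
    | neg f _ h =>
      obtain ⟨a, b, ha, hb, rfl⟩ := h
      exact ⟨b, a, hb, ha, by abel⟩
  have hirr : ∀ ψ, IsIrrCharacter G ψ → Real' ι ψ := by
    intro ψ hψ
    obtain ⟨a, b, ha, hb, hab⟩ := hvirt ψ (char_mem_linSpan (isCharacter_of_irr hψ))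
    have hex : ∃ n, ∃ ρ : Representation K G (Fin n → K), classInner (chC ι ρ) ψ ≠ 0 := by
      by_contra hno
      push Not at hno
      obtain ⟨n, ρ, rfl⟩ := ha
      obtain ⟨m, σ, rfl⟩ := hb
      have h1 : classInner (chC ι ρ - chC ι σ) ψ = 1 := by rw [← hab]; exact classInner_irr_self hψ
      rw [classInner_sub_left, hno, hno, sub_zero] at h1
      exact zero_ne_one h1
    obtain ⟨T, hT⟩ := Nat.find_spec hex
    have hn : Nat.find hex ≠ 0 := by
      intro e
      apply hT
      haveI : Subsingleton (Fin (Nat.find hex) → K) := by rw [e]; infer_instance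
      have : chC ι T = 0 := funext fun g => by
        simp [chC, Representation.character, Subsingleton.elim (T g) 0]
      rw [this]
      simp [classInner]
    haveI : T.IsIrreducible := by
      by_contra hi
      obtain ⟨a, b, σ, τ, ha, hb, e⟩ := split ι T hn hi
      apply hT
      rw [e, classInner_add_left]
      have h1 := Nat.find_min hex ha
      have h2 := Nat.find_min hex hb
      push Not at h1 h2
      rw [h1 σ, h2 τ, add_zero]
    have hTc := real_isChar ι ⟨_, T, rfl⟩
    obtain ⟨d, hd⟩ : ∃ d : ℕ, classInner (chC ι T) (chC ι T) = d := ⟨_, inner_eq ι T T⟩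
    obtain ⟨m, hm⟩ := classInner_char_nat hTc (isCharacter_of_irr hψ)
    have hm0 : m ≠ 0 := fun e => hT (by rw [hm, e, Nat.cast_zero])
    obtain ⟨j, hj⟩ : ∃ j : ℤ, (m : ℤ) = j * d := by
      obtain ⟨n, ρ, rfl⟩ := ha
      obtain ⟨n', σ, rfl⟩ := hb
      obtain ⟨k, hk⟩ := inner_multiple ι T n ρ
      obtain ⟨l, hl⟩ := inner_multiple ι T n' σ
      rw [← inner_eq ι T T, hd] at hk hl
      refine ⟨(k : ℤ) - l, ?_⟩
      have h2 : classInner ψ (chC ι T) = (m : ℂ) := by
        rw [← classInner_comm, hm, Complex.conj_natCast]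
      replace h2 := (congrArg (fun f => classInner f (chC ι T)) hab).symm.trans h2
      rw [classInner_sub_left, hk, hl] at h2
      have h3 : ((m : ℤ) : ℂ) = ((((k : ℤ) - l) * d : ℤ) : ℂ) := by
        push_cast
        rw [← h2]; ring
      exact_mod_cast h3
    obtain ⟨c, hc, hcψ, hsq⟩ := classInner_self_eq_sum_sq (isGenChar_of_char hTc)
    rw [hd] at hsq
    have hsq' : (d : ℤ) = ∑ φ : IrrCharacter G, c φ ^ 2 := by
      have e : ((d : ℤ) : ℂ) = ((∑ φ : IrrCharacter G, c φ ^ 2 : ℤ) : ℂ) := by rw [Int.cast_natCast]; exact hsq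
      exact_mod_cast e
    have hcm : c ⟨ψ, hψ⟩ = m := by
      have e : ((c ⟨ψ, hψ⟩ : ℤ) : ℂ) = ((m : ℤ) : ℂ) := by rw [← hcψ, Int.cast_natCast]; exact hm
      exact_mod_cast e
    have hle : (m : ℤ) ^ 2 ≤ d := by
      rw [hsq', ← hcm]
      exact Finset.single_le_sum (f := fun φ => c φ ^ 2) (fun φ _ => sq_nonneg _) (Finset.mem_univ _)
    have hdpos : (0 : ℤ) < d := lt_of_lt_of_le (by positivity) hle
    have hdm : (d : ℤ) ≤ m := Int.le_of_dvd (by omega) ⟨j, by rw [hj, mul_comm]⟩
    have hm1 : (m : ℤ) = 1 := by nlinarith [(show (1 : ℤ) ≤ m by omega)]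
    have hd1 : (d : ℤ) = 1 := le_antisymm (hm1 ▸ hdm) hdpos
    refine ⟨_, T, ?_⟩
    rw [hc, Finset.sum_eq_single (⟨ψ, hψ⟩ : IrrCharacter G)]
    · rw [hcm, hm1]; simp
    · intro φ _ hne
      have h0 : c φ = 0 := by
        by_contra hne0
        have : c ⟨ψ, hψ⟩ ^ 2 + c φ ^ 2 ≤ ∑ φ : IrrCharacter G, c φ ^ 2 := by
          rw [← Finset.sum_pair (f := fun φ => c φ ^ 2) hne.symm]
          exact Finset.sum_le_sum_of_subset_of_nonneg (Finset.subset_univ _) fun x _ _ => sq_nonneg _
        rw [← hsq', hd1, hcm, hm1] at this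
        have := mul_self_pos.2 hne0
        nlinarith
      rw [h0]; simp
    · simp
  obtain ⟨l, hl, rfl⟩ := exists_list_irr hχ
  clear hχ
  induction l with
  | nil => simpa using real_zero ι
  | cons a l ih =>
    rw [List.sum_cons]
    exact real_add ι (hirr a (hl a List.mem_cons_self)) (ih fun x hx => hl x (List.mem_cons_of_mem a hx))

end CfsgLib.CharTheory.Realizable
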