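import Cfsg.Agent.Lib.CharTheory.DetOrbit
import Cfsg.Agent.Lib.CharTheory.DegreeComplement
import Cfsg.Prelude.Def_DegreeGraph
import Mathlib.Data.Nat.ChineseRemainder

/-!
The common-divisor graph on the relative degree set `cd(G | N)` for `N ≤ G'`: two degrees that each miss
some prime divisor of `[N : N']` are in the same component (Isaacs).
-/

set_option autoImplicit false

namespace CfsgLib.CharTheory

open Cfsg
open scoped commutatorElement

universe u

variable {G : Type u} [Group G] [Fintype G] (N : Subgroup G) [hN : N.Normal] [Fintype N]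

attribute [-instance] MonoidHom.instPow MonoidHom.mul

local notation "Dual" => N →* ℂˣ

omit [Fintype G] [Fintype N] hN in
theorem d_one_pow (c : ℕ) : (1 : Dual) ^ c = 1 := by
  induction c with
  | zero => exact pow_zero _
  | succ c ih => rw [pow_succ, ih]; exact mul_one (1 : Dual)

omit [Fintype G] [Fintype N] hN in
theorem d_mul_one (μ : Dual) : μ * 1 = μ := mul_one μ

omit [Fintype G] [Fintype N] hN in
theorem d_one_mul (μ : Dual) : 1 * μ = μ := one_mul μ

omit [Fintype G] hN in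
theorem d_order_pos (μ : Dual) : IsOfFinOrder μ := by
  rw [isOfFinOrder_iff_pow_eq_one]
  exact ⟨Fintype.card N, Fintype.card_pos, MonoidHom.ext fun n => by
    show μ n ^ _ = 1
    rw [← map_pow, pow_card_eq_one, map_one]⟩

omit [Fintype G] hN in
theorem d_pow_congr {μ : Dual} {a b : ℕ} (h : a ≡ b [MOD orderOf μ]) : μ ^ a = μ ^ b :=
  (d_order_pos N μ).pow_eq_pow_iff_modEq.mpr h

omit [Fintype G] [Fintype N] hN in
theorem d_order_ne_one {μ : Dual} (h : μ ≠ 1) : orderOf μ ≠ 1 := fun e => h (orderOf_eq_one_iff.mp e)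

/-- A linear character as a function. -/
def linFun (μ : Dual) : N → ℂ := fun n => (μ n : ℂ)

omit [Fintype G] [Fintype N] hN in
theorem linFun_inj : Function.Injective (linFun N) := fun μ ν h =>
  MonoidHom.ext fun n => Units.ext (congrFun h n)

omit [Fintype G] [Fintype N] hN in
theorem linFun_pow (μ : Dual) (k : ℕ) : linFun N (μ ^ k) = linFun N μ ^ k := by
  funext n
  simp [linFun]

omit [Fintype G] [Fintype N] hN in
theorem linFun_mul (μ ν : Dual) : linFun N (μ * ν) = linFun N μ * linFun N ν := by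
  funext n
  simp [linFun]

omit [Fintype G] [Fintype N] in
theorem conj_mul (g : G) (a b : N → ℂ) :
    conjNormFun N g (a * b) = conjNormFun N g a * conjNormFun N g b := rfl

omit [Fintype G] [Fintype N] in
theorem conj_pow (g : G) (a : N → ℂ) (k : ℕ) : conjNormFun N g (a ^ k) = conjNormFun N g a ^ k := rfl

/-- The conjugate of a linear character. -/
def conjDual (g : G) (μ : Dual) : Dual := μ.comp (MulAut.conjNormal g : N ≃* N).toMonoidHom

omit [Fintype G] [Fintype N] in
theorem conj_linFun (g : G) (μ : Dual) : conjNormFun N g (linFun N μ) = linFun N (conjDual N g μ) := by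
  rw [conjNormFun_eq]; rfl

omit [Fintype G] [Fintype N] in
theorem inertia_le_pow (μ : Dual) (k : ℕ) :
    inertia N (linFun N μ) ≤ inertia N (linFun N (μ ^ k)) := fun g hg => by
  rw [mem_inertia] at hg ⊢
  rw [linFun_pow, conj_pow, hg]

omit [Fintype G] [Fintype N] in
theorem inertia_linFun_one : inertia N (linFun N 1) = ⊤ :=
  eq_top_iff.mpr fun g _ => (mem_inertia N).mpr rfl

omit [Fintype G] in
theorem isIrr_linFun (μ : Dual) : IsIrrCharacter N (linFun N μ) := isIrrCharacter_linear μ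

omit [Fintype G] [Fintype N] hN in
theorem charDegree_linFun (μ : Dual) : charDegree (linFun N μ) = 1 := by simp [charDegree, linFun]

/-- The orbit-index of a linear character. -/
noncomputable def orbIdx (μ : Dual) : ℕ := (inertia N (linFun N μ)).index

/-- Degrees of characters above a non-trivial constituent are relative degrees. -/
theorem mem_relCharDegrees {χ : G → ℂ} (hχ : IsIrrCharacter G χ) {θ : N → ℂ}
    (hθ : IsIrrCharacter N θ) (h1 : θ ≠ fun _ => 1) (hc : classInner (fun n : N => χ n) θ ≠ 0) :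
    charDegree χ ∈ relCharDegrees N := by
  refine ⟨⟨χ, hχ⟩, ?_, rfl⟩
  by_contra hk
  push Not at hk
  refine hc ?_
  rw [show (fun n : N => χ n) = χ 1 • fun _ => (1 : ℂ) from funext fun n => by
      simp only [Pi.smul_apply, smul_eq_mul, mul_one]; exact hk n n.2,
    classInner_smul_left, classInner_irr_ne isIrrCharacter_one hθ (Ne.symm h1), mul_zero]

theorem exists_constituent_of_relDegree {d : ℕ} (hd : d ∈ relCharDegrees N) :
    ∃ χ : G → ℂ, IsIrrCharacter G χ ∧ charDegree χ = d ∧ ∃ θ : N → ℂ, IsIrrCharacter N θ ∧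
      θ ≠ (fun _ => 1) ∧ classInner (fun n : N => χ n) θ ≠ 0 := by
  obtain ⟨⟨χ, hχ⟩, ⟨x, hx, hne⟩, rfl⟩ := hd
  obtain ⟨θ, hθ, hc⟩ := exists_constituent (isCharacter_restrict (isCharacter_of_irr hχ) N)
    fun e => irr_ne_zero hχ (congrFun e 1)
  refine ⟨χ, hχ, rfl, θ, hθ, ?_, hc⟩
  rintro rfl
  refine hne ?_
  have h := clifford_invariant N hχ isIrrCharacter_one hc fun g => rfl
  exact (congrFun h ⟨x, hx⟩).trans (congrFun h 1).symm

theorem exists_over {θ : N → ℂ} (hθ : IsIrrCharacter N θ) (h1 : θ ≠ fun _ => 1) :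
    ∃ χ : G → ℂ, IsIrrCharacter G χ ∧ classInner (fun n : N => χ n) θ ≠ 0 ∧
      charDegree χ ∈ relCharDegrees N := by
  obtain ⟨χ, hχ, hne⟩ := exists_irr_above hθ
  exact ⟨χ, hχ, hne, mem_relCharDegrees N hχ hθ h1 hne⟩

theorem index_mul_degree_dvd {χ : G → ℂ} (hχ : IsIrrCharacter G χ) {θ : N → ℂ}
    (hθ : IsIrrCharacter N θ) (hc : classInner (fun n : N => χ n) θ ≠ 0) :
    (inertia N θ).index * charDegree θ ∣ charDegree χ := by
  obtain ⟨m, hm⟩ := classInner_char_nat (isCharacter_restrict (isCharacter_of_irr hχ) N)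
    (isCharacter_of_irr hθ)
  have h := clifford_degree N hχ hθ hc
  rw [hm, (charDegree_spec' hχ).1, (charDegree_spec' hθ).1, ← Nat.cast_mul, ← Nat.cast_mul,
    Nat.cast_inj] at h
  exact h ▸ ⟨m, by ring⟩

/-- For a fixed twist of trivial `M`-th determinant power, the order divides the degree. -/
theorem dvd_degree_of_fixed (hNG : N ≤ commutator G) {χ : G → ℂ} (hχ : IsIrrCharacter G χ)
    {θ : N → ℂ} (hθ : IsIrrCharacter N θ) (hc : classInner (fun n : N => χ n) θ ≠ 0)
    {μ : Dual} (hfix : orbIdx N μ = 1) {M : ℕ}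
    (hdet : detChar θ ^ M = linFun N μ ^ (charDegree θ * M)) :
    orderOf μ ∣ charDegree χ * M := by
  have hinv : ∀ g : G, conjNormFun N g (detChar θ ^ M) = detChar θ ^ M := fun g => by
    rw [hdet, conj_pow, (mem_inertia N).mp ((Subgroup.index_eq_one.mp hfix).symm ▸ Subgroup.mem_top g)]
  obtain ⟨e, he, h⟩ := detChar_pow_eq_one N hNG hχ hθ hc M hinv
  rw [pow_mul, hdet, ← pow_mul, ← linFun_pow] at h
  refine orderOf_dvd_of_pow_eq_one (linFun_inj N ?_)
  rw [show charDegree χ * M = charDegree θ * M * e by rw [he]; ring, h]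
  funext n
  simp [linFun]

omit hN in
/-- Splitting the exponents into the `r`-part and the `r'`-part. -/
theorem exists_split {r : ℕ} (hr : r.Prime) :
    ∃ k M u v : ℕ, Nat.card G = r ^ k * M ∧ r.Coprime M ∧ M ∣ u ∧ r ^ k ∣ v ∧
      (∀ μ : Dual, μ ^ u * μ ^ v = μ) ∧ (∀ μ : Dual, (μ ^ u) ^ r ^ k = 1) ∧
      (∀ μ : Dual, (μ ^ v) ^ M = 1) ∧ (∀ μ : Dual, μ ^ r ^ k = 1 → μ ^ u = μ) ∧
      ∀ μ : Dual, μ ^ M = 1 → μ ^ u = 1 := by
  have hpos : Nat.card G ≠ 0 := Nat.card_pos.ne'
  set k := (Nat.card G).factorization r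
  set M := Nat.card G / r ^ k
  have hn : Nat.card G = r ^ k * M := (Nat.ordProj_mul_ordCompl_eq_self _ r).symm
  have hcop : r.Coprime M := Nat.coprime_ordCompl hr hpos
  have hc : (r ^ k).Coprime M := Nat.Coprime.pow_left _ hcop
  obtain ⟨u, hu1, hu0⟩ := Nat.chineseRemainder hc 1 0
  obtain ⟨v, hv0, hv1⟩ := Nat.chineseRemainder hc 0 1
  have hsum : u + v ≡ 1 [MOD r ^ k * M] :=
    (Nat.modEq_and_modEq_iff_modEq_mul hc).mp ⟨by simpa using hu1.add hv0, by simpa using hu0.add hv1⟩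
  have hexp : ∀ μ : Dual, μ ^ (r ^ k * M) = 1 := fun μ => by
    refine MonoidHom.ext fun n => ?_
    rw [MonoidHom.pow_apply, MonoidHom.one_apply, ← map_pow]
    have : n ^ (r ^ k * M) = 1 := Subtype.ext (by rw [Subgroup.coe_pow, ← hn, pow_card_eq_one']; rfl)
    rw [this, map_one]
  have hMu : M ∣ u := Nat.modEq_zero_iff_dvd.mp hu0
  have hrv : r ^ k ∣ v := Nat.modEq_zero_iff_dvd.mp hv0
  refine ⟨k, M, u, v, hn, hcop, hMu, hrv, fun μ => ?_, fun μ => ?_, fun μ => ?_, fun μ h => ?_,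
    fun μ h => ?_⟩
  · rw [← pow_add]
    conv_rhs => rw [← pow_one μ]
    exact d_pow_congr N (hsum.of_dvd (orderOf_dvd_of_pow_eq_one (hexp μ)))
  · obtain ⟨c, rfl⟩ := hMu
    rw [← pow_mul, show M * c * r ^ k = r ^ k * M * c by ring, pow_mul, hexp, d_one_pow]
  · obtain ⟨c, rfl⟩ := hrv
    rw [← pow_mul, show r ^ k * c * M = r ^ k * M * c by ring, pow_mul, hexp, d_one_pow]
  · conv_rhs => rw [← pow_one μ]
    exact d_pow_congr N (hu1.of_dvd (orderOf_dvd_of_pow_eq_one h))
  · obtain ⟨c, rfl⟩ := hMu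
    rw [pow_mul, h, d_one_pow]

/-- The relation of lying in one component of the common-divisor graph. -/
def Linked (d e : ℕ) : Prop :=
  ∃ (hd : d ∈ relCharDegrees N) (he : e ∈ relCharDegrees N),
    (commonDivisorGraph.induce (relCharDegrees N)).Reachable ⟨d, hd⟩ ⟨e, he⟩

variable {N}

omit [Fintype G] [Fintype N] hN in
theorem Linked.symm {d e : ℕ} (h : Linked N d e) : Linked N e d := by
  obtain ⟨hd, he, h⟩ := h
  exact ⟨he, hd, h.symm⟩

omit [Fintype G] [Fintype N] hN in
theorem Linked.trans {d e f : ℕ} (h : Linked N d e) (h' : Linked N e f) : Linked N d f := by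
  obtain ⟨hd, he, h⟩ := h
  obtain ⟨he', hf, h'⟩ := h'
  exact ⟨hd, hf, h.trans h'⟩

omit [Fintype G] [Fintype N] hN in
theorem linked_of_prime {d e r : ℕ} (hd : d ∈ relCharDegrees N) (he : e ∈ relCharDegrees N)
    (hr : r.Prime) (h1 : r ∣ d) (h2 : r ∣ e) (hd0 : 0 < d) : Linked N d e := by
  refine ⟨hd, he, ?_⟩
  by_cases h : d = e
  · subst h; rfl
  · refine SimpleGraph.Adj.reachable ⟨h, ?_⟩
    exact lt_of_lt_of_le hr.one_lt (Nat.le_of_dvd (Nat.gcd_pos_of_pos_left _ hd0) (Nat.dvd_gcd h1 h2))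

omit [Fintype G] [Fintype N] hN in
theorem linked_of_dvd {d e t : ℕ} (hd : d ∈ relCharDegrees N) (he : e ∈ relCharDegrees N)
    (ht : t ≠ 1) (h1 : t ∣ d) (h2 : t ∣ e) (hd0 : 0 < d) : Linked N d e := by
  obtain ⟨r, hr, hrt⟩ := Nat.exists_prime_and_dvd ht
  exact linked_of_prime hd he hr (hrt.trans h1) (hrt.trans h2) hd0

variable (hNG : N ≤ commutator G)

theorem linFun_ne_one {μ : Dual} (h : μ ≠ 1) : linFun N μ ≠ fun _ => 1 := fun e =>
  h (linFun_inj N (e.trans (by funext n; simp [linFun])))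

omit hN in
theorem detChar_linFun (μ : Dual) : detChar (linFun N μ) = linFun N μ := detChar_linear μ

theorem over_linear_spec {μ : Dual} (hμ : μ ≠ 1) {χ : G → ℂ} (hχ : IsIrrCharacter G χ)
    (hχc : classInner (fun n : N => χ n) (linFun N μ) ≠ 0) :
    charDegree χ ∈ relCharDegrees N ∧ orbIdx N μ ∣ charDegree χ ∧ 0 < charDegree χ := by
  have h1 := index_mul_degree_dvd N hχ (isIrr_linFun N μ) hχc
  rw [charDegree_linFun, mul_one] at h1
  exact ⟨mem_relCharDegrees N hχ (isIrr_linFun N μ) (linFun_ne_one hμ) hχc, h1, (charDegree_spec' hχ).2⟩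

include hNG in
theorem orderOf_dvd_of_fixed {μ : Dual} (hfix : orbIdx N μ = 1) {χ : G → ℂ} (hχ : IsIrrCharacter G χ)
    (hχc : classInner (fun n : N => χ n) (linFun N μ) ≠ 0) : orderOf μ ∣ charDegree χ := by
  have := dvd_degree_of_fixed N hNG hχ (isIrr_linFun N μ) hχc hfix (M := 1)
    (by rw [detChar_linFun, charDegree_linFun, one_mul])
  rwa [mul_one] at this

include hNG in
theorem linked_same {μ : Dual} (hμ : μ ≠ 1) {χ ψ : G → ℂ} (hχ : IsIrrCharacter G χ)
    (hχc : classInner (fun n : N => χ n) (linFun N μ) ≠ 0) (hψ : IsIrrCharacter G ψ)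
    (hψc : classInner (fun n : N => ψ n) (linFun N μ) ≠ 0) :
    Linked N (charDegree χ) (charDegree ψ) := by
  obtain ⟨hd, h1, h0⟩ := over_linear_spec hμ hχ hχc
  obtain ⟨he, h2, -⟩ := over_linear_spec hμ hψ hψc
  by_cases hi : orbIdx N μ = 1
  · exact linked_of_dvd hd he (d_order_ne_one N hμ) (orderOf_dvd_of_fixed hNG hi hχ hχc)
      (orderOf_dvd_of_fixed hNG hi hψ hψc) h0
  · exact linked_of_dvd hd he hi h1 h2 h0

/-- `d` lies in the component of the degrees over the linear character `μ`. -/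
def LinkedTo (d : ℕ) (μ : Dual) : Prop :=
  ∀ χ : G → ℂ, IsIrrCharacter G χ → classInner (fun n : N => χ n) (linFun N μ) ≠ 0 →
    Linked N d (charDegree χ)

include hNG in
theorem linkedTo_of {μ : Dual} (hμ : μ ≠ 1) {d : ℕ} {χ : G → ℂ} (hχ : IsIrrCharacter G χ)
    (hχc : classInner (fun n : N => χ n) (linFun N μ) ≠ 0) (h : Linked N d (charDegree χ)) :
    LinkedTo (N := N) d μ := fun _ hψ hψc => h.trans (linked_same hNG hμ hχ hχc hψ hψc)

theorem linked_of_linkedTo {μ : Dual} (hμ : μ ≠ 1) {d e : ℕ} (hd : LinkedTo (N := N) d μ)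
    (he : LinkedTo (N := N) e μ) : Linked N d e := by
  obtain ⟨χ, hχ, hc, -⟩ := exists_over N (isIrr_linFun N μ) (linFun_ne_one hμ)
  exact (hd χ hχ hc).trans (he χ hχ hc).symm

theorem dvd_orderOf_of_pow {r k : ℕ} (hr : r.Prime) {μ : Dual} (h : μ ^ r ^ k = 1) (h1 : μ ≠ 1) :
    r ∣ orderOf μ := by
  obtain ⟨j, -, hj⟩ := (Nat.dvd_prime_pow hr).mp (orderOf_dvd_of_pow_eq_one h)
  rcases Nat.eq_zero_or_pos j with rfl | hj0
  · exact absurd (orderOf_eq_one_iff.mp (by simpa using hj)) h1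
  · exact hj ▸ dvd_pow_self r hj0.ne'

include hNG in
/-- Characters over `μ` and over its `r`-part have linked degrees. -/
theorem linkedTo_part {r k M u v : ℕ} (hr : r.Prime) (hcop : r.Coprime M)
    (huv : ∀ μ : Dual, μ ^ u * μ ^ v = μ) (hu : ∀ μ : Dual, (μ ^ u) ^ r ^ k = 1)
    (hv : ∀ μ : Dual, (μ ^ v) ^ M = 1) {μ : Dual} (hk : μ ^ u ≠ 1) {d : ℕ} :
    LinkedTo (N := N) d μ ↔ LinkedTo (N := N) d (μ ^ u) := by
  have hμ : μ ≠ 1 := fun e => hk (by rw [e, d_one_pow])
  obtain ⟨χ, hχ, hχc, -⟩ := exists_over N (isIrr_linFun N μ) (linFun_ne_one hμ)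
  obtain ⟨ψ, hψ, hψc, -⟩ := exists_over N (isIrr_linFun N (μ ^ u)) (linFun_ne_one hk)
  obtain ⟨hd, h1, h0⟩ := over_linear_spec hμ hχ hχc
  obtain ⟨he, h2, -⟩ := over_linear_spec hk hψ hψc
  have key : Linked N (charDegree χ) (charDegree ψ) := by
    by_cases hi : orbIdx N (μ ^ u) = 1
    · have h3 := dvd_degree_of_fixed N hNG hχ (isIrr_linFun N μ) hχc hi (M := M) (by
        rw [detChar_linFun, charDegree_linFun, one_mul, ← linFun_pow, ← linFun_pow]
        congr 1
        conv_lhs => rw [← huv μ, mul_pow, hv, d_mul_one])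
      have h5 := dvd_orderOf_of_pow hr (hu μ) hk
      exact linked_of_prime hd he hr (hcop.dvd_of_dvd_mul_right (h5.trans h3))
        (h5.trans (orderOf_dvd_of_fixed hNG hi hψ hψc)) h0
    · exact linked_of_dvd hd he hi ((Subgroup.index_dvd_of_le (inertia_le_pow N μ u)).trans h1) h2 h0
  exact ⟨fun h => linkedTo_of hNG hk hψ hψc ((h χ hχ hχc).trans key),
    fun h => linkedTo_of hNG hμ hχ hχc ((h ψ hψ hψc).trans key.symm)⟩

include hNG in
/-- Linear characters with prime-power orders for different primes give the same component. -/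
theorem linkedTo_mix {r s a b : ℕ} (hr : r.Prime) (hs : s.Prime) (hrs : r ≠ s) {μ ν : Dual}
    (hμ : μ ≠ 1) (hμr : μ ^ r ^ a = 1) (hν : ν ≠ 1) (hνs : ν ^ s ^ b = 1) {d : ℕ}
    (h : LinkedTo (N := N) d μ) : LinkedTo (N := N) d ν := by
  obtain ⟨k, M, u, v, hn, hcop, -, -, huv, hu, hv, hfix, hkill⟩ := exists_split N hr
  obtain ⟨k', M', u', v', hn', hcop', -, -, huv', hu', hv', hfix', hkill'⟩ := exists_split N hs
  have hexp : ∀ ρ : Dual, ρ ^ Nat.card G = 1 := fun ρ => by
    refine MonoidHom.ext fun n => ?_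
    rw [MonoidHom.pow_apply, MonoidHom.one_apply, ← map_pow,
      show n ^ Nat.card G = 1 from Subtype.ext (by rw [Subgroup.coe_pow, pow_card_eq_one']; rfl), map_one]
  have part : ∀ {r s a : ℕ}, r.Prime → s.Prime → r ≠ s → ∀ {k M : ℕ}, Nat.card G = s ^ k * M →
      ∀ {μ : Dual}, μ ^ r ^ a = 1 → μ ^ M = 1 := by
    intro r s a hr hs hne k M hn μ hμ
    obtain ⟨j, -, hj⟩ := (Nat.dvd_prime_pow hr).mp (orderOf_dvd_of_pow_eq_one hμ)
    refine orderOf_dvd_iff_pow_eq_one.mp ?_
    have h1 : orderOf μ ∣ s ^ k * M := hn ▸ orderOf_dvd_of_pow_eq_one (hexp μ)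
    exact Nat.Coprime.dvd_of_dvd_mul_left (hj ▸ Nat.Coprime.pow _ _ ((Nat.coprime_primes hr hs).mpr hne)) h1
  have pfix : ∀ {r a : ℕ}, r.Prime → ∀ {k M : ℕ}, r.Coprime M → Nat.card G = r ^ k * M →
      ∀ {μ : Dual}, μ ^ r ^ a = 1 → μ ^ r ^ k = 1 := by
    intro r a hr k M hcop hn μ hμ
    obtain ⟨j, -, hj⟩ := (Nat.dvd_prime_pow hr).mp (orderOf_dvd_of_pow_eq_one hμ)
    refine orderOf_dvd_iff_pow_eq_one.mp ?_
    have h1 : orderOf μ ∣ r ^ k * M := hn ▸ orderOf_dvd_of_pow_eq_one (hexp μ)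
    exact Nat.Coprime.dvd_of_dvd_mul_right (hj ▸ Nat.Coprime.pow_left _ hcop) h1
  have e1 : (μ * ν) ^ u = μ := by
    rw [mul_pow, hfix μ (pfix hr hcop hn hμr), hkill ν (part hs hr hrs.symm hn hνs), d_mul_one]
  have e2 : (μ * ν) ^ u' = ν := by
    rw [mul_pow, hkill' μ (part hr hs hrs hn' hμr), hfix' ν (pfix hs hcop' hn' hνs), d_one_mul]
  have h1 := (linkedTo_part hNG hr hcop huv hu hv (μ := μ * ν) (d := d) (by rwa [e1])).mpr
    (by rwa [e1])
  have h2 := (linkedTo_part hNG hs hcop' huv' hu' hv' (μ := μ * ν) (d := d) (by rwa [e2])).mp h1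
  rwa [e2] at h2

include hNG in
/-- A degree prime to `r` is in the component of every `r`-power linear character, or of one whose
orbit has size prime to `r`. -/
theorem linkedTo_of_not_dvd {r : ℕ} (hr : r.Prime) {d : ℕ} (hd : d ∈ relCharDegrees N) (hrd : ¬ r ∣ d) :
    (∀ (μ : Dual) (a : ℕ), μ ≠ 1 → μ ^ r ^ a = 1 → LinkedTo (N := N) d μ) ∨
      ∃ (μ : Dual) (a : ℕ), μ ≠ 1 ∧ μ ^ r ^ a = 1 ∧ LinkedTo (N := N) d μ ∧ orbIdx N μ ≠ 1 ∧
        ¬ r ∣ orbIdx N μ := by
  classical
  obtain ⟨χ, hχ, rfl, θ, hθ, hθ1, hc⟩ := exists_constituent_of_relDegree N hd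
  obtain ⟨k, M, u, v, hn, hcop, hMu, hrv, huv, hu, hv, hfix, hkill⟩ := exists_split N hr
  have hexp : ∀ ρ : Dual, ρ ^ Nat.card G = 1 := fun ρ => by
    refine MonoidHom.ext fun n => ?_
    rw [MonoidHom.pow_apply, MonoidHom.one_apply, ← map_pow,
      show n ^ Nat.card G = 1 from Subtype.ext (by rw [Subgroup.coe_pow, pow_card_eq_one']; rfl), map_one]
  have pfix : ∀ {μ : Dual} {a : ℕ}, μ ^ r ^ a = 1 → μ ^ r ^ k = 1 := by
    intro μ a hμ
    obtain ⟨j, -, hj⟩ := (Nat.dvd_prime_pow hr).mp (orderOf_dvd_of_pow_eq_one hμ)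
    refine orderOf_dvd_iff_pow_eq_one.mp ?_
    have h1 : orderOf μ ∣ r ^ k * M := hn ▸ orderOf_dvd_of_pow_eq_one (hexp μ)
    exact Nat.Coprime.dvd_of_dvd_mul_right (hj ▸ Nat.Coprime.pow_left _ hcop) h1
  have h1d := index_mul_degree_dvd N hχ hθ hc
  by_cases hd0 : charDegree θ = 1
  · obtain ⟨ν, hν⟩ := exists_hom_of_degree_one (isCharacter_of_irr hθ)
      (by rw [(charDegree_spec' hθ).1, hd0, Nat.cast_one])
    change θ = linFun N ν at hν
    subst hν
    have hν1 : ν ≠ 1 := fun e => hθ1 (by funext n; simp [e, linFun])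
    have hdν : LinkedTo (N := N) (charDegree χ) ν :=
      linkedTo_of hNG hν1 hχ hc ⟨hd, hd, SimpleGraph.Reachable.refl _⟩
    by_cases hνu : ν ^ u = 1
    · refine Or.inl fun μ a hμ hμr => ?_
      obtain ⟨s, hs, hsd⟩ := Nat.exists_prime_and_dvd (d_order_ne_one N hν1)
      obtain ⟨k', M', u', v', hn', hcop', -, -, huv', hu', hv', -, -⟩ := exists_split N hs
      have hsne : ν ^ u' ≠ 1 := fun e => by
        have h3 : ν ^ v' = ν := by conv_rhs => rw [← huv' ν, e, d_one_mul]
        have h4 : orderOf ν ∣ M' := orderOf_dvd_of_pow_eq_one (by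
          conv_lhs => rw [← h3]
          exact hv' ν)
        exact (Nat.Prime.coprime_iff_not_dvd hs).mp hcop' (hsd.trans h4)
      have hrs : s ≠ r := by
        rintro rfl
        have h3 : ν ^ v = ν := by conv_rhs => rw [← huv ν, hνu, d_one_mul]
        have h4 : orderOf ν ∣ M := orderOf_dvd_of_pow_eq_one (by
          conv_lhs => rw [← h3]
          exact hv ν)
        exact (Nat.Prime.coprime_iff_not_dvd hr).mp hcop (hsd.trans h4)
      exact linkedTo_mix hNG hs hr hrs hsne (hu' ν) hμ hμr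
        ((linkedTo_part hNG hs hcop' huv' hu' hv' hsne).mp hdν)
    · refine Or.inr ⟨ν ^ u, k, hνu, hu ν, (linkedTo_part hNG hr hcop huv hu hv hνu).mp hdν, ?_, ?_⟩
      · intro hi
        refine hrd ?_
        have h3 := dvd_degree_of_fixed N hNG hχ (isIrr_linFun N ν) hc hi (M := M) (by
          rw [detChar_linFun, charDegree_linFun, one_mul, ← linFun_pow, ← linFun_pow]
          congr 1
          conv_lhs => rw [← huv ν, mul_pow, hv, d_mul_one])
        exact hcop.dvd_of_dvd_mul_right ((dvd_orderOf_of_pow hr (hu ν) hνu).trans h3)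
      · intro h
        refine hrd ?_
        rw [charDegree_linFun, mul_one] at h1d
        exact h.trans ((Subgroup.index_dvd_of_le (inertia_le_pow N ν u)).trans h1d)
  · refine Or.inl fun μ a hμ hμr => ?_
    have hμk := pfix hμr
    set e := charDegree θ with he_def
    obtain ⟨D, hD⟩ := exists_detHom (isCharacter_of_irr hθ)
    change detChar θ = linFun N D at hD
    have hre : r.Coprime e := (Nat.Prime.coprime_iff_not_dvd hr).mpr fun h =>
      hrd ((dvd_mul_of_dvd_right h _).trans h1d)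
    obtain ⟨W, hW1, hW0⟩ :=
      Nat.chineseRemainder (show (r ^ k).Coprime e from Nat.Coprime.pow_left _ hre) 1 0
    obtain ⟨w, rfl⟩ := Nat.modEq_zero_iff_dvd.mp hW0
    let ε : Dual := (D ^ u) ^ (w * (r ^ k - 1)) * μ
    set θ' : N → ℂ := θ * linFun N ε with hθ'_def
    have hθ' : IsIrrCharacter N θ' :=
      isIrrCharacter_mul_linear hθ (isIrr_linFun N ε) (by simp [linFun])
    have hdeg : charDegree θ' = e := by simp [hθ'_def, e, charDegree, linFun]
    have hθ'1 : θ' ≠ fun _ => 1 := fun h => hd0 (by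
      rw [← hdeg, h]
      simp [charDegree])
    have hdetθ' : detChar θ' ^ M = linFun N μ ^ (e * M) := by
      have h0 : detChar θ' = linFun N (D * ε ^ e) := by
        rw [hθ'_def, show linFun N ε = (fun n => ((ε n : ℂˣ) : ℂ)) from rfl,
          detChar_twist (isCharacter_of_irr hθ), hD, linFun_mul, linFun_pow]
        rfl
      rw [h0, ← linFun_pow, ← linFun_pow]
      congr 1
      have h2 : ((D ^ u) ^ (w * (r ^ k - 1))) ^ e = (D ^ u) ^ (r ^ k - 1) := by
        have h3 : (D ^ u) ^ (e * w) = D ^ u := by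
          conv_rhs => rw [← pow_one (D ^ u)]
          exact d_pow_congr N (hW1.of_dvd (orderOf_dvd_of_pow_eq_one (hu D)))
        rw [← pow_mul, show w * (r ^ k - 1) * e = e * w * (r ^ k - 1) by ring, pow_mul, h3]
      have h4 : D ^ M = (D ^ u) ^ M := by
        conv_lhs => rw [← huv D, mul_pow, hv, d_mul_one]
      calc (D * ε ^ e) ^ M
          = D ^ M * ((((D ^ u) ^ (w * (r ^ k - 1))) ^ e) ^ M * μ ^ (e * M)) := by
            rw [mul_pow, show ε ^ e = ((D ^ u) ^ (w * (r ^ k - 1))) ^ e * μ ^ e from mul_pow _ _ e, mul_pow,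
              ← pow_mul μ e M]
        _ = ((D ^ u) ^ r ^ k) ^ M * μ ^ (e * M) := by
            rw [h2, h4, ← mul_assoc, ← mul_pow, ← pow_succ', Nat.sub_add_cancel (Nat.one_le_pow _ _ hr.pos)]
        _ = μ ^ (e * M) := by rw [hu, d_one_pow, d_one_mul]
    have hle : inertia N θ' ≤ inertia N (linFun N μ) := by
      intro g hg
      rw [mem_inertia] at hg
      have h1 : conjNormFun N g (detChar θ' ^ M) = detChar θ' ^ M := by
        rw [conj_pow]
        congr 1
        conv_rhs => rw [← hg]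
        rw [conjNormFun_eq, conjNormFun_eq, show (fun n => θ' (MulAut.conjNormal g n)) =
          fun n => θ' ((MulAut.conjNormal g : N ≃* N).toMonoidHom n) from rfl,
          detChar_comp (isCharacter_of_irr hθ')]
        rfl
      rw [hdetθ'] at h1
      have hco : (e * M).Coprime (orderOf μ) :=
        Nat.Coprime.coprime_dvd_right (orderOf_dvd_of_pow_eq_one hμk)
          (Nat.Coprime.pow_right _ (Nat.Coprime.mul_right hre hcop).symm)
      obtain ⟨z, hz⟩ := exists_pow_eq_self_of_coprime hco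
      rw [mem_inertia]
      have h2 := congrArg (· ^ z) h1
      simp only [← conj_pow, ← linFun_pow, hz] at h2
      exact h2
    obtain ⟨ψ, hψ, hψc, hψd⟩ := exists_over N hθ' hθ'1
    obtain ⟨φ, hφ, hφc, -⟩ := exists_over N (isIrr_linFun N μ) (linFun_ne_one hμ)
    obtain ⟨hf, h2, h0⟩ := over_linear_spec hμ hφ hφc
    have h1' := index_mul_degree_dvd N hψ hθ' hψc
    rw [hdeg] at h1'
    have hχψ : Linked N (charDegree χ) (charDegree ψ) :=
      linked_of_dvd hd hψd hd0 ((dvd_mul_left _ _).trans h1d) ((dvd_mul_left _ _).trans h1')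
        (charDegree_spec' hχ).2
    refine linkedTo_of hNG hμ hφ hφc (hχψ.trans ?_)
    by_cases hi : orbIdx N μ = 1
    · have h3 := dvd_degree_of_fixed N hNG hψ hθ' hψc hi (M := M) (by rw [hdetθ', hdeg])
      have h5 := dvd_orderOf_of_pow hr hμr hμ
      exact linked_of_prime hψd hf hr (hcop.dvd_of_dvd_mul_right (h5.trans h3))
        (h5.trans (orderOf_dvd_of_fixed hNG hi hφ hφc)) (charDegree_spec' hψ).2
    · exact linked_of_dvd hψd hf hi
        ((Subgroup.index_dvd_of_le hle).trans ((dvd_mul_right _ _).trans h1')) h2 (charDegree_spec' hψ).2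

/-- Two orbits of coprime size: the product orbit shares a factor with the first one. -/
theorem not_coprime_orbit_mul {r k : ℕ} (hr : r.Prime) {μ μ' : Dual} (hμr : μ ^ r ^ k = 1)
    (h1 : orbIdx N μ ≠ 1) (hr' : ¬ r ∣ orbIdx N μ') (hcop : (orbIdx N μ).Coprime (orbIdx N μ')) :
    ¬ (orbIdx N (μ * μ')).Coprime (orbIdx N μ) := by
  classical
  intro hd
  unfold orbIdx at *
  set S := inertia N (linFun N μ) with hS
  set S' := inertia N (linFun N μ') with hS'
  have hinf : (S ⊓ S').index = S.index * S'.index :=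
    Nat.le_antisymm Subgroup.index_inf_le (Nat.le_of_dvd (Nat.pos_of_ne_zero Subgroup.index_ne_zero_of_finite)
      (hcop.mul_dvd_of_dvd_of_dvd (Subgroup.index_dvd_of_le inf_le_left) (Subgroup.index_dvd_of_le inf_le_right)))
  have hprod : ∀ g : G, ∃ s ∈ S, ∃ s' ∈ S', g = s * s' := by
    have hrel : S'.relIndex S = S'.index := by
      have h := Subgroup.relIndex_mul_index (inf_le_left : S ⊓ S' ≤ S)
      rw [hinf, Subgroup.inf_relIndex_left, mul_comm S.index] at h
      exact Nat.eq_of_mul_eq_mul_right (Nat.pos_of_ne_zero Subgroup.index_ne_zero_of_finite) h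
    let f : S ⧸ S'.subgroupOf S → G ⧸ S' := fun q => (((Quotient.out q : S) : G) : G ⧸ S')
    have hf : Function.Injective f := fun a b e => by
      rw [← QuotientGroup.out_eq' a, ← QuotientGroup.out_eq' b, QuotientGroup.eq, Subgroup.mem_subgroupOf]
      simpa using QuotientGroup.eq.mp e
    have hb := (Nat.bijective_iff_injective_and_card f).mpr ⟨hf, hrel⟩
    intro g
    obtain ⟨q, hq⟩ := hb.2 (g : G ⧸ S')
    exact ⟨_, (Quotient.out q).2, ((Quotient.out q : S) : G)⁻¹ * g, QuotientGroup.eq.mp hq, by group⟩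
  have hle : S ⊓ S' ≤ inertia N (linFun N (μ * μ')) := fun g hg => by
    rw [mem_inertia, linFun_mul, conj_mul, (mem_inertia N).mp hg.1, (mem_inertia N).mp hg.2]
  have hdvd : (inertia N (linFun N (μ * μ'))).index ∣ S'.index :=
    hd.dvd_of_dvd_mul_left (hinf ▸ Subgroup.index_dvd_of_le hle)
  obtain ⟨g₀, hg₀⟩ : ∃ g : G, conjNormFun N g (linFun N μ) ≠ linFun N μ := by
    by_contra hc
    push Not at hc
    exact h1 (Subgroup.index_eq_one.mpr (eq_top_iff.mpr fun g _ => (mem_inertia N).mpr (hc g)))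
  set O₂ := conjOrbit N (linFun N μ')
  set O₃ := conjOrbit N (linFun N (μ * μ'))
  have hnz : ∀ (g : G) (ν : Dual) (n : N), conjNormFun N g (linFun N ν) n ≠ 0 := fun g ν n => Units.ne_zero _
  have himg : ∀ g : G, O₂.image (conjNormFun N g (linFun N μ) * ·) = O₃ := by
    intro g
    refine Finset.eq_of_subset_of_card_le (fun z hz => ?_) ?_
    · obtain ⟨y, hy, rfl⟩ := Finset.mem_image.mp hz
      obtain ⟨h, rfl⟩ := (mem_conjOrbit N).mp hy
      obtain ⟨s, hs, s', hs', e⟩ := hprod (g * h⁻¹)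
      refine (mem_conjOrbit N).mpr ⟨s⁻¹ * g, ?_⟩
      have e2 : s⁻¹ * g = s' * h := by
        rw [show g = s * s' * h by rw [← e]; group]; group
      rw [linFun_mul, conj_mul]
      congr 1
      · rw [conjNormFun_mul, (mem_inertia N).mp (inv_mem hs)]
      · rw [e2, conjNormFun_mul, (mem_inertia N).mp hs']
    · rw [Finset.card_image_of_injective, card_conjOrbit, card_conjOrbit]
      · exact Nat.le_of_dvd (Nat.pos_of_ne_zero Subgroup.index_ne_zero_of_finite) hdvd
      · intro y z h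
        funext n
        exact mul_left_cancel₀ (hnz g μ n) (congrFun h n)
  have key : ∀ g : G, ∏ z ∈ O₃, z = conjNormFun N g (linFun N μ) ^ O₂.card * ∏ y ∈ O₂, y := by
    intro g
    rw [← himg g, Finset.prod_image, Finset.prod_mul_distrib, Finset.prod_const]
    intro y _ z _ h
    funext n
    exact mul_left_cancel₀ (hnz g μ n) (congrFun h n)
  have hpow : conjNormFun N g₀ (linFun N μ) ^ O₂.card = linFun N μ ^ O₂.card := by
    have h := (key g₀).symm.trans (key 1)
    rw [conjNormFun_one] at h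
    funext n
    refine mul_right_cancel₀ ?_ (congrFun h n)
    rw [Finset.prod_apply]
    refine Finset.prod_ne_zero_iff.mpr fun y hy => ?_
    obtain ⟨h', rfl⟩ := (mem_conjOrbit N).mp hy
    exact hnz _ _ _
  rw [card_conjOrbit] at hpow
  change conjNormFun N g₀ (linFun N μ) ^ S'.index = linFun N μ ^ S'.index at hpow
  have hco : S'.index.Coprime (orderOf μ) :=
    Nat.Coprime.coprime_dvd_right (orderOf_dvd_of_pow_eq_one hμr)
      (Nat.Coprime.pow_right _ ((Nat.Prime.coprime_iff_not_dvd hr).mpr hr').symm)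
  obtain ⟨z, hz⟩ := exists_pow_eq_self_of_coprime hco
  refine hg₀ ?_
  have h2 := congrArg (· ^ z) hpow
  simp only [← conj_pow, ← linFun_pow, hz] at h2
  exact h2

theorem exists_of_dvd_relIndex {r : ℕ} (hr : r.Prime) (h : r ∣ ⁅N, N⁆.relIndex N) :
    ∃ (μ : Dual) (a : ℕ), μ ≠ 1 ∧ μ ^ r ^ a = 1 := by
  have hsub : ⁅N, N⁆.subgroupOf N = commutator N := by
    rw [← Subgroup.map_subtype_commutator, Subgroup.subgroupOf,
      Subgroup.comap_map_eq_self_of_injective N.subtype_injective]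
  rw [Subgroup.relIndex, hsub] at h
  have hcard : Nat.card (Abelianization N →* ℂˣ) = (commutator N).index := by
    rw [CommGroup.card_monoidHom_of_hasEnoughRootsOfUnity]; rfl
  haveI : Finite (Abelianization N →* ℂˣ) :=
    Nat.finite_of_card_ne_zero (hcard ▸ Subgroup.index_ne_zero_of_finite)
  haveI := Fact.mk hr
  obtain ⟨f, hf⟩ := exists_prime_orderOf_dvd_card' (G := Abelianization N →* ℂˣ) r (hcard ▸ h)
  refine ⟨f.comp Abelianization.of, 1, fun e => ?_, ?_⟩
  · have : f = 1 := by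
      refine MonoidHom.ext fun x => ?_
      obtain ⟨n, rfl⟩ := QuotientGroup.mk_surjective x
      exact DFunLike.congr_fun e n
    rw [this, orderOf_one] at hf
    exact hr.one_lt.ne hf
  · refine MonoidHom.ext fun n => ?_
    rw [pow_one, MonoidHom.pow_apply, MonoidHom.one_apply]
    show f _ ^ r = 1
    rw [← MonoidHom.pow_apply, ← hf, pow_orderOf_eq_one, MonoidHom.one_apply]

include hNG in
/-- Two degrees each missing a prime divisor of `[N : N']` are linked. -/
theorem linked_of_not_dvd {d e r s : ℕ} (hd : d ∈ relCharDegrees N) (he : e ∈ relCharDegrees N)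
    (hr : r.Prime) (hs : s.Prime) (hrN : r ∣ ⁅N, N⁆.relIndex N) (hsN : s ∣ ⁅N, N⁆.relIndex N)
    (hrd : ¬ r ∣ d) (hse : ¬ s ∣ e) : Linked N d e := by
  obtain ⟨μ₀, a₀, hμ₀, hμ₀r⟩ := exists_of_dvd_relIndex (N := N) hr hrN
  obtain ⟨ν₀, b₀, hν₀, hν₀s⟩ := exists_of_dvd_relIndex (N := N) hs hsN
  have h1 := linkedTo_of_not_dvd hNG hr hd hrd
  have h2 := linkedTo_of_not_dvd hNG hs he hse
  by_cases hrs : r = s
  · subst hrs
    rcases h1 with h1 | ⟨μ, a, hμ, hμr, h1, hμi, hμn⟩
    · rcases h2 with h2 | ⟨ν, b, hν, hνr, h2, -, -⟩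
      · exact linked_of_linkedTo hμ₀ (h1 μ₀ a₀ hμ₀ hμ₀r) (h2 μ₀ a₀ hμ₀ hμ₀r)
      · exact linked_of_linkedTo hν (h1 ν b hν hνr) h2
    · rcases h2 with h2 | ⟨ν, b, hν, hνr, h2, hνi, hνn⟩
      · exact linked_of_linkedTo hμ h1 (h2 μ a hμ hμr)
      · obtain ⟨χ, hχ, hχc, -⟩ := exists_over N (isIrr_linFun N μ) (linFun_ne_one hμ)
        obtain ⟨ψ, hψ, hψc, -⟩ := exists_over N (isIrr_linFun N ν) (linFun_ne_one hν)
        obtain ⟨hc, c1, c0⟩ := over_linear_spec hμ hχ hχc
        obtain ⟨hp, p1, p0⟩ := over_linear_spec hν hψ hψc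
        refine ((h1 χ hχ hχc).trans ?_).trans (h2 ψ hψ hψc).symm
        by_cases hcop : (orbIdx N μ).Coprime (orbIdx N ν)
        · have hne : μ * ν ≠ 1 := by
            intro e
            have : inertia N (linFun N μ) = inertia N (linFun N ν) := by
              ext g
              have hg : conjNormFun N g (linFun N μ) * conjNormFun N g (linFun N ν) =
                  linFun N μ * linFun N ν := by
                rw [← conj_mul, ← linFun_mul, e]; rfl
              rw [mem_inertia, mem_inertia]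
              constructor
              · intro h
                rw [h] at hg
                funext n
                exact mul_left_cancel₀ (Units.ne_zero _) (congrFun hg n)
              · intro h
                rw [h] at hg
                funext n
                exact mul_right_cancel₀ (Units.ne_zero _) (congrFun hg n)
            have hEq : orbIdx N μ = orbIdx N ν := congrArg Subgroup.index this
            rw [hEq] at hcop
            exact hνi ((Nat.coprime_self _).mp hcop)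
          obtain ⟨ξ, hξ, hξc, -⟩ := exists_over N (isIrr_linFun N (μ * ν)) (linFun_ne_one hne)
          obtain ⟨hx, x1, x0⟩ := over_linear_spec hne hξ hξc
          obtain ⟨t, ht, t1, t2⟩ := Nat.Prime.not_coprime_iff_dvd.mp
            (not_coprime_orbit_mul hr hμr hμi hνn hcop)
          obtain ⟨t', ht', t1', t2'⟩ := Nat.Prime.not_coprime_iff_dvd.mp
            (not_coprime_orbit_mul hr hνr hνi hμn hcop.symm)
          rw [mul_comm ν μ] at t1'
          exact (linked_of_prime hc hx ht (t2.trans c1) (t1.trans x1) c0).trans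
            (linked_of_prime hx hp ht' (t1'.trans x1) (t2'.trans p1) x0)
        · obtain ⟨t, ht, t1, t2⟩ := Nat.Prime.not_coprime_iff_dvd.mp hcop
          exact linked_of_prime hc hp ht (t1.trans c1) (t2.trans p1) c0
  · obtain ⟨μ, a, hμ, hμr, h1⟩ : ∃ (μ : Dual) (a : ℕ), μ ≠ 1 ∧ μ ^ r ^ a = 1 ∧ LinkedTo (N := N) d μ := by
      rcases h1 with h1 | ⟨μ, a, hμ, hμr, h1, -, -⟩
      · exact ⟨μ₀, a₀, hμ₀, hμ₀r, h1 μ₀ a₀ hμ₀ hμ₀r⟩
      · exact ⟨μ, a, hμ, hμr, h1⟩
    obtain ⟨ν, b, hν, hνs, h2⟩ : ∃ (ν : Dual) (b : ℕ), ν ≠ 1 ∧ ν ^ s ^ b = 1 ∧ LinkedTo (N := N) e ν := by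
      rcases h2 with h2 | ⟨ν, b, hν, hνs, h2, -, -⟩
      · exact ⟨ν₀, b₀, hν₀, hν₀s, h2 ν₀ b₀ hν₀ hν₀s⟩
      · exact ⟨ν, b, hν, hνs, h2⟩
    exact linked_of_linkedTo hν (linkedTo_mix hNG hr hs hrs hμ hμr hν hνs h1) h2

end CfsgLib.CharTheory
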