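import Cfsg.Agent.Lib.CharTheory.RelDegreeGraph
import Cfsg.Agent.Lib.CharTheory.Gallagher

/-!
The shape of a disconnected common-divisor graph on `cd(G | N)`: if the degrees missing the primes of
`[N : N']` meet no other degree, any two of them are at distance at most two (Isaacs).
-/

set_option autoImplicit false

namespace CfsgLib.CharTheory

open Cfsg
open scoped commutatorElement

universe u

attribute [-instance] MonoidHom.instPow MonoidHom.mul

section Restrict

variable {H : Type u} [Group H] [Fintype H]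

/-- A character of degree prime to the index restricts irreducibly. -/
theorem isIrr_res_of_coprime_index {K : Subgroup H} [K.Normal] [Fintype K] {θ : H → ℂ}
    (hθ : IsIrrCharacter H θ) (hco : (charDegree θ).Coprime K.index) :
    IsIrrCharacter K (fun k : K => θ k) := by
  obtain ⟨φ, hφ, hc⟩ := exists_constituent (isCharacter_restrict (isCharacter_of_irr hθ) K)
    fun e => irr_ne_zero hθ (congrFun e 1)
  obtain ⟨k, hk, hkd⟩ := degree_ratio_dvd hθ hφ hc
  have hk1 : k = 1 := by
    rw [(charDegree_spec' hθ).1, (charDegree_spec' hφ).1, ← Nat.cast_mul, Nat.cast_inj] at hk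
    exact Nat.eq_one_of_dvd_coprimes hco ⟨_, hk⟩ hkd
  obtain ⟨c, hc'⟩ := classInner_char_nat (isCharacter_restrict (isCharacter_of_irr hθ) K)
    (isCharacter_of_irr hφ)
  have h := clifford_degree K hθ hφ hc
  rw [hk, hk1, hc', Nat.cast_one, one_mul] at h
  have h1 : ((c * (inertia K φ).index : ℕ) : ℂ) = (1 : ℕ) := by
    push_cast
    refine mul_right_cancel₀ (irr_ne_zero hφ) ?_
    rw [one_mul, ← h]
  rw [Nat.cast_inj, mul_eq_one] at h1
  have hinv : ∀ g : H, conjNormFun K g φ = φ := fun g =>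
    (mem_inertia K).mp ((Subgroup.index_eq_one.mp h1.2).symm ▸ Subgroup.mem_top g)
  rw [clifford_invariant K hθ hφ hc hinv, hc', h1.1, Nat.cast_one, one_smul]
  exact hφ

/-- In a non-abelian group with solvable derived group there are a prime `p` and an irreducible
character, of degree not prime to `[H : H']`, that tensors irreducibly with every irreducible character of
degree prime to `p` and to `[H : H']`. -/
theorem exists_prime_gallagher [Group.IsSolvable H] (hab : commutator H ≠ ⊥) :
    ∃ (p : ℕ) (α : H → ℂ), p.Prime ∧ IsIrrCharacter H α ∧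
      ¬ (charDegree α).Coprime (commutator H).index ∧
      ∀ θ : H → ℂ, IsIrrCharacter H θ → (charDegree θ).Coprime (commutator H).index →
        ¬ p ∣ charDegree θ → IsIrrCharacter H (α * θ) := by
  classical
  set K := commutator H with hK
  have : Nontrivial K := (Subgroup.nontrivial_iff_ne_bot K).mpr hab
  have hlt : commutator K < (⊤ : Subgroup K) := IsSolvable.commutator_lt_top_of_nontrivial K
  have hcard : Nat.card (Abelianization K) ≠ 1 := fun e => hlt.ne (Subgroup.index_eq_one.mp e)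
  obtain ⟨p, hp, hpd⟩ := Nat.exists_prime_and_dvd hcard
  have := Fact.mk hp
  set n := Nat.card (Abelianization K) with hn
  set M := n / p ^ n.factorization p with hM
  have hnM : p ^ n.factorization p * M = n := Nat.ordProj_mul_ordCompl_eq_self n p
  have hpM : ¬ p ∣ M := Nat.not_dvd_ordCompl hp Nat.card_pos.ne'
  let f : K →* Abelianization K := (powMonoidHom M).comp Abelianization.of
  set L : Subgroup H := f.ker.map K.subtype with hL
  have hmem : ∀ x : H, x ∈ L ↔ x ∈ K ∧ x ^ M ∈ ⁅K, K⁆ := by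
    intro x
    have hc : ∀ y : K, y ∈ f.ker ↔ (y : H) ^ M ∈ ⁅K, K⁆ := fun y => by
      rw [MonoidHom.mem_ker, ← Subgroup.map_subtype_commutator]
      show Abelianization.of y ^ M = 1 ↔ K.subtype (y ^ M) ∈ (commutator K).map K.subtype
      rw [Subgroup.mem_map_iff_mem K.subtype_injective]
      rw [← map_pow, ← MonoidHom.mem_ker, Abelianization.ker_of]
    constructor
    · rintro ⟨y, hy, rfl⟩
      exact ⟨y.2, (hc y).mp hy⟩
    · rintro ⟨hx, hxM⟩
      exact ⟨⟨x, hx⟩, (hc ⟨x, hx⟩).mpr hxM, rfl⟩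
  have hLn : L.Normal := ⟨fun x hx g => by
    rw [hmem] at hx ⊢
    refine ⟨(inferInstance : K.Normal).conj_mem x hx.1 g, ?_⟩
    rw [_root_.conj_pow]
    exact (inferInstance : (⁅K, K⁆).Normal).conj_mem _ hx.2 g⟩
  have hLK : L ≤ K := fun x hx => ((hmem x).mp hx).1
  have hKL : ⁅K, K⁆ ≤ L := fun x hx =>
    (hmem x).mpr ⟨Subgroup.commutator_le_left K K hx, pow_mem hx M⟩
  have hrel : L.relIndex K = Nat.card f.range := by
    rw [hL, Subgroup.relIndex, Subgroup.subgroupOf,
      Subgroup.comap_map_eq_self_of_injective K.subtype_injective, Subgroup.index_ker]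
  obtain ⟨j, hj⟩ : ∃ j, Nat.card f.range = p ^ j := by
    refine IsPGroup.iff_card.mp fun z => ⟨n.factorization p, ?_⟩
    obtain ⟨z, y, rfl⟩ := z
    refine Subtype.ext ?_
    show (Abelianization.of y ^ M) ^ p ^ n.factorization p = 1
    rw [← pow_mul, mul_comm, hnM, pow_card_eq_one']
  have hne : L ≠ K := by
    intro e
    obtain ⟨z, hz⟩ := exists_prime_orderOf_dvd_card' (G := Abelianization K) p hpd
    obtain ⟨y, rfl⟩ := QuotientGroup.mk_surjective z
    have hy : (y : H) ∈ L := e.symm ▸ y.2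
    obtain ⟨y', hy', hyy⟩ := hy
    rw [K.subtype_injective hyy, SetLike.mem_coe, MonoidHom.mem_ker] at hy'
    have hd : orderOf (Abelianization.of y) ∣ M := orderOf_dvd_of_pow_eq_one hy'
    exact hpM (hz ▸ hd)
  obtain ⟨ψ, hψ, hψ1⟩ : ∃ ψ : H ⧸ L → ℂ, IsIrrCharacter (H ⧸ L) ψ ∧ ψ 1 ≠ 1 := by
    by_contra hcon
    push Not at hcon
    have hcomm := (commutative_iff_degree_one (G := H ⧸ L)).mpr fun χ => hcon χ.1 χ.2
    refine hne (le_antisymm hLK ?_)
    rw [hK, commutator_eq_closure, Subgroup.closure_le]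
    rintro _ ⟨a, b, rfl⟩
    refine (QuotientGroup.eq_one_iff _).mp ?_
    show ((⁅a, b⁆ : H) : H ⧸ L) = 1
    rw [show ((⁅a, b⁆ : H) : H ⧸ L) = ⁅(a : H ⧸ L), (b : H ⧸ L)⁆ from
      map_commutatorElement (QuotientGroup.mk' L) a b, commutatorElement_eq_one_iff_mul_comm]
    exact hcomm _ _
  set α : H → ℂ := ψ ∘ QuotientGroup.mk' L with hα_def
  have hα : IsIrrCharacter H α :=
    isIrrCharacter_comp_surjective hψ _ (QuotientGroup.mk'_surjective L)
  have hker : ∀ x ∈ L, α x = α 1 := fun x hx => by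
    show ψ (x : H ⧸ L) = ψ ((1 : H) : H ⧸ L)
    rw [(QuotientGroup.eq_one_iff x).mpr hx]; rfl
  refine ⟨p, α, hp, hα, fun hco => hψ1 ?_, fun θ hθ hco hpθ => ?_⟩
  · have := Fintype.ofFinite K
    have : (L.subgroupOf K).Normal := hLn.comap K.subtype
    have h1 := irr_degree_one_of_kernel_commutator (L.subgroupOf K)
      (fun x y => Subgroup.mem_subgroupOf.mpr (hKL (by
        simpa [commutatorElement_def] using Subgroup.commutator_mem_commutator x.2 y.2)))
      (isIrr_res_of_coprime_index hα hco) (fun k hk => hker k (Subgroup.mem_subgroupOf.mp hk))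
    simpa [hα_def] using h1
  · have := Fintype.ofFinite L
    refine (gallagher L (isCharacter_of_irr hθ) (isIrr_res_of_coprime_index hθ ?_)).1 α hα hker
    rw [← Subgroup.relIndex_mul_index hLK, hrel, hj]
    exact Nat.Coprime.mul_right (((Nat.Prime.coprime_iff_not_dvd hp).mpr hpθ).symm.pow_right j) hco

end Restrict

variable {G : Type u} [Group G] [Fintype G] (N : Subgroup G) [hN : N.Normal] [Fintype N]

local notation "Dual" => N →* ℂˣ

omit [Fintype G] [Fintype N] in
theorem relIndex_derived : ⁅N, N⁆.relIndex N = (commutator N).index := by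
  rw [Subgroup.relIndex, ← Subgroup.map_subtype_commutator, Subgroup.subgroupOf,
    Subgroup.comap_map_eq_self_of_injective N.subtype_injective]

omit [Fintype G] [Fintype N] hN in
theorem dual_pow_index (μ : Dual) : μ ^ (commutator N).index = 1 := by
  refine MonoidHom.ext fun n => ?_
  rw [MonoidHom.pow_apply, MonoidHom.one_apply, ← map_pow]
  exact MonoidHom.mem_ker.mp (Abelianization.commutator_subset_ker μ (Subgroup.pow_index_mem (commutator N) n))

omit [Fintype G] in
theorem inertia_le_det {θ : N → ℂ} (hθ : IsIrrCharacter N θ) {μ : Dual} (h : detChar θ = linFun N μ) :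
    inertia N θ ≤ inertia N (linFun N μ) := by
  intro g hg
  rw [mem_inertia] at hg ⊢
  conv_rhs => rw [← h, ← hg, conjNormFun_eq]
  rw [← h, conjNormFun_eq, show (fun n => θ (MulAut.conjNormal g n)) =
    fun n => θ ((MulAut.conjNormal g : N ≃* N).toMonoidHom n) from rfl,
    detChar_comp (isCharacter_of_irr hθ)]
  rfl

omit [Fintype G] hN in
/-- Twisting to a prescribed determinant. -/
theorem exists_twist_det {θ : N → ℂ} (hθ : IsIrrCharacter N θ)
    (hco : (charDegree θ).Coprime (commutator N).index) (μ : Dual) :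
    ∃ θ' : N → ℂ, IsIrrCharacter N θ' ∧ charDegree θ' = charDegree θ ∧ detChar θ' = linFun N μ := by
  classical
  obtain ⟨D, hD⟩ := exists_detHom (isCharacter_of_irr hθ)
  change detChar θ = linFun N D at hD
  obtain ⟨z, hz⟩ := exists_pow_eq_self_of_coprime (x := μ * D⁻¹)
    (Nat.Coprime.coprime_dvd_right (orderOf_dvd_of_pow_eq_one (dual_pow_index N _)) hco)
  refine ⟨θ * linFun N ((μ * D⁻¹) ^ z),
    isIrrCharacter_mul_linear hθ (isIrrCharacter_linear _) (by simp [linFun]),
    by simp [charDegree, linFun], ?_⟩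
  rw [show linFun N ((μ * D⁻¹) ^ z) = (fun n => ((((μ * D⁻¹) ^ z : Dual) n : ℂˣ) : ℂ)) from rfl,
    detChar_twist (isCharacter_of_irr hθ), hD]
  funext n
  have h1 : (((μ * D⁻¹) ^ z) ^ charDegree θ) n = μ n * (D n)⁻¹ := by
    rw [← pow_mul, mul_comm z, pow_mul, hz]; rfl
  rw [MonoidHom.pow_apply] at h1
  show (D n : ℂ) * (((μ * D⁻¹) ^ z : Dual) n : ℂ) ^ charDegree θ = μ n
  rw [← Units.val_pow_eq_pow_val, h1, ← Units.val_mul, mul_left_comm, mul_inv_cancel, mul_one]

/-- Joined by a path of length at most two. -/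
def Two (b c : ↥(relCharDegrees N)) : Prop :=
  b = c ∨ (commonDivisorGraph.induce (relCharDegrees N)).Adj b c ∨
    ∃ x, (commonDivisorGraph.induce (relCharDegrees N)).Adj b x ∧
      (commonDivisorGraph.induce (relCharDegrees N)).Adj x c

variable {N}

omit [Fintype G] [Fintype N] hN in
theorem adj_of_prime {b c : ↥(relCharDegrees N)} (hne : b ≠ c) {t : ℕ} (ht : t.Prime)
    (h1 : t ∣ b.1) (h2 : t ∣ c.1) (hb : 0 < b.1) :
    (commonDivisorGraph.induce (relCharDegrees N)).Adj b c :=
  ⟨fun e => hne (Subtype.ext e),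
    lt_of_lt_of_le ht.one_lt (Nat.le_of_dvd (Nat.gcd_pos_of_pos_left _ hb) (Nat.dvd_gcd h1 h2))⟩

omit [Fintype G] [Fintype N] hN in
theorem two_of_primes {b c x : ↥(relCharDegrees N)} {t t' : ℕ} (ht : t.Prime) (ht' : t'.Prime)
    (h1 : t ∣ b.1) (h2 : t ∣ x.1) (h3 : t' ∣ x.1) (h4 : t' ∣ c.1) (hb : 0 < b.1) (hx : 0 < x.1) :
    Two N b c := by
  by_cases hbc : b = c
  · exact Or.inl hbc
  by_cases hxc : x = c
  · exact Or.inr (Or.inl (adj_of_prime hbc ht h1 (hxc ▸ h2) hb))
  by_cases hbx : b = x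
  · exact Or.inr (Or.inl (adj_of_prime hbc ht' (hbx ▸ h3) h4 hb))
  exact Or.inr (Or.inr ⟨x, adj_of_prime hbx ht h1 h2 hb, adj_of_prime hxc ht' h3 h4 hx⟩)

omit [Fintype G] [Fintype N] hN in
theorem two_symm {b c : ↥(relCharDegrees N)} (h : Two N b c) : Two N c b := by
  rcases h with h | h | ⟨x, h1, h2⟩
  · exact Or.inl h.symm
  · exact Or.inr (Or.inl h.symm)
  · exact Or.inr (Or.inr ⟨x, h2.symm, h1.symm⟩)

variable (hNG : N ≤ commutator G)

include hNG in
/-- If no degree sharing a prime with a degree prime to `[N : N']` meets `[N : N']`, two degrees prime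
to `[N : N']` have distance at most two. -/
theorem two_of_separated [Group.IsSolvable N]
    (hsep : ∀ x y : ↥(relCharDegrees N), x.1.Coprime (commutator N).index → ∀ t : ℕ, t.Prime →
      t ∣ x.1 → t ∣ y.1 → y.1.Coprime (commutator N).index)
    {b c : ↥(relCharDegrees N)} (hb : b.1.Coprime (commutator N).index)
    (hc : c.1.Coprime (commutator N).index) : Two N b c := by
  classical
  have hpos : ∀ d : ↥(relCharDegrees N), 0 < d.1 := by
    rintro ⟨d, χ, -, rfl⟩
    exact (charDegree_spec' χ.2).2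
  let L : ↥(relCharDegrees N) → Prop := fun d => ∃ (μ : Dual) (r a : ℕ), r.Prime ∧ ¬ r ∣ orbIdx N μ ∧
    μ ≠ 1 ∧ μ ^ r ^ a = 1 ∧ orbIdx N μ ≠ 1 ∧ orbIdx N μ ∣ d.1
  let H : ↥(relCharDegrees N) → Prop := fun d => ∃ θ : N → ℂ, IsIrrCharacter N θ ∧ charDegree θ ≠ 1 ∧
    (charDegree θ).Coprime (commutator N).index ∧ charDegree θ ∣ d.1
  have split : ∀ d : ↥(relCharDegrees N), d.1.Coprime (commutator N).index → L d ∨ H d := by
    intro d hd
    obtain ⟨χ, hχ, hχd, θ, hθ, hθ1, hθc⟩ := exists_constituent_of_relDegree N d.2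
    have h1d := index_mul_degree_dvd N hχ hθ hθc
    rw [hχd] at h1d
    by_cases he : charDegree θ = 1
    · obtain ⟨ν, hν⟩ := exists_hom_of_degree_one (isCharacter_of_irr hθ)
        (by rw [(charDegree_spec' hθ).1, he, Nat.cast_one])
      change θ = linFun N ν at hν
      subst hν
      have hν1 : ν ≠ 1 := fun e => hθ1 (by funext n; simp [e, linFun])
      rw [charDegree_linFun, mul_one] at h1d
      obtain ⟨s, hs, hsd⟩ := Nat.exists_prime_and_dvd (d_order_ne_one N hν1)
      have hsd' : ¬ s ∣ d.1 := fun h => hs.one_lt.ne'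
        (Nat.eq_one_of_dvd_coprimes hd h (hsd.trans (orderOf_dvd_of_pow_eq_one (dual_pow_index N ν))))
      obtain ⟨k, M, u, v, -, hcop, -, -, huv, hu, hv, -, -⟩ := exists_split N hs
      have hsne : ν ^ u ≠ 1 := fun e => by
        have h3 : ν ^ v = ν := by conv_rhs => rw [← huv ν, e, d_one_mul]
        have h4 : orderOf ν ∣ M := orderOf_dvd_of_pow_eq_one (by
          conv_lhs => rw [← h3]
          exact hv ν)
        exact (Nat.Prime.coprime_iff_not_dvd hs).mp hcop (hsd.trans h4)
      have hdvd : orbIdx N (ν ^ u) ∣ d.1 := (Subgroup.index_dvd_of_le (inertia_le_pow N ν u)).trans h1d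
      refine Or.inl ⟨ν ^ u, s, k, hs, fun h => hsd' (h.trans hdvd), hsne, hu ν, fun hi => hsd' ?_, hdvd⟩
      have h3 := dvd_degree_of_fixed N hNG hχ (isIrr_linFun N ν) hθc hi (M := M) (by
        rw [detChar_linFun, charDegree_linFun, one_mul, ← linFun_pow, ← linFun_pow]
        congr 1
        conv_lhs => rw [← huv ν, mul_pow, hv, d_mul_one])
      exact hcop.dvd_of_dvd_mul_right ((dvd_orderOf_of_pow hs (hu ν) hsne).trans (hχd ▸ h3))
    · exact Or.inr ⟨θ, hθ, he, Nat.Coprime.coprime_dvd_left ((dvd_mul_left _ _).trans h1d) hd,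
        (dvd_mul_left _ _).trans h1d⟩
  have LL : ∀ b c, L b → L c → Two N b c := by
    rintro b c ⟨μ, r, a, hr, hrμ, hμ, hμr, hμi, hμb⟩ ⟨ν, s, a', hs, hsν, hν, hνs, hνi, hνc⟩
    by_cases hcop : (orbIdx N μ).Coprime (orbIdx N ν)
    · obtain ⟨hne, hshare, hshare'⟩ : μ * ν ≠ 1 ∧ ¬ (orbIdx N (μ * ν)).Coprime (orbIdx N μ) ∧
          ¬ (orbIdx N (μ * ν)).Coprime (orbIdx N ν) := by
        have hnotone : ∀ m : ℕ, ¬ (orbIdx N (μ * ν)).Coprime m → μ * ν ≠ 1 := fun m h e => h (by
          rw [e, orbIdx, inertia_linFun_one, Subgroup.index_top]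
          exact Nat.coprime_one_left m)
        by_cases hrs : r = s
        · subst hrs
          have h1 := not_coprime_orbit_mul hr hμr hμi hsν hcop
          have h2 := not_coprime_orbit_mul hr hνs hνi hrμ hcop.symm
          rw [mul_comm ν μ] at h2
          exact ⟨hnotone _ h1, h1, h2⟩
        · have hoc : (orderOf μ).Coprime (orderOf ν) :=
            Nat.Coprime.coprime_dvd_left (orderOf_dvd_of_pow_eq_one hμr)
              (Nat.Coprime.coprime_dvd_right (orderOf_dvd_of_pow_eq_one hνs)
                (Nat.Coprime.pow _ _ ((Nat.coprime_primes hr hs).mpr hrs)))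
          have part : ∀ {μ ν : Dual}, (orderOf μ).Coprime (orderOf ν) → orbIdx N μ ≠ 1 →
              ¬ (orbIdx N (μ * ν)).Coprime (orbIdx N μ) := by
            intro μ ν hoc hμi hcp
            obtain ⟨z, hz1, hz0⟩ := Nat.chineseRemainder hoc 1 0
            have e : (μ * ν) ^ z = μ := by
              rw [mul_pow, d_pow_congr N hz1, d_pow_congr N hz0, pow_one, pow_zero, d_mul_one]
            have hd : orbIdx N μ ∣ orbIdx N (μ * ν) := by
              have h := Subgroup.index_dvd_of_le (inertia_le_pow N (μ * ν) z)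
              rwa [e] at h
            exact hμi ((Nat.coprime_self _).mp (Nat.Coprime.coprime_dvd_left hd hcp))
          have h2 := part hoc.symm hνi
          rw [mul_comm ν μ] at h2
          exact ⟨hnotone _ (part hoc hμi), part hoc hμi, h2⟩
      obtain ⟨ξ, hξ, hξc, -⟩ := exists_over N (isIrr_linFun N (μ * ν)) (linFun_ne_one hne)
      obtain ⟨hx, x1, x0⟩ := over_linear_spec hne hξ hξc
      obtain ⟨t, ht, t1, t2⟩ := Nat.Prime.not_coprime_iff_dvd.mp hshare
      obtain ⟨t', ht', t1', t2'⟩ := Nat.Prime.not_coprime_iff_dvd.mp hshare'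
      exact two_of_primes (x := ⟨_, hx⟩) ht ht' (t2.trans hμb) (t1.trans x1) (t1'.trans x1)
        (t2'.trans hνc) (hpos b) x0
    · obtain ⟨t, ht, t1, t2⟩ := Nat.Prime.not_coprime_iff_dvd.mp hcop
      exact two_of_primes (x := b) ht ht (t1.trans hμb) (t1.trans hμb) (t1.trans hμb) (t2.trans hνc)
        (hpos b) (hpos b)
  have LH : ∀ b c, L b → H c → Two N b c := by
    rintro b c ⟨μ, r, a, hr, hrμ, hμ, hμr, hμi, hμb⟩ ⟨θ, hθ, he, hco, hθc⟩
    obtain ⟨θ', hθ', hdeg, hdet⟩ := exists_twist_det N hθ hco μ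
    have hθ'1 : θ' ≠ fun _ => 1 := fun h => he (by rw [← hdeg, h]; simp [charDegree])
    obtain ⟨ψ, hψ, hψc, hψd⟩ := exists_over N hθ' hθ'1
    have h1 := index_mul_degree_dvd N hψ hθ' hψc
    rw [hdeg] at h1
    obtain ⟨t, ht, t1⟩ := Nat.exists_prime_and_dvd hμi
    obtain ⟨t', ht', t1'⟩ := Nat.exists_prime_and_dvd he
    exact two_of_primes (x := ⟨_, hψd⟩) ht ht' (t1.trans hμb)
      (t1.trans ((Subgroup.index_dvd_of_le (inertia_le_det N hθ' hdet)).trans ((dvd_mul_right _ _).trans h1)))
      (t1'.trans ((dvd_mul_left _ _).trans h1)) (t1'.trans hθc) (hpos b) (charDegree_spec' hψ).2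
  rcases split b hb with hbL | hbH
  · rcases split c hc with hcL | hcH
    · exact LL b c hbL hcL
    · exact LH b c hbL hcH
  · rcases split c hc with hcL | hcH
    · exact two_symm (LH c b hcL hbH)
    · have hab : commutator N ≠ ⊥ := by
        intro e
        obtain ⟨θ, hθ, he, -, -⟩ := hbH
        refine he ?_
        have hcm : ∀ x y : N, x * y = y * x := fun x y =>
          commutatorElement_eq_one_iff_mul_comm.mp (by
            rw [← Subgroup.mem_bot, ← e, commutator_def]
            exact Subgroup.commutator_mem_commutator (Subgroup.mem_top x) (Subgroup.mem_top y))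
        exact Nat.cast_inj.mp ((charDegree_spec' hθ).1.symm.trans
          ((degree_one_of_commutative hcm hθ).trans Nat.cast_one.symm))
      obtain ⟨p, α, hp, hα, hαm, htensor⟩ := exists_prime_gallagher hab
      have key : ∀ d : ↥(relCharDegrees N), d.1.Coprime (commutator N).index → H d → p ∣ d.1 := by
        rintro d hd ⟨θ, hθ, he, hco, hθd⟩
        by_contra hpd
        have hirr := htensor θ hθ hco fun h => hpd (h.trans hθd)
        have hdeg : charDegree (α * θ) = charDegree α * charDegree θ := by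
          refine Nat.cast_inj (R := ℂ) |>.mp ?_
          rw [← (charDegree_spec' hirr).1, Nat.cast_mul, ← (charDegree_spec' hα).1,
            ← (charDegree_spec' hθ).1]
          rfl
        have hne : α * θ ≠ fun _ => 1 := fun h => he (Nat.eq_one_of_mul_eq_one_left
          (by rw [← hdeg, h]; simp [charDegree]))
        obtain ⟨ψ, hψ, hψc, hψd⟩ := exists_over N hirr hne
        have h1 := (dvd_mul_left _ _).trans (index_mul_degree_dvd N hψ hirr hψc)
        rw [hdeg] at h1
        obtain ⟨t, ht, t1⟩ := Nat.exists_prime_and_dvd he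
        exact hαm (Nat.Coprime.coprime_dvd_left ((dvd_mul_right _ _).trans h1)
          (hsep d ⟨_, hψd⟩ hd t ht (t1.trans hθd) (t1.trans ((dvd_mul_left _ _).trans h1))))
      exact two_of_primes (x := b) hp hp (key b hb hbH) (key b hb hbH) (key b hb hbH) (key c hc hcH)
        (hpos b) (hpos b)

end CfsgLib.CharTheory
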