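import Mathlib
import Cfsg.Agent.Lib.CharTheory.More
import Cfsg.Agent.Lib.CharTheory.Monomial
import Cfsg.Agent.Lib.CharTheory.AbelianInertia
import Cfsg.Agent.Lib.CharTheory.CyclicTI2

/-!
# Relative M-groups: chief factors of non-square order
-/

set_option autoImplicit false

namespace CfsgLib.CharTheory.RelativeM

open Cfsg CfsgLib.CharTheory
open scoped ComplexConjugate commutatorElement

set_option linter.unusedVariables false
set_option linter.unusedSectionVars false
set_option linter.style.haveILetI false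

universe u

theorem subgroup_eq_bot_of_perfect {Q : Type u} [Group Q] [Group.IsSolvable Q] {X : Subgroup Q}
    (h : ⁅X, X⁆ = X) : X = ⊥ := by
  obtain ⟨n, hn⟩ := Group.IsSolvable.solvable (G := Q)
  refine le_bot_iff.1 (le_trans (?_ : X ≤ derivedSeries Q n) hn.le)
  clear hn
  induction n with
  | zero => simp
  | succ n ih => rw [derivedSeries_succ, ← h]; exact Subgroup.commutator_mono ih ih

/-- A step down a non-square abelian chief factor keeps the restriction irreducible. -/
theorem step {G : Type u} [Group G] [Fintype G] (K L : Subgroup G) [K.Normal] [L.Normal]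
    [Fintype K] [Fintype L] (hKL : K ≤ L) (hab : ⁅L, L⁆ ≤ K)
    (hchief : ∀ M : Subgroup G, M.Normal → K ≤ M → M ≤ L → M = K ∨ M = L)
    (hns : ¬ IsSquare (K.relIndex L)) {χ : G → ℂ} (hχ : IsIrrCharacter G χ)
    (hL : IsIrrCharacter L (fun x : L => χ x))
    (hiso : ∀ θ : K → ℂ, IsIrrCharacter K θ → classInner (fun k : K => χ k) θ ≠ 0 →
      inertia K θ = ⊤) : IsIrrCharacter K (fun x : K => χ x) := by
  classical
  set M : Subgroup G := K ⊔ Subgroup.closure {x : G | x ∈ L ∧ χ x ≠ 0} with hM
  have hMn : M.Normal := by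
    rw [hM]
    have h1 : (Subgroup.closure {x : G | x ∈ L ∧ χ x ≠ 0}).Normal := ⟨fun x hx g => by
      refine Subgroup.closure_induction (p := fun x _ => g * x * g⁻¹ ∈ Subgroup.closure {x : G | x ∈ L ∧ χ x ≠ 0})
        (fun y hy => Subgroup.subset_closure ⟨(inferInstance : L.Normal).conj_mem y hy.1 g, by
          rw [isClassFunction_irr hχ]; exact hy.2⟩)
        (by simp) (fun a b _ _ ha hb => by simpa [mul_assoc] using Subgroup.mul_mem _ ha hb)
        (fun a _ ha => by simpa [mul_assoc] using Subgroup.inv_mem _ ha) hx⟩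
    infer_instance
  have hMle : M ≤ L := sup_le hKL ((Subgroup.closure_le L).2 fun x hx => hx.1)
  have hχ0 : (fun k : K => χ k) ≠ 0 := fun e => irr_ne_zero hχ (congrFun e 1)
  obtain ⟨θ, hθ, hne⟩ := exists_constituent (isCharacter_restrict (isCharacter_of_irr hχ) K) hχ0
  have hres := clifford_invariant K hχ hθ hne fun g => by
    rw [← mem_inertia K, hiso θ hθ hne]; exact Subgroup.mem_top g
  obtain ⟨e, he⟩ := classInner_char_nat (isCharacter_restrict (isCharacter_of_irr hχ) K)
    (isCharacter_of_irr hθ)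
  rw [he] at hres
  have hsumK : ∑ k : K, χ k * conj (χ k) = (Nat.card K : ℂ) * (e : ℂ) ^ 2 := by
    rw [← sum_mul_conj_irr hθ, Finset.sum_mul]
    refine Finset.sum_congr rfl fun k _ => ?_
    have := congrFun hres k
    simp only [Pi.smul_apply, smul_eq_mul] at this
    rw [this, map_mul, Complex.conj_natCast]
    ring
  set K' : Subgroup L := K.subgroupOf L with hK'
  haveI : K'.Normal := Subgroup.Normal.subgroupOf inferInstance L
  haveI : Fintype K' := Fintype.ofFinite _
  have hcardL : Nat.card L = Nat.card K * K.relIndex L := by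
    rw [← Nat.card_congr (Subgroup.subgroupOfEquivOfLe hKL).toEquiv]
    exact (Subgroup.card_mul_index _).symm
  have hsumK' : ∑ x ∈ Finset.univ.filter (fun x : L => (x : G) ∈ K), χ x * conj (χ x) =
      ∑ k : K, χ k * conj (χ k) := by
    refine Finset.sum_bij (fun x hx => (⟨(x : G), (Finset.mem_filter.1 hx).2⟩ : K))
      (fun x hx => Finset.mem_univ _) (fun a ha b hb e => Subtype.ext (congrArg (fun k : K => (k : G)) e))
      (fun k _ => ⟨⟨(k : G), hKL k.2⟩, by simp, rfl⟩) (fun x hx => rfl)
  rcases hchief M hMn le_sup_left hMle with hMK | hML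
  · -- the character vanishes off `K`
    exfalso
    apply hns
    refine ⟨e, ?_⟩
    have hz : ∀ x : L, (x : G) ∉ K → χ x = 0 := fun x hx => by
      by_contra h0
      exact hx (hMK ▸ Subgroup.mem_sup_right (Subgroup.subset_closure ⟨x.2, h0⟩))
    have h1 : ∑ x : L, χ x * conj (χ x) = (Nat.card K : ℂ) * (e : ℂ) ^ 2 := by
      rw [← hsumK, ← hsumK', Finset.sum_filter]
      refine Finset.sum_congr rfl fun x _ => ?_
      split_ifs with h
      · rfl
      · rw [hz x h, zero_mul]
    rw [sum_mul_conj_irr hL, hcardL] at h1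
    have h2 : (K.relIndex L : ℂ) = ((e * e : ℕ) : ℂ) := by
      refine mul_left_cancel₀ (Nat.cast_ne_zero.2 (Nat.card_pos (α := K)).ne') ?_
      push_cast at h1 ⊢
      rw [h1]; ring
    exact_mod_cast h2
  · -- twisting is free
    refine irr_of_char_norm_one (isCharacter_restrict (isCharacter_of_irr hχ) K) ?_
    have hcomm : ∀ a b : L ⧸ K', a * b = b * a := by
      intro a b
      induction a using QuotientGroup.induction_on with
      | _ x =>
        induction b using QuotientGroup.induction_on with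
        | _ y =>
          refine (QuotientGroup.eq (a := x * y) (b := y * x)).2 ?_
          rw [hK', Subgroup.mem_subgroupOf]
          have := hab (Subgroup.commutator_mem_commutator (L.inv_mem y.2) (L.inv_mem x.2))
          simpa [commutatorElement_def, mul_assoc] using this
    haveI : Finite ((L ⧸ K') →* ℂˣ) := Finite.of_equiv _ linearEquivHom
    haveI : Fintype ((L ⧸ K') →* ℂˣ) := Fintype.ofFinite _
    have horth : ∀ φ : (L ⧸ K') →* ℂˣ, φ ≠ 1 →
        ∑ x : L, ((φ (x : L ⧸ K') : ℂˣ) : ℂ) * (χ x * conj (χ x)) = 0 := by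
      intro φ hφ
      set f : L →* ℂˣ := φ.comp (QuotientGroup.mk' K') with hf
      have h1 := isIrrCharacter_mul_linear hL (isIrrCharacter_linear f) (by simp)
      have hne' : (fun x : L => χ x) * (fun x : L => (f x : ℂ)) ≠ fun x : L => χ x := by
        intro heq
        apply hφ
        have hker : M.subgroupOf L ≤ f.ker := by
          intro x hx
          rw [Subgroup.mem_subgroupOf, hM] at hx
          have hle : K ⊔ Subgroup.closure {x : G | x ∈ L ∧ χ x ≠ 0} ≤ f.ker.map L.subtype := by
            refine sup_le (fun k hk => ⟨⟨k, hKL hk⟩, ?_, rfl⟩) ((Subgroup.closure_le _).2 ?_)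
            · show f _ = 1
              rw [hf, MonoidHom.comp_apply, QuotientGroup.mk'_apply,
                (QuotientGroup.eq_one_iff _).2 (show (⟨k, hKL hk⟩ : L) ∈ K' from hk), map_one]
            · rintro y ⟨hyL, hy0⟩
              refine ⟨⟨y, hyL⟩, ?_, rfl⟩
              show f _ = 1
              have := congrFun heq ⟨y, hyL⟩
              simp only [Pi.mul_apply] at this
              exact Units.ext (by simpa using mul_left_cancel₀ hy0 (this.trans (mul_one _).symm))
          obtain ⟨z, hz, hzx⟩ := hle hx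
          rwa [← L.subtype_injective hzx]
        refine MonoidHom.ext fun q => ?_
        obtain ⟨x, rfl⟩ := QuotientGroup.mk'_surjective K' q
        exact MonoidHom.mem_ker.1 (hker (Subgroup.mem_subgroupOf.2 (show (x : G) ∈ M by rw [hML]; exact x.2)))
      have h2 := classInner_irr_ne h1 hL hne'
      rw [classInner, mul_eq_zero] at h2
      refine Eq.trans (Finset.sum_congr rfl fun x _ => ?_) (h2.resolve_left (inv_ne_zero
        (Nat.cast_ne_zero.2 Nat.card_pos.ne')))
      simp only [Pi.mul_apply, hf, MonoidHom.comp_apply, QuotientGroup.mk'_apply]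
      ring
    have hall : ∑ φ : (L ⧸ K') →* ℂˣ, ∑ x : L, ((φ (x : L ⧸ K') : ℂˣ) : ℂ) * (χ x * conj (χ x)) =
        (Nat.card L : ℂ) := by
      rw [Finset.sum_eq_single (1 : (L ⧸ K') →* ℂˣ) (fun φ _ hφ => horth φ hφ) (fun h => absurd (Finset.mem_univ _) h)]
      simpa using sum_mul_conj_irr hL
    have hall2 : ∑ φ : (L ⧸ K') →* ℂˣ, ∑ x : L, ((φ (x : L ⧸ K') : ℂˣ) : ℂ) * (χ x * conj (χ x)) =
        (K.relIndex L : ℂ) * ∑ k : K, χ k * conj (χ k) := by
      rw [Finset.sum_comm, ← hsumK', Finset.mul_sum, Finset.sum_filter]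
      refine Finset.sum_congr rfl fun x _ => ?_
      rw [← Finset.sum_mul, sum_hom_abelian hcomm]
      have : ((x : L ⧸ K') = 1) ↔ (x : G) ∈ K := by
        rw [QuotientGroup.eq_one_iff, hK', Subgroup.mem_subgroupOf]
      by_cases h : (x : G) ∈ K
      · rw [if_pos (this.2 h), if_pos h]
        congr 2
      · rw [if_neg (mt this.1 h), if_neg h, zero_mul]
    rw [hall, hcardL] at hall2
    have hri : (K.relIndex L : ℂ) ≠ 0 := Nat.cast_ne_zero.2 Subgroup.index_ne_zero_of_finite
    have h3 : ∑ k : K, χ k * conj (χ k) = (Nat.card K : ℂ) := by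
      refine mul_left_cancel₀ hri ?_
      rw [← hall2]; push_cast; ring
    rw [classInner, h3, inv_mul_cancel₀ (Nat.cast_ne_zero.2 Nat.card_pos.ne')]

/-- Descending along non-square chief factors. -/
theorem descend {G : Type u} [Group G] [Fintype G] (N : Subgroup G) [N.Normal]
    (hsolv : Group.IsSolvable (G ⧸ N))
    (hns : ∀ K L : Subgroup G, K.Normal → L.Normal → N ≤ K → K < L →
      (∀ M : Subgroup G, M.Normal → K ≤ M → M ≤ L → M = K ∨ M = L) → ¬ IsSquare (K.relIndex L))
    {χ : G → ℂ} (hχ : IsIrrCharacter G χ) :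
    (∃ (M : Subgroup G) (_ : M.Normal) (θ : M → ℂ), N ≤ M ∧ IsIrrCharacter M θ ∧
      (∀ [Fintype M], classInner (fun m : M => χ m) θ ≠ 0) ∧ inertia M θ ≠ ⊤) ∨
      IsIrrCharacter N (fun x : N => χ x) := by
  classical
  haveI := hsolv
  refine or_iff_not_imp_left.2 fun hiso => ?_
  push Not at hiso
  let Good : Finset (Subgroup G) := Finset.univ.filter fun L =>
    L.Normal ∧ N ≤ L ∧ IsIrrCharacter L (fun x : L => χ x)
  have hne : Good.Nonempty := ⟨⊤, by
    simp only [Good, Finset.mem_filter, Finset.mem_univ, true_and]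
    exact ⟨inferInstance, le_top, isIrrCharacter_comp_surjective hχ (⊤ : Subgroup G).subtype
      fun g => ⟨⟨g, Subgroup.mem_top g⟩, rfl⟩⟩⟩
  obtain ⟨L, hL, hLmin⟩ := Good.exists_min_image (fun L => Nat.card L) hne
  simp only [Good, Finset.mem_filter, Finset.mem_univ, true_and] at hL hLmin
  obtain ⟨hLn, hNL, hLirr⟩ := hL
  haveI := hLn
  rcases eq_or_ne N L with e | hNe
  · subst e; exact hLirr
  exfalso
  let Below : Finset (Subgroup G) := Finset.univ.filter fun K => K.Normal ∧ N ≤ K ∧ K < L
  have hne2 : Below.Nonempty := ⟨N, by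
    simp only [Below, Finset.mem_filter, Finset.mem_univ, true_and]
    exact ⟨inferInstance, le_rfl, lt_of_le_of_ne hNL hNe⟩⟩
  obtain ⟨K, hK, hKmax⟩ := Below.exists_max_image (fun K => Nat.card K) hne2
  simp only [Below, Finset.mem_filter, Finset.mem_univ, true_and] at hK hKmax
  obtain ⟨hKn, hNK, hKL⟩ := hK
  haveI := hKn
  have hchief : ∀ M : Subgroup G, M.Normal → K ≤ M → M ≤ L → M = K ∨ M = L := fun M hM h1 h2 => by
    rcases eq_or_ne M L with e | h
    · exact Or.inr e
    · exact Or.inl (Subgroup.eq_of_le_of_card_ge h1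
        (hKmax M ⟨hM, hNK.trans h1, lt_of_le_of_ne h2 h⟩)).symm
  have hab : ⁅L, L⁆ ≤ K := by
    haveI : (⁅L, L⁆ : Subgroup G).Normal := Subgroup.commutator_normal L L
    rcases hchief (⁅L, L⁆ ⊔ K) inferInstance le_sup_right
      (sup_le (Subgroup.commutator_le_self L) hKL.le) with h | h
    · exact le_sup_left.trans h.le
    · exfalso
      haveI : Group.IsSolvable (G ⧸ K) :=
        Group.isSolvable_of_surjective (f := QuotientGroup.map N K (MonoidHom.id G) (by simpa using hNK))
          fun q => by
            obtain ⟨g, rfl⟩ := QuotientGroup.mk'_surjective K q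
            exact ⟨(g : G ⧸ N), rfl⟩
      have h2 : L.map (QuotientGroup.mk' K) = ⊥ := by
        refine subgroup_eq_bot_of_perfect ?_
        rw [← Subgroup.map_commutator]
        conv_rhs => rw [← h]
        rw [Subgroup.map_sup, QuotientGroup.map_mk'_self, sup_bot_eq]
      rw [Subgroup.map_eq_bot_iff, QuotientGroup.ker_mk'] at h2
      exact hKL.not_ge h2
  haveI := Fintype.ofFinite K
  haveI := Fintype.ofFinite L
  have hirr := step K L hKL.le hab hchief (hns K L hKn hLn hNK hKL hchief) hχ hLirr
    fun θ hθ hc => hiso K hKn θ hNK hθ fun [Fintype K] => by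
      convert hc using 2
  exact absurd (hLmin K ⟨hKn, hNK, hirr⟩)
    (not_le.2 (lt_of_le_of_ne (Subgroup.card_le_of_le hKL.le) fun e =>
      hKL.ne (Subgroup.eq_of_le_of_card_ge hKL.le e.ge)))

end CfsgLib.CharTheory.RelativeM
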