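/-
Divisibility by `1 - ζ`.
-/
import Mathlib
import Cfsg.Agent.Lib.CharTheory.Irr
import Cfsg.Agent.Lib.CharTheory.Linear
import Cfsg.Agent.Lib.CharTheory.Induced
import Cfsg.Agent.Lib.CharTheory.PowerMap

set_option autoImplicit false

namespace CfsgLib.CharTheory

open Cfsg

universe u

theorem exists_one_sub_root_pow {p : ℕ} (hp : p.Prime) {ζ : ℂ} (hζ : IsPrimitiveRoot ζ p) :
    ∃ u : ℂ, IsIntegral ℤ u ∧ (1 - ζ) ^ (p - 1) = (p : ℂ) * u := by
  classical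
  haveI := Fact.mk hp
  have hint : IsIntegral ℤ ζ := hζ.isIntegral hp.pos
  have hprim : ∀ k ∈ Finset.range (p - 1), IsPrimitiveRoot (ζ ^ (k + 1)) p := fun k hk => by
    refine hζ.pow_of_coprime _ ?_
    rw [Nat.coprime_comm, hp.coprime_iff_not_dvd]
    intro h
    have := Nat.le_of_dvd (Nat.succ_pos _) h
    have := Finset.mem_range.mp hk
    omega
  choose! j hj hje using fun k (hk : k ∈ Finset.range (p - 1)) => (hprim k hk).eq_pow_of_pow_eq_one hζ.pow_eq_one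
  refine ⟨∏ k ∈ Finset.range (p - 1), ∑ i ∈ Finset.range (j k), (ζ ^ (k + 1)) ^ i,
    IsIntegral.prod _ fun k _ => IsIntegral.sum _ fun i _ => (hint.pow _).pow _, ?_⟩
  have h1 : ∏ k ∈ Finset.range (p - 1), (1 - ζ ^ (k + 1)) = (p : ℂ) := by
    have hp1 : p - 1 + 1 = p := by have := hp.two_le; omega
    rw [IsPrimitiveRoot.prod_one_sub_pow_eq_order (by rw [hp1]; exact hζ)]
    conv_rhs => rw [← hp1]
    push_cast; ring
  rw [← h1, ← Finset.prod_mul_distrib]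
  conv_lhs => rw [show (1 - ζ) ^ (p - 1) = ∏ _k ∈ Finset.range (p - 1), (1 - ζ) by rw [Finset.prod_const, Finset.card_range]]
  refine Finset.prod_congr rfl fun k hk => ?_
  rw [mul_neg_geom_sum, hje k hk]

theorem prime_dvd_of_one_sub_root {p : ℕ} (hp : p.Prime) {ζ : ℂ} (hζ : IsPrimitiveRoot ζ p) {n : ℤ} {ω : ℂ}
    (hω : IsIntegral ℤ ω) (h : (n : ℂ) = (1 - ζ) * ω) : (p : ℤ) ∣ n := by
  obtain ⟨u, hu, he⟩ := exists_one_sub_root_pow hp hζ
  have hp0 : (p : ℂ) ≠ 0 := Nat.cast_ne_zero.mpr hp.ne_zero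
  set z : ℂ := u * ω ^ (p - 1) with hz
  have hzint : IsIntegral ℤ z := hu.mul (hω.pow _)
  have hzq : z = ((((n ^ (p - 1) : ℤ) : ℚ) / p : ℚ) : ℂ) := by
    push_cast
    rw [eq_div_iff hp0, h, mul_pow, he, hz]; ring
  rw [hzq, show ((((n ^ (p - 1) : ℤ) : ℚ) / p : ℚ) : ℂ) = algebraMap ℚ ℂ (((n ^ (p - 1) : ℤ) : ℚ) / p) from rfl,
    isIntegral_algebraMap_iff (FaithfulSMul.algebraMap_injective ℚ ℂ)] at hzint
  obtain ⟨m, hm⟩ := IsIntegrallyClosed.isIntegral_iff.mp hzint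
  have hm' : n ^ (p - 1) = p * m := by
    have : ((n ^ (p - 1) : ℤ) : ℚ) = (((p : ℤ) * m : ℤ) : ℚ) := by
      rw [eq_comm, ← sub_eq_zero]
      have hpq : (p : ℚ) ≠ 0 := Nat.cast_ne_zero.mpr hp.ne_zero
      rw [eq_intCast] at hm
      push_cast at hm ⊢
      rw [hm]; field_simp; ring
    exact_mod_cast this
  exact (Nat.prime_iff_prime_int.mp hp).dvd_of_dvd_pow (Dvd.intro m hm'.symm)

theorem value_congr_one_sub_root {G : Type u} [Group G] [Finite G] {χ : G → ℂ} (hχ : IsGeneralizedCharacter G χ)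
    {p : ℕ} (hp : p.Prime) {ζ : ℂ} (hζ : IsPrimitiveRoot ζ p) {x y : G} (hx : x ^ p = 1) (hxy : x * y = y * x) :
    ∃ ω : ℂ, IsIntegral ℤ ω ∧ χ (x * y) - χ y = (1 - ζ) * ω := by
  classical
  suffices h : ∀ ψ : G → ℂ, IsCharacter G ψ → ∃ ω : ℂ, IsIntegral ℤ ω ∧ ψ (x * y) - ψ y = (1 - ζ) * ω by
    obtain ⟨a, b, ha, hb, rfl⟩ := hχ
    obtain ⟨ω₁, h1, e1⟩ := h a ha
    obtain ⟨ω₂, h2, e2⟩ := h b hb
    exact ⟨ω₁ - ω₂, h1.sub h2, by simp only [Pi.sub_apply]; linear_combination e1 - e2⟩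
  intro ψ hψ
  set A := Subgroup.closure ({x, y} : Set G)
  have hcomm : ∀ a b : A, a * b = b * a := by
    haveI : IsMulCommutative A := Subgroup.isMulCommutative_closure (by
      intro a ha b hb
      simp only [Set.mem_insert_iff, Set.mem_singleton_iff] at ha hb
      rcases ha with rfl | rfl <;> rcases hb with rfl | rfl <;> first | rfl | exact hxy | exact hxy.symm)
    exact fun a b => IsMulCommutative.is_comm.comm a b
  have := Fintype.ofFinite A
  obtain ⟨l, hl, hsum⟩ := exists_list_irr (isCharacter_restrict hψ A)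
  let xA : A := ⟨x, Subgroup.subset_closure (Set.mem_insert _ _)⟩
  let yA : A := ⟨y, Subgroup.subset_closure (Set.mem_insert_of_mem _ rfl)⟩
  have hterm : ∀ φ ∈ l, ∃ ω : ℂ, IsIntegral ℤ ω ∧ φ (xA * yA) - φ yA = (1 - ζ) * ω := by
    intro φ hφ
    obtain ⟨f, rfl⟩ := exists_hom_of_degree_one (isCharacter_of_irr (hl φ hφ)) (degree_one_of_commutative hcomm (hl φ hφ))
    have hyint : IsIntegral ℤ ((f yA : ℂˣ) : ℂ) := by
      refine IsIntegral.of_pow (orderOf_pos yA) ?_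
      rw [← Units.val_pow_eq_pow_val, ← map_pow, pow_orderOf_eq_one, map_one, Units.val_one]
      exact isIntegral_one
    have hx1 : ((f xA : ℂˣ) : ℂ) ^ p = 1 := by
      rw [← Units.val_pow_eq_pow_val, ← map_pow, show xA ^ p = 1 from Subtype.ext (by simpa using hx), map_one, Units.val_one]
    haveI := NeZero.mk hp.ne_zero
    obtain ⟨i, -, hi⟩ := hζ.eq_pow_of_pow_eq_one hx1
    refine ⟨-((∑ k ∈ Finset.range i, ζ ^ k) * (f yA : ℂ)),
      ((IsIntegral.sum _ fun k _ => (hζ.isIntegral hp.pos).pow _).mul hyint).neg, ?_⟩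
    have hg := mul_neg_geom_sum ζ i
    simp only [map_mul, Units.val_mul, ← hi]
    linear_combination (f yA : ℂ) * hg
  have hgen : ∀ l' : List (A → ℂ), (∀ φ ∈ l', ∃ ω : ℂ, IsIntegral ℤ ω ∧ φ (xA * yA) - φ yA = (1 - ζ) * ω) →
      ∃ ω : ℂ, IsIntegral ℤ ω ∧ l'.sum (xA * yA) - l'.sum yA = (1 - ζ) * ω := by
    intro l' h'
    induction l' with
    | nil => exact ⟨0, isIntegral_zero, by simp⟩
    | cons a t ih =>
      obtain ⟨w1, i1, e1⟩ := h' a List.mem_cons_self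
      obtain ⟨w2, i2, e2⟩ := ih fun φ hφ => h' φ (List.mem_cons_of_mem _ hφ)
      exact ⟨w1 + w2, i1.add i2, by simp only [List.sum_cons, Pi.add_apply]; linear_combination e1 + e2⟩
  obtain ⟨w, hw, e⟩ := hgen l hterm
  rw [← hsum] at e
  exact ⟨w, hw, e⟩

end CfsgLib.CharTheory
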