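/-
Isotypic projections in multiplicity-free representations.
-/
import Cfsg.Agent.Lib.CharTheory.MultFree

set_option autoImplicit false

namespace CfsgLib.CharTheory

open Cfsg
open scoped ComplexConjugate

universe u v

variable {G : Type u} [Group G] [Fintype G]

/-- Inner product with a representation's character splits along a decomposition, with natural values. -/
theorem classInner_split {V : Type v} [AddCommGroup V] [Module ℂ V] [FiniteDimensional ℂ V] {ρ : Representation ℂ G V}
    (p q : Subrepresentation ρ) (h : IsCompl p.toSubmodule q.toSubmodule) {χ : G → ℂ} (hχ : IsIrrCharacter G χ) :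
    ∃ a b : ℕ, classInner p.toRepresentation.character χ = a ∧ classInner q.toRepresentation.character χ = b ∧
      classInner ρ.character χ = ((a + b : ℕ) : ℂ) := by
  obtain ⟨a, ha⟩ := classInner_char_nat (isCharacter_character p.toRepresentation) (isCharacter_of_irr hχ)
  obtain ⟨b, hb⟩ := classInner_char_nat (isCharacter_character q.toRepresentation) (isCharacter_of_irr hχ)
  exact ⟨a, b, ha, hb, by rw [character_eq_add_of_isCompl ρ p q h, classInner_add_left, ha, hb, Nat.cast_add]⟩

/-- A weighted sum killing every constituent kills the representation. -/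
theorem weightedSum_eq_zero_of_constituents {f : G → ℂ} (hf : IsClassFunction G f)
    {V : Type v} [AddCommGroup V] [Module ℂ V] [FiniteDimensional ℂ V] (ρ : Representation ℂ G V)
    (h0 : ∀ χ, IsIrrCharacter G χ → classInner ρ.character χ ≠ 0 → ∑ g : G, f g * χ g = 0) :
    ∑ g : G, f g • ρ g = 0 := by
  revert h0
  refine rep_induction (P := fun V _ _ ρ =>
    (∀ χ, IsIrrCharacter G χ → classInner ρ.character χ ≠ 0 → ∑ g : G, f g * χ g = 0) → ∑ g : G, f g • ρ g = 0) ?_ ?_ ?_ V ρ
  · intro V _ _ _ ρ hs _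
    exact LinearMap.ext fun v => Subsingleton.elim _ _
  · intro V _ _ _ ρ hi h0
    have h1 := h0 _ (isIrrCharacter_character ρ) (by rw [classInner_irr_self (isIrrCharacter_character ρ)]; exact one_ne_zero)
    rw [sum_smul_eq_smul_one ρ hf, h1, zero_div, zero_smul]
  · intro V _ _ _ ρ p q hpq hp hq h0
    have hp' := hp fun χ hχ hne => h0 χ hχ (by
      obtain ⟨a, b, ha, hb, hab⟩ := classInner_split p q hpq hχ
      rw [hab, Nat.cast_ne_zero]; rw [ha, Nat.cast_ne_zero] at hne; omega)
    have hq' := hq fun χ hχ hne => h0 χ hχ (by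
      obtain ⟨a, b, ha, hb, hab⟩ := classInner_split p q hpq hχ
      rw [hab, Nat.cast_ne_zero]; rw [hb, Nat.cast_ne_zero] at hne; omega)
    ext v
    obtain ⟨⟨a, b⟩, rfl⟩ := (p.toSubmodule.prodEquivOfIsCompl q.toSubmodule hpq).surjective v
    have ha := congrArg Subtype.val (LinearMap.congr_fun hp' a)
    have hb := congrArg Subtype.val (LinearMap.congr_fun hq' b)
    simp [LinearMap.sum_apply, Subrepresentation.toRepresentation, LinearMap.restrict_apply] at ha hb
    simp [LinearMap.sum_apply, smul_add, Finset.sum_add_distrib, ha, hb]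

/-- The projection to the component of `χ`. -/
noncomputable def isoProj {V : Type v} [AddCommGroup V] [Module ℂ V] (ρ : Representation ℂ G V) (χ : G → ℂ) :
    Module.End ℂ V :=
  ∑ g : G, (χ 1 / (Nat.card G : ℂ) * conj (χ g)) • ρ g

theorem isClassFunction_isoWeight {χ : G → ℂ} (hχ : IsIrrCharacter G χ) :
    IsClassFunction G fun g : G => χ 1 / (Nat.card G : ℂ) * conj (χ g) := fun g k => by
  show _ * conj (χ (k * g * k⁻¹)) = _
  rw [isClassFunction_irr hχ g k]

theorem isoProj_eq_zero {V : Type v} [AddCommGroup V] [Module ℂ V] [FiniteDimensional ℂ V] (ρ : Representation ℂ G V)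
    {χ : G → ℂ} (hχ : IsIrrCharacter G χ) (h : classInner ρ.character χ = 0) : isoProj ρ χ = 0 := by
  refine weightedSum_eq_zero_of_constituents (isClassFunction_isoWeight hχ) ρ fun ψ hψ hne => ?_
  have hne' : ψ ≠ χ := fun e => hne (e ▸ h)
  have := classInner_irr_ne hψ hχ hne'
  simp only [classInner, mul_eq_zero, inv_eq_zero, Nat.cast_eq_zero, Nat.card_pos.ne', false_or] at this
  simp only [mul_assoc, ← Finset.mul_sum]
  rw [Finset.sum_congr rfl fun g _ => mul_comm (conj (χ g)) (ψ g), this, mul_zero]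

theorem sum_isoProj {V : Type v} [AddCommGroup V] [Module ℂ V] (ρ : Representation ℂ G V) :
    ∑ χ : IrrCharacter G, isoProj ρ (χ : G → ℂ) = 1 := by
  classical
  simp only [isoProj]
  rw [Finset.sum_comm]
  simp only [← Finset.sum_smul]
  have hc : ∀ g : G, ∑ χ : IrrCharacter G, (χ : G → ℂ) 1 / (Nat.card G : ℂ) * conj ((χ : G → ℂ) g) =
      if g = 1 then 1 else 0 := by
    intro g
    have h := sum_irr_apply_mul_degree g⁻¹
    simp only [inv_eq_one] at h
    rw [Finset.sum_congr rfl fun (χ : IrrCharacter G) _ => show (χ : G → ℂ) 1 / (Nat.card G : ℂ) * conj ((χ : G → ℂ) g) =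
      ((χ : G → ℂ) g⁻¹ * (χ : G → ℂ) 1) / (Nat.card G : ℂ) by rw [char_apply_inv (isCharacter_of_irr χ.2)]; ring,
      ← Finset.sum_div, h]
    split <;> simp
  simp only [hc, ite_smul, one_smul, zero_smul, Finset.sum_ite_eq', Finset.mem_univ, if_true, map_one]

/-- In a multiplicity-free representation equivariant maps act as scalars on each component. -/
theorem exists_scalar_isoProj {V : Type v} [AddCommGroup V] [Module ℂ V] [FiniteDimensional ℂ V] (ρ : Representation ℂ G V)
    (hmf : ∀ χ : G → ℂ, IsIrrCharacter G χ → classInner ρ.character χ = 0 ∨ classInner ρ.character χ = 1)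
    (D : Module.End ℂ V) (hD : ∀ g, D * ρ g = ρ g * D) {χ : G → ℂ} (hχ : IsIrrCharacter G χ) :
    ∃ c : ℂ, D * isoProj ρ χ = c • isoProj ρ χ := by
  revert hmf D
  refine rep_induction (P := fun V _ _ ρ =>
    (∀ χ : G → ℂ, IsIrrCharacter G χ → classInner ρ.character χ = 0 ∨ classInner ρ.character χ = 1) →
      ∀ D : Module.End ℂ V, (∀ g, D * ρ g = ρ g * D) → ∃ c : ℂ, D * isoProj ρ χ = c • isoProj ρ χ) ?_ ?_ ?_ V ρ
  · intro V _ _ _ ρ hs _ D _
    exact ⟨0, LinearMap.ext fun x => Subsingleton.elim _ _⟩
  · intro V _ _ _ ρ hi _ D hD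
    refine ⟨LinearMap.trace ℂ V D / (Module.finrank ℂ V : ℂ), ?_⟩
    conv_lhs => rw [eq_smul_id_of_commute ρ D hD, smul_mul_assoc, one_mul]
  intro V _ _ _ ρ p q hpq ihp ihq hmf D hD
  have hsmall : ∀ ψ, IsIrrCharacter G ψ → ∃ a b : ℕ, classInner p.toRepresentation.character ψ = a ∧
      classInner q.toRepresentation.character ψ = b ∧ a + b ≤ 1 := fun ψ hψ => by
    obtain ⟨a, b, ha, hb, hab⟩ := classInner_split p q hpq hψ
    refine ⟨a, b, ha, hb, ?_⟩
    rcases hmf ψ hψ with h | h <;> rw [hab] at h
    · rw [Nat.cast_eq_zero] at h; omega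
    · rw [Nat.cast_eq_one] at h; omega
  have horth : ∀ a b : G → ℂ, IsCharacter G a → IsCharacter G b →
      (∀ ψ, IsIrrCharacter G ψ → classInner a ψ = 0 ∨ classInner b ψ = 0) → classInner a b = 0 := by
    intro a b ha hb h
    rw [classInner_eq_sum_irr (isClassFunction_char ha)]
    refine Finset.sum_eq_zero fun ψ _ => ?_
    rcases h ψ ψ.2 with h' | h'
    · rw [h', zero_mul]
    · rw [← classInner_comm b, h', map_zero, mul_zero]
  have hqp : classInner q.toRepresentation.character p.toRepresentation.character = 0 :=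
    horth _ _ (isCharacter_character _) (isCharacter_character _) fun ψ hψ => by
      obtain ⟨a, b, ha, hb, hab⟩ := hsmall ψ hψ
      rcases Nat.eq_zero_or_pos b with h | h
      · left; rw [hb, h, Nat.cast_zero]
      · right; rw [ha, show a = 0 by omega, Nat.cast_zero]
  have hpq' : classInner p.toRepresentation.character q.toRepresentation.character = 0 := by
    rw [← classInner_comm q.toRepresentation.character, hqp, map_zero]
  have hmfp : ∀ ψ : G → ℂ, IsIrrCharacter G ψ → classInner p.toRepresentation.character ψ = 0 ∨ classInner p.toRepresentation.character ψ = 1 := fun ψ hψ => by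
    obtain ⟨a, b, ha, hb, hab⟩ := hsmall ψ hψ
    rcases Nat.eq_zero_or_pos a with h | h
    · left; rw [ha, h, Nat.cast_zero]
    · right; rw [ha, show a = 1 by omega, Nat.cast_one]
  have hmfq : ∀ ψ : G → ℂ, IsIrrCharacter G ψ → classInner q.toRepresentation.character ψ = 0 ∨ classInner q.toRepresentation.character ψ = 1 := fun ψ hψ => by
    obtain ⟨a, b, ha, hb, hab⟩ := hsmall ψ hψ
    rcases Nat.eq_zero_or_pos b with h | h
    · left; rw [hb, h, Nat.cast_zero]
    · right; rw [hb, show b = 1 by omega, Nat.cast_one]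
  have hres : ∀ (r : Subrepresentation ρ) (x : r.toSubmodule), isoProj ρ χ (x : V) = ((isoProj r.toRepresentation χ x : r.toSubmodule) : V) := fun r x => by
    simp [isoProj, LinearMap.sum_apply, Subrepresentation.toRepresentation, LinearMap.restrict_apply]
  obtain ⟨cp, hcp⟩ := ihp hmfp (D.restrict (preserves_summand p q hpq hqp D hD))
    (fun g => LinearMap.ext fun a => Subtype.ext (LinearMap.congr_fun (hD g) a))
  obtain ⟨cq, hcq⟩ := ihq hmfq (D.restrict (preserves_summand q p hpq.symm hpq' D hD))
    (fun g => LinearMap.ext fun a => Subtype.ext (LinearMap.congr_fun (hD g) a))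
  have hp_apply : ∀ a : p.toSubmodule, D (isoProj ρ χ (a : V)) = cp • isoProj ρ χ (a : V) := fun a => by
    rw [hres]; exact congrArg Subtype.val (LinearMap.congr_fun hcp a)
  have hq_apply : ∀ a : q.toSubmodule, D (isoProj ρ χ (a : V)) = cq • isoProj ρ χ (a : V) := fun a => by
    rw [hres]; exact congrArg Subtype.val (LinearMap.congr_fun hcq a)
  obtain ⟨a, b, ha, hb, hab⟩ := hsmall χ hχ
  rcases Nat.eq_zero_or_pos a with h | h
  · refine ⟨cq, LinearMap.ext fun x => ?_⟩
    obtain ⟨⟨u, w⟩, rfl⟩ := (p.toSubmodule.prodEquivOfIsCompl q.toSubmodule hpq).surjective x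
    have h0 : isoProj ρ χ (u : V) = 0 := by
      rw [hres, isoProj_eq_zero _ hχ (by rw [ha, h, Nat.cast_zero])]; simp
    show D (isoProj ρ χ _) = cq • isoProj ρ χ _
    simp only [Submodule.coe_prodEquivOfIsCompl', map_add, h0, zero_add, hq_apply]
  · refine ⟨cp, LinearMap.ext fun x => ?_⟩
    obtain ⟨⟨u, w⟩, rfl⟩ := (p.toSubmodule.prodEquivOfIsCompl q.toSubmodule hpq).surjective x
    have h0 : isoProj ρ χ (w : V) = 0 := by
      rw [hres, isoProj_eq_zero _ hχ (by rw [hb, show b = 0 by omega, Nat.cast_zero])]; simp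
    show D (isoProj ρ χ _) = cp • isoProj ρ χ _
    simp only [Submodule.coe_prodEquivOfIsCompl', map_add, h0, add_zero, hp_apply]

end CfsgLib.CharTheory
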