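import Cfsg.Agent.Lib.CharTheory.Basic
import Cfsg.Agent.Lib.Blocks.GroupAlgebra
import Mathlib.RingTheory.Valuation.LocalSubring
import Mathlib.RepresentationTheory.Invariants

/-!
# Fixed vectors of a subgroup containing a semiregular `p`-subgroup

If `v` is fixed by `H` and killed by the averaging over `G`, and the `p`-group `P` is semiregular
on the cosets of `H` other than `H`, then the translates of `v` span a space of dimension at
least `|P|`.
-/

namespace CfsgLib.CharTheory.SemiregularFixed

open Cfsg CfsgLib.CharTheory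
open scoped ComplexConjugate

set_option linter.unusedVariables false
set_option linter.style.haveILetI false
set_option linter.unusedSectionVars false

universe u

/-- A valuation ring of `ℂ` in which `p` is not a unit. -/
theorem exists_valuation (p : ℕ) [hp : Fact p.Prime] :
    ∃ B : ValuationSubring ℂ, B.valuation (p : ℂ) < 1 := by
  obtain ⟨B, -, hI⟩ := Ideal.image_subset_nonunits_valuationSubring
    (A := (Int.castRingHom ℂ).range) (Ideal.span {(p : (Int.castRingHom ℂ).range)}) (by
      rw [Ne, Ideal.span_singleton_eq_top]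
      intro h
      obtain ⟨w, hw⟩ := h.exists_right_inv
      obtain ⟨n, hn⟩ := w.2
      have h1 : (p : ℂ) * (w : ℂ) = 1 := by exact_mod_cast congrArg Subtype.val hw
      rw [← hn] at h1
      rw [eq_intCast] at h1
      have h2 : (p : ℤ) * n = 1 := by exact_mod_cast h1
      have h3 := Int.eq_one_of_mul_eq_one_right (by positivity) h2
      exact hp.out.one_lt.ne' (by exact_mod_cast h3))
  refine ⟨B, B.mem_nonunits_iff.1 (hI ⟨(p : (Int.castRingHom ℂ).range),
    Ideal.subset_span rfl, ?_⟩)⟩
  simp

variable {G : Type u} [Group G] [Fintype G] {p : ℕ} [hp : Fact p.Prime]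

open scoped Classical in
/-- The translates of a fixed vector killed by the average. -/
theorem card_le_finrank_ker {n : ℕ} (ρ : Representation ℂ G (Fin n → ℂ)) {P H : Subgroup G}
    (hP : IsPGroup p P) (hPH : P ≤ H)
    (hsemi : ∀ g : G, g ∉ H → ∀ u ∈ P, g⁻¹ * u * g ∈ H → u = 1)
    {v : Fin n → ℂ} (hv : v ≠ 0) (hfix : ∀ h ∈ H, ρ h v = v) (hsum : ∑ g : G, ρ g v = 0) :
    Nat.card P ≤ Module.finrank ℂ (LinearMap.ker (∑ g : G, ρ g)) := by
  classical
  obtain ⟨B, hB⟩ := exists_valuation p
  haveI := Fintype.ofFinite P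
  haveI := Fintype.ofFinite (G ⧸ H)
  let k := IsLocalRing.ResidueField B
  have hpB : IsLocalRing.residue B (p : B) = 0 := by
    rw [IsLocalRing.residue_eq_zero_iff, B.valuation_lt_one_iff]
    exact_mod_cast hB
  haveI : CharP k p := by
    haveI : CharP k (ringChar k) := ringChar.charP k
    have h0 : ((p : ℕ) : k) = 0 := by rw [← map_natCast (IsLocalRing.residue B)]; exact hpB
    have hd : ringChar k ∣ p := ringChar.dvd h0
    rcases (Nat.dvd_prime hp.out).1 hd with h | h
    · exact absurd h (CharP.ringChar_ne_one (R := k))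
    · exact h ▸ (inferInstance : CharP k (ringChar k))
  obtain ⟨i, hi⟩ : ∃ i, v i ≠ 0 := by
    by_contra hc
    push Not at hc
    exact hv (funext hc)
  let f₀ : G → ℂ := fun a => ρ a v i
  have hf1 : f₀ 1 ≠ 0 := by simp only [f₀, map_one]; exact hi
  obtain ⟨a₀, -, ha₀⟩ := Finset.exists_max_image Finset.univ (fun a : G => B.valuation (f₀ a))
    ⟨1, Finset.mem_univ _⟩
  have ha0 : f₀ a₀ ≠ 0 := fun h => by
    have := ha₀ 1 (Finset.mem_univ _)
    rw [h, map_zero, le_zero_iff, map_eq_zero] at this
    exact hf1 this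
  let f : G → ℂ := fun a => f₀ a / f₀ a₀
  have hfB : ∀ a, f a ∈ B := fun a => by
    rw [← B.valuation_le_one_iff, map_div₀,
      div_le_one₀ (lt_of_le_of_ne zero_le' (Ne.symm ((map_ne_zero _).2 ha0)))]
    exact ha₀ a (Finset.mem_univ _)
  let fk : G → k := fun a => IsLocalRing.residue B ⟨f a, hfB a⟩
  have hfk1 : fk a₀ = 1 := by
    simp only [fk, f, div_self ha0]
    exact map_one _
  have hright : ∀ a : G, ∀ h ∈ H, f (a * h) = f a := fun a h hh => by
    simp only [f, f₀, map_mul, Module.End.mul_apply, hfix h hh]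
  have hq : ∀ (a : G) (q : G ⧸ H) (x : G), (x : G ⧸ H) = q → f (a * q.out) = f (a * x) := by
    intro a q x hx
    obtain ⟨h, hh⟩ := QuotientGroup.mk_out_eq_mul H x
    rw [← hx, hh, ← mul_assoc, hright _ _ h.2]
  -- the sum over the cosets vanishes
  have hcos : ∀ a : G, ∑ q : G ⧸ H, f (a * q.out) = 0 := by
    intro a
    have h1 : ∑ x : G, f (a * x) = 0 := by
      have h2 : ∑ x : G, ρ (a * x) v = 0 := by
        simp only [map_mul, Module.End.mul_apply, ← map_sum, hsum, map_zero]
      simp only [f, f₀, ← Finset.sum_div, ← Finset.sum_apply, h2, Pi.zero_apply, zero_div]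
    rw [← Finset.sum_fiberwise (Finset.univ : Finset G) (fun x : G => (x : G ⧸ H))] at h1
    have h3 : ∀ q : G ⧸ H, ∑ x ∈ Finset.univ.filter (fun x : G => (x : G ⧸ H) = q), f (a * x) =
        (Nat.card H : ℂ) * f (a * q.out) := by
      intro q
      rw [Finset.sum_congr rfl fun x hx => (hq a q x (Finset.mem_filter.1 hx).2).symm,
        Finset.sum_const, nsmul_eq_mul]
      congr 2
      rw [Nat.card_eq_fintype_card, ← Fintype.card_subtype]
      exact Fintype.card_congr
        { toFun := fun x => ⟨q.out⁻¹ * x.1, QuotientGroup.eq.1 (by rw [QuotientGroup.out_eq']; exact x.2.symm)⟩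
          invFun := fun h => ⟨q.out * h, by
            rw [QuotientGroup.mk_mul_of_mem _ h.2, QuotientGroup.out_eq']⟩
          left_inv := fun x => Subtype.ext (mul_inv_cancel_left _ _)
          right_inv := fun h => Subtype.ext (inv_mul_cancel_left _ _) }
    rw [Finset.sum_congr rfl fun q _ => h3 q, ← Finset.mul_sum] at h1
    exact (mul_eq_zero.1 h1).resolve_left (Nat.cast_ne_zero.2 Nat.card_pos.ne')
  -- some family of translates is nonzero modulo the maximal ideal
  obtain ⟨x, hx⟩ : ∃ x : G, ∑ u : P, fk (a₀ * u * x) ≠ 0 ∧ x ∉ H := by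
    by_contra hc
    push Not at hc
    have hcosk : ∑ q : G ⧸ H, fk (a₀ * q.out) = 0 := by
      have h : (∑ q : G ⧸ H, (⟨f (a₀ * q.out), hfB _⟩ : B)) = 0 := Subtype.ext (by
        rw [AddSubmonoidClass.coe_finset_sum]; exact hcos a₀)
      have := congrArg (IsLocalRing.residue B) h
      rwa [map_sum, map_zero] at this
    rw [← Finset.sum_fiberwise (Finset.univ : Finset (G ⧸ H))
      (fun q => MulAction.orbit P q)] at hcosk
    have hone : ∀ u : P, u • ((1 : G) : G ⧸ H) = ((1 : G) : G ⧸ H) := fun u => by
      show ((((u : G) * 1 : G)) : G ⧸ H) = _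
      rw [mul_one, QuotientGroup.eq]
      simpa using H.inv_mem (hPH u.2)
    rw [Finset.sum_eq_single (MulAction.orbit P ((1 : G) : G ⧸ H))] at hcosk
    · have hsingle : Finset.univ.filter (fun q : G ⧸ H =>
          MulAction.orbit P q = MulAction.orbit P ((1 : G) : G ⧸ H)) = {((1 : G) : G ⧸ H)} := by
        ext q
        simp only [Finset.mem_filter, Finset.mem_univ, true_and, Finset.mem_singleton]
        refine ⟨fun hq => ?_, fun hq => by rw [hq]⟩
        obtain ⟨u, hu⟩ := MulAction.orbit_eq_iff.1 hq
        exact hu.symm.trans (hone u)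
      rw [hsingle, Finset.sum_singleton] at hcosk
      have h1 : fk (a₀ * ((1 : G) : G ⧸ H).out) = fk a₀ :=
        congrArg (IsLocalRing.residue B) (Subtype.ext ((hq a₀ _ 1 rfl).trans (by rw [mul_one])))
      rw [h1, hfk1] at hcosk
      exact one_ne_zero hcosk
    · intro O _ hO
      by_cases hemp : (Finset.univ.filter fun q : G ⧸ H => MulAction.orbit P q = O).Nonempty
      · obtain ⟨q₀, hq₀⟩ := hemp
        have hq₀O := (Finset.mem_filter.1 hq₀).2
        have hq₀ne : q₀.out ∉ H := fun hmem => hO (by
          rw [← hq₀O]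
          congr 1
          rw [← QuotientGroup.out_eq' q₀, QuotientGroup.eq]
          simpa using hmem)
        have himg : (Finset.univ.filter fun q : G ⧸ H => MulAction.orbit P q = O) =
            Finset.univ.image fun u : P => u • q₀ := by
          ext q
          simp only [Finset.mem_filter, Finset.mem_univ, true_and, Finset.mem_image]
          constructor
          · intro hq
            exact MulAction.orbit_eq_iff.1 (hq.trans hq₀O.symm)
          · rintro ⟨u, rfl⟩
            rw [← hq₀O]
            exact MulAction.orbit_eq_iff.2 (MulAction.mem_orbit q₀ u)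
        have hsm : ∀ u : P, u • q₀ = (((u : G) * q₀.out : G) : G ⧸ H) := fun u => by
          conv_lhs => rw [← QuotientGroup.out_eq' q₀]
          rfl
        rw [himg, Finset.sum_image]
        · rw [← not_not (a := ∑ u : P, fk (a₀ * (u • q₀).out) = 0)]
          intro hne
          refine hq₀ne (hc q₀.out fun h0 => hne ?_)
          rw [← h0]
          refine Finset.sum_congr rfl fun u _ => ?_
          refine congrArg (IsLocalRing.residue B) (Subtype.ext ?_)
          exact (hq a₀ _ _ (hsm u).symm).trans (by rw [mul_assoc])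
        · intro u _ w _ huw
          simp only [hsm] at huw
          rw [QuotientGroup.eq] at huw
          have h2 := hsemi q₀.out hq₀ne ((u : G)⁻¹ * w) (P.mul_mem (P.inv_mem u.2) w.2) (by
            simpa [mul_assoc] using huw)
          exact Subtype.ext (inv_mul_eq_one.1 h2)
      · rw [Finset.not_nonempty_iff_eq_empty.1 hemp, Finset.sum_empty]
    · intro h; exact absurd (Finset.mem_univ _) h
  obtain ⟨hx, hxH⟩ := hx
  -- the translates are independent modulo the maximal ideal
  have hindk : ∀ c : P → k, (∀ a, ∑ u : P, c u * fk (a * u * x) = 0) → c = 0 := by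
    intro c hc
    by_contra hne
    let ρk : P →* ((P → k) →ₗ[k] (P → k)) :=
      { toFun := fun t => LinearMap.funLeft k k fun u => t⁻¹ * u
        map_one' := by ext c u; simp [LinearMap.funLeft]
        map_mul' := fun s t => by ext c u; simp [LinearMap.funLeft, mul_assoc] }
    let W : Submodule k (P → k) :=
      { carrier := {c | ∀ a, ∑ u : P, c u * fk (a * u * x) = 0}
        add_mem' := fun {c d} hc hd a => by
          simp [add_mul, Finset.sum_add_distrib, hc a, hd a]
        zero_mem' := fun a => by simp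
        smul_mem' := fun r c hc a => by
          simp only [Pi.smul_apply, smul_eq_mul]
          rw [Finset.sum_congr rfl fun u _ => mul_assoc r (c u) _, ← Finset.mul_sum, hc a, mul_zero] }
    obtain ⟨w, hwW, hw0, hwfix⟩ := CfsgLib.Blocks.exists_fixed_vector (p := p) hP ρk hne W hc
      (fun t w hw a => by
        refine Eq.trans ?_ (hw (a * t))
        refine Fintype.sum_equiv (Equiv.mulLeft t⁻¹) _ _ fun u => ?_
        simp [ρk, LinearMap.funLeft, mul_assoc])
    have hconst : ∀ u : P, w u = w 1 := fun u => by
      have := congrFun (hwfix u) u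
      simpa [ρk, LinearMap.funLeft] using this.symm
    have h1 := hwW a₀
    rw [Finset.sum_congr rfl fun u _ => by rw [hconst u], ← Finset.mul_sum] at h1
    refine hw0 (funext fun u => ?_)
    rw [hconst u]
    exact (mul_eq_zero.1 h1).resolve_right hx
  let vec : P → (LinearMap.ker (∑ g : G, ρ g)) := fun u => ⟨ρ ((u : G) * x) v, by
    rw [LinearMap.mem_ker, LinearMap.sum_apply]
    simp only [← Module.End.mul_apply, ← map_mul]
    rw [← hsum]
    exact Fintype.sum_equiv (Equiv.mulRight ((u : G) * x)) _ _ fun g => rfl⟩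
  have hind : LinearIndependent ℂ vec := by
    rw [Fintype.linearIndependent_iff]
    intro c hc
    by_contra hne
    push Not at hne
    obtain ⟨j, hj⟩ := hne
    obtain ⟨u₀, -, hu₀⟩ := Finset.exists_max_image Finset.univ (fun u : P => B.valuation (c u))
      ⟨j, Finset.mem_univ _⟩
    have hu0 : c u₀ ≠ 0 := fun h => by
      have := hu₀ j (Finset.mem_univ _)
      rw [h, map_zero, le_zero_iff, map_eq_zero] at this
      exact hj this
    have hcB : ∀ u, c u / c u₀ ∈ B := fun u => by
      rw [← B.valuation_le_one_iff, map_div₀,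
        div_le_one₀ (lt_of_le_of_ne zero_le' (Ne.symm ((map_ne_zero _).2 hu0)))]
      exact hu₀ u (Finset.mem_univ _)
    have hrel : ∀ a, ∑ u : P, (c u / c u₀) * f (a * u * x) = 0 := by
      intro a
      have h1 := congrArg (fun w : LinearMap.ker (∑ g : G, ρ g) => ρ a (w : Fin n → ℂ) i) hc
      simp only [Submodule.coe_sum, Submodule.coe_smul, vec, map_sum, map_smul, Finset.sum_apply,
        Pi.smul_apply, smul_eq_mul, ZeroMemClass.coe_zero, map_zero, Pi.zero_apply,
        ← Module.End.mul_apply, ← map_mul] at h1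
      rw [← mul_zero ((c u₀)⁻¹ * (f₀ a₀)⁻¹), ← h1, Finset.mul_sum]
      refine Finset.sum_congr rfl fun u _ => ?_
      simp only [f, f₀, mul_assoc, div_eq_mul_inv]
      ring
    have h2 := congrFun (hindk (fun u => IsLocalRing.residue B ⟨c u / c u₀, hcB u⟩) fun a => by
      have h : (∑ u : P, (⟨c u / c u₀, hcB u⟩ : B) * ⟨f (a * u * x), hfB _⟩) = 0 := Subtype.ext (by
        rw [AddSubmonoidClass.coe_finset_sum]; exact hrel a)
      have := congrArg (IsLocalRing.residue B) h
      rw [map_sum, map_zero] at this
      simp only [map_mul] at this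
      exact this) u₀
    simp only [div_self hu0, Pi.zero_apply] at h2
    exact one_ne_zero ((map_one (IsLocalRing.residue B)).symm.trans h2)
  rw [Nat.card_eq_fintype_card]
  exact hind.fintype_card_le_finrank

/-- The average and the invariants. -/
theorem finrank_invariants {H : Type u} [Group H] [Fintype H] {n : ℕ}
    (ρ : Representation ℂ H (Fin n → ℂ)) :
    (Nat.card H : ℂ)⁻¹ * ∑ g : H, ρ.character g = Module.finrank ℂ ρ.invariants := by
  haveI : Invertible (Fintype.card H : ℂ) := invertibleOfNonzero (by simp)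
  rw [← (ρ.isProj_averageMap).trace]
  simp [Representation.character, Representation.averageMap, GroupAlgebra.average, map_sum,
    Nat.card_eq_fintype_card]

/-- The same number of invariants in a subgroup with a semiregular `p`-subgroup. -/
theorem finrank_invariants_eq {n : ℕ} (ρ : Representation ℂ G (Fin n → ℂ)) {P H : Subgroup G}
    [Fintype H] (hP : IsPGroup p P) (hPH : P ≤ H)
    (hsemi : ∀ g : G, g ∉ H → ∀ u ∈ P, g⁻¹ * u * g ∈ H → u = 1)
    (hinv : ρ.invariants ≠ ⊥) (hn : n ≤ Nat.card P) :
    Module.finrank ℂ (Representation.invariants (ρ.comp H.subtype : Representation ℂ H (Fin n → ℂ))) =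
      Module.finrank ℂ ρ.invariants := by
  classical
  have hle : ρ.invariants ≤ Representation.invariants (ρ.comp H.subtype : Representation ℂ H (Fin n → ℂ)) :=
    fun w hw h => hw h
  suffices h : Representation.invariants (ρ.comp H.subtype : Representation ℂ H (Fin n → ℂ)) ≤
      ρ.invariants by rw [le_antisymm h hle]
  intro w hw
  by_contra hnot
  set A := ∑ g : G, ρ g with hA
  have hAg : ∀ (g : G) (y : Fin n → ℂ), ρ g (A y) = A y := fun g y => by
    simp only [hA, LinearMap.sum_apply, map_sum, ← Module.End.mul_apply, ← map_mul]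
    exact Fintype.sum_equiv (Equiv.mulLeft g) _ _ fun x => rfl
  set v := w - (Nat.card G : ℂ)⁻¹ • A w with hv
  have hv0 : v ≠ 0 := fun h0 => hnot fun g => by
    rw [sub_eq_zero] at h0
    rw [h0, map_smul, hAg]
  have hfix : ∀ h ∈ H, ρ h v = v := fun h hh => by
    rw [hv, map_sub, map_smul, hAg, show ρ h w = w from hw ⟨h, hh⟩]
  have hsum : ∑ g : G, ρ g v = 0 := by
    simp only [hv, map_sub, map_smul, hAg, Finset.sum_sub_distrib, Finset.sum_const, Finset.card_univ]
    rw [← Nat.cast_smul_eq_nsmul ℂ, smul_smul, Nat.card_eq_fintype_card,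
      mul_inv_cancel₀ (Nat.cast_ne_zero.2 Fintype.card_ne_zero), one_smul, hA, LinearMap.sum_apply,
      sub_self]
  have h1 : Nat.card P ≤ Module.finrank ℂ (LinearMap.ker A) :=
    card_le_finrank_ker ρ hP hPH hsemi hv0 hfix hsum
  have h2 : Module.finrank ℂ (LinearMap.ker A) < n := by
    refine lt_of_lt_of_eq (Submodule.finrank_lt ?_) (Module.finrank_fin_fun ℂ)
    intro htop
    obtain ⟨y, hy, hy0⟩ := Submodule.exists_mem_ne_zero_of_ne_bot hinv
    have h3 : A y = 0 := LinearMap.congr_fun (LinearMap.ker_eq_top.1 htop) y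
    rw [hA, LinearMap.sum_apply, Finset.sum_congr rfl fun g _ => hy g, Finset.sum_const,
      ← Nat.cast_smul_eq_nsmul ℂ, smul_eq_zero] at h3
    exact h3.elim (Nat.cast_ne_zero.2 Finset.univ_nonempty.card_pos.ne') hy0
  omega

end CfsgLib.CharTheory.SemiregularFixed
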