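import Cfsg.Agent.Lib.CharTheory.Clifford
import Cfsg.Agent.Lib.CharTheory.Linear
import Cfsg.Agent.Lib.CharTheory.Integral
import Cfsg.Agent.Lib.CharTheory.Degree

/-!
# Characters of small degree when a Sylow subgroup has equal centralizers at all non-trivial elements
-/

namespace CfsgLib.CharTheory.SmallDegree

open Cfsg CfsgLib.CharTheory
open scoped ComplexConjugate

set_option linter.unusedVariables false
set_option linter.style.haveILetI false
set_option linter.unusedSectionVars false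

universe u

variable {G : Type u} [Group G] [Fintype G] {p : ℕ} {P : Subgroup G}

/-- The hypotheses: a non-trivial Sylow subgroup with a common centralizer. -/
structure Setup (p : ℕ) (P : Subgroup G) : Prop where
  prime : p.Prime
  pgroup : IsPGroup p P
  sylow : ¬ p ∣ P.index
  ne : P ≠ ⊥
  star : ∀ x ∈ P, x ≠ 1 → Subgroup.centralizer ({x} : Set G) = Subgroup.centralizer (P : Set G)

theorem Setup.le_cent (h : Setup p P) : P ≤ Subgroup.centralizer (P : Set G) := fun x hx => by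
  rcases eq_or_ne x 1 with rfl | hne
  · exact Subgroup.one_mem _
  · rw [← h.star x hx hne, Subgroup.mem_centralizer_singleton_iff]

theorem Setup.comm (h : Setup p P) {x y : G} (hx : x ∈ P) (hy : y ∈ P) : x * y = y * x :=
  (Subgroup.mem_centralizer_iff.1 (h.le_cent hy) x hx)

/-- The centralizer. -/
abbrev cen (P : Subgroup G) : Subgroup G := Subgroup.centralizer (P : Set G)

theorem Setup.exists_compl (h : Setup p P) : ∃ H : Subgroup G, H ≤ cen P ∧ P ⊓ H = ⊥ ∧
    Nat.card P * Nat.card H = Nat.card (cen P) ∧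
      ∀ c ∈ cen P, ∃ x ∈ P, ∃ y ∈ H, c = x * y := by
  haveI : (P.subgroupOf (cen P)).Normal := ⟨fun x hx g => by
    rw [Subgroup.mem_subgroupOf] at hx ⊢
    rw [Subgroup.coe_mul, Subgroup.coe_mul, Subgroup.coe_inv,
      ← Subgroup.mem_centralizer_iff.1 g.2 (x : G) hx, mul_inv_cancel_right]
    exact hx⟩
  have hidx : P.relIndex (cen P) ∣ P.index := Subgroup.relIndex_dvd_index_of_le h.le_cent
  have hcop : (Nat.card (P.subgroupOf (cen P))).Coprime (P.subgroupOf (cen P)).index := by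
    obtain ⟨k, hk⟩ := (@IsPGroup.iff_card p P _ ⟨h.prime⟩ _).1 h.pgroup
    rw [Nat.card_congr (Subgroup.subgroupOfEquivOfLe h.le_cent).toEquiv, hk]
    exact (h.prime.coprime_iff_not_dvd.2 fun hd => h.sylow (hd.trans hidx)).pow_left k
  obtain ⟨K, hK⟩ := Subgroup.exists_right_complement'_of_coprime hcop
  refine ⟨K.map (cen P).subtype, Subgroup.map_subtype_le K, ?_, ?_, fun c hc => ?_⟩
  · rw [Subgroup.eq_bot_iff_forall]
    rintro _ ⟨hxP, ⟨k, hk, rfl⟩⟩
    have := Subgroup.disjoint_def.1 hK.disjoint (Subgroup.mem_subgroupOf.2 hxP) hk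
    simp [this]
  · rw [Subgroup.card_map_of_injective (cen P).subtype_injective, ← hK.card_mul,
      Nat.card_congr (Subgroup.subgroupOfEquivOfLe h.le_cent).toEquiv]
  · obtain ⟨⟨a, b⟩, hab⟩ := hK.surjective ⟨c, hc⟩
    exact ⟨((a : cen P) : G), Subgroup.mem_subgroupOf.1 a.2, ((b : cen P) : G),
      ⟨(b : cen P), b.2, rfl⟩, congrArg Subtype.val hab.symm⟩

theorem Setup.norm_eq (h : Setup p P) {x : G} (hx : x ∈ P) (hx1 : x ≠ 1) {g : G}
    (hg : g * x * g⁻¹ ∈ P) : g ∈ Subgroup.normalizer (P : Set G) := by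
  have hx1' : g * x * g⁻¹ ≠ 1 := fun e => hx1 (conj_eq_one_iff.1 e)
  have key : ∀ a ∈ P, g * a * g⁻¹ ∈ cen P := fun a ha => by
    show g * a * g⁻¹ ∈ Subgroup.centralizer (P : Set G)
    rw [← h.star _ hg hx1', Subgroup.mem_centralizer_singleton_iff,
      show g * a * g⁻¹ * (g * x * g⁻¹) = g * (a * x) * g⁻¹ by group, h.comm ha hx]
    group
  -- a `p`-element of the centralizer lies in `P`
  have hin : ∀ a ∈ P, g * a * g⁻¹ ∈ P := fun a ha => by
    obtain ⟨H, -, hPH, hcard, hprod⟩ := h.exists_compl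
    obtain ⟨y, hy, z, hz, e⟩ := hprod _ (key a ha)
    obtain ⟨k, hk⟩ := h.pgroup ⟨a, ha⟩
    obtain ⟨l, hl⟩ := h.pgroup ⟨y, hy⟩
    have hk' : a ^ p ^ k = 1 := congrArg Subtype.val hk
    have hl' : y ^ p ^ l = 1 := congrArg Subtype.val hl
    have hzpow : z ^ p ^ (k + l) = 1 := by
      have e1 : (g * a * g⁻¹) ^ p ^ (k + l) = 1 := by
        rw [conj_pow, pow_add, pow_mul, hk', one_pow]; group
      have hcomm : Commute y z := by
        have := Subgroup.mem_centralizer_iff.1 (show z ∈ cen P from by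
          rw [show z = y⁻¹ * (g * a * g⁻¹) by rw [e, inv_mul_cancel_left]]
          exact Subgroup.mul_mem _ (Subgroup.inv_mem _ (h.le_cent hy)) (key a ha)) y hy
        exact this
      rw [e, hcomm.mul_pow, add_comm, pow_add, pow_mul y, hl', one_pow, one_mul, ← pow_add] at e1
      rw [add_comm k l]
      exact e1
    have hp' : ¬ p ∣ Nat.card H := fun hd => by
      have h1 : p ∣ P.relIndex (cen P) := by
        have h2 := Subgroup.card_mul_index (P.subgroupOf (cen P))
        rw [Nat.card_congr (Subgroup.subgroupOfEquivOfLe h.le_cent).toEquiv, ← hcard] at h2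
        show p ∣ (P.subgroupOf (cen P)).index
        rw [Nat.eq_of_mul_eq_mul_left Nat.card_pos h2]; exact hd
      exact h.sylow (h1.trans (Subgroup.relIndex_dvd_index_of_le h.le_cent))
    have hz1 : z = 1 := by
      refine orderOf_eq_one_iff.1 (Nat.eq_one_of_dvd_coprimes
        ((h.prime.coprime_iff_not_dvd.2 hp').pow_left (k + l)) (orderOf_dvd_of_pow_eq_one hzpow) ?_)
      exact Subgroup.orderOf_mk z hz ▸ orderOf_dvd_natCard (⟨z, hz⟩ : H)
    rw [e, hz1, mul_one]
    exact hy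
  rw [Subgroup.mem_normalizer_iff]
  refine fun a => ⟨hin a, fun ha => ?_⟩
  -- conjugation is a bijection of `P`
  have hbij : Function.Surjective (fun b : P => (⟨g * b * g⁻¹, hin b b.2⟩ : P)) :=
    Finite.injective_iff_surjective.1 fun b b' e => Subtype.ext
      (mul_left_cancel (mul_right_cancel (congrArg Subtype.val e)))
  obtain ⟨b, hb⟩ := hbij ⟨_, ha⟩
  have := mul_left_cancel (mul_right_cancel (congrArg Subtype.val hb))
  exact this ▸ b.2

/-- The index of the centralizer in the normalizer. -/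
noncomputable def fIdx (P : Subgroup G) : ℕ :=
  (cen P).relIndex (Subgroup.normalizer (P : Set G))

theorem cen_le_norm (P : Subgroup G) : cen P ≤ Subgroup.normalizer (P : Set G) := fun g hg => by
  rw [Subgroup.mem_normalizer_iff]
  intro x
  constructor
  · intro hx
    rwa [← Subgroup.mem_centralizer_iff.1 hg x hx, mul_inv_cancel_right]
  · intro hx
    have h1 := Subgroup.mem_centralizer_iff.1 hg _ hx
    have h2 : x = g * x * g⁻¹ := by
      have h3 : g * (g * x * g⁻¹) = g * x := by rw [← h1, inv_mul_cancel_right]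
      exact (mul_left_cancel h3).symm
    rw [h2]; exact hx

/-- Fixed-point-freeness. -/
theorem Setup.free (h : Setup p P) {g x : G} (hx : x ∈ P) (hx1 : x ≠ 1) (hgx : g * x * g⁻¹ = x) :
    g ∈ cen P := by
  show g ∈ Subgroup.centralizer (P : Set G)
  rw [← h.star x hx hx1, Subgroup.mem_centralizer_singleton_iff]
  exact mul_inv_eq_iff_eq_mul.1 hgx

theorem Setup.dvd_pred (h : Setup p P) : fIdx P ∣ Nat.card P - 1 := by
  classical
  haveI := Fintype.ofFinite P
  let N := Subgroup.normalizer (P : Set G)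
  let φ : N →* MulAut P := P.normalizerMonoidHom
  let F : Subgroup (MulAut P) := φ.range
  have hcard : fIdx P = Nat.card F := by
    rw [← Subgroup.index_ker φ, Subgroup.normalizerMonoidHom_ker]
    rfl
  let X := {x : P // x ≠ 1}
  letI : MulAction F X :=
    { smul := fun a x => ⟨(a : MulAut P) x.1, fun e =>
        x.2 ((a : MulAut P).injective (by rw [e, map_one]))⟩
      one_smul := fun x => Subtype.ext rfl
      mul_smul := fun a b x => Subtype.ext rfl }
  have hfree : ∀ x : X, MulAction.stabilizer F x = ⊥ := by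
    intro x
    rw [Subgroup.eq_bot_iff_forall]
    rintro ⟨a, ⟨g, rfl⟩⟩ hax
    have h1 : (g : G) * ((x.1 : P) : G) * (g : G)⁻¹ = ((x.1 : P) : G) :=
      congrArg (fun z : X => ((z.1 : P) : G)) hax
    have h2 := h.free x.1.2 (fun e => x.2 (Subtype.ext e)) h1
    refine Subtype.ext (MulEquiv.ext fun y => Subtype.ext ?_)
    show (g : G) * (y : G) * (g : G)⁻¹ = y
    rw [← Subgroup.mem_centralizer_iff.1 h2 y y.2, mul_inv_cancel_right]
  have h3 := Nat.card_congr (MulAction.selfEquivOrbitsQuotientProd hfree)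
  rw [Nat.card_prod] at h3
  refine ⟨Nat.card (Quotient (MulAction.orbitRel F X)), ?_⟩
  rw [hcard, mul_comm, ← h3, Nat.card_eq_fintype_card, Nat.card_eq_fintype_card,
    Fintype.card_subtype_compl, Fintype.card_subtype_eq]

section chars
variable [Fintype P] [Fintype (cen P)] {H : Subgroup G} [Fintype H]

/-- The complement data. -/
structure Compl (P H : Subgroup G) : Prop where
  le : H ≤ cen P
  inf : P ⊓ H = ⊥
  card : Nat.card P * Nat.card H = Nat.card (cen P)
  prod : ∀ c ∈ cen P, ∃ x ∈ P, ∃ y ∈ H, c = x * y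

/-- The product map. -/
def pr (h : Setup p P) (hH : Compl P H) (q : P × H) : cen P :=
  ⟨(q.1 : G) * q.2, Subgroup.mul_mem _ (h.le_cent q.1.2) (hH.le q.2.2)⟩

theorem pr_bijective (h : Setup p P) (hH : Compl P H) : Function.Bijective (pr h hH) := by
  refine ⟨fun a b e => ?_, fun c => ?_⟩
  · have e' : (a.1 : G) * a.2 = b.1 * b.2 := congrArg Subtype.val e
    have h1 : (b.1 : G)⁻¹ * a.1 = b.2 * (a.2 : G)⁻¹ := by
      rw [inv_mul_eq_iff_eq_mul, ← mul_assoc, eq_mul_inv_iff_mul_eq, e']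
    have h2 : (b.1 : G)⁻¹ * a.1 = 1 := by
      rw [← Subgroup.mem_bot, ← hH.inf]
      exact ⟨P.mul_mem (P.inv_mem b.1.2) a.1.2, h1 ▸ H.mul_mem b.2.2 (H.inv_mem a.2.2)⟩
    have h3 : (a.1 : G) = b.1 := (inv_mul_eq_one.1 h2).symm
    exact Prod.ext (Subtype.ext h3) (Subtype.ext (mul_left_cancel (h3 ▸ e')))
  · obtain ⟨x, hx, y, hy, e⟩ := hH.prod c c.2
    exact ⟨(⟨x, hx⟩, ⟨y, hy⟩), Subtype.ext e.symm⟩

theorem sum_cen (h : Setup p P) (hH : Compl P H) (F : cen P → ℂ) :
    ∑ c, F c = ∑ x : P, ∑ y : H, F (pr h hH (x, y)) := by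
  rw [← Fintype.sum_prod_type', ← (Equiv.ofBijective _ (pr_bijective h hH)).sum_comp]
  rfl

/-- The linear character of `P` under a character of the centralizer. -/
noncomputable def lam (h : Setup p P) (μ : IrrCharacter (cen P)) : P → ℂ :=
  fun x => (μ : cen P → ℂ) ⟨x, h.le_cent x.2⟩ / (μ : cen P → ℂ) 1

theorem lam_spec (h : Setup p P) (μ : IrrCharacter (cen P)) :
    IsIrrCharacter P (lam h μ) ∧ lam h μ 1 = 1 ∧
      (∀ a b, lam h μ (a * b) = lam h μ a * lam h μ b) ∧
      ∀ (x : P) (c : cen P), (μ : cen P → ℂ) (⟨x, h.le_cent x.2⟩ * c) =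
        lam h μ x * (μ : cen P → ℂ) c := by
  classical
  obtain ⟨n, ρ, hρ, hμ⟩ := μ.2
  have hd := irr_ne_zero μ.2
  have hsc : ∀ x : P, ∃ ω : ℂ, ρ ⟨x, h.le_cent x.2⟩ = ω • LinearMap.id := fun x =>
    exists_scalar_of_mem_center ρ (Subgroup.mem_center_iff.2 fun c =>
      Subtype.ext (Subgroup.mem_centralizer_iff.1 c.2 (x : G) x.2).symm)
  choose ω hω using hsc
  have hval : ∀ (x : P) (c : cen P), (μ : cen P → ℂ) (⟨x, h.le_cent x.2⟩ * c) =
      ω x * (μ : cen P → ℂ) c := fun x c => by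
    rw [← hμ, Representation.character, Representation.character, map_mul, hω]
    show LinearMap.trace ℂ _ ((ω x • LinearMap.id).comp (ρ c)) = _
    rw [LinearMap.smul_comp, LinearMap.id_comp, map_smul, smul_eq_mul]
  have hlam : ∀ x, lam h μ x = ω x := fun x => by
    have := hval x 1
    rw [mul_one] at this
    rw [lam, this, mul_div_cancel_right₀ _ hd]
  have h1 : lam h μ 1 = 1 := div_self hd
  have hmul : ∀ a b, lam h μ (a * b) = lam h μ a * lam h μ b := fun a b => by
    have e1 := hval a ⟨b, h.le_cent b.2⟩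
    rw [hlam a, lam, lam,
      show (⟨((a * b : P) : G), h.le_cent (a * b).2⟩ : cen P) = ⟨a, h.le_cent a.2⟩ * ⟨b, h.le_cent b.2⟩
        from Subtype.ext rfl, e1, mul_div_assoc]
  refine ⟨?_, h1, hmul, fun x c => by rw [hval, hlam]⟩
  let φ : P →* ℂ := { toFun := lam h μ, map_one' := h1, map_mul' := hmul }
  exact isIrrCharacter_linear φ.toHomUnits

theorem lam_orth (h : Setup p P) (μ ν : IrrCharacter (cen P)) [Decidable (lam h μ = lam h ν)] :
    ∑ x : P, lam h μ x * conj (lam h ν x) = if lam h μ = lam h ν then (Nat.card P : ℂ) else 0 := by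
  have h0 : (Nat.card P : ℂ) ≠ 0 := Nat.cast_ne_zero.2 Nat.card_pos.ne'
  have e : ∑ x : P, lam h μ x * conj (lam h ν x) =
      (Nat.card P : ℂ) * classInner (lam h μ) (lam h ν) := by
    rw [classInner, mul_inv_cancel_left₀ h0]
  rw [e]
  split_ifs with hl
  · rw [hl, classInner_irr_self (lam_spec h ν).1, mul_one]
  · rw [classInner_irr_ne (lam_spec h μ).1 (lam_spec h ν).1 hl, mul_zero]

/-- Multiplicities on the centralizer. -/
noncomputable def co (f : G → ℂ) (μ : IrrCharacter (cen P)) : ℂ :=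
  classInner (fun c : cen P => f c) (μ : cen P → ℂ)

theorem exists_co {f : G → ℂ} (hf : IsCharacter G f) :
    ∃ n : IrrCharacter (cen P) → ℕ, (∀ μ, co f μ = (n μ : ℂ)) ∧
      ∀ c : cen P, f c = ∑ μ, (n μ : ℂ) * (μ : cen P → ℂ) c := by
  choose n hn using fun μ : IrrCharacter (cen P) =>
    classInner_char_nat (isCharacter_restrict hf (cen P)) (isCharacter_of_irr μ.2)
  refine ⟨n, hn, fun c => ?_⟩
  have := congrFun (eq_sum_irr (isClassFunction_char (isCharacter_restrict hf (cen P)))) c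
  simpa [hn] using this

variable [DecidableEq (P → ℂ)] (n : IrrCharacter (cen P) → ℕ)

/-- The part of a character with given `P`-character. -/
noncomputable def part (h : Setup p P) (ν : P → ℂ) (c : cen P) : ℂ :=
  ∑ μ ∈ Finset.univ.filter (fun μ => lam h μ = ν), (n μ : ℂ) * (μ : cen P → ℂ) c

/-- The support. -/
noncomputable def supp : Finset (IrrCharacter (cen P)) := Finset.univ.filter fun μ => n μ ≠ 0

/-- The `P`-characters in the support. -/
noncomputable def lams (h : Setup p P) : Finset (P → ℂ) := (supp n).image (lam h)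

theorem apply_pr (h : Setup p P) (hH : Compl P H) {f : G → ℂ}
    (hf : ∀ c : cen P, f c = ∑ μ, (n μ : ℂ) * (μ : cen P → ℂ) c) (x : P) (y : H) :
    f (pr h hH (x, y)) = ∑ ν ∈ lams n h, ν x * part n h ν ⟨y, hH.le y.2⟩ := by
  rw [hf, ← Finset.sum_filter_of_ne (p := fun μ => n μ ≠ 0) (fun μ _ hμ e => hμ (by simp [e]))]
  change ∑ μ ∈ supp n, _ = _
  rw [← Finset.sum_fiberwise_of_maps_to (t := lams n h) (g := lam h)
    fun μ hμ => Finset.mem_image_of_mem _ hμ]
  refine Finset.sum_congr rfl fun ν _ => ?_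
  rw [part, Finset.mul_sum, supp, Finset.filter_filter]
  symm
  rw [← Finset.sum_filter_of_ne (s := Finset.univ.filter fun μ => lam h μ = ν)
    (p := fun μ => n μ ≠ 0) (fun μ _ hμ e => hμ (by simp [e])), Finset.filter_filter]
  refine Finset.sum_congr (Finset.filter_congr fun μ _ => and_comm) fun μ hμ => ?_
  obtain ⟨-, hν⟩ := (Finset.mem_filter.1 hμ).2
  rw [show pr h hH (x, y) = ⟨x, h.le_cent x.2⟩ * ⟨y, hH.le y.2⟩ from Subtype.ext rfl,
    (lam_spec h μ).2.2.2, hν]
  ring

theorem sum_over_P (h : Setup p P) (z : (P → ℂ) → ℂ) :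
    ∑ x : P, Complex.normSq (∑ ν ∈ lams n h, ν x * z ν) =
      (Nat.card P : ℝ) * ∑ ν ∈ lams n h, Complex.normSq (z ν) := by
  apply Complex.ofReal_injective
  push_cast
  simp only [Complex.normSq_eq_conj_mul_self, map_sum, map_mul, Finset.sum_mul_sum]
  rw [Finset.sum_comm, Finset.mul_sum]
  refine Finset.sum_congr rfl fun ν hν => ?_
  rw [Finset.sum_comm, Finset.sum_eq_single ν]
  · obtain ⟨μ, -, rfl⟩ := Finset.mem_image.1 hν
    have h1 := lam_orth h μ μ
    rw [if_pos rfl] at h1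
    rw [← h1, Finset.sum_mul]
    exact Finset.sum_congr rfl fun x _ => by ring
  · intro ν' hν' hne
    obtain ⟨μ, -, rfl⟩ := Finset.mem_image.1 hν
    obtain ⟨μ', -, rfl⟩ := Finset.mem_image.1 hν'
    have h1 := lam_orth h μ' μ
    rw [if_neg hne] at h1
    rw [show ∑ x : P, conj (lam h μ x) * conj (z (lam h μ)) * (lam h μ' x * z (lam h μ')) =
      (∑ x : P, lam h μ' x * conj (lam h μ x)) * (conj (z (lam h μ)) * z (lam h μ')) by
        rw [Finset.sum_mul]; exact Finset.sum_congr rfl fun x _ => by ring, h1, zero_mul]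
  · exact fun hn => absurd hν hn

open Classical in
/-- The mass on the singular part of the centralizer. -/
noncomputable def mass (P H : Subgroup G) [Fintype P] [Fintype H] (f : G → ℂ) : ℝ :=
  ∑ x : P, ∑ y : H, if (x : G) = 1 then 0 else Complex.normSq (f ((x : G) * y))

theorem norm_cen (h : Setup p P) (hH : Compl P H) {f : G → ℂ}
    (hn : ∀ μ, co f μ = (n μ : ℂ))
    (hf : ∀ c : cen P, f c = ∑ μ, (n μ : ℂ) * (μ : cen P → ℂ) c) :
    ∑ y : H, ∑ ν ∈ lams n h, Complex.normSq (part n h ν ⟨y, hH.le y.2⟩) =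
      (Nat.card H : ℝ) * ∑ μ, (n μ : ℝ) ^ 2 := by
  have hP : (Nat.card P : ℝ) ≠ 0 := Nat.cast_ne_zero.2 Nat.card_pos.ne'
  apply mul_left_cancel₀ hP
  rw [Finset.mul_sum, ← mul_assoc, ← Nat.cast_mul, hH.card]
  simp_rw [← sum_over_P n h, ← apply_pr n h hH hf]
  rw [Finset.sum_comm]
  apply Complex.ofReal_injective
  push_cast
  simp only [Complex.normSq_eq_conj_mul_self]
  rw [← sum_cen h hH (fun c => conj (f c) * f c)]
  have h0 : (Nat.card (cen P) : ℂ) ≠ 0 := Nat.cast_ne_zero.2 Nat.card_pos.ne'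
  have e : classInner (fun c : cen P => f c) (fun c : cen P => f c) = ∑ μ, (n μ : ℂ) ^ 2 := by
    conv_lhs => arg 1; rw [show (fun c : cen P => f c) =
      ∑ μ, (n μ : ℂ) • ((μ : cen P → ℂ)) from funext fun c => by simp [hf]]
    rw [classInner_sum_left]
    refine Finset.sum_congr rfl fun μ _ => ?_
    have h1 := hn μ
    rw [co, ← classInner_comm] at h1
    have h2 : classInner (μ : cen P → ℂ) (fun c : cen P => f c) = (n μ : ℂ) := by
      rw [← Complex.conj_conj (classInner (μ : cen P → ℂ) _), h1, Complex.conj_natCast]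
    rw [classInner_smul_left, h2, sq]
  rw [← e, classInner, mul_inv_cancel_left₀ h0]
  exact Finset.sum_congr rfl fun c _ => mul_comm _ _

/-- The basic lower bound for the mass. -/
theorem le_mass (h : Setup p P) (hH : Compl P H) {f : G → ℂ}
    (hn : ∀ μ, co f μ = (n μ : ℂ))
    (hf : ∀ c : cen P, f c = ∑ μ, (n μ : ℂ) * (μ : cen P → ℂ) c) :
    ((Nat.card P : ℝ) - (lams n h).card) * ((Nat.card H : ℝ) * ∑ μ, (n μ : ℝ) ^ 2) ≤ mass P H f := by
  classical
  rw [← norm_cen n h hH hn hf, Finset.mul_sum, mass]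
  conv_rhs => rw [Finset.sum_comm]
  refine Finset.sum_le_sum fun y _ => ?_
  have h1 : ∑ x : P, (if (x : G) = 1 then 0 else Complex.normSq (f ((x : G) * y))) =
      ∑ x : P, Complex.normSq (∑ ν ∈ lams n h, ν x * part n h ν ⟨y, hH.le y.2⟩) -
        Complex.normSq (∑ ν ∈ lams n h, part n h ν ⟨y, hH.le y.2⟩) := by
    have h3 : ∀ ν ∈ lams n h, (ν 1 : ℂ) = 1 := fun ν hν => by
      obtain ⟨μ, -, rfl⟩ := Finset.mem_image.1 hν
      exact (lam_spec h μ).2.1
    have h4 : ∀ x : P, f ((x : G) * y) = ∑ ν ∈ lams n h, ν x * part n h ν ⟨y, hH.le y.2⟩ :=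
      fun x => apply_pr n h hH hf x y
    rw [Finset.sum_eq_add_sum_sdiff_singleton_of_mem (Finset.mem_univ (1 : P)),
      Finset.sum_eq_add_sum_sdiff_singleton_of_mem (Finset.mem_univ (1 : P))
        (f := fun x => Complex.normSq (∑ ν ∈ lams n h, ν x * part n h ν ⟨y, hH.le y.2⟩))]
    rw [if_pos (OneMemClass.coe_one P), zero_add,
      show ∑ ν ∈ lams n h, ν 1 * part n h ν ⟨y, hH.le y.2⟩ = ∑ ν ∈ lams n h, part n h ν ⟨y, hH.le y.2⟩ from
        Finset.sum_congr rfl fun ν hν => by rw [h3 ν hν, one_mul], add_sub_cancel_left]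
    refine Finset.sum_congr rfl fun x hx => ?_
    rw [if_neg fun e : (x : G) = 1 => (Finset.mem_sdiff.1 hx).2 (Finset.mem_singleton.2 (Subtype.ext e)), h4]
  rw [h1, sum_over_P, sub_mul]
  refine sub_le_sub_left ?_ _
  calc Complex.normSq (∑ ν ∈ lams n h, part n h ν ⟨y, hH.le y.2⟩)
      = ‖∑ ν ∈ lams n h, part n h ν ⟨y, hH.le y.2⟩‖ ^ 2 := (Complex.sq_norm _).symm
    _ ≤ (∑ ν ∈ lams n h, ‖part n h ν ⟨y, hH.le y.2⟩‖) ^ 2 := by
        gcongr; exact norm_sum_le _ _
    _ ≤ _ := by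
        refine (sq_sum_le_card_mul_sum_sq).trans (le_of_eq ?_)
        simp only [Complex.sq_norm]

end chars

section global
variable [Fintype P] {H : Subgroup G} [Fintype H]

/-- The singular set. -/
noncomputable def sing [DecidableEq G] (P H : Subgroup G) [Fintype P] [Fintype H] : Finset G :=
  ((Finset.univ : Finset (G × P × H)).filter fun q => (q.2.1 : G) ≠ 1).image
    fun q => q.1 * ((q.2.1 : G) * q.2.2) * q.1⁻¹

theorem sum_sing (h : Setup p P) (hH : Compl P H) [DecidableEq G] {E : Type*} [AddCommGroup E]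
    {F : G → E} (hF : ∀ g x, F (g * x * g⁻¹) = F x) :
    Nat.card (Subgroup.normalizer (P : Set G)) • ∑ t ∈ sing P H, F t =
      Nat.card G • ∑ x : P, ∑ y : H, (if (x : G) = 1 then 0 else F ((x : G) * y)) := by
  classical
  haveI := Fintype.ofFinite (cen P)
  haveI := Fintype.ofFinite (Subgroup.normalizer (P : Set G))
  set U := (Finset.univ : Finset (G × P × H)).filter fun q => (q.2.1 : G) ≠ 1 with hU
  let Φ : G × P × H → G := fun q => q.1 * ((q.2.1 : G) * q.2.2) * q.1⁻¹
  have hR : Nat.card G • ∑ x : P, ∑ y : H, (if (x : G) = 1 then 0 else F ((x : G) * y)) =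
      ∑ q ∈ U, F (Φ q) := by
    rw [Nat.card_eq_fintype_card, ← Finset.card_univ, ← Finset.sum_const, hU, Finset.sum_filter,
      Fintype.sum_prod_type]
    refine Finset.sum_congr rfl fun g _ => ?_
    rw [Fintype.sum_prod_type]
    refine Finset.sum_congr rfl fun x _ => Finset.sum_congr rfl fun y _ => ?_
    simp only [Φ, hF, ne_eq]
    split_ifs <;> rfl
  rw [hR, ← Finset.sum_fiberwise_of_maps_to (t := sing P H) (g := Φ)
    fun q hq => Finset.mem_image_of_mem _ hq, Finset.smul_sum]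
  refine Finset.sum_congr rfl fun t ht => ?_
  rw [Finset.sum_congr rfl fun q hq => by rw [(Finset.mem_filter.1 hq).2], Finset.sum_const]
  congr 1
  obtain ⟨⟨g, x, y⟩, hq, rfl⟩ := Finset.mem_image.1 ht
  have hx : (x : G) ≠ 1 := (Finset.mem_filter.1 hq).2
  have hcomm : ∀ (a : P) (b : H), Commute (a : G) (b : G) := fun a b =>
    Subgroup.mem_centralizer_iff.1 (hH.le b.2) a a.2
  obtain ⟨e, he⟩ := Nat.chineseRemainder (show (Nat.card H).Coprime (Nat.card P) from by
    obtain ⟨k, hk⟩ := (@IsPGroup.iff_card p P _ ⟨h.prime⟩ _).1 h.pgroup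
    rw [hk]
    refine Nat.Coprime.pow_right k ((h.prime.coprime_iff_not_dvd.2 fun hd => ?_).symm)
    have h1 : p ∣ P.relIndex (cen P) := by
      have h2 := Subgroup.card_mul_index (P.subgroupOf (cen P))
      rw [Nat.card_congr (Subgroup.subgroupOfEquivOfLe h.le_cent).toEquiv, ← hH.card] at h2
      show p ∣ (P.subgroupOf (cen P)).index
      rw [Nat.eq_of_mul_eq_mul_left Nat.card_pos h2]; exact hd
    exact h.sylow (h1.trans (Subgroup.relIndex_dvd_index_of_le h.le_cent))) 0 1
  have hpow : ∀ (a : P) (b : H), ((a : G) * b) ^ e = a := fun a b => by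
    rw [(hcomm a b).mul_pow]
    have h1 : (b : G) ^ e = 1 := by
      rw [← orderOf_dvd_iff_pow_eq_one, Subgroup.orderOf_coe]
      exact (orderOf_dvd_natCard b).trans (Nat.modEq_zero_iff_dvd.1 he.1)
    have h2 : (a : G) ^ e = a := by
      conv_rhs => rw [← pow_one (a : G)]
      exact pow_eq_pow_iff_modEq.2 (he.2.of_dvd (by
        rw [Subgroup.orderOf_coe]; exact orderOf_dvd_natCard a))
    rw [h1, h2, mul_one]
  have hN : ∀ n ∈ Subgroup.normalizer (P : Set G), ∀ c ∈ cen P, n * c * n⁻¹ ∈ cen P := by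
    intro n hn c hc
    rw [Subgroup.mem_centralizer_iff]
    intro z hz
    have h1 : n⁻¹ * z * n ∈ P := by
      have := (Subgroup.mem_normalizer_iff.1 ((Subgroup.normalizer (P : Set G)).inv_mem hn) z).1 hz
      simpa using this
    have h2 := Subgroup.mem_centralizer_iff.1 hc _ h1
    calc z * (n * c * n⁻¹) = n * ((n⁻¹ * z * n) * c) * n⁻¹ := by group
      _ = n * (c * (n⁻¹ * z * n)) * n⁻¹ := by rw [h2]
      _ = n * c * n⁻¹ * z := by group
  rw [Nat.card_eq_fintype_card, ← Finset.card_univ]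
  let inv := fun c : cen P => (Equiv.ofBijective _ (pr_bijective h hH)).symm c
  refine Finset.card_bij' (fun n _ => (g * (n : G)⁻¹,
      inv ⟨(n : G) * ((x : G) * y) * (n : G)⁻¹, hN n n.2 _ (pr h hH (x, y)).2⟩))
    (fun q hq => ⟨q.1⁻¹ * g, ?_⟩) ?_ (fun q _ => Finset.mem_univ _) ?_ ?_
  · obtain ⟨hq1, hq2⟩ := Finset.mem_filter.1 hq
    have h1 : (q.1⁻¹ * g) * ((x : G) * y) * (q.1⁻¹ * g)⁻¹ = (q.2.1 : G) * q.2.2 :=
      calc (q.1⁻¹ * g) * ((x : G) * y) * (q.1⁻¹ * g)⁻¹ = q.1⁻¹ * Φ (g, x, y) * q.1 := by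
            simp only [Φ]; group
        _ = q.1⁻¹ * Φ q * q.1 := by rw [hq2]
        _ = _ := by simp only [Φ]; group
    have h2 := congrArg (fun z => z ^ e) h1
    simp only [conj_pow, hpow] at h2
    exact h.norm_eq x.2 hx (by rw [h2]; exact q.2.1.2)
  · intro n _
    have h1 : pr h hH (inv ⟨(n : G) * ((x : G) * y) * (n : G)⁻¹, hN n n.2 _ (pr h hH (x, y)).2⟩) =
        ⟨(n : G) * ((x : G) * y) * (n : G)⁻¹, hN n n.2 _ (pr h hH (x, y)).2⟩ :=
      Equiv.ofBijective_apply_symm_apply _ _ _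
    have h1' := congrArg Subtype.val h1
    simp only [pr] at h1'
    refine Finset.mem_filter.2 ⟨Finset.mem_filter.2 ⟨Finset.mem_univ _, ?_⟩, ?_⟩
    · intro e1
      apply hx
      have h3 := congrArg (fun z => z ^ e) h1'
      simp only [conj_pow, hpow] at h3
      simp only at e1
      rw [e1] at h3
      exact conj_eq_one_iff.1 h3.symm
    · simp only [Φ]
      rw [h1']
      group
  · intro n _
    exact Subtype.ext (by group)
  · intro q hq
    obtain ⟨hq1, hq2⟩ := Finset.mem_filter.1 hq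
    refine Prod.ext (by simp) ((Equiv.symm_apply_eq _).2 (Subtype.ext ?_))
    show (q.1⁻¹ * g) * ((x : G) * y) * (q.1⁻¹ * g)⁻¹ = (q.2.1 : G) * q.2.2
    calc (q.1⁻¹ * g) * ((x : G) * y) * (q.1⁻¹ * g)⁻¹ = q.1⁻¹ * Φ (g, x, y) * q.1 := by
          simp only [Φ]; group
      _ = q.1⁻¹ * Φ q * q.1 := by rw [hq2]
      _ = _ := by simp only [Φ]; group

theorem one_notMem_sing (h : Setup p P) (hH : Compl P H) [DecidableEq G] : (1 : G) ∉ sing P H := by
  intro h1
  obtain ⟨⟨g, x, y⟩, hq, e⟩ := Finset.mem_image.1 h1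
  apply (Finset.mem_filter.1 hq).2
  have h2 : (x : G) * y = 1 := conj_eq_one_iff.1 e
  show (x : G) = 1
  rw [← Subgroup.mem_bot, ← hH.inf]
  exact ⟨x.2, by rw [eq_inv_of_mul_eq_one_left h2]; exact H.inv_mem y.2⟩

/-- The fundamental strict inequality. -/
theorem mass_lt (h : Setup p P) (hH : Compl P H) [Fintype (cen P)] {f : G → ℂ}
    (hf : IsClassFunction G f) (hf1 : f 1 ≠ 0) :
    mass P H f < (fIdx P : ℝ) * Nat.card (cen P) * (classInner f f).re := by
  classical
  have hN : Nat.card (Subgroup.normalizer (P : Set G)) = fIdx P * Nat.card (cen P) := by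
    have := Subgroup.card_mul_index ((cen P).subgroupOf (Subgroup.normalizer (P : Set G)))
    rw [Nat.card_congr (Subgroup.subgroupOfEquivOfLe (cen_le_norm P)).toEquiv] at this
    rw [← this, mul_comm]; rfl
  have h1 := sum_sing h hH (F := fun g => Complex.normSq (f g)) fun g x => by rw [hf]
  simp only [nsmul_eq_mul] at h1
  have h2 : ∑ t ∈ sing P H, Complex.normSq (f t) < ∑ t, Complex.normSq (f t) :=
    Finset.sum_lt_sum_of_subset (Finset.subset_univ _) (Finset.mem_univ 1) (one_notMem_sing h hH)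
      (Complex.normSq_pos.2 hf1) fun j _ _ => Complex.normSq_nonneg _
  have hG0 : (0 : ℝ) < Nat.card G := Nat.cast_pos.2 Nat.card_pos
  have hN0 : (0 : ℝ) < Nat.card (Subgroup.normalizer (P : Set G)) := Nat.cast_pos.2 Nat.card_pos
  have h3 : (classInner f f).re = (Nat.card G : ℝ)⁻¹ * ∑ t, Complex.normSq (f t) := by
    rw [classInner, show ((Nat.card G : ℂ))⁻¹ = (((Nat.card G : ℝ)⁻¹ : ℝ) : ℂ) by push_cast; rfl,
      Complex.re_ofReal_mul, Complex.re_sum]
    simp [Complex.mul_conj]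
  rw [h3, ← Nat.cast_mul, ← hN]
  refine lt_of_mul_lt_mul_left (a := (Nat.card G : ℝ)) ?_ hG0.le
  rw [mass, show (Nat.card G : ℝ) * ∑ x : P, ∑ y : H,
      (if (x : G) = 1 then 0 else Complex.normSq (f ((x : G) * y))) = _ from h1.symm]
  calc (Nat.card (Subgroup.normalizer (P : Set G)) : ℝ) * ∑ t ∈ sing P H, Complex.normSq (f t)
      < (Nat.card (Subgroup.normalizer (P : Set G)) : ℝ) * ∑ t, Complex.normSq (f t) :=
        mul_lt_mul_of_pos_left h2 hN0
    _ = _ := by field_simp

end global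

end CfsgLib.CharTheory.SmallDegree
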