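import Cfsg.Agent.Lib.CharTheory.SmallDegreeMain

/-!
# Blichfeldt-type bound: a small faithful character makes the Sylow subgroup normal
-/

namespace CfsgLib.CharTheory.SmallDegree

open Cfsg CfsgLib.CharTheory
open scoped ComplexConjugate

set_option linter.unusedVariables false
set_option linter.style.haveILetI false

universe u

theorem conj_mem_of_normal {G : Type u} [Group G] [Finite G] {p : ℕ} (hp : p.Prime)
    {K P : Subgroup G} (hK : K.Normal) (hPK : P ≤ K) (hPn : (P.subgroupOf K).Normal)
    (hP : IsPGroup p P) (hsyl : ¬ p ∣ P.index) (g x : G) (hx : x ∈ P) : g * x * g⁻¹ ∈ P := by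
  have hy : g * x * g⁻¹ ∈ K := hK.conj_mem x (hPK hx) g
  haveI := hPn
  have h1 : (g * x * g⁻¹) ^ P.relIndex K ∈ P :=
    Subgroup.mem_subgroupOf.1 (Subgroup.pow_index_mem (P.subgroupOf K) ⟨_, hy⟩)
  obtain ⟨k, hk⟩ := hP ⟨x, hx⟩
  have hk' : x ^ p ^ k = 1 := congrArg Subtype.val hk
  have h2 : (g * x * g⁻¹) ^ (p ^ k) ∈ P := by
    rw [conj_pow, hk', mul_one, mul_inv_cancel]; exact P.one_mem
  have hc : (P.relIndex K).gcd (p ^ k) = 1 :=
    ((hp.coprime_iff_not_dvd.2 fun hd => hsyl (hd.trans
      (Subgroup.relIndex_dvd_index_of_le hPK))).symm).pow_right k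
  have := Nat.gcd_eq_gcd_ab (P.relIndex K) (p ^ k)
  rw [hc, Nat.cast_one] at this
  rw [← zpow_one (g * x * g⁻¹), this, zpow_add, zpow_mul, zpow_mul, zpow_natCast, zpow_natCast]
  exact P.mul_mem (P.zpow_mem h1 _) (P.zpow_mem h2 _)

theorem normal_of_small : ∀ (n : ℕ) (G : Type u) [Group G] [Fintype G], Nat.card G = n →
    ∀ (p : ℕ) (P : Subgroup G), Setup p P → ∀ (χ : G → ℂ), IsCharacter G χ →
    (∀ g, χ g = χ 1 → g = 1) → ∀ d : ℕ, χ 1 = d → d ^ 2 + 1 < Nat.card P → P.Normal := by
  intro n
  induction n using Nat.strong_induction_on with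
  | _ n ih =>
    intro G _ _ hn p P h χ hχ hfaith d hd hsmall
    classical
    by_cases hno : ∀ K : Subgroup G, K.Normal → P ≤ K → K = ⊤
    · haveI := Fintype.ofFinite P
      haveI := Fintype.ofFinite (cen P)
      choose m hm using fun ψ : IrrCharacter G => classInner_char_nat hχ (isCharacter_of_irr ψ.2)
      have hsum : ∀ g, χ g = ∑ ψ : IrrCharacter G, (m ψ : ℂ) * (ψ : G → ℂ) g := fun g => by
        have := congrFun (eq_sum_irr (isClassFunction_char hχ)) g
        simpa [hm] using this
      choose e he1 he2 using fun ψ : IrrCharacter G => irr_degree_pos ψ.2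
      have hdeg : d = ∑ ψ, m ψ * e ψ := by
        have h1 := hsum 1
        rw [hd, Finset.sum_congr rfl fun ψ _ => by rw [he2 ψ]] at h1
        exact_mod_cast h1
      have hlin : ∀ ψ : IrrCharacter G, m ψ ≠ 0 → (ψ : G → ℂ) 1 = 1 := by
        intro ψ hψ
        by_cases h1 : (ψ : G → ℂ) = fun _ => 1
        · rw [h1]
        · have hle : e ψ ≤ d := hdeg ▸ le_trans (Nat.le_mul_of_pos_left _ (Nat.pos_of_ne_zero hψ))
            (Finset.single_le_sum (fun φ _ => Nat.zero_le (m φ * e φ)) (Finset.mem_univ ψ))
          have hsm : e ψ ^ 2 + 1 < Nat.card P := by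
            have := Nat.pow_le_pow_left hle 2
            omega
          rw [he2, (linear_of_small h hno ψ.2 h1 (he2 ψ) hsm).1, Nat.cast_one]
      have hcomm : ∀ a b : G, a * b = b * a := by
        intro a b
        have h1 : a * b * a⁻¹ * b⁻¹ = 1 := hfaith _ (by
          rw [hsum, hsum]
          refine Finset.sum_congr rfl fun ψ _ => ?_
          rcases eq_or_ne (m ψ) 0 with h0 | h0
          · simp [h0]
          obtain ⟨φ, hφ⟩ := exists_hom_of_degree_one (isCharacter_of_irr ψ.2) (hlin ψ h0)
          rw [hφ]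
          simp only [map_mul, map_inv, map_one]
          rw [mul_right_comm (φ a) (φ b), mul_inv_cancel, one_mul, mul_inv_cancel])
        calc a * b = (a * b * a⁻¹ * b⁻¹) * (b * a) := by group
          _ = b * a := by rw [h1, one_mul]
      exact ⟨fun x hx g => by rwa [hcomm g x, mul_inv_cancel_right]⟩
    · push Not at hno
      obtain ⟨K, hK, hPK, hKtop⟩ := hno
      haveI := Fintype.ofFinite K
      have hlt : Nat.card K < n := hn ▸ lt_of_le_of_ne (Nat.card_le_card_of_injective _ K.subtype_injective)
        (fun e => hKtop (Subgroup.eq_top_of_card_eq K e))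
      have hset : Setup p (P.subgroupOf K) :=
        { prime := h.prime
          pgroup := h.pgroup.of_equiv (Subgroup.subgroupOfEquivOfLe hPK).symm
          sylow := fun hd' => h.sylow (hd'.trans (Subgroup.relIndex_dvd_index_of_le hPK))
          ne := fun e => h.ne (by
            rw [Subgroup.subgroupOf_eq_bot, disjoint_iff, inf_eq_left.2 hPK] at e
            exact e)
          star := fun x hx hx1 => by
            have h1 := h.star (x : G) (Subgroup.mem_subgroupOf.1 hx) fun e => hx1 (Subtype.ext e)
            ext c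
            rw [Subgroup.mem_centralizer_singleton_iff, Subgroup.mem_centralizer_iff]
            constructor
            · intro hc y hy
              apply Subtype.ext
              have h2 : (c : G) ∈ Subgroup.centralizer (P : Set G) := by
                rw [← h1, Subgroup.mem_centralizer_singleton_iff]
                exact congrArg Subtype.val hc
              exact Subgroup.mem_centralizer_iff.1 h2 _ (Subgroup.mem_subgroupOf.1 hy)
            · intro hc
              exact (hc x hx).symm }
      have hsm : d ^ 2 + 1 < Nat.card (P.subgroupOf K) := by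
        rwa [Nat.card_congr (Subgroup.subgroupOfEquivOfLe hPK).toEquiv]
      have hPn := ih _ hlt K rfl p (P.subgroupOf K) hset (fun k => χ k) (isCharacter_restrict hχ K)
        (fun k hk => Subtype.ext (hfaith k hk)) d hd hsm
      exact ⟨fun x hx g => conj_mem_of_normal h.prime hK hPK hPn h.pgroup h.sylow g x hx⟩

theorem setup_of_sylow {G : Type u} [Group G] [Finite G] {p : ℕ} (hp : p.Prime)
    (hpG : p ∣ Nat.card G) (P : Sylow p G)
    (hstar : ∀ x ∈ (P : Subgroup G), x ≠ 1 →
      Subgroup.centralizer ({x} : Set G) = Subgroup.centralizer ((P : Subgroup G) : Set G)) :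
    Setup p (P : Subgroup G) := by
  haveI : Fact p.Prime := ⟨hp⟩
  exact ⟨hp, P.isPGroup', P.not_dvd_index, fun e => by
    have := P.dvd_card_of_dvd_card hpG
    rw [Subgroup.card_eq_one.2 e] at this
    exact hp.ne_one (Nat.dvd_one.1 this), hstar⟩

end CfsgLib.CharTheory.SmallDegree
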