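import Cfsg.Agent.Lib.CharTheory.DegreesOneP
import Cfsg.Agent.Lib.CharTheory.RelDegreeShape
import Cfsg.Agent.Lib.Coprime
import Cfsg.Agent.Lib.PSolvable

/-!
Solvable groups all of whose irreducible degrees are square-free have derived length at most four.

A group with a normal nilpotent `p'`-subgroup `A` of `p`-power index induces a group of order dividing
`p` on `A`, as the orbits on the linear characters of `A` are square-free `p`-powers. So the Fitting
factor group has Fitting subgroup of square-free order, hence is metabelian; and so is the Fitting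
subgroup, as its Sylow subgroups have degrees in `{1, p}`.
-/

set_option autoImplicit false

namespace CfsgLib.CharTheory.SquarefreeDegrees

open Cfsg CfsgLib CfsgLib.CharTheory
open scoped commutatorElement

universe u v

/-- A coprime action of a `p`-group on an abelian group all of whose orbits have at most `p` points
has kernel of index at most `p`. -/
theorem index_ker_dvd {Q : Type u} [Group Q] [Finite Q] {M : Type v} [CommGroup M] [Finite M]
    {p : ℕ} [hp : Fact p.Prime] (hQ : IsPGroup p Q) (hcop : (Nat.card M).Coprime p)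
    (φ : Q →* MulAut M) (st : M → Subgroup Q) (hst : ∀ a g, g ∈ st a ↔ φ g a = a)
    (horb : ∀ a, (st a).index ∣ p) : φ.ker.index ∣ p := by
  classical
  by_cases hall : ∀ a, st a = ⊤
  · have : φ.ker = ⊤ := eq_top_iff.mpr fun g _ => MonoidHom.mem_ker.mpr (MulEquiv.ext fun a =>
      (hst a g).mp ((hall a).symm ▸ Subgroup.mem_top g))
    rw [this, Subgroup.index_top]; exact one_dvd p
  push Not at hall
  obtain ⟨a, ha⟩ := hall
  have hidx : ∀ b, st b ≠ ⊤ → (st b).index = p := fun b hb =>
    (hp.out.eq_one_or_self_of_dvd _ (horb b)).resolve_left fun e => hb (Subgroup.index_eq_one.mp e)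
  have hnorm : ∀ b, st b ≠ ⊤ → (st b).Normal := by
    intro b hb
    obtain ⟨n, hn⟩ := IsPGroup.iff_card.mp hQ
    refine Subgroup.normal_of_index_eq_minFac_card ?_
    have h1 : p ∣ p ^ n := hn ▸ hidx b hb ▸ (st b).index_dvd_card
    rw [hidx b hb, hn, Nat.pow_minFac (fun e => by subst e; simp [hp.out.ne_one] at h1),
      hp.out.minFac_eq]
  have hker : st a ≤ φ.ker := by
    intro g hg
    rw [MonoidHom.mem_ker]
    refine MulEquiv.ext fun b => ?_
    by_contra hgb
    have hgb' : g ∉ st b := fun h => hgb ((hst b g).mp h)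
    have hb : st b ≠ ⊤ := fun e => hgb' (e ▸ Subgroup.mem_top g)
    have := hnorm a ha
    have := hnorm b hb
    have hsup : st a ⊔ st b = ⊤ := by
      rw [← Subgroup.index_eq_one]
      refine (hp.out.eq_one_or_self_of_dvd _ (hidx a ha ▸ Subgroup.index_dvd_of_le le_sup_left)).resolve_right
        fun e => hgb' ?_
      have h1 : (st a).relIndex (st a ⊔ st b) = 1 := by
        have h := Subgroup.relIndex_mul_index (le_sup_left : st a ≤ st a ⊔ st b)
        rw [e, hidx a ha] at h
        exact Nat.mul_right_cancel hp.out.pos (h.trans (one_mul p).symm)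
      have h2 : (st b).relIndex (st a ⊔ st b) = 1 := by
        have h := Subgroup.relIndex_mul_index (le_sup_right : st b ≤ st a ⊔ st b)
        rw [e, hidx b hb] at h
        exact Nat.mul_right_cancel hp.out.pos (h.trans (one_mul p).symm)
      exact (Subgroup.relIndex_eq_one.mp h2) ((Subgroup.mem_sup_left hg))
    have hle : st (a * b) ≤ st a ⊓ st b := by
      intro x hx
      rw [hst, map_mul] at hx
      set c := φ x a * a⁻¹ with hc
      have hc' : c = b * (φ x b)⁻¹ := by
        rw [hc, mul_inv_eq_iff_eq_mul, eq_comm, mul_right_comm, ← eq_mul_inv_iff_mul_eq, inv_inv,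
          hx, mul_comm b a]
      have hfix : ∀ (a' : M) (_ : (st a').Normal) (y : Q), y ∈ st a' → φ y (φ x a') = φ x a' := by
        intro a' hn y hy
        have h := (hst a' _).mp (hn.conj_mem y hy x⁻¹)
        rw [inv_inv, map_mul, map_mul, MulAut.mul_apply, MulAut.mul_apply] at h
        have h2 := congrArg (φ x) h
        rwa [← MulAut.mul_apply, ← map_mul, mul_inv_cancel, map_one, MulAut.one_apply] at h2
      have hca : ∀ y ∈ st a ⊔ st b, φ y c = c := by
        intro y hy
        refine (hst c y).mp ((sup_le (fun z hz => ?_) (fun z hz => ?_) : st a ⊔ st b ≤ st c) hy)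
        · rw [hst, hc, map_mul, map_inv, hfix a (hnorm a ha) z hz, (hst a z).mp hz]
        · rw [hst, hc', map_mul, map_inv, hfix b (hnorm b hb) z hz, (hst b z).mp hz]
      have hiter : ∀ i : ℕ, φ (x ^ i) a = c ^ i * a := by
        intro i
        induction i with
        | zero => simp
        | succ i ih =>
          rw [pow_succ' x, map_mul, MulAut.mul_apply, ih, map_mul,
            map_pow, hca x (hsup ▸ Subgroup.mem_top x), pow_succ, mul_assoc, hc,
            inv_mul_cancel_right]
      have hcp : c ^ p = 1 := by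
        have h := hiter p
        rw [(hst a _).mp (hidx a ha ▸ Subgroup.pow_index_mem (st a) x)] at h
        exact right_eq_mul.mp h
      have hc1 : c = 1 := orderOf_eq_one_iff.mp (Nat.eq_one_of_dvd_coprimes hcop
        (orderOf_dvd_natCard c) (orderOf_dvd_of_pow_eq_one hcp))
      refine ⟨(hst a x).mpr (mul_inv_eq_one.mp hc1), (hst b x).mpr ?_⟩
      rw [hc1] at hc'
      exact (mul_inv_eq_one.mp hc'.symm).symm
    have h1 : (st a ⊓ st b).index ∣ p := (Subgroup.index_dvd_of_le hle).trans (horb _)
    have h2 := Subgroup.relIndex_mul_index (inf_le_left : st a ⊓ st b ≤ st a)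
    rw [hidx a ha] at h2
    have h3 : (st a ⊓ st b).relIndex (st a) = 1 := by
      rcases hp.out.eq_one_or_self_of_dvd _ h1 with e | e
      · rw [e] at h2
        exact absurd (Nat.eq_one_of_mul_eq_one_left h2) hp.out.ne_one
      · exact Nat.mul_right_cancel hp.out.pos ((h2.trans e).trans (one_mul p).symm)
    exact hgb' ((Subgroup.relIndex_eq_one.mp h3 hg).2)
  exact (Subgroup.index_dvd_of_le hker).trans (horb a)

variable {G : Type u} [Group G] [Finite G]

/-- In a nilpotent group, a subgroup generating with the derived subgroup is the whole group. -/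
theorem eq_top_of_sup_commutator {K : Type u} [Group K] [Finite K] [Group.IsNilpotent K] {C : Subgroup K}
    (h : C ⊔ commutator K = ⊤) : C = ⊤ := by
  by_contra hC
  obtain ⟨M, hM, hCM⟩ := (eq_top_or_exists_le_coatom C).resolve_left hC
  have := Subgroup.NormalizerCondition.normal_of_coatom M Group.normalizerCondition_of_isNilpotent hM
  have : Nontrivial (K ⧸ M) := QuotientGroup.nontrivial_iff.mpr hM.1
  have hlt := IsSolvable.commutator_lt_top_of_nontrivial (K ⧸ M)
  refine hlt.ne (eq_top_iff.mpr ?_)
  rw [← Subgroup.map_top_of_surjective _ (QuotientGroup.mk'_surjective M), ← h, Subgroup.map_sup,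
    sup_le_iff]
  refine ⟨fun _ ⟨x, hx, e⟩ => ?_, ?_⟩
  · rw [← e, show QuotientGroup.mk' M x = 1 from (QuotientGroup.eq_one_iff x).mpr (hCM hx)]
    exact one_mem _
  · rw [commutator_def, Subgroup.map_commutator, commutator_def]
    exact Subgroup.commutator_mono le_top le_top

/-- Conjugation on the linear characters of a normal subgroup. -/
noncomputable def dualAut (A : Subgroup G) [A.Normal] : G →* MulAut (A →* ℂˣ) where
  toFun g :=
    { toFun := fun l => l.comp (MulAut.conjNormal g⁻¹ : A ≃* A).toMonoidHom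
      invFun := fun l => l.comp (MulAut.conjNormal g : A ≃* A).toMonoidHom
      left_inv := fun l => MonoidHom.ext fun a => by
        show l (MulAut.conjNormal g⁻¹ (MulAut.conjNormal g a)) = l a
        rw [← MulAut.mul_apply, ← map_mul, inv_mul_cancel, map_one]; rfl
      right_inv := fun l => MonoidHom.ext fun a => by
        show l (MulAut.conjNormal g (MulAut.conjNormal g⁻¹ a)) = l a
        rw [← MulAut.mul_apply, ← map_mul, mul_inv_cancel, map_one]; rfl
      map_mul' := fun _ _ => rfl }
  map_one' := MulEquiv.ext fun l => MonoidHom.ext fun a => by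
    show l (MulAut.conjNormal (1 : G)⁻¹ a) = l a
    rw [inv_one, map_one]; rfl
  map_mul' g h := MulEquiv.ext fun l => MonoidHom.ext fun a => by
    show l (MulAut.conjNormal (g * h)⁻¹ a) = l (MulAut.conjNormal h⁻¹ (MulAut.conjNormal g⁻¹ a))
    rw [mul_inv_rev, map_mul]; rfl

/-- Degrees of a normal subgroup are square-free. -/
theorem squarefree_of_normal (hsq : ∀ χ : IrrCharacter G, Squarefree (charDegree (χ : G → ℂ)))
    (K : Subgroup G) [K.Normal] (θ : IrrCharacter K) : Squarefree (charDegree (θ : K → ℂ)) := by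
  classical
  have := Fintype.ofFinite G
  have := Fintype.ofFinite K
  obtain ⟨χ, hχ, hc⟩ := exists_irr_above θ.2
  exact (hsq ⟨χ, hχ⟩).squarefree_of_dvd
    ((dvd_mul_left _ _).trans (index_mul_degree_dvd K hχ θ.2 hc))

/-- The main orbit step. -/
theorem relIndex_centralizer_dvd {p : ℕ} [hp : Fact p.Prime]
    (hsq : ∀ χ : IrrCharacter G, Squarefree (charDegree (χ : G → ℂ)))
    (A : Subgroup G) [A.Normal] [Group.IsNilpotent A] (hcop : (Nat.card A).Coprime p) {k : ℕ}
    (hidx : A.index = p ^ k) (Q : Subgroup G) (hQ : IsPGroup p Q) :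
    (Q ⊓ Subgroup.centralizer (A : Set G)).relIndex Q ∣ p := by
  classical
  have := Fintype.ofFinite G
  have := Fintype.ofFinite A
  let φ : Q →* MulAut (A →* ℂˣ) := (dualAut A).comp Q.subtype
  have hM : (Nat.card (A →* ℂˣ)).Coprime p := by
    refine Nat.Coprime.coprime_dvd_left ?_ hcop
    rw [Nat.card_congr Abelianization.lift,
      CommGroup.card_monoidHom_of_hasEnoughRootsOfUnity]
    exact (commutator A).index_dvd_card
  have : Finite (A →* ℂˣ) := Nat.finite_of_card_ne_zero fun e => by
    rw [e, Nat.coprime_zero_left] at hM; exact hp.out.ne_one hM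
  have hk := index_ker_dvd hQ hM φ
    (fun l => (inertia A (linFun A l)).subgroupOf Q) (fun l g => ?_) (fun l => ?_)
  · refine (Subgroup.index_dvd_of_le ?_).trans hk
    rw [Subgroup.inf_subgroupOf_left]
    intro g hg
    rw [Subgroup.mem_subgroupOf, Subgroup.mem_centralizer_iff]
    have hAK : φ.ker.map Q.subtype ≤ Subgroup.normalizer (A : Set G) :=
      (Subgroup.normalizer_eq_top_iff.mpr ‹A.Normal›).symm ▸ le_top
    have hc : (Nat.card (φ.ker.map Q.subtype)).Coprime (Nat.card A) := by
      obtain ⟨j, hj⟩ := IsPGroup.iff_card.mp ((hQ.to_subgroup φ.ker).map Q.subtype)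
      rw [hj]
      exact (hcop.pow_right j).symm
    have hle : (⁅A, φ.ker.map Q.subtype⁆ : Subgroup G) ≤ ⁅A, A⁆ := by
      rw [Subgroup.commutator_le]
      rintro a ha _ ⟨q, hq, rfl⟩
      rw [SetLike.mem_coe, MonoidHom.mem_ker] at hq
      have hx : (q : G) * a⁻¹ * (q : G)⁻¹ ∈ A := ‹A.Normal›.conj_mem _ (inv_mem ha) q
      have hmem : (⟨a, ha⟩ : A) * ⟨_, hx⟩ ∈ commutator A := by
        rw [← Abelianization.ker_of, MonoidHom.mem_ker]
        by_contra hne
        obtain ⟨ψ, hψ⟩ := CommGroup.exists_apply_ne_one_of_hasEnoughRootsOfUnity (Abelianization A) ℂ hne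
        refine hψ ?_
        have h := DFunLike.congr_fun (DFunLike.congr_fun hq (ψ.comp Abelianization.of))
          (⟨_, hx⟩ : A)
        have he : (MulAut.conjNormal (q : G)⁻¹ (⟨_, hx⟩ : A) : A) = ⟨a, ha⟩⁻¹ := by
          refine Subtype.ext ?_
          rw [MulAut.conjNormal_apply]
          simp [mul_assoc]
        change (ψ.comp Abelianization.of) (MulAut.conjNormal (q : G)⁻¹ ⟨_, hx⟩) =
          (ψ.comp Abelianization.of) ⟨_, hx⟩ at h
        rw [he] at h
        show (ψ.comp Abelianization.of) (⟨a, ha⟩ * ⟨_, hx⟩) = 1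
        rw [map_mul, ← h, map_inv, mul_inv_cancel]
      rw [← Subgroup.map_subtype_commutator]
      exact ⟨_, hmem, by simp [commutatorElement_def, mul_assoc]⟩
    have htop : (Subgroup.centralizer (φ.ker.map Q.subtype : Set G)).subgroupOf A = ⊤ := by
      refine eq_top_of_sup_commutator (eq_top_iff.mpr fun a _ => ?_)
      obtain ⟨x, hx, c, hc', e⟩ :=
        coprime_decomp hAK hc (Or.inr inferInstance) a.2
      have hxA : x ∈ A := commutator_le_of_le_normalizer hAK hx
      have hx' := hle hx
      rw [← Subgroup.map_subtype_commutator] at hx'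
      obtain ⟨x', hx'', rfl⟩ := hx'
      rw [show a = x' * ⟨c, hc'.1⟩ from Subtype.ext e]
      exact mul_mem (Subgroup.mem_sup_right hx'') (Subgroup.mem_sup_left hc'.2)
    intro a ha
    have h := (eq_top_iff.mp htop (Subgroup.mem_top (⟨a, ha⟩ : A)) : _)
    exact ((Subgroup.mem_centralizer_iff.mp h) (g : G) ⟨g, hg, rfl⟩).symm
  · rw [Subgroup.mem_subgroupOf]
    have hi : ∀ x : G, x ∈ inertia A (linFun A l) ↔ conjDual A x l = l := fun x => by
      rw [mem_inertia, conj_linFun]
      exact (linFun_inj A).eq_iff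
    rw [← inv_mem_iff, hi]
    rfl
  · by_cases hl : ∀ g : G, g ∈ inertia A (linFun A l)
    · rw [show (inertia A (linFun A l)).subgroupOf Q = ⊤ from eq_top_iff.mpr fun g _ => hl g,
        Subgroup.index_top]
      exact one_dvd p
    obtain ⟨χ, hχ, hc⟩ := exists_irr_above (isIrr_linFun A l)
    have hd := index_mul_degree_dvd A hχ (isIrr_linFun A l) hc
    rw [charDegree_linFun, mul_one] at hd
    have hp1 : (inertia A (linFun A l)).index ∣ p ^ k :=
      hidx ▸ Subgroup.index_dvd_of_le (le_inertia A (isClassFunction_irr (isIrr_linFun A l)))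
    obtain ⟨j, -, hj⟩ := (Nat.dvd_prime_pow hp.out).mp hp1
    have hj1 : j ≤ 1 := by
      by_contra h
      have hsf := (hsq ⟨χ, hχ⟩).squarefree_of_dvd hd
      rw [hj] at hsf
      exact hp.out.ne_one (Nat.isUnit_iff.mp (hsf p ((pow_two p).symm ▸ pow_dvd_pow p (by omega))))
    obtain ⟨n, hn⟩ := IsPGroup.iff_card.mp hQ
    obtain ⟨i, -, hi⟩ := (Nat.dvd_prime_pow hp.out).mp
      (hn ▸ ((inertia A (linFun A l)).subgroupOf Q).index_dvd_card)
    rw [hi]
    have hle : p ^ i ≤ p ^ 1 := by
      rw [← hi]
      exact ((Nat.le_of_dvd (Nat.pos_of_ne_zero Subgroup.index_ne_zero_of_finite) dvd_rfl).trans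
        ((Subgroup.relIndex_le_of_le_right le_top (by rw [Subgroup.relIndex_top_right]; exact Subgroup.index_ne_zero_of_finite)).trans
          (Subgroup.relIndex_top_right _).le)).trans
        (hj ▸ Nat.pow_le_pow_right hp.out.pos hj1)
    exact (pow_dvd_pow p ((Nat.pow_le_pow_iff_right hp.out.one_lt).mp hle)).trans (pow_one p).dvd

set_option maxHeartbeats 1600000 in
/-- The `p`-core of the Fitting factor group has order at most `p`. -/
theorem card_pCore_quotient_dvd [Group.IsSolvable G] {p : ℕ} [hp : Fact p.Prime]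
    (hsq : ∀ χ : IrrCharacter G, Squarefree (charDegree (χ : G → ℂ))) :
    Nat.card (pCore p (G ⧸ fittingSubgroup G)) ∣ p := by
  classical
  set F := fittingSubgroup G with hF
  set R : Subgroup G := (pCore p (G ⧸ F)).comap (QuotientGroup.mk' F) with hR
  have hFR : F ≤ R := fun x hx => by
    rw [hR, Subgroup.mem_comap, show QuotientGroup.mk' F x = 1 from (QuotientGroup.eq_one_iff x).mpr hx]
    exact one_mem _
  have hcard : F.relIndex R = Nat.card (pCore p (G ⧸ F)) := by
    rw [← Subgroup.relIndex_bot_left, hR]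
    conv_lhs => arg 1; rw [← QuotientGroup.ker_mk' F, ← MonoidHom.comap_bot]
    rw [Subgroup.relIndex_comap, Subgroup.map_comap_eq_self_of_surjective (QuotientGroup.mk'_surjective F)]
  obtain ⟨e, he⟩ := IsPGroup.iff_card.mp (isPGroup_pCore (G := G ⧸ F) p)
  set A : Subgroup G := pPrimeCore p G ⊓ F with hA
  have hFnil : Group.IsNilpotent F := isNilpotent_fittingSubgroup
  have : Group.IsNilpotent A :=
    Group.nilpotent_of_surjective (Subgroup.subgroupOfEquivOfLe (inf_le_right : A ≤ F)).toMonoidHom
      (Subgroup.subgroupOfEquivOfLe (inf_le_right : A ≤ F)).surjective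
  have : A.Normal := Subgroup.normal_inf_normal _ _
  have hAcop : (Nat.card A).Coprime p :=
    Nat.Coprime.coprime_dvd_left (Subgroup.card_dvd_of_le inf_le_left) (card_pPrimeCore_coprime p)
  have hFeq : F ≤ pCore p G ⊔ A := by
    refine fittingSubgroup_le_iSup_pCore.trans (iSup_le ?_)
    rintro ⟨q, hq⟩
    show pCore q G ≤ _
    by_cases hqp : q = p
    · subst hqp; exact le_sup_left
    · refine le_sup_of_le_right (le_inf ?_ (pCore_le_fittingSubgroup hq))
      haveI := Fact.mk hq
      obtain ⟨j, hj⟩ := IsPGroup.iff_card.mp (isPGroup_pCore (G := G) q)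
      exact le_pPrimeCore (hj ▸ Nat.Coprime.pow_left j ((Nat.coprime_primes hq hp.out).mpr hqp))
  obtain ⟨b, hb⟩ := IsPGroup.iff_card.mp (isPGroup_pCore (G := G) p)
  have hAR : A.relIndex R ∣ p ^ (b + e) := by
    rw [← Subgroup.relIndex_mul_relIndex A F R inf_le_right hFR, hcard, he, pow_add, ← hb]
    refine Nat.mul_dvd_mul_right ?_ _
    refine (Dvd.intro _ (Subgroup.relIndex_mul_relIndex A F (pCore p G ⊔ A) inf_le_right hFeq)).trans ?_
    rw [Subgroup.relIndex_sup_right]
    exact Subgroup.relIndex_dvd_card A _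
  obtain ⟨Q⟩ : Nonempty (Sylow p R) := inferInstance
  have hRn : R.Normal := Subgroup.Normal.comap inferInstance _
  obtain ⟨k, -, hk⟩ := (Nat.dvd_prime_pow hp.out).mp hAR
  have : (A.subgroupOf R).Normal := ‹A.Normal›.comap R.subtype
  have hAeq := Subgroup.subgroupOfEquivOfLe (inf_le_right.trans hFR : A ≤ R)
  have : Group.IsNilpotent (A.subgroupOf R) :=
    Group.nilpotent_of_surjective hAeq.symm.toMonoidHom hAeq.symm.surjective
  have key := relIndex_centralizer_dvd (G := R) (squarefree_of_normal hsq R) (A.subgroupOf R)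
    (by rwa [Nat.card_congr hAeq.toEquiv]) (k := k) hk Q Q.isPGroup'
  set S : Subgroup R := (Q : Subgroup R) ⊓ Subgroup.centralizer (A.subgroupOf R : Set R) with hS
  have hQtop : (Q : Subgroup R) ⊔ A.subgroupOf R = ⊤ := by
    rw [← Subgroup.index_eq_one]
    obtain ⟨j, -, hj⟩ := (Nat.dvd_prime_pow hp.out).mp
      ((Subgroup.index_dvd_of_le (le_sup_right (a := (Q : Subgroup R)) (b := A.subgroupOf R))).trans
        (show (A.subgroupOf R).index ∣ p ^ k from hk.dvd))
    have := (Subgroup.index_dvd_of_le (le_sup_left (a := (Q : Subgroup R)) (b := A.subgroupOf R)))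
    rw [hj] at this
    rw [hj]
    by_contra hne
    exact Q.not_dvd_index ((dvd_pow_self p fun e => hne (by rw [e, pow_zero])).trans this)
  have hSn : S.Normal := by
    rw [← Subgroup.normalizer_eq_top_iff, eq_top_iff, ← hQtop, sup_le_iff]
    have : (Subgroup.centralizer (A.subgroupOf R : Set R)).Normal := inferInstance
    refine ⟨fun q hq => Subgroup.mem_normalizer_iff.mpr fun x => ?_, fun a ha =>
      Subgroup.mem_normalizer_iff.mpr fun x => ?_⟩
    · simp only [hS, Subgroup.mem_inf]
      refine and_congr ⟨fun hx => mul_mem (mul_mem hq hx) (inv_mem hq), fun hx => ?_⟩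
        ⟨fun hx => this.conj_mem x hx q, fun hx => ?_⟩
      · have := mul_mem (mul_mem (inv_mem hq) hx) hq
        simpa [mul_assoc] using this
      · have := this.conj_mem _ hx q⁻¹
        simpa [mul_assoc] using this
    · constructor
      · intro hx
        rw [(Subgroup.mem_centralizer_iff.mp hx.2 a ha), mul_inv_cancel_right]
        exact hx
      · intro hx
        have h := Subgroup.mem_centralizer_iff.mp hx.2 a⁻¹ (inv_mem ha)
        have : x = a * x * a⁻¹ := by
          rw [show a * x * a⁻¹ = a⁻¹ * (a * x * a⁻¹) * a by rw [h]; group]; group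
        rw [this]
        exact hx
  have hSF : S ≤ F.subgroupOf R := by
    have h1 : S ≤ pCore p R := le_pCore (Q.isPGroup'.to_le inf_le_left)
    refine h1.trans fun x hx => ?_
    exact pCore_le_fittingSubgroup hp.out (map_pCore_le p R ⟨x, hx, rfl⟩)
  refine hcard ▸ ?_
  refine dvd_trans ?_ key
  have hQF : (Q : Subgroup R) ⊔ F.subgroupOf R = ⊤ := eq_top_iff.mpr (hQtop ▸ sup_le_sup_left
    (fun x hx => (inf_le_right : A ≤ F) hx) _)
  have : (F.subgroupOf R).Normal := fittingSubgroup_normal.comap R.subtype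
  show (F.subgroupOf R).index ∣ _
  rw [← Subgroup.relIndex_top_right, ← hQF, Subgroup.relIndex_sup_right]
  exact Subgroup.relIndex_dvd_of_le_left _ hSF

/-- A nilpotent group with square-free degrees is metabelian. -/
theorem commutator_comm_of_nilpotent {K : Type u} [Group K] [Finite K] [Group.IsNilpotent K]
    (hsq : ∀ χ : IrrCharacter K, Squarefree (charDegree (χ : K → ℂ))) :
    ∀ a ∈ commutator K, ∀ b ∈ commutator K, a * b = b * a := by
  classical
  have hn : ∀ {p : ℕ} [Fact p.Prime] (P : Sylow p K), (P : Subgroup K).Normal := fun {p} _ P =>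
    Sylow.normal_of_normalizerCondition Group.normalizerCondition_of_isNilpotent P
  let e := Sylow.directProductOfNormal hn
  intro a ha b hb
  refine e.symm.injective (funext fun q => funext fun P => ?_)
  have := Fact.mk (Nat.prime_of_mem_primeFactors q.2)
  have := hn P
  let π : K →* ↥P := ((Pi.evalMonoidHom _ P).comp (Pi.evalMonoidHom _ q)).comp e.symm.toMonoidHom
  have hπ : ∀ x ∈ commutator K, π x ∈ commutator ↥P := fun x hx => by
    have h := Subgroup.mem_map_of_mem π hx
    rw [commutator_def, Subgroup.map_commutator] at h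
    rw [commutator_def]
    exact Subgroup.commutator_mono le_top le_top h
  have hcd : ∀ θ : IrrCharacter ↥P, charDegree (θ : ↥P → ℂ) = 1 ∨ charDegree (θ : ↥P → ℂ) = q := by
    intro θ
    have hsf := squarefree_of_normal hsq (P : Subgroup K) θ
    obtain ⟨n, hn⟩ := IsPGroup.iff_card.mp P.isPGroup'
    have := Fintype.ofFinite ↥P
    obtain ⟨k, ρ, hρ, hθ⟩ := θ.2
    haveI := hρ
    have hd : charDegree (θ : ↥P → ℂ) ∣ (q : ℕ) ^ n := by
      have h := (charDegree_spec' θ.2).1
      rw [← hθ, ρ.char_one, Nat.cast_inj] at h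
      rw [← hn, ← hθ, ← h]
      exact finrank_dvd_card ρ
    obtain ⟨j, -, hj⟩ := (Nat.dvd_prime_pow (Fact.out : (q : ℕ).Prime)).mp hd
    rw [hj] at hsf ⊢
    rcases Nat.lt_or_ge j 2 with h | h
    · interval_cases j
      · exact Or.inl (pow_zero _)
      · exact Or.inr (pow_one _)
    · exact absurd (Nat.isUnit_iff.mp (hsf q ((pow_two (q : ℕ)).symm ▸ pow_dvd_pow (q : ℕ) h)))
        (Fact.out : (q : ℕ).Prime).ne_one
  show π (a * b) = π (b * a)
  rw [map_mul, map_mul]
  exact commutator_comm_of_two_degrees hcd (Fact.out : (q : ℕ).Prime).one_lt _ (hπ a ha) _ (hπ b hb)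

/-- A finite solvable group all of whose degrees are square-free has derived length at most four. -/
theorem derivedSeries_four [Group.IsSolvable G]
    (hsq : ∀ χ : IrrCharacter G, Squarefree (charDegree (χ : G → ℂ))) : derivedSeries G 4 = ⊥ := by
  classical
  set F := fittingSubgroup G with hF
  have hcomm : ∀ H : Subgroup (G ⧸ F), H ≤ fittingSubgroup (G ⧸ F) → commutator (G ⧸ F) ≤
      Subgroup.centralizer (H : Set (G ⧸ F)) := by
    intro H hH
    refine le_trans ?_ (Subgroup.centralizer_le hH)
    rw [Subgroup.le_centralizer_iff, fittingSubgroup_eq_iSup_pCore]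
    refine iSup_le ?_
    rintro ⟨p, hp⟩
    show pCore p (G ⧸ F) ≤ _
    haveI := Fact.mk hp
    rw [Subgroup.le_centralizer_iff, commutator_def, Subgroup.commutator_le]
    intro g _ h _
    refine Subgroup.mem_centralizer_iff.mpr fun x hx => ?_
    have hcyc : IsCyclic ↥(pCore p (G ⧸ F)) := by
      rcases hp.eq_one_or_self_of_dvd _ (card_pCore_quotient_dvd hsq (p := p)) with e | e
      · have := (Nat.card_eq_one_iff_unique.mp e).1
        exact isCyclic_of_subsingleton
      · exact isCyclic_of_prime_card e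
    obtain ⟨z, hz⟩ := hcyc.exists_generator
    have hgen : ∀ c : G ⧸ F, ∃ k : ℤ, ∀ y ∈ pCore p (G ⧸ F), c * y * c⁻¹ = y ^ k := by
      intro c
      obtain ⟨k, hk⟩ := hz ⟨c * z * c⁻¹, (pCore_normal p _).conj_mem _ z.2 c⟩
      refine ⟨k, fun y hy => ?_⟩
      obtain ⟨j, hj⟩ := hz ⟨y, hy⟩
      have hj' : (z : G ⧸ F) ^ j = y := congrArg Subtype.val hj
      have hk' : (z : G ⧸ F) ^ k = c * z * c⁻¹ := congrArg Subtype.val hk
      rw [← hj', ← conj_zpow, ← hk', ← zpow_mul, ← zpow_mul, mul_comm]
    obtain ⟨i, hi⟩ := hgen g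
    obtain ⟨j, hj⟩ := hgen h
    have hn := pCore_normal p (G ⧸ F)
    have h3 : ∀ y ∈ pCore p (G ⧸ F), (g * h) * ((h * g)⁻¹ * y * (h * g)) * (g * h)⁻¹ = y := by
      intro y hy
      have hy' : (h * g)⁻¹ * y * (h * g) ∈ pCore p (G ⧸ F) := by
        have := hn.conj_mem y hy (h * g)⁻¹
        rwa [inv_inv] at this
      rw [show (g * h) * ((h * g)⁻¹ * y * (h * g)) * (g * h)⁻¹ =
        g * (h * ((h * g)⁻¹ * y * (h * g)) * h⁻¹) * g⁻¹ by group, hj _ hy', hi _ (zpow_mem hy' _),
        ← zpow_mul, mul_comm j i, zpow_mul, ← hi _ hy', ← hj _ (hn.conj_mem _ hy' g)]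
      group
    have h2 := h3 x hx
    rw [commutatorElement_def]
    calc x * (g * h * g⁻¹ * h⁻¹)
        = (g * h * ((h * g)⁻¹ * x * (h * g)) * (g * h)⁻¹) * (g * h * g⁻¹ * h⁻¹) := by rw [h2]
      _ = g * h * g⁻¹ * h⁻¹ * x := by group
  have hQ : ∀ a ∈ commutator (G ⧸ F), ∀ b ∈ commutator (G ⧸ F), a * b = b * a := fun a ha b hb =>
    (Subgroup.mem_centralizer_iff.mp (hcomm _ le_rfl ha) b
      (centralizer_fitting_le (hcomm _ le_rfl hb))).symm
  have h2 : derivedSeries G 2 ≤ F := by
    intro x hx
    have h := Subgroup.mem_map_of_mem (QuotientGroup.mk' F) hx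
    rw [map_derivedSeries_eq (QuotientGroup.mk'_surjective F)] at h
    have hb : derivedSeries (G ⧸ F) 2 ≤ ⊥ := by
      rw [derivedSeries_succ, derivedSeries_one, Subgroup.commutator_le]
      intro a ha b hb
      rw [Subgroup.mem_bot, commutatorElement_eq_one_iff_mul_comm]
      exact hQ a ha b hb
    exact (QuotientGroup.eq_one_iff x).mp (Subgroup.mem_bot.mp (hb h))
  have := isNilpotent_fittingSubgroup (G := G)
  have hF2 := commutator_comm_of_nilpotent (squarefree_of_normal hsq F)
  rw [derivedSeries_succ, eq_bot_iff, Subgroup.commutator_le]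
  have h3 : derivedSeries G 3 ≤ (commutator F).map F.subtype := by
    rw [derivedSeries_succ, Subgroup.map_subtype_commutator]
    exact Subgroup.commutator_mono h2 h2
  intro a ha b hb
  obtain ⟨a', ha', rfl⟩ := h3 ha
  obtain ⟨b', hb', rfl⟩ := h3 hb
  rw [Subgroup.mem_bot, commutatorElement_eq_one_iff_mul_comm, ← map_mul, hF2 a' ha' b' hb', map_mul]

end CfsgLib.CharTheory.SquarefreeDegrees
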