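/-
Integral vectors of norm three with the inner product pattern of a grid (Peterfalvi (3.5)).
-/
import Mathlib

set_option autoImplicit false

namespace CfsgLib.CharTheory.SunflowerGrid

variable {X : Type*} [Fintype X]

/-- The inner product pattern. -/
structure IsGrid {I J : Type*} [DecidableEq I] [DecidableEq J] (d : X → ℤ) (δ : I → J → X → ℤ) : Prop where
  inner : ∀ i j k l, ∑ x, δ i j x * δ k l x = (if i = k then 1 else 0) + (if j = l then 1 else 0) +
    (if i = k then 1 else 0) * (if j = l then 1 else 0)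
  deg : ∀ i j, ∑ x, δ i j x * d x = -1
  pos : ∀ x, 0 < d x

variable {I J : Type*} [DecidableEq I] [DecidableEq J] {d : X → ℤ} {δ : I → J → X → ℤ}

theorem IsGrid.transpose (h : IsGrid d δ) : IsGrid d (fun j i => δ i j) :=
  ⟨fun j i l k => by rw [h.inner i j k l]; ring, fun j i => h.deg i j, h.pos⟩

theorem IsGrid.sum_sq (h : IsGrid d δ) (i : I) (j : J) : ∑ x, δ i j x ^ 2 = 3 := by
  simpa [sq] using h.inner i j i j

theorem IsGrid.value (h : IsGrid d δ) (i : I) (j : J) (x : X) : δ i j x = -1 ∨ δ i j x = 0 ∨ δ i j x = 1 := by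
  have h1 : δ i j x ^ 2 ≤ 3 := h.sum_sq i j ▸
    Finset.single_le_sum (f := fun y => δ i j y ^ 2) (fun y _ => sq_nonneg _) (Finset.mem_univ x)
  have : -1 ≤ δ i j x ∧ δ i j x ≤ 1 := by constructor <;> nlinarith
  omega

theorem IsGrid.card_support (h : IsGrid d δ) (i : I) (j : J) :
    (Finset.univ.filter (fun x => δ i j x ≠ 0)).card = 3 := by
  have h1 : ((Finset.univ.filter (fun x => δ i j x ≠ 0)).card : ℤ) = 3 := by
    rw [← h.sum_sq i j, Finset.card_filter]
    push_cast
    refine Finset.sum_congr rfl fun x _ => ?_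
    rcases h.value i j x with e | e | e <;> simp [e]
  exact_mod_cast h1

/-- Two distinct vectors of inner product one meet in exactly one point, with equal signs. -/
theorem IsGrid.meet (h : IsGrid d δ) {i k : I} {j l : J} (hne : (i = k ∧ j ≠ l) ∨ (i ≠ k ∧ j = l)) :
    ∃ x, δ i j x * δ k l x = 1 ∧ ∀ y, y ≠ x → δ i j y * δ k l y = 0 := by
  classical
  have h1 : ∑ x, δ i j x * δ k l x = 1 := by
    rw [h.inner]; rcases hne with ⟨a, b⟩ | ⟨a, b⟩ <;> simp [a, b]
  set u := δ i j with hu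
  set v := δ k l with hv
  set P := Finset.univ.filter (fun x => u x * v x = 1)
  set N := Finset.univ.filter (fun x => u x * v x = -1)
  have hsum : ((P.card : ℤ) - N.card) = 1 := by
    rw [← h1, Finset.card_filter, Finset.card_filter]
    push_cast
    rw [← Finset.sum_sub_distrib]
    refine Finset.sum_congr rfl fun x _ => ?_
    rcases h.value i j x with e | e | e <;> rcases h.value k l x with e' | e' | e' <;> simp [u, v, e, e']
  have hdisj : Disjoint P N := Finset.disjoint_left.mpr fun x hx hx' => by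
    simp only [P, N, Finset.mem_filter, Finset.mem_univ, true_and] at hx hx'; omega
  have hsub : P ∪ N ⊆ Finset.univ.filter (fun x => u x ≠ 0) := fun x hx => by
    simp only [P, N, Finset.mem_union, Finset.mem_filter, Finset.mem_univ, true_and] at hx ⊢
    intro e; simp [e] at hx
  have hsub' : P ∪ N ⊆ Finset.univ.filter (fun x => v x ≠ 0) := fun x hx => by
    simp only [P, N, Finset.mem_union, Finset.mem_filter, Finset.mem_univ, true_and] at hx ⊢
    intro e; simp [e] at hx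
  have hle := Finset.card_le_card hsub
  rw [Finset.card_union_of_disjoint hdisj, h.card_support i j] at hle
  by_cases hN : N.card = 0
  · obtain ⟨x, hx⟩ := Finset.card_eq_one.mp (show P.card = 1 by omega)
    refine ⟨x, (Finset.mem_filter.mp (show x ∈ P by simp [hx])).2, fun y hy => ?_⟩
    have hyP : y ∉ P := by simp [hx, hy]
    have hyN : y ∉ N := by simp [Finset.card_eq_zero.mp hN]
    simp only [P, N, Finset.mem_filter, Finset.mem_univ, true_and] at hyP hyN
    rcases h.value i j y with e | e | e <;> rcases h.value k l y with e' | e' | e' <;> simp [u, v, e, e'] at hyP hyN ⊢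
  · exfalso
    obtain ⟨x, hx⟩ := Finset.card_eq_one.mp (show N.card = 1 by omega)
    have e1 := Finset.eq_of_subset_of_card_le hsub (by
      rw [Finset.card_union_of_disjoint hdisj, h.card_support i j]; omega)
    have e2 := Finset.eq_of_subset_of_card_le hsub' (by
      rw [Finset.card_union_of_disjoint hdisj, h.card_support k l]; omega)
    have hxN : u x * v x = -1 := (Finset.mem_filter.mp (show x ∈ N by simp [hx])).2
    have hd : ∑ y, (u y - v y) * d y = (u x - v x) * d x := by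
      refine Finset.sum_eq_single x (fun y _ hy => ?_) (fun hn => absurd (Finset.mem_univ x) hn)
      have hyN : y ∉ N := by simp [hx, hy]
      by_cases hu0 : u y = 0
      · have hy1 : y ∉ P ∪ N := by rw [e1]; simp [hu0]
        rw [e2] at hy1
        simp only [Finset.mem_filter, Finset.mem_univ, true_and, not_not] at hy1
        simp [hu0, hy1]
      · have hy1 : y ∈ P ∪ N := by rw [e1]; simp [hu0]
        have hyP : u y * v y = 1 := (Finset.mem_filter.mp ((Finset.mem_union.mp hy1).resolve_right hyN)).2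
        rcases h.value i j y with e | e | e <;> rcases h.value k l y with e' | e' | e' <;> simp [u, v, e, e'] at hyP ⊢
    have hd0 : ∑ y, (u y - v y) * d y = 0 := by
      simp only [sub_mul, Finset.sum_sub_distrib]; rw [h.deg i j, h.deg k l]; ring
    rw [hd0] at hd
    rcases mul_eq_zero.mp hd.symm with e | e
    · rw [sub_eq_zero] at e; rw [e] at hxN; nlinarith [mul_self_nonneg (v x)]
    · have := h.pos x; omega

theorem IsGrid.meet_unique (h : IsGrid d δ) {i k : I} {j l : J} (hne : (i = k ∧ j ≠ l) ∨ (i ≠ k ∧ j = l)) {x y : X}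
    (hx : δ i j x ≠ 0) (hx' : δ k l x ≠ 0) (hy : δ i j y ≠ 0) (hy' : δ k l y ≠ 0) : x = y := by
  obtain ⟨z, -, hz⟩ := h.meet hne
  have a : x = z := by by_contra e; exact mul_ne_zero hx hx' (hz x e)
  have b : y = z := by by_contra e; exact mul_ne_zero hy hy' (hz y e)
  rw [a, b]

theorem IsGrid.meet_sign (h : IsGrid d δ) {i k : I} {j l : J} (hne : (i = k ∧ j ≠ l) ∨ (i ≠ k ∧ j = l)) {x : X}
    (hx : δ i j x ≠ 0) (hx' : δ k l x ≠ 0) : δ k l x = δ i j x := by
  obtain ⟨z, hz1, hz⟩ := h.meet hne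
  have a : x = z := by by_contra e; exact mul_ne_zero hx hx' (hz x e)
  subst a
  rcases h.value i j x with e | e | e <;> rcases h.value k l x with e' | e' | e' <;> simp [e, e'] at hz1 ⊢

/-- A second common point for orthogonal vectors. -/
theorem IsGrid.second_point (h : IsGrid d δ) {i k : I} {j l : J} (hi : i ≠ k) (hj : j ≠ l) {x : X}
    (hx : δ i j x ≠ 0) (hx' : δ k l x ≠ 0) : ∃ y, y ≠ x ∧ δ i j y ≠ 0 ∧ δ k l y ≠ 0 := by
  classical
  by_contra hne
  have h0 : ∑ y, δ i j y * δ k l y = 0 := by rw [h.inner]; simp [hi, hj]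
  rw [Finset.sum_eq_single x (fun y _ hy => ?_) (fun hn => absurd (Finset.mem_univ x) hn)] at h0
  · exact mul_ne_zero hx hx' h0
  · by_contra e
    exact hne ⟨y, hy, (mul_ne_zero_iff.mp e).1, (mul_ne_zero_iff.mp e).2⟩

/-- The test weights for eight vectors in two rows. -/
def testW (c : Fin 2 → Fin 4 → ℤ) (r : Fin 2) (k : Fin 4) : ℤ :=
  35 * (c 0 k + c 1 k) - 5 * ((c 0 0 + c 1 0) + (c 0 1 + c 1 1) + (c 0 2 + c 1 2) + (c 0 3 + c 1 3)) +
    (if r = 0 then 1 else -1) *
      (105 * (c 0 k - c 1 k) - 21 * ((c 0 0 - c 1 0) + (c 0 1 - c 1 1) + (c 0 2 - c 1 2) + (c 0 3 - c 1 3)))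

/-- The quadratic form of the Gram matrix at the test weights. -/
def testQ (c : Fin 2 → Fin 4 → ℤ) : ℤ :=
  ∑ r : Fin 2, ∑ k : Fin 4, ∑ r' : Fin 2, ∑ k' : Fin 4, testW c r k * testW c r' k' *
    ((if r = r' then 1 else 0) + (if k = k' then 1 else 0) + (if r = r' then 1 else 0) * (if k = k' then 1 else 0))

/-- The linear form at the test weights. -/
def testL (c : Fin 2 → Fin 4 → ℤ) : ℤ := ∑ r : Fin 2, ∑ k : Fin 4, testW c r k * c r k

theorem test_cases : ∀ s ∈ ([-1, 1] : List ℤ), ∀ b0 ∈ ([-1, 0, 1] : List ℤ), ∀ b1 ∈ ([-1, 0, 1] : List ℤ),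
    ∀ b2 ∈ ([-1, 0, 1] : List ℤ), ∀ b3 ∈ ([-1, 0, 1] : List ℤ),
      testQ ![![s, s, 0, 0], ![b0, b1, b2, b3]] < testL ![![s, s, 0, 0], ![b0, b1, b2, b3]] ^ 2 ∨
        (b0 = b1 ∧ b2 = 0 ∧ b3 = 0) := by
  decide +kernel

/-- A point lying on exactly two of four vectors of a row is on none of another row. -/
theorem IsGrid.double_weak (h : IsGrid d δ) {i i' : I} (hi : i ≠ i') (g : Fin 4 → J) (hg : Function.Injective g) {x : X}
    (h0 : δ i (g 0) x ≠ 0) (h1 : δ i (g 1) x ≠ 0) (h2 : δ i (g 2) x = 0) (h3 : δ i (g 3) x = 0) :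
    δ i' (g 0) x = δ i' (g 1) x ∧ δ i' (g 2) x = 0 ∧ δ i' (g 3) x = 0 := by
  classical
  set rw' : Fin 2 → I := ![i, i'] with hrw
  have hrwi : Function.Injective rw' := by
    intro a b e
    fin_cases a <;> fin_cases b <;> simp_all [rw', eq_comm]
  let c : Fin 2 → Fin 4 → ℤ := fun r k => δ (rw' r) (g k) x
  let f : X → ℤ := fun y => ∑ r : Fin 2, ∑ k : Fin 4, testW c r k * δ (rw' r) (g k) y
  have hf : f x ^ 2 ≤ ∑ y, f y ^ 2 :=
    Finset.single_le_sum (f := fun y => f y ^ 2) (fun y _ => sq_nonneg _) (Finset.mem_univ x)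
  have hQ : ∑ y, f y ^ 2 = testQ c := by
    simp only [f, sq, Finset.sum_mul, Finset.mul_sum, testQ]
    rw [Finset.sum_comm]
    refine Finset.sum_congr rfl fun r _ => ?_
    rw [Finset.sum_comm]
    refine Finset.sum_congr rfl fun k _ => ?_
    rw [Finset.sum_comm]
    refine Finset.sum_congr rfl fun r' _ => ?_
    rw [Finset.sum_comm]
    refine Finset.sum_congr rfl fun k' _ => ?_
    have e := h.inner (rw' r) (g k) (rw' r') (g k')
    simp only [hrwi.eq_iff, hg.eq_iff] at e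
    rw [← e, Finset.mul_sum]
    refine Finset.sum_congr rfl fun y _ => ?_
    ring
  have hL : f x = testL c := rfl
  have hs : δ i (g 1) x = δ i (g 0) x := h.meet_sign (Or.inl ⟨rfl, hg.ne (by decide)⟩) h0 h1
  have hc : c = ![![δ i (g 0) x, δ i (g 0) x, 0, 0], ![δ i' (g 0) x, δ i' (g 1) x, δ i' (g 2) x, δ i' (g 3) x]] := by
    funext r k; fin_cases r <;> fin_cases k <;> simp [c, rw', hs, h2, h3]
  have hv : ∀ k, δ i' (g k) x ∈ ([-1, 0, 1] : List ℤ) := fun k => by
    rcases h.value i' (g k) x with e | e | e <;> simp [e]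
  have hs0 : δ i (g 0) x ∈ ([-1, 1] : List ℤ) := by
    rcases h.value i (g 0) x with e | e | e <;> simp_all
  rcases test_cases _ hs0 _ (hv 0) _ (hv 1) _ (hv 2) _ (hv 3) with hlt | hres
  · rw [← hc] at hlt
    rw [hL, hQ] at hf
    omega
  · exact hres

theorem IsGrid.two_meets (h : IsGrid d δ) {i i' : I} (hi : i ≠ i') (g : Fin 4 → J) (hg : Function.Injective g) {x : X}
    (h0 : δ i (g 0) x ≠ 0) (h1 : δ i (g 1) x ≠ 0) (h2 : δ i (g 2) x = 0) (h3 : δ i (g 3) x = 0)
    (hb1 : δ i' (g 1) x ≠ 0) : ∃ y, y ≠ x ∧ δ i (g 0) y ≠ 0 ∧ δ i (g 2) y ≠ 0 ∧ δ i (g 3) y ≠ 0 := by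
  classical
  have nm : ∀ a b : Fin 4, a ≠ b → ((i = i ∧ g a ≠ g b) ∨ (i ≠ i ∧ g a = g b)) := fun a b e => Or.inl ⟨rfl, hg.ne e⟩
  obtain ⟨y, hyx, hy0, hyb⟩ := h.second_point hi (hg.ne (show (0 : Fin 4) ≠ 1 by decide)) h0 hb1
  obtain ⟨u, hu, -⟩ := h.meet (nm 0 2 (by decide))
  obtain ⟨v, hv, -⟩ := h.meet (nm 0 3 (by decide))
  have hu0 : δ i (g 0) u ≠ 0 := fun e => by simp [e] at hu
  have hu2 : δ i (g 2) u ≠ 0 := fun e => by simp [e] at hu
  have hv0 : δ i (g 0) v ≠ 0 := fun e => by simp [e] at hv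
  have hv3 : δ i (g 3) v ≠ 0 := fun e => by simp [e] at hv
  have hux : u ≠ x := fun e => hu2 (e ▸ h2)
  have hvx : v ≠ x := fun e => hv3 (e ▸ h3)
  by_cases huv : u = v
  · exact ⟨u, hux, hu0, hu2, huv ▸ hv3⟩
  exfalso
  have hsub : ({x, u, v} : Finset X) ⊆ Finset.univ.filter (fun z => δ i (g 0) z ≠ 0) := fun z hz => by
    simp only [Finset.mem_insert, Finset.mem_singleton] at hz
    rcases hz with rfl | rfl | rfl <;> simp [h0, hu0, hv0]
  have heq := Finset.eq_of_subset_of_card_le hsub (by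
    rw [h.card_support, Finset.card_insert_of_notMem (by simp [hux.symm, hvx.symm]), Finset.card_pair huv])
  have hy : y ∈ ({x, u, v} : Finset X) := by rw [heq]; simp [hy0]
  simp only [Finset.mem_insert, Finset.mem_singleton] at hy
  rcases hy with e | e | e
  · exact hyx e
  · subst e
    have e1 : δ i (g 1) y = 0 := by
      by_contra e; exact hyx (h.meet_unique (nm 0 1 (by decide)) hy0 e h0 h1)
    have e3 : δ i (g 3) y = 0 := by
      by_contra e; exact huv (h.meet_unique (nm 0 3 (by decide)) hy0 e hv0 hv3)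
    exact hyb (h.double_weak hi (g ∘ ![0, 2, 1, 3]) (hg.comp (by decide)) hy0 hu2 e1 e3).2.1
  · subst e
    have e1 : δ i (g 1) y = 0 := by
      by_contra e; exact hyx (h.meet_unique (nm 0 1 (by decide)) hy0 e h0 h1)
    have e2 : δ i (g 2) y = 0 := by
      by_contra e; exact huv (h.meet_unique (nm 0 2 (by decide)) hu0 hu2 hy0 e)
    exact hyb (h.double_weak hi (g ∘ ![0, 3, 1, 2]) (hg.comp (by decide)) hy0 hv3 e1 e2).2.1

/-- A point lying on exactly two of four vectors of a row is on none of the corresponding vectors of another row. -/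
theorem IsGrid.double (h : IsGrid d δ) {i i' : I} (hi : i ≠ i') (g : Fin 4 → J) (hg : Function.Injective g) {x : X}
    (h0 : δ i (g 0) x ≠ 0) (h1 : δ i (g 1) x ≠ 0) (h2 : δ i (g 2) x = 0) (h3 : δ i (g 3) x = 0) :
    ∀ k, δ i' (g k) x = 0 := by
  obtain ⟨e01, e2, e3⟩ := h.double_weak hi g hg h0 h1 h2 h3
  have nm : ∀ a b : Fin 4, a ≠ b → ((i = i ∧ g a ≠ g b) ∨ (i ≠ i ∧ g a = g b)) := fun a b e => Or.inl ⟨rfl, hg.ne e⟩
  by_cases hb : δ i' (g 1) x = 0
  · intro k; fin_cases k
    · exact e01.trans hb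
    · exact hb
    · exact e2
    · exact e3
  exfalso
  obtain ⟨y, hyx, hy0, hy2, hy3⟩ := h.two_meets hi g hg h0 h1 h2 h3 hb
  obtain ⟨z, -, hz1, hz2, hz3⟩ := h.two_meets hi (g ∘ ![1, 0, 2, 3]) (hg.comp (by decide)) h1 h0 h2 h3
    (show δ i' (g 0) x ≠ 0 from e01 ▸ hb)
  simp only [Function.comp_apply] at hz1 hz2 hz3
  have hyz : y = z := h.meet_unique (nm 2 3 (by decide)) hy2 hy3 hz2 hz3
  exact hyx (h.meet_unique (nm 0 1 (by decide)) hy0 (hyz ▸ hz1) h0 h1)

/-- Four vectors in a row have a common point. -/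
theorem IsGrid.four (h : IsGrid d δ) {i i' : I} (hi : i ≠ i') (g : Fin 4 → J) (hg : Function.Injective g) :
    ∃ x, ∀ k, δ i (g k) x ≠ 0 := by
  classical
  have hm : ∀ t l, t ≠ l → ((i = i ∧ g t ≠ g l) ∨ (i ≠ i ∧ g t = g l)) := fun t l e => Or.inl ⟨rfl, hg.ne e⟩
  have hz : ∀ t : Fin 4, ∃ z, δ i (g t) z ≠ 0 ∧ (Finset.univ.filter (fun l => δ i (g l) z ≠ 0)).card ≠ 2 := by
    intro t
    obtain ⟨z, hz, -⟩ := h.meet (i := i) (k := i') (j := g t) (l := g t) (Or.inr ⟨hi, rfl⟩)
    have hz0 : δ i (g t) z ≠ 0 := fun e => by simp [e] at hz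
    refine ⟨z, hz0, fun hcard => ?_⟩
    obtain ⟨p, q, hpq, he⟩ := Finset.card_eq_two.mp hcard
    obtain ⟨r, u, hru, he'⟩ := Finset.card_eq_two.mp (show ((Finset.univ.filter (fun l => δ i (g l) z ≠ 0))ᶜ).card = 2 by
      rw [Finset.card_compl, hcard]; rfl)
    have mem : ∀ l, δ i (g l) z ≠ 0 ↔ l = p ∨ l = q := fun l => by
      have := Finset.ext_iff.mp he l; simpa using this
    have nmem : ∀ l, δ i (g l) z = 0 ↔ l = r ∨ l = u := fun l => by
      have := Finset.ext_iff.mp he' l; simpa using this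
    have hσ : Function.Injective ![p, q, r, u] := by
      have hpr : p ≠ r := fun e => (mem p).mpr (Or.inl rfl) ((nmem p).mpr (Or.inl e))
      have hpu : p ≠ u := fun e => (mem p).mpr (Or.inl rfl) ((nmem p).mpr (Or.inr e))
      have hqr : q ≠ r := fun e => (mem q).mpr (Or.inr rfl) ((nmem q).mpr (Or.inl e))
      have hqu : q ≠ u := fun e => (mem q).mpr (Or.inr rfl) ((nmem q).mpr (Or.inr e))
      intro a b e
      fin_cases a <;> fin_cases b <;> simp [hpq, hpq.symm, hru, hru.symm, hpr, hpr.symm, hpu, hpu.symm, hqr, hqr.symm,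
        hqu, hqu.symm] at e ⊢
    have hall := h.double hi (g ∘ ![p, q, r, u]) (hg.comp hσ) ((mem p).mpr (Or.inl rfl)) ((mem q).mpr (Or.inr rfl))
      ((nmem r).mpr (Or.inl rfl)) ((nmem u).mpr (Or.inr rfl))
    obtain ⟨k, rfl⟩ := Finite.surjective_of_injective hσ t
    have := hall k
    simp only [Function.comp_apply] at this
    rw [this, mul_zero] at hz
    exact zero_ne_one hz
  have triple : ∀ t : Fin 4, ∃ l q y, l ≠ t ∧ q ≠ t ∧ l ≠ q ∧ δ i (g t) y ≠ 0 ∧ δ i (g l) y ≠ 0 ∧ δ i (g q) y ≠ 0 := by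
    intro t
    obtain ⟨z, hz0, hz2⟩ := hz t
    have ht : t ∈ Finset.univ.filter (fun l => δ i (g l) z ≠ 0) := by simp [hz0]
    by_cases h3 : 1 < ((Finset.univ.filter (fun l => δ i (g l) z ≠ 0)).erase t).card
    · obtain ⟨l, hl, q, hq, hlq⟩ := Finset.one_lt_card.mp h3
      simp only [Finset.mem_erase, Finset.mem_filter, Finset.mem_univ, true_and] at hl hq
      exact ⟨l, q, z, hl.1, hq.1, hlq, hz0, hl.2, hq.2⟩
    · have h0 : ((Finset.univ.filter (fun l => δ i (g l) z ≠ 0)).erase t) = ∅ := by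
        rw [← Finset.card_eq_zero]
        rw [Finset.card_erase_of_mem ht] at h3 ⊢
        omega
      have hmeet : ∀ l, l ≠ t → ∃ y, δ i (g t) y ≠ 0 ∧ δ i (g l) y ≠ 0 := fun l hl => by
        obtain ⟨y, hy, -⟩ := h.meet (hm t l hl.symm)
        exact ⟨y, fun e => by simp [e] at hy, fun e => by simp [e] at hy⟩
      have : Nonempty X := ⟨z⟩
      choose! f hf using hmeet
      obtain ⟨l, hl, q, hq, hlq, e⟩ := Finset.exists_ne_map_eq_of_card_lt_of_maps_to
        (s := Finset.univ.erase t) (t := (Finset.univ.filter (fun y => δ i (g t) y ≠ 0)).erase z) (f := f)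
        (by rw [Finset.card_erase_of_mem (by simp [hz0]), h.card_support, Finset.card_erase_of_mem (Finset.mem_univ t)]
            simp)
        (fun l hl => by
          have hlt := Finset.ne_of_mem_erase hl
          rw [Finset.coe_erase]
          refine ⟨by simp [(hf l hlt).1], ?_⟩
          intro e
          have : l ∈ ((Finset.univ.filter (fun l => δ i (g l) z ≠ 0)).erase t) := by
            rw [Finset.mem_erase, Finset.mem_filter]
            exact ⟨hlt, Finset.mem_univ _, e ▸ (hf l hlt).2⟩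
          simp [h0] at this)
      exact ⟨l, q, f l, Finset.ne_of_mem_erase hl, Finset.ne_of_mem_erase hq, hlq, (hf l (Finset.ne_of_mem_erase hl)).1,
        (hf l (Finset.ne_of_mem_erase hl)).2, e ▸ (hf q (Finset.ne_of_mem_erase hq)).2⟩
  obtain ⟨l, q, y, hl, hq, hlq, hy0, hyl, hyq⟩ := triple 0
  refine ⟨y, fun r => ?_⟩
  by_cases hr : r = 0 ∨ r = l ∨ r = q
  · rcases hr with rfl | rfl | rfl <;> assumption
  obtain ⟨l', q', y', hl', hq', hlq', hy'r, hy'l, hy'q⟩ := triple r
  have cover : ∀ a b c e f : Fin 4, b ≠ a → c ≠ a → b ≠ c → ¬ (e = a ∨ e = b ∨ e = c) → f ≠ e → (f = a ∨ f = b ∨ f = c) := by decide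
  have hmemy : ∀ f, f ≠ r → δ i (g f) y ≠ 0 := fun f hf => by
    rcases cover 0 l q r f hl hq hlq hr hf with rfl | rfl | rfl <;> assumption
  rw [h.meet_unique (hm l' q' hlq') (hmemy l' hl') (hmemy q' hq') hy'l hy'q]
  exact hy'r

/-- Every row is a sunflower. -/
theorem IsGrid.row [Fintype J] (h : IsGrid d δ) {i i' : I} (hi : i ≠ i')
    (hJ : Fintype.card J = 2 ∨ 4 ≤ Fintype.card J) : ∃ x, ∀ j, δ i j x ≠ 0 := by
  classical
  obtain ⟨j₀, j₁, hne⟩ := Fintype.exists_pair_of_one_lt_card (show 1 < Fintype.card J by omega)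
  obtain ⟨x, hx, -⟩ := h.meet (i := i) (k := i) (j := j₀) (l := j₁) (Or.inl ⟨rfl, hne⟩)
  have hx0 : δ i j₀ x ≠ 0 := fun e => by simp [e] at hx
  have hx1 : δ i j₁ x ≠ 0 := fun e => by simp [e] at hx
  refine ⟨x, fun j => ?_⟩
  by_cases e0 : j = j₀
  · subst e0; exact hx0
  by_cases e1 : j = j₁
  · subst e1; exact hx1
  rcases hJ with h2 | h4
  · exfalso
    have : ({j₀, j₁, j} : Finset J).card ≤ 2 := h2 ▸ Finset.card_le_univ _
    rw [Finset.card_insert_of_notMem (by simp [hne, Ne.symm e0]), Finset.card_pair (Ne.symm e1)] at this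
    omega
  obtain ⟨k, hk⟩ : ∃ k, k ∉ ({j₀, j₁, j} : Finset J) := by
    by_contra hall
    push_neg at hall
    have := Finset.card_le_card (fun k _ => hall k : (Finset.univ : Finset J) ⊆ {j₀, j₁, j})
    rw [Finset.card_univ] at this
    have h3 : ({j₀, j₁, j} : Finset J).card ≤ 3 := Finset.card_le_three
    omega
  simp only [Finset.mem_insert, Finset.mem_singleton, not_or] at hk
  have hg : Function.Injective ![j₀, j₁, j, k] := by
    intro a b e
    fin_cases a <;> fin_cases b <;> simp_all [eq_comm]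
  obtain ⟨y, hy⟩ := h.four hi ![j₀, j₁, j, k] hg
  rw [h.meet_unique (Or.inl ⟨rfl, hne⟩) hx0 hx1 (hy 0) (hy 1)]
  exact hy 2

theorem IsGrid.apex_ne_aux [Fintype J] (h : IsGrid d δ) {i i' : I} (hi : i ≠ i') (hJ : 4 ≤ Fintype.card J)
    {j : J} {x : X} (ha : ∀ l, δ i l x ≠ 0) (hb : δ i' j x ≠ 0) : False := by
  classical
  have hy : ∀ l, l ≠ j → ∃ y, y ≠ x ∧ δ i l y ≠ 0 ∧ δ i' j y ≠ 0 := fun l hl => h.second_point hi hl (ha l) hb
  have : Nonempty X := ⟨x⟩
  choose! f hf using hy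
  have hle : (Finset.univ.erase j).card ≤ ((Finset.univ.filter (fun y => δ i' j y ≠ 0)).erase x).card := by
    refine Finset.card_le_card_of_injOn f (fun l hl => ?_) (fun l hl q hq e => ?_)
    · have hlt := Finset.ne_of_mem_erase hl
      simp [hf l hlt]
    · by_contra hlq
      have hl' := Finset.ne_of_mem_erase hl
      have hq' := Finset.ne_of_mem_erase hq
      exact (hf l hl').1 (h.meet_unique (Or.inl ⟨rfl, hlq⟩) (hf l hl').2.1 (e ▸ (hf q hq').2.1) (ha l) (ha q))
  rw [Finset.card_erase_of_mem (Finset.mem_univ j), Finset.card_erase_of_mem (by simp [hb]), h.card_support,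
    Finset.card_univ] at hle
  omega

open Classical in
/-- The decomposition of a grid. -/
theorem IsGrid.decompose [Fintype I] [Fintype J] (h : IsGrid d δ) (hI : Fintype.card I = 2 ∨ 4 ≤ Fintype.card I)
    (hJ : Fintype.card J = 2 ∨ 4 ≤ Fintype.card J) (h4 : 4 ≤ Fintype.card I ∨ 4 ≤ Fintype.card J) :
    ∃ (f : I ⊕ J ⊕ I × J → X) (s : I ⊕ J ⊕ I × J → ℤ), Function.Injective f ∧ (∀ p, s p = 1 ∨ s p = -1) ∧
      (∀ i j, δ i j (f (.inr (.inr (i, j)))) ≠ 0) ∧ (∀ i j, δ i j (f (.inl i)) ≠ 0) ∧ (∀ i j, δ i j (f (.inr (.inl j))) ≠ 0) ∧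
      ∀ i j x, δ i j x = (if x = f (.inl i) then s (.inl i) else 0) + (if x = f (.inr (.inl j)) then s (.inr (.inl j)) else 0) +
        (if x = f (.inr (.inr (i, j))) then s (.inr (.inr (i, j))) else 0) := by
  have hI' : ∀ i : I, ∃ i', i ≠ i' := fun i => by
    obtain ⟨k, hk⟩ := Fintype.exists_ne_of_one_lt_card (show 1 < Fintype.card I by omega) i
    exact ⟨k, hk.symm⟩
  have hJ' : ∀ j : J, ∃ j', j ≠ j' := fun j => by
    obtain ⟨k, hk⟩ := Fintype.exists_ne_of_one_lt_card (show 1 < Fintype.card J by omega) j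
    exact ⟨k, hk.symm⟩
  have hrow : ∀ i, ∃ x, ∀ j, δ i j x ≠ 0 := fun i => by
    obtain ⟨i', hi⟩ := hI' i; exact h.row hi hJ
  have hcol : ∀ j, ∃ x, ∀ i, δ i j x ≠ 0 := fun j => by
    obtain ⟨j', hj⟩ := hJ' j; exact h.transpose.row hj hI
  choose a ha using hrow
  choose b hb using hcol
  have hab : ∀ i j, a i ≠ b j := fun i j e => by
    rcases h4 with h4 | h4
    · obtain ⟨j', hj⟩ := hJ' j
      exact h.transpose.apex_ne_aux hj h4 (x := b j) (hb j) (j := i) (e ▸ ha i j')
    · obtain ⟨i', hi⟩ := hI' i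
      exact h.apex_ne_aux hi h4 (x := a i) (ha i) (j := j) (e ▸ hb j i')
  obtain ⟨i₀⟩ := (Fintype.card_pos_iff.mp (show 0 < Fintype.card I by omega))
  obtain ⟨j₀⟩ := (Fintype.card_pos_iff.mp (show 0 < Fintype.card J by omega))
  have row_pt : ∀ i i' j x, i ≠ i' → δ i j x ≠ 0 → δ i' j x ≠ 0 → x = b j := fun i i' j x hi h1 h2 =>
    h.meet_unique (Or.inr ⟨hi, rfl⟩) h1 h2 (hb j i) (hb j i')
  have col_pt : ∀ i j j' x, j ≠ j' → δ i j x ≠ 0 → δ i j' x ≠ 0 → x = a i := fun i j j' x hj h1 h2 =>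
    h.meet_unique (Or.inl ⟨rfl, hj⟩) h1 h2 (ha i j) (ha i j')
  have ainj : Function.Injective a := fun i i' e => by
    by_contra hi
    exact hab i j₀ (row_pt i i' j₀ (a i) hi (ha i j₀) (e ▸ ha i' j₀))
  have binj : Function.Injective b := fun j j' e => by
    by_contra hj
    exact hab i₀ j (col_pt i₀ j j' (b j) hj (hb j i₀) (e ▸ hb j' i₀)).symm
  have hc : ∀ i j, ∃ x, x ≠ a i ∧ x ≠ b j ∧ δ i j x ≠ 0 ∧ ∀ y, δ i j y ≠ 0 → y = a i ∨ y = b j ∨ y = x := fun i j => by
    have hs := h.card_support i j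
    set S := Finset.univ.filter (fun x => δ i j x ≠ 0) with hS
    have hm : ∀ y, y ∈ S ↔ δ i j y ≠ 0 := fun y => by simp [S]
    have hc1 : ((S.erase (a i)).erase (b j)).card = 1 := by
      rw [Finset.card_erase_of_mem (Finset.mem_erase.mpr ⟨(hab i j).symm, (hm _).mpr (hb j i)⟩),
        Finset.card_erase_of_mem ((hm _).mpr (ha i j)), hs]
    obtain ⟨x, hx⟩ := Finset.card_eq_one.mp hc1
    have hxm := hx ▸ Finset.mem_singleton_self x
    rw [Finset.mem_erase, Finset.mem_erase, hm] at hxm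
    refine ⟨x, hxm.2.1, hxm.1, hxm.2.2, fun y hy => ?_⟩
    by_contra hne
    simp only [not_or] at hne
    have : y ∈ (S.erase (a i)).erase (b j) := Finset.mem_erase.mpr ⟨hne.2.1, Finset.mem_erase.mpr ⟨hne.1, (hm y).mpr hy⟩⟩
    rw [hx, Finset.mem_singleton] at this
    exact hne.2.2 this
  choose c hca hcb hc0 hsupp using hc
  have hca' : ∀ i j i', c i j ≠ a i' := fun i j i' e => by
    by_cases hi : i = i'
    · exact hca i j (hi ▸ e)
    · exact hcb i j (row_pt i i' j (c i j) hi (hc0 i j) (e ▸ ha i' j))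
  have hcb' : ∀ i j j', c i j ≠ b j' := fun i j j' e => by
    by_cases hj : j = j'
    · exact hcb i j (hj ▸ e)
    · exact hca i j (col_pt i j j' (c i j) hj (hc0 i j) (e ▸ hb j' i))
  have cinj : ∀ i j k l, c i j = c k l → i = k ∧ j = l := fun i j k l e => by
    by_cases hi : i = k
    · refine ⟨hi, ?_⟩
      by_contra hj
      subst hi
      exact hca i j (col_pt i j l (c i j) hj (hc0 i j) (e ▸ hc0 i l))
    · exfalso
      by_cases hj : j = l
      · subst hj
        exact hcb i j (row_pt i k j (c i j) hi (hc0 i j) (e ▸ hc0 k j))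
      · obtain ⟨y, hy, hy1, hy2⟩ := h.second_point hi hj (hc0 i j) (e ▸ hc0 k l)
        rcases hsupp i j y hy1 with rfl | rfl | rfl
        · rcases hsupp k l _ hy2 with e' | e' | e'
          · exact hi (ainj e')
          · exact hab i l e'
          · exact hca' k l i e'.symm
        · rcases hsupp k l _ hy2 with e' | e' | e'
          · exact hab k j e'.symm
          · exact hj (binj e')
          · exact hcb' k l j e'.symm
        · exact hy rfl
  let f : I ⊕ J ⊕ I × J → X := Sum.elim a (Sum.elim b fun p => c p.1 p.2)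
  let s : I ⊕ J ⊕ I × J → ℤ := Sum.elim (fun i => δ i j₀ (a i)) (Sum.elim (fun j => δ i₀ j (b j)) fun p => δ p.1 p.2 (c p.1 p.2))
  have hsa : ∀ i j, δ i j (a i) = δ i j₀ (a i) := fun i j => by
    by_cases hj : j₀ = j
    · rw [hj]
    · exact h.meet_sign (Or.inl ⟨rfl, hj⟩) (ha i j₀) (ha i j)
  have hsb : ∀ i j, δ i j (b j) = δ i₀ j (b j) := fun i j => by
    by_cases hi : i₀ = i
    · rw [hi]
    · exact h.meet_sign (Or.inr ⟨hi, rfl⟩) (hb j i₀) (hb j i)
  refine ⟨f, s, ?_, ?_, hc0, ha, fun i j => hb j i, fun i j x => ?_⟩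
  · rintro (i | j | ⟨i, j⟩) (k | l | ⟨k, l⟩) e <;> simp only [f, Sum.elim_inl, Sum.elim_inr] at e
    · rw [ainj e]
    · exact absurd e (hab i l)
    · exact absurd e.symm (hca' k l i)
    · exact absurd e.symm (hab k j)
    · rw [binj e]
    · exact absurd e.symm (hcb' k l j)
    · exact absurd e (hca' i j k)
    · exact absurd e (hcb' i j l)
    · obtain ⟨rfl, rfl⟩ := cinj i j k l e; rfl
  · rintro (i | j | ⟨i, j⟩) <;> simp only [s, Sum.elim_inl, Sum.elim_inr]
    · rcases h.value i j₀ (a i) with e | e | e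
      · exact Or.inr e
      · exact absurd e (ha i j₀)
      · exact Or.inl e
    · rcases h.value i₀ j (b j) with e | e | e
      · exact Or.inr e
      · exact absurd e (hb j i₀)
      · exact Or.inl e
    · rcases h.value i j (c i j) with e | e | e
      · exact Or.inr e
      · exact absurd e (hc0 i j)
      · exact Or.inl e
  · simp only [f, s, Sum.elim_inl, Sum.elim_inr]
    by_cases hx : δ i j x = 0
    · have h1 : x ≠ a i := fun e => ha i j (e ▸ hx)
      have h2 : x ≠ b j := fun e => hb j i (e ▸ hx)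
      have h3 : x ≠ c i j := fun e => hc0 i j (e ▸ hx)
      simp [hx, h1, h2, h3]
    · rcases hsupp i j x hx with e | e | e <;> subst e
      · simp [hab i j, (hca i j).symm, hsa i j]
      · simp [(hab i j).symm, (hcb i j).symm, hsb i j]
      · simp [hca i j, hcb i j]

end CfsgLib.CharTheory.SunflowerGrid
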