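import Cfsg.Agent.Lib.CharTheory.SemiregularFixed
import Cfsg.Agent.Lib.CharTheory.Irr
import Cfsg.Agent.Lib.Basic
import Cfsg.Prelude.Def_Local
import Mathlib.RepresentationTheory.Character

/-!
# `p`-solvable linear groups of small degree with a TI Sylow subgroup
-/

namespace CfsgLib.CharTheory.TISylow

open Cfsg CfsgLib.CharTheory CfsgLib.CharTheory.SemiregularFixed
open scoped Pointwise

set_option linter.unusedVariables false
set_option linter.style.haveILetI false
set_option linter.unusedSectionVars false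

universe u

variable {G : Type u} [Group G] [Fintype G] {p : ℕ} [hp : Fact p.Prime]

open scoped Classical in
/-- An operator commuting with `H` commutes with `G` in small degree. -/
theorem comm_of_small {d : ℕ} (ρ : Representation ℂ G (Fin d → ℂ)) (hd : d ≠ 0) {P H : Subgroup G}
    (hP : IsPGroup p P) (hPH : P ≤ H)
    (hsemi : ∀ g : G, g ∉ H → ∀ u ∈ P, g⁻¹ * u * g ∈ H → u = 1)
    (hn : d ^ 2 ≤ Nat.card P) {T : (Fin d → ℂ) →ₗ[ℂ] (Fin d → ℂ)}
    (hT : ∀ h ∈ H, Commute (ρ h) T) (g : G) : Commute (ρ g) T := by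
  classical
  set L := Representation.linHom ρ ρ with hL
  have hdim : Module.finrank ℂ ((Fin d → ℂ) →ₗ[ℂ] (Fin d → ℂ)) = d * d := by
    rw [Module.finrank_linearMap, Module.finrank_fin_fun]
  let e : ((Fin d → ℂ) →ₗ[ℂ] (Fin d → ℂ)) ≃ₗ[ℂ] (Fin (d * d) → ℂ) :=
    LinearEquiv.ofFinrankEq _ _ (by rw [hdim, Module.finrank_fin_fun])
  let σ : Representation ℂ G (Fin (d * d) → ℂ) :=
    { toFun := fun g => e.toLinearMap ∘ₗ L g ∘ₗ e.symm.toLinearMap
      map_one' := by ext x; simp
      map_mul' := fun a b => by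
        refine LinearMap.ext fun x => ?_
        simp [map_mul, Module.End.mul_apply] }
  have hσ : ∀ (g : G) (S : (Fin d → ℂ) →ₗ[ℂ] (Fin d → ℂ)), σ g (e S) = e (L g S) := fun g S => by
    show e (L g (e.symm (e S))) = _
    rw [e.symm_apply_apply]
  have hinvL : ∀ (g : G) (S : (Fin d → ℂ) →ₗ[ℂ] (Fin d → ℂ)), Commute (ρ g) S → L g S = S := by
    intro g S hS
    show ρ g * (S * ρ g⁻¹) = S
    rw [← mul_assoc, hS.eq, mul_assoc, ← map_mul, mul_inv_cancel, map_one, mul_one]
  set A := ∑ a : G, σ a with hA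
  have hAg : ∀ (g : G) (y : Fin (d * d) → ℂ), σ g (A y) = A y := fun g y => by
    simp only [hA, LinearMap.sum_apply, map_sum, ← Module.End.mul_apply, ← map_mul]
    exact Fintype.sum_equiv (Equiv.mulLeft g) _ _ fun x => rfl
  set v := e T - (Nat.card G : ℂ)⁻¹ • A (e T) with hv
  by_cases hv0 : v = 0
  · rw [sub_eq_zero] at hv0
    have h1 : σ g (e T) = e T := by rw [hv0, map_smul, hAg]
    rw [hσ, e.injective.eq_iff] at h1
    have h2 : ρ g * (T * ρ g⁻¹) = T := h1
    show ρ g * T = T * ρ g
    calc ρ g * T = ρ g * (T * ρ g⁻¹) * ρ g := by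
          rw [mul_assoc, mul_assoc, ← map_mul, inv_mul_cancel, map_one, mul_one]
      _ = T * ρ g := by rw [h2]
  exfalso
  have hfix : ∀ h ∈ H, σ h v = v := fun h hh => by
    rw [hv, map_sub, map_smul, hAg, hσ, hinvL h T (hT h hh)]
  have hsum : ∑ g : G, σ g v = 0 := by
    simp only [hv, map_sub, map_smul, hAg, Finset.sum_sub_distrib, Finset.sum_const, Finset.card_univ]
    rw [← Nat.cast_smul_eq_nsmul ℂ, smul_smul, Nat.card_eq_fintype_card,
      mul_inv_cancel₀ (Nat.cast_ne_zero.2 Fintype.card_ne_zero), one_smul, hA, LinearMap.sum_apply,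
      sub_self]
  have h1 : Nat.card P ≤ Module.finrank ℂ (LinearMap.ker A) :=
    card_le_finrank_ker σ hP hPH hsemi hv0 hfix hsum
  have h2 : Module.finrank ℂ (LinearMap.ker A) < d * d := by
    refine lt_of_lt_of_eq (Submodule.finrank_lt ?_) (Module.finrank_fin_fun ℂ)
    intro htop
    have hone : e 1 ≠ 0 := by
      rw [Ne, LinearEquiv.map_eq_zero_iff]
      intro h1
      have := LinearMap.congr_fun h1 (fun _ => 1)
      simp only [Module.End.one_apply, LinearMap.zero_apply] at this
      exact one_ne_zero (congrFun this ⟨0, Nat.pos_of_ne_zero hd⟩)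
    have h3 : A (e 1) = 0 := LinearMap.congr_fun (LinearMap.ker_eq_top.1 htop) _
    have h4 : ∀ a : G, σ a (e 1) = e 1 := fun a => by rw [hσ, hinvL a 1 (Commute.one_right _)]
    rw [hA, LinearMap.sum_apply, Finset.sum_congr rfl fun a _ => h4 a, Finset.sum_const,
      ← Nat.cast_smul_eq_nsmul ℂ, smul_eq_zero] at h3
    exact h3.elim (Nat.cast_ne_zero.2 Finset.univ_nonempty.card_pos.ne') hone
  rw [sq] at hn
  omega

/-- In a `p`-solvable group with trivial `O_p` the centralizer of `O_{p'}` lies in it. -/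
theorem centralizer_pPrimeCore_le (h : IsPSolvable p G) (hO : pCore p G = ⊥) :
    Subgroup.centralizer (pPrimeCore p G : Set G) ≤ pPrimeCore p G := by
  classical
  set U := pPrimeCore p G with hU
  set C := Subgroup.centralizer (U : Set G) with hC
  obtain ⟨n, H, h0, h1, hm, hn, hf⟩ := h
  suffices key : ∀ i : Fin (n + 1), H i ⊓ C ≤ U by
    intro x hx
    exact key (Fin.last n) ⟨by rw [h1]; trivial, hx⟩
  intro i
  induction i using Fin.induction with
  | zero => rw [h0, bot_inf_eq]; exact bot_le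
  | succ i ih =>
    set A := H i.succ ⊓ C with hA
    haveI := hn i.succ
    haveI := hn i.castSucc
    haveI : A.Normal := Subgroup.normal_inf_normal _ _
    have hd : (H i.castSucc ⊓ C).relIndex A ∣ (H i.castSucc).relIndex (H i.succ) := by
      have hAC : A ≤ C := inf_le_right
      rw [← Subgroup.inf_relIndex_right (H i.castSucc ⊓ C), inf_assoc, inf_eq_right.2 hAC,
        Subgroup.inf_relIndex_right,
        ← Subgroup.relIndex_subgroupOf (H := H i.castSucc) (inf_le_left : A ≤ H i.succ)]
      exact Subgroup.relIndex_dvd_index_of_normal _ _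
    set B := H i.castSucc ⊓ C with hB
    have hBA : B ≤ A := inf_le_inf_right C (hm (Fin.castSucc_le_succ i))
    have hcardB : (Nat.card (B.subgroupOf A)).Coprime p := by
      rw [Nat.card_congr (Subgroup.subgroupOfEquivOfLe hBA).toEquiv]
      exact (CfsgLib.card_pPrimeCore_coprime p).coprime_dvd_left (Subgroup.card_dvd_of_le ih)
    rcases hf i with ⟨m, hm'⟩ | hc
    · obtain ⟨j, -, hj⟩ := (Nat.dvd_prime_pow hp.out).1 (hm' ▸ hd)
      rcases j with _ | j
      · rw [pow_zero, Subgroup.relIndex_eq_one] at hj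
        exact hj.trans ih
      exfalso
      let T : Sylow p A := default
      have hBc : ∀ b : A, b ∈ B.subgroupOf A → ∀ x : A, b * x = x * b := fun b hb x =>
        Subtype.ext (x.2.2 (b : G) (ih hb))
      have hTcard : (B.subgroupOf A) ⊔ (T : Subgroup A) = ⊤ := by
        refine Subgroup.eq_top_of_card_eq _ (Nat.dvd_antisymm (Subgroup.card_subgroup_dvd_card _) ?_)
        have hTidx : Nat.card (T : Subgroup A) = p ^ (j + 1) := by
          rw [T.card_eq_multiplicity, ← Subgroup.card_mul_index (B.subgroupOf A),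
            show (B.subgroupOf A).index = p ^ (j + 1) from hj,
            Nat.factorization_mul Nat.card_pos.ne' (pow_ne_zero _ hp.out.ne_zero), Finsupp.add_apply,
            Nat.Prime.factorization_pow hp.out, Finsupp.single_eq_same,
            Nat.factorization_eq_zero_of_not_dvd
              ((hp.out.coprime_iff_not_dvd).1 hcardB.symm), zero_add]
        rw [← Subgroup.card_mul_index (B.subgroupOf A),
          show (B.subgroupOf A).index = p ^ (j + 1) from hj, ← hTidx]
        exact Nat.Coprime.mul_dvd_of_dvd_of_dvd (by rw [hTidx]; exact hcardB.pow_right _)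
          (Subgroup.card_dvd_of_le le_sup_left) (Subgroup.card_dvd_of_le le_sup_right)
      haveI hTn : (T : Subgroup A).Normal := by
        rw [← Subgroup.normalizer_eq_top_iff, eq_top_iff, ← hTcard]
        refine sup_le (fun b hb => ?_) Subgroup.le_normalizer
        rw [Subgroup.mem_normalizer_iff]
        intro x
        rw [hBc b hb x, mul_inv_cancel_right]
      haveI : (T : Subgroup A).Characteristic := T.characteristic_of_normal hTn
      haveI : ((T : Subgroup A).map A.subtype).Normal :=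
        ConjAct.normal_of_characteristic_of_normal
      have hle := CfsgLib.le_pCore (p := p) (N := (T : Subgroup A).map A.subtype) (T.2.map _)
      rw [hO, le_bot_iff, Subgroup.map_eq_bot_iff_of_injective _ A.subtype_injective] at hle
      rw [hle, sup_bot_eq, Subgroup.subgroupOf_eq_top] at hTcard
      have h1 : B.relIndex A = 1 := Subgroup.relIndex_eq_one.2 hTcard
      rw [hj] at h1
      exact (Nat.one_lt_pow (Nat.succ_ne_zero j) hp.out.one_lt).ne' h1
    · refine CfsgLib.le_pPrimeCore ?_
      have h2 : Nat.card A = Nat.card (B.subgroupOf A) * B.relIndex A :=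
        (Subgroup.card_mul_index _).symm
      rw [h2]
      exact hcardB.mul_left (hc.coprime_dvd_left hd)

/-- A `p`-solvable group with a TI Sylow `p`-subgroup and a small faithful character has a normal
Sylow `p`-subgroup. -/
theorem sylow_normal (hsolv : IsPSolvable p G) (P : Sylow p G)
    (hTI : ∀ g : G, g ∉ Subgroup.normalizer ((P : Subgroup G) : Set G) →
      (P : Subgroup G) ⊓ (MulAut.conj g • (P : Subgroup G)) = ⊥)
    {d : ℕ} (ρ : Representation ℂ G (Fin d → ℂ)) (hρ : Function.Injective ρ)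
    (hdeg : d ^ 2 ≤ Nat.card (P : Subgroup G)) : (P : Subgroup G).Normal := by
  classical
  by_contra hnot
  have hN : Subgroup.normalizer ((P : Subgroup G) : Set G) ≠ ⊤ := fun h =>
    hnot (Subgroup.normalizer_eq_top_iff.1 h)
  obtain ⟨g₀, hg₀⟩ : ∃ g, g ∉ Subgroup.normalizer ((P : Subgroup G) : Set G) := by
    by_contra hc
    push Not at hc
    exact hN (eq_top_iff.2 fun g _ => hc g)
  have hPne : (P : Subgroup G) ≠ ⊥ := fun h => hnot (h ▸ inferInstance)
  have hO : pCore p G = ⊥ := by
    rw [eq_bot_iff, ← hTI g₀ hg₀]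
    intro x hx
    refine Subgroup.mem_inf.2 ⟨CfsgLib.pCore_le_sylow P hx, ?_⟩
    rw [Subgroup.mem_pointwise_smul_iff_inv_smul_mem]
    refine CfsgLib.pCore_le_sylow P ?_
    show (MulAut.conj g₀)⁻¹ x ∈ _
    rw [MulAut.inv_apply, MulAut.conj_symm_apply]
    simpa using (inferInstance : (pCore p G).Normal).conj_mem x hx g₀⁻¹
  set U := pPrimeCore p G with hU
  have hdisj : (P : Subgroup G) ⊓ U = ⊥ := by
    obtain ⟨k, hk⟩ := IsPGroup.iff_card.1 P.2
    exact Subgroup.inf_eq_bot_of_coprime (by
      rw [hk]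
      exact ((CfsgLib.card_pPrimeCore_coprime p).symm).pow_left k)
  haveI : Nontrivial (P : Subgroup G) := (Subgroup.nontrivial_iff_ne_bot _).2 hPne
  obtain ⟨⟨z0, hz0⟩, hz0ne⟩ : ∃ z : Subgroup.center (P : Subgroup G), z ≠ 1 := by
    haveI := P.2.center_nontrivial
    exact exists_ne 1
  set z : G := ((z0 : (P : Subgroup G)) : G) with hz
  have hzP : z ∈ (P : Subgroup G) := z0.2
  have hzc : ∀ x ∈ (P : Subgroup G), x * z = z * x := fun x hx =>
    congrArg Subtype.val (Subgroup.mem_center_iff.1 hz0 ⟨x, hx⟩)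
  have hz1 : z ≠ 1 := fun h => hz0ne (Subtype.ext (Subtype.ext h))
  have hd : d ≠ 0 := by
    intro h0
    subst h0
    exact hz1 (hρ (LinearMap.ext fun v => funext fun i => i.elim0))
  set X := U ⊔ (P : Subgroup G) with hX
  set N := Subgroup.normalizer ((P : Subgroup G) : Set G) ⊓ X with hNdef
  haveI := Fintype.ofFinite X
  have hPN : (P : Subgroup G) ≤ N := le_inf Subgroup.le_normalizer le_sup_right
  -- `z` commutes with the normalizer in `X`
  have hzN : ∀ n ∈ N, n * z = z * n := by
    intro n hn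
    obtain ⟨u, hu, x, hx, rfl⟩ := Subgroup.mem_sup_of_normal_left.1 (show n ∈ U ⊔ (P : Subgroup G) from hn.2)
    have huN : u ∈ Subgroup.normalizer ((P : Subgroup G) : Set G) := by
      simpa using Subgroup.mul_mem _ hn.1 (Subgroup.inv_mem _ (Subgroup.le_normalizer hx))
    have h1 : u * z * u⁻¹ * z⁻¹ ∈ (P : Subgroup G) ⊓ U := by
      refine ⟨Subgroup.mul_mem _ ((Subgroup.mem_normalizer_iff.1 huN z).1 hzP) (Subgroup.inv_mem _ hzP), ?_⟩
      have : z * u⁻¹ * z⁻¹ ∈ U := (inferInstance : U.Normal).conj_mem _ (inv_mem hu) z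
      rw [show u * z * u⁻¹ * z⁻¹ = u * (z * u⁻¹ * z⁻¹) by group]
      exact mul_mem hu this
    rw [hdisj, Subgroup.mem_bot] at h1
    have h2 : u * z = z * u := by
      calc u * z = (u * z * u⁻¹ * z⁻¹) * (z * u) := by group
        _ = z * u := by rw [h1, one_mul]
    rw [mul_assoc, hzc x hx, ← mul_assoc, h2, mul_assoc]
  -- hence with all of `X`
  have hcomm : ∀ x : X, Commute (ρ (x : G)) (ρ z) := by
    refine comm_of_small (p := p) (P := (P : Subgroup G).subgroupOf X) (H := N.subgroupOf X)
      (ρ.comp X.subtype : Representation ℂ X (Fin d → ℂ)) hd ?_ ?_ ?_ ?_ ?_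
    · exact P.2.of_equiv (Subgroup.subgroupOfEquivOfLe le_sup_right).symm
    · exact fun x hx => Subgroup.mem_subgroupOf.2 (hPN hx)
    · intro g hg u hu hmem
      rw [Subgroup.mem_subgroupOf] at hg hu hmem
      have hgN : (g : G) ∉ Subgroup.normalizer ((P : Subgroup G) : Set G) := fun h => hg ⟨h, g.2⟩
      -- the conjugate is a `p`-element of `N`, so it lies in `P`
      have hin : (g : G)⁻¹ * u * g ∈ (P : Subgroup G) := by
        obtain ⟨k, hk⟩ := P.2 ⟨(u : G), hu⟩
        have hk' : (u : G) ^ p ^ k = 1 := congrArg Subtype.val hk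
        have hmemN : (g : G)⁻¹ * u * g ∈ Subgroup.normalizer ((P : Subgroup G) : Set G) := hmem.1
        have hpg : IsPGroup p (Subgroup.zpowers ((g : G)⁻¹ * u * g)) := by
          have hc : ((g : G)⁻¹ * u * g) ^ p ^ k = (g : G)⁻¹ * (u : G) ^ p ^ k * g := by
            simpa using (conj_pow (a := (g : G)⁻¹) (b := (u : G)) (i := p ^ k))
          obtain ⟨j, -, hj⟩ := (Nat.dvd_prime_pow hp.out).1 (orderOf_dvd_of_pow_eq_one
            (show ((g : G)⁻¹ * u * g) ^ p ^ k = 1 by rw [hc, hk', mul_one, inv_mul_cancel]))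
          exact IsPGroup.of_card (n := j) (by rw [Nat.card_zpowers, hj])
        have hsup := hpg.to_sup_of_normal_right' P.2 (Subgroup.zpowers_le.2 hmemN)
        have heq := P.3 hsup le_sup_right
        rw [← heq]
        exact (le_sup_left : _ ≤ Subgroup.zpowers _ ⊔ (P : Subgroup G)) (Subgroup.mem_zpowers _)
      by_contra hu1
      have h3 : (u : G) ∈ (P : Subgroup G) ⊓ (MulAut.conj (g : G) • (P : Subgroup G)) := by
        refine ⟨hu, ?_⟩
        have h4 := Subgroup.smul_mem_pointwise_smul _ (MulAut.conj (g : G)) _ hin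
        have e : MulAut.conj (g : G) • ((g : G)⁻¹ * u * g) = (u : G) := by
          show (g : G) * ((g : G)⁻¹ * u * g) * (g : G)⁻¹ = u
          group
        exact e ▸ h4
      rw [hTI _ hgN] at h3
      exact hu1 (Subtype.ext (Subgroup.mem_bot.1 h3))
    · rw [Nat.card_congr (Subgroup.subgroupOfEquivOfLe (le_sup_right : (P : Subgroup G) ≤ X)).toEquiv]
      exact hdeg
    · intro x hx
      show ρ (x : G) * ρ z = ρ z * ρ (x : G)
      rw [← map_mul, ← map_mul, show (x : G) * z = z * (x : G) from hzN _ hx]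
  have hzC : z ∈ Subgroup.centralizer (U : Set G) := fun u hu => hρ (by
    rw [map_mul, map_mul]
    exact (hcomm ⟨u, (le_sup_left : U ≤ X) hu⟩).eq)
  have h1 : z ∈ (P : Subgroup G) ⊓ U := ⟨hzP, centralizer_pPrimeCore_le hsolv hO hzC⟩
  rw [hdisj] at h1
  exact hz1 (Subgroup.mem_bot.1 h1)

end CfsgLib.CharTheory.TISylow
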