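import Cfsg.Agent.Lib.CharTheory.MinNonabelianQuotient
import Cfsg.Agent.Lib.CharTheory.TwoDegrees
import Cfsg.Agent.Lib.CharTheory.AbelianInertia
import Cfsg.Agent.Lib.CharTheory.More2

/-!
Groups with three irreducible character degrees are solvable of derived length at most three
(Isaacs, Theorem 12.15).

For coprime degrees `1 < a < b` the products of a character of degree `a` with one of degree `b`
show that the commutator subgroup is not perfect; a minimal non-abelian solvable quotient then
finishes. A common prime divisor gives a normal `p`-complement and induction.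
-/

namespace CfsgLib.CharTheory.ThreeDegrees

open Cfsg CfsgLib.CharTheory
open scoped ComplexConjugate commutatorElement

universe u

variable {G : Type u} [Group G]

/-- All degrees lie in `{1, a, b}`. -/
def DegreesIn (G : Type u) [Group G] (a b : ℕ) : Prop :=
  ∀ χ : G → ℂ, IsIrrCharacter G χ → charDegree χ = 1 ∨ charDegree χ = a ∨ charDegree χ = b

/-- A constituent of a character is constant where the character is. -/
theorem constituent_eq [Fintype G] {F φ : G → ℂ} (hF : IsCharacter G F) (hφ : IsIrrCharacter G φ)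
    (hc : classInner F φ ≠ 0) {x : G} (hx : F x = F 1) : φ x = φ 1 := by
  have hR := isCharacter_sub_irr hF hφ hc
  have h1 := norm_char_le hR x
  have h2 := norm_char_le (isCharacter_of_irr hφ) x
  obtain ⟨d, -, hd⟩ := irr_degree_pos hφ
  obtain ⟨n, ρ, hρ⟩ := hR
  have hr : (F - φ) 1 = (Module.finrank ℂ (Fin n → ℂ) : ℂ) := by rw [← hρ, ρ.char_one]
  rw [hr, Complex.norm_natCast] at h1
  rw [hd, Complex.norm_natCast] at h2
  rw [hd]
  rw [Pi.sub_apply] at h1 hr
  have hre := congrArg Complex.re hr
  rw [Complex.sub_re, hd, Complex.natCast_re, Complex.natCast_re, ← hx] at hre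
  have h3 := (Complex.re_le_norm (F x - φ x)).trans h1
  rw [Complex.sub_re] at h3
  have h4 : (φ x).re = (d : ℝ) := le_antisymm ((Complex.re_le_norm _).trans h2) (by linarith)
  have h5 := Complex.sq_norm (φ x)
  rw [Complex.normSq_apply] at h5
  refine Complex.ext (by simpa using h4) ?_
  have : (φ x).im * (φ x).im ≤ 0 := by nlinarith [norm_nonneg (φ x)]
  simp only [Complex.natCast_im]
  nlinarith

/-- A character vanishing at an `r`-element has degree divisible by `r`. -/
theorem dvd_degree_of_zero [Finite G] {r : ℕ} [hr : Fact r.Prime] {x : G} {k : ℕ} (hx : x ^ r ^ k = 1)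
    {χ : G → ℂ} (hχ : IsCharacter G χ) {d : ℕ} (hd : χ 1 = d) (h0 : χ x = 0) : r ∣ d := by
  obtain ⟨s, hs, hpow⟩ := exists_roots_pow hχ x
  have hsum : ∀ t : Multiset ℂ, (∀ z ∈ t, IsIntegral ℤ z) →
      ∃ u : ℂ, IsIntegral ℤ u ∧ t.sum ^ r ^ k = (t.map (· ^ r ^ k)).sum + (r : ℂ) * u := by
    intro t
    induction t using Multiset.induction with
    | empty => exact fun _ => ⟨0, isIntegral_zero, by simp [hr.out.ne_zero]⟩
    | cons a t ih =>
      intro ht
      obtain ⟨u, hu, e⟩ := ih fun z hz => ht z (Multiset.mem_cons_of_mem hz)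
      have ha := ht a (Multiset.mem_cons_self a t)
      have hts : IsIntegral ℤ t.sum := IsIntegral.multiset_sum fun z hz => ht z (Multiset.mem_cons_of_mem hz)
      obtain ⟨q, hq⟩ := exists_add_pow_prime_pow_eq hr.out (⟨a, ha⟩ : integralClosure ℤ ℂ) ⟨t.sum, hts⟩ k
      have hq' := congrArg Subtype.val hq
      push_cast at hq'
      refine ⟨u + a * t.sum * (q : ℂ), hu.add ((ha.mul hts).mul q.2), ?_⟩
      rw [Multiset.sum_cons, Multiset.map_cons, Multiset.sum_cons, hq', e]
      ring
  obtain ⟨u, hu, e⟩ := hsum s fun z hz =>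
    IsIntegral.of_pow Nat.card_pos (by rw [hs z hz]; exact isIntegral_one)
  have h1 := hpow 1
  simp only [pow_one, Multiset.map_id'] at h1
  rw [← h1, h0, zero_pow (pow_ne_zero _ hr.out.ne_zero), ← hpow (r ^ k), hx, hd] at e
  have hp0 : (r : ℂ) ≠ 0 := Nat.cast_ne_zero.mpr hr.out.ne_zero
  have hu' : u = ((-(d : ℚ) / r : ℚ) : ℂ) := by
    push_cast
    rw [eq_div_iff hp0]
    linear_combination -e
  rw [hu', show ((-(d : ℚ) / r : ℚ) : ℂ) = algebraMap ℚ ℂ (-(d : ℚ) / r) from (eq_ratCast _ _).symm,
    isIntegral_algebraMap_iff (algebraMap ℚ ℂ).injective] at hu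
  obtain ⟨m, hm⟩ := IsIntegrallyClosed.isIntegral_iff.mp hu
  rw [eq_intCast] at hm
  have hp0' : (r : ℚ) ≠ 0 := Nat.cast_ne_zero.mpr hr.out.ne_zero
  have hm2 : (d : ℚ) = (r : ℚ) * ((-m : ℤ) : ℚ) := by
    push_cast; rw [hm]; field_simp
  have hm3 : (d : ℤ) = (r : ℤ) * (-m) := by exact_mod_cast hm2
  exact Int.natCast_dvd_natCast.mp ⟨-m, hm3⟩

theorem triple [Fintype G] (χ ψ η : G → ℂ) :
    classInner (χ * ψ) η = classInner ψ ((fun g => conj (χ g)) * η) := by
  simp only [classInner, Pi.mul_apply, map_mul, Complex.conj_conj]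
  congr 1
  exact Finset.sum_congr rfl fun g _ => by ring

/-- Decomposition of a character with natural multiplicities. -/
theorem decomp [Fintype G] {F : G → ℂ} (hF : IsCharacter G F) :
    ∃ c : IrrCharacter G → ℕ, (∀ φ : IrrCharacter G, classInner F (φ : G → ℂ) = c φ) ∧
      (∀ g, F g = ∑ φ : IrrCharacter G, (c φ : ℂ) * (φ : G → ℂ) g) ∧
      ∀ d : ℕ, F 1 = d → ∑ φ : IrrCharacter G, c φ * charDegree (φ : G → ℂ) = d := by
  choose c hc using fun φ : IrrCharacter G => classInner_char_nat hF (isCharacter_of_irr φ.2)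
  have hg : ∀ g, F g = ∑ φ : IrrCharacter G, (c φ : ℂ) * (φ : G → ℂ) g := by
    intro g
    conv_lhs => rw [eq_sum_irr (isClassFunction_char hF)]
    simp [Finset.sum_apply, hc]
  refine ⟨c, hc, hg, fun d hd => ?_⟩
  have h := hg 1
  rw [hd] at h
  simp only [fun φ : IrrCharacter G => (charDegree_spec' φ.2).1] at h
  exact_mod_cast h.symm

theorem linear_apply [Finite G] {φ : G → ℂ} (hφ : IsIrrCharacter G φ) (h : charDegree φ = 1) :
    ∀ k ∈ commutator G, φ k = 1 := by
  intro k hk
  obtain ⟨f, hf⟩ := exists_hom_of_degree_one (isCharacter_of_irr hφ)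
    (by rw [(charDegree_spec' hφ).1, h, Nat.cast_one])
  rw [hf]
  simp only [MonoidHom.mem_ker.mp (Abelianization.commutator_subset_ker f hk), Units.val_one]

theorem linear_of_kernel [Finite G] {φ : G → ℂ} (hφ : IsIrrCharacter G φ)
    (h : ∀ k ∈ commutator G, φ k = φ 1) : charDegree φ = 1 := by
  obtain ⟨ψ, hψ, e⟩ := exists_quotient_irr (commutator G) hφ h
  have h1 := degree_one_of_commutative (fun a b : G ⧸ commutator G =>
    (mul_comm (G := Abelianization G) a b)) hψ
  have h2 : φ 1 = 1 := by rw [e]; exact h1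
  rw [(charDegree_spec' hφ).1] at h2
  exact_mod_cast h2

section Coprime

variable [Fintype G] {a b : ℕ}

theorem twist_of_product (H3 : DegreesIn G a b) (ha : 1 < a) (hab : a < b) (hco : a.Coprime b)
    {χ ψ η : G → ℂ} (hχ : IsIrrCharacter G χ) (hψ : IsIrrCharacter G ψ) (hη : IsIrrCharacter G η)
    (hda : charDegree χ = a) (hdb : charDegree ψ = b) (hde : charDegree η = a)
    (hne : classInner (χ * ψ) η ≠ 0) : ∀ k ∈ commutator G, η k = χ k := by
  classical
  set F : G → ℂ := (fun g => conj (χ g)) * η with hF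
  have hFc : IsCharacter G F :=
    isCharacter_mul (isCharacter_conj (isCharacter_of_irr hχ)) (isCharacter_of_irr hη)
  obtain ⟨c, hc, -, hdeg⟩ := decomp hFc
  have hF1 : F 1 = ((a * a : ℕ) : ℂ) := by
    simp [hF, (charDegree_spec' hχ).1, (charDegree_spec' hη).1, hda, hde]
  have hsum := hdeg _ hF1
  by_cases hlin : ∃ φ : IrrCharacter G, charDegree (φ : G → ℂ) = 1 ∧ c φ ≠ 0
  · obtain ⟨φ, hφ1, hcφ⟩ := hlin
    have hirr := isIrrCharacter_mul_linear hχ φ.2
      (by rw [(charDegree_spec' φ.2).1, hφ1, Nat.cast_one])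
    have h1 : classInner (χ * (φ : G → ℂ)) η ≠ 0 := by
      rw [triple, ← hF, ← classInner_comm, hc]
      simpa using hcφ
    have e : η = χ * (φ : G → ℂ) := by
      by_contra h
      exact h1 (classInner_irr_ne hirr hη (Ne.symm h))
    intro k hk
    rw [e, Pi.mul_apply, linear_apply φ.2 hφ1 k hk, mul_one]
  · push Not at hlin
    have hψc : c ⟨ψ, hψ⟩ ≠ 0 := by
      intro h0
      refine hne ?_
      rw [triple, ← hF, ← classInner_comm, show classInner F ψ = _ from hc ⟨ψ, hψ⟩, h0]
      simp
    set A := ∑ φ ∈ (Finset.univ : Finset (IrrCharacter G)).filter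
      (fun φ : IrrCharacter G => charDegree (φ : G → ℂ) = a), c φ with hA
    set B := ∑ φ ∈ (Finset.univ : Finset (IrrCharacter G)).filter
      (fun φ : IrrCharacter G => ¬ charDegree (φ : G → ℂ) = a), c φ with hB
    have e : A * a + B * b = a * a := by
      rw [← hsum, ← Finset.sum_filter_add_sum_filter_not _ (fun φ : IrrCharacter G => charDegree (φ : G → ℂ) = a),
        hA, hB, Finset.sum_mul, Finset.sum_mul]
      congr 1
      · exact Finset.sum_congr rfl fun φ hφ => by rw [(Finset.mem_filter.1 hφ).2]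
      · refine Finset.sum_congr rfl fun φ hφ => ?_
        rcases H3 φ φ.2 with h | h | h
        · rw [hlin φ h]; simp
        · exact absurd h (Finset.mem_filter.1 hφ).2
        · rw [h]
    have hB0 : 0 < B := lt_of_lt_of_le (Nat.pos_of_ne_zero hψc)
      (Finset.single_le_sum (f := c) (fun _ _ => Nat.zero_le _)
        (Finset.mem_filter.2 ⟨Finset.mem_univ _, by simp only [hdb]; omega⟩))
    have hdvd : a ∣ B * b := (Nat.dvd_add_right (dvd_mul_left a A)).mp (e ▸ dvd_mul_left a a)
    have h2 : a ≤ B := Nat.le_of_dvd hB0 (hco.dvd_of_dvd_mul_right hdvd)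
    have h3 : a * b ≤ B * b := Nat.mul_le_mul_right b h2
    have h4 : a * a < a * b := Nat.mul_lt_mul_of_pos_left hab (by omega)
    omega

/-- A perfect commutator subgroup cannot carry three coprime degrees. -/
theorem not_perfect (H3 : DegreesIn G a b) (ha : 1 < a) (hab : a < b) (hco : a.Coprime b)
    (hA : ∃ χ, IsIrrCharacter G χ ∧ charDegree χ = a) (hB : ∃ ψ, IsIrrCharacter G ψ ∧ charDegree ψ = b)
    (htwo : ∀ (Q : Type u) [Group Q] [Finite Q] (m : ℕ), (∀ φ : Q → ℂ, IsIrrCharacter Q φ →
      charDegree φ = 1 ∨ charDegree φ = m) → derivedSeries Q 2 = ⊥)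
    (hperf : commutator G ≤ derivedSeries G 2) : False := by
  classical
  set D := commutator G with hD
  have hD2 : ⁅D, D⁆ = D := le_antisymm (Subgroup.commutator_le_self D)
    (by rwa [derivedSeries_succ, derivedSeries_one] at hperf)
  haveI := Fintype.ofFinite D
  -- a character of degree `a` times one of degree `b` has no constituent of degree `a`
  have hcross : ∀ χ ψ η : G → ℂ, IsIrrCharacter G χ → IsIrrCharacter G ψ → IsIrrCharacter G η →
      charDegree χ = a → charDegree ψ = b → charDegree η = a → classInner (χ * ψ) η = 0 := by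
    intro χ ψ η hχ hψ hη hda hdb hde
    by_contra hne
    obtain ⟨c, hc, hval, hdeg⟩ := decomp (isCharacter_mul (isCharacter_of_irr hχ) (isCharacter_of_irr hψ))
    have h1 : (χ * ψ) 1 = ((a * b : ℕ) : ℂ) := by
      simp [(charDegree_spec' hχ).1, (charDegree_spec' hψ).1, hda, hdb]
    have hsum := hdeg _ h1
    have hlin : ∀ φ : IrrCharacter G, charDegree (φ : G → ℂ) = 1 → c φ = 0 := by
      intro φ hφ
      have hirr := isIrrCharacter_mul_linear (isIrrCharacter_conjChar hχ) φ.2
        (by rw [(charDegree_spec' φ.2).1, hφ, Nat.cast_one])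
      have h := hc φ
      rw [triple, classInner_irr_ne hψ hirr (fun e => ?_)] at h
      · exact_mod_cast h.symm
      · have e1 := congrFun e 1
        simp only [Pi.mul_apply, (charDegree_spec' hχ).1, (charDegree_spec' hψ).1,
          (charDegree_spec' φ.2).1, hda, hdb, hφ, Nat.cast_one, mul_one, map_natCast, Nat.cast_inj] at e1
        omega
    set A := ∑ φ ∈ (Finset.univ : Finset (IrrCharacter G)).filter
      (fun φ : IrrCharacter G => charDegree (φ : G → ℂ) = a), c φ with hAdef
    set B := ∑ φ ∈ (Finset.univ : Finset (IrrCharacter G)).filter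
      (fun φ : IrrCharacter G => ¬ charDegree (φ : G → ℂ) = a), c φ with hBdef
    have e : A * a + B * b = a * b := by
      rw [← hsum, ← Finset.sum_filter_add_sum_filter_not _ (fun φ : IrrCharacter G => charDegree (φ : G → ℂ) = a),
        hAdef, hBdef, Finset.sum_mul, Finset.sum_mul]
      congr 1
      · exact Finset.sum_congr rfl fun φ hφ => by rw [(Finset.mem_filter.1 hφ).2]
      · refine Finset.sum_congr rfl fun φ hφ => ?_
        rcases H3 φ φ.2 with h | h | h
        · rw [hlin φ h]; simp
        · exact absurd h (Finset.mem_filter.1 hφ).2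
        · rw [h]
    have hA0 : 0 < A := by
      refine lt_of_lt_of_le (Nat.pos_of_ne_zero fun h0 => hne ?_)
        (Finset.single_le_sum (f := c) (fun _ _ => Nat.zero_le _)
          (Finset.mem_filter.2 ⟨Finset.mem_univ ⟨η, hη⟩, hde⟩))
      have := hc ⟨η, hη⟩
      rw [h0] at this
      simpa using this
    have hdvd : b ∣ A * a := (Nat.dvd_add_left (dvd_mul_left b B)).mp (e ▸ dvd_mul_left b a)
    have hAb : b ≤ A := Nat.le_of_dvd hA0 (hco.symm.dvd_of_dvd_mul_right hdvd)
    have hAa : b * a ≤ A * a := Nat.mul_le_mul_right a hAb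
    have hba : b * a = a * b := mul_comm _ _
    have hBz : B = 0 := by
      have h0 : B * b = 0 := by omega
      rcases Nat.mul_eq_zero.1 h0 with h | h
      · exact h
      · omega
    have hAeq : A = b := by
      refine Nat.eq_of_mul_eq_mul_right (by omega : 0 < a) ?_
      rw [hBz, Nat.zero_mul, Nat.add_zero] at e
      rw [e, mul_comm]
    have hprod : ∀ k ∈ D, χ k * ψ k = (b : ℂ) * χ k := by
      intro k hk
      rw [← Pi.mul_apply, hval k, ← hAeq, hAdef, Nat.cast_sum, Finset.sum_mul]
      rw [Finset.sum_filter]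
      refine Finset.sum_congr rfl fun φ _ => ?_
      split
      · rename_i hφ
        by_cases h0 : c φ = 0
        · simp [h0]
        · rw [twist_of_product H3 ha hab hco hχ hψ φ.2 hda hdb hφ
            (by rw [hc φ]; exact_mod_cast h0) k hk]
      · rename_i hφ
        have : c φ = 0 := (Finset.sum_eq_zero_iff.1 hBz) φ (Finset.mem_filter.2 ⟨Finset.mem_univ _, hφ⟩)
        simp [this]
    -- a constituent of `ψ` on `D` supplies a prime and an element
    have hres := isCharacter_restrict (isCharacter_of_irr hψ) D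
    obtain ⟨θ, hθ, hθc⟩ := exists_constituent hres fun e => irr_ne_zero hψ (congrFun e 1)
    have hθ1 : charDegree θ ≠ 1 := by
      intro h
      have hperfD : commutator D = ⊤ := by
        apply Subgroup.map_injective D.subtype_injective
        rw [Subgroup.map_subtype_commutator, hD2, ← MonoidHom.range_eq_map, Subgroup.range_subtype]
      have hθtriv : θ = fun _ => 1 := funext fun k => linear_apply hθ h k (hperfD ▸ Subgroup.mem_top k)
      have hinv : ∀ g : G, conjNormFun D g θ = θ := fun g => by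
        rw [hθtriv]; funext k; simp [conjNormFun]
      have hcl := clifford_invariant D hψ hθ hθc hinv
      have hk : ∀ k ∈ D, ψ k = ψ 1 := by
        intro k hk
        have e1 := congrFun hcl ⟨k, hk⟩
        have e2 := congrFun hcl 1
        simp only [Pi.smul_apply, hθtriv] at e1 e2
        exact e1.trans e2.symm
      have := linear_of_kernel hψ hk
      omega
    obtain ⟨r, hr, hrθ⟩ := Nat.exists_prime_and_dvd hθ1
    haveI := Fact.mk hr
    obtain ⟨e', he', -⟩ := degree_ratio_dvd hψ hθ hθc
    rw [(charDegree_spec' hψ).1, (charDegree_spec' hθ).1, ← Nat.cast_mul, Nat.cast_inj, hdb] at he'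
    have hrb : r ∣ b := he' ▸ dvd_mul_of_dvd_right hrθ e'
    set K := charKernel (fun n : D => ψ n) hres with hK
    obtain ⟨R⟩ : Nonempty (Sylow r D) := inferInstance
    have hRK : ¬ (R : Subgroup D) ≤ K := by
      intro hle
      have h1 : charDegree θ ∣ K.index := by
        refine (charDegree_dvd_index_kernel hθ).trans (Subgroup.index_dvd_of_le fun k hk => ?_)
        rw [mem_charKernel] at hk ⊢
        exact constituent_eq hres hθ hθc hk
      exact R.not_dvd_index ((hrθ.trans h1).trans (Subgroup.index_dvd_of_le hle))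
    obtain ⟨x, hxR, hxK⟩ := SetLike.not_le_iff_exists.1 hRK
    rw [hK, mem_charKernel] at hxK
    obtain ⟨k, hk⟩ := R.2 ⟨x, hxR⟩
    have hχx : χ x = 0 := by
      by_contra h0
      refine hxK ?_
      show ψ x = ψ ((1 : D) : G)
      rw [OneMemClass.coe_one, (charDegree_spec' hψ).1, hdb]
      have h := hprod x x.2
      rw [mul_comm (b : ℂ)] at h
      exact mul_left_cancel₀ h0 h
    have hxk : (x : G) ^ r ^ k = 1 := by
      have e := congrArg (fun z : R => ((z : D) : G)) hk
      simpa using e
    have hra : r ∣ a := dvd_degree_of_zero hxk (isCharacter_of_irr hχ)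
      (by rw [(charDegree_spec' hχ).1, hda]) hχx
    exact hr.ne_one (Nat.eq_one_of_dvd_coprimes hco hra hrb)
  -- the characters of degree `1` and `a` are closed under products
  set P : G → ℂ := fun g => ∑ s ∈ (Finset.univ : Finset (IrrCharacter G)).filter
    (fun s : IrrCharacter G => ¬ charDegree (s : G → ℂ) = b), (charDegree (s : G → ℂ) : ℂ) * (s : G → ℂ) g with hP
  have hPc : IsClassFunction G P := fun g k => by
    simp only [hP]
    exact Finset.sum_congr rfl fun s _ => by rw [isClassFunction_irr s.2 g k]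
  have hsplit : ∀ χ : IrrCharacter G, charDegree (χ : G → ℂ) ≠ b →
      ∀ s : IrrCharacter G, charDegree (s : G → ℂ) ≠ b → ∀ ψ : IrrCharacter G,
        charDegree (ψ : G → ℂ) = b → classInner ((χ : G → ℂ) * (s : G → ℂ)) (ψ : G → ℂ) = 0 := by
    intro χ hχ s hs ψ hψ
    rcases H3 χ χ.2 with h1 | h1 | h1
    · have hirr := isIrrCharacter_mul_linear s.2 χ.2 (by rw [(charDegree_spec' χ.2).1, h1, Nat.cast_one])
      rw [mul_comm]
      refine classInner_irr_ne hirr ψ.2 fun e => hs ?_
      have e1 := congrFun e 1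
      simp only [Pi.mul_apply, (charDegree_spec' s.2).1, (charDegree_spec' χ.2).1,
        (charDegree_spec' ψ.2).1, h1, Nat.cast_one, mul_one, Nat.cast_inj] at e1
      omega
    · rcases H3 s s.2 with h2 | h2 | h2
      · have hirr := isIrrCharacter_mul_linear χ.2 s.2 (by rw [(charDegree_spec' s.2).1, h2, Nat.cast_one])
        refine classInner_irr_ne hirr ψ.2 fun e => hχ ?_
        have e1 := congrFun e 1
        simp only [Pi.mul_apply, (charDegree_spec' s.2).1, (charDegree_spec' χ.2).1,
          (charDegree_spec' ψ.2).1, h2, Nat.cast_one, mul_one, Nat.cast_inj] at e1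
        omega
      · have hc := hcross (fun g => conj ((χ : G → ℂ) g)) ψ s (isIrrCharacter_conjChar χ.2) ψ.2 s.2
          (by simpa [charDegree] using h1) hψ h2
        rw [triple] at hc
        simp only [Complex.conj_conj] at hc
        rw [← classInner_comm, hc, map_zero]
      · exact absurd h2 hs
    · exact absurd h1 hχ
  have heig : ∀ χ : IrrCharacter G, charDegree (χ : G → ℂ) ≠ b →
      ∀ g, (χ : G → ℂ) g * P g = (charDegree (χ : G → ℂ) : ℂ) * P g := by
    intro χ hχ
    suffices h : (χ : G → ℂ) * P = (charDegree (χ : G → ℂ) : ℂ) • P from fun g => congrFun h g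
    refine classFun_ext (fun g k => by simp [isClassFunction_irr χ.2 g k, hPc g k])
      (isClassFunction_smul _ hPc) fun t ht => ?_
    have hPt : classInner P t = if charDegree t = b then 0 else (charDegree t : ℂ) := by
      rw [show P = ∑ s ∈ (Finset.univ : Finset (IrrCharacter G)).filter
        (fun s : IrrCharacter G => ¬ charDegree (s : G → ℂ) = b), (charDegree (s : G → ℂ) : ℂ) • (s : G → ℂ) from
          funext fun g => by simp [hP, Finset.sum_apply]]
      rw [classInner_sum_left, Finset.sum_filter, Finset.sum_eq_single ⟨t, ht⟩]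
      · by_cases h : charDegree t = b <;> simp [h, classInner_smul_left, classInner_irr_self ht]
      · intro s _ hst
        simp [classInner_smul_left, classInner_irr_ne s.2 ht fun e => hst (Subtype.ext e)]
      · simp
    have hprod : classInner ((χ : G → ℂ) * P) t = ∑ s ∈ (Finset.univ : Finset (IrrCharacter G)).filter
        (fun s : IrrCharacter G => ¬ charDegree (s : G → ℂ) = b),
          (charDegree (s : G → ℂ) : ℂ) * classInner ((χ : G → ℂ) * (s : G → ℂ)) t := by
      rw [show (χ : G → ℂ) * P = ∑ s ∈ (Finset.univ : Finset (IrrCharacter G)).filter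
        (fun s : IrrCharacter G => ¬ charDegree (s : G → ℂ) = b),
          (charDegree (s : G → ℂ) : ℂ) • ((χ : G → ℂ) * (s : G → ℂ)) from funext fun g => by
          simp only [hP, Pi.mul_apply, Finset.sum_apply, Pi.smul_apply, smul_eq_mul, Finset.mul_sum]
          exact Finset.sum_congr rfl fun s _ => by ring]
      simp only [classInner_sum_left, classInner_smul_left]
    rw [hprod, classInner_smul_left, hPt]
    by_cases htb : charDegree t = b
    · rw [if_pos htb, mul_zero]
      exact Finset.sum_eq_zero fun s hs => by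
        rw [hsplit χ hχ s (Finset.mem_filter.1 hs).2 ⟨t, ht⟩ htb, mul_zero]
    · rw [if_neg htb]
      obtain ⟨c, hc, -, hdeg⟩ := decomp (isCharacter_mul
        (isCharacter_conj (isCharacter_of_irr χ.2)) (isCharacter_of_irr ht))
      have h1 := hdeg (charDegree (χ : G → ℂ) * charDegree t)
        (by simp [(charDegree_spec' χ.2).1, (charDegree_spec' ht).1])
      rw [← Nat.cast_mul, ← h1, Nat.cast_sum, Finset.sum_filter]
      refine Finset.sum_congr rfl fun s _ => ?_
      have hcs : classInner ((χ : G → ℂ) * (s : G → ℂ)) t = c s := by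
        rw [triple, ← classInner_comm, hc s, map_natCast]
      by_cases hsb : charDegree (s : G → ℂ) = b
      · rw [if_neg (not_not.2 hsb)]
        have h0 : classInner ((χ : G → ℂ) * (s : G → ℂ)) t = 0 := by
          rw [triple, ← classInner_comm]
          have := hsplit ⟨_, isIrrCharacter_conjChar χ.2⟩ (by simpa [charDegree] using hχ) ⟨t, ht⟩ htb s hsb
          rw [this, map_zero]
        rw [hcs] at h0
        rw [show c s = 0 by exact_mod_cast h0]
        simp
      · rw [if_pos hsb, hcs]; push_cast; ring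
  -- the common kernel
  set L : Subgroup G := ⨅ χ : {χ : IrrCharacter G // charDegree (χ : G → ℂ) ≠ b},
    charKernel (χ.1 : G → ℂ) (isCharacter_of_irr χ.1.2) with hL
  haveI : L.Normal := Subgroup.normal_iInf_normal fun _ => inferInstance
  have hmemL : ∀ g, g ∈ L ↔ ∀ χ : IrrCharacter G, charDegree (χ : G → ℂ) ≠ b →
      (χ : G → ℂ) g = (χ : G → ℂ) 1 := fun g => by
    simp [hL, Subgroup.mem_iInf, mem_charKernel]
  have hoff : ∀ g ∉ L, P g = 0 := by
    intro g hg
    rw [hmemL] at hg
    push Not at hg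
    obtain ⟨χ, hχ, hne⟩ := hg
    by_contra h0
    exact hne (by rw [(charDegree_spec' χ.2).1]; exact mul_right_cancel₀ h0 (heig χ hχ g))
  have hon : ∀ g ∈ L, P g = P 1 := by
    intro g hg
    rw [hmemL] at hg
    exact Finset.sum_congr rfl fun s hs => by rw [hg s (Finset.mem_filter.1 hs).2]
  obtain ⟨χ₀, hχ₀, hχ₀a⟩ := hA
  have hP1 : P 1 ≠ 0 := by
    have e : P 1 = ((∑ s ∈ (Finset.univ : Finset (IrrCharacter G)).filter
        (fun s : IrrCharacter G => ¬ charDegree (s : G → ℂ) = b), charDegree (s : G → ℂ) ^ 2 : ℕ) : ℂ) := by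
      simp only [hP]
      push_cast
      exact Finset.sum_congr rfl fun s _ => by rw [(charDegree_spec' s.2).1]; ring
    rw [e, Nat.cast_ne_zero]
    refine (lt_of_lt_of_le ?_ (Finset.single_le_sum (fun _ _ => Nat.zero_le _)
      (Finset.mem_filter.2 ⟨Finset.mem_univ ⟨χ₀, hχ₀⟩, by simp only [hχ₀a]; omega⟩))).ne'
    exact pow_pos (charDegree_spec' hχ₀).2 2
  have hLdeg : ∀ φ : G → ℂ, IsIrrCharacter G φ → (∀ n ∈ L, φ n = φ 1) → charDegree φ ≠ b := by
    intro φ hφ hk hφb
    have h0 : classInner P φ = 0 := by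
      rw [show P = ∑ s ∈ (Finset.univ : Finset (IrrCharacter G)).filter
        (fun s : IrrCharacter G => ¬ charDegree (s : G → ℂ) = b), (charDegree (s : G → ℂ) : ℂ) • (s : G → ℂ) from
          funext fun g => by simp [hP, Finset.sum_apply]]
      rw [classInner_sum_left]
      refine Finset.sum_eq_zero fun s hs => ?_
      rw [classInner_smul_left, classInner_irr_ne s.2 hφ fun e =>
        (Finset.mem_filter.1 hs).2 (e ▸ hφb), mul_zero]
    rw [classInner] at h0
    have hsum : ∑ g : G, P g * conj (φ g) = ∑ g : G, if g ∈ L then P 1 * conj (φ 1) else 0 :=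
      Finset.sum_congr rfl fun g _ => by
        split
        · rw [hon g ‹_›, hk g ‹_›]
        · rw [hoff g ‹_›, zero_mul]
    rw [hsum, ← Finset.sum_filter, Finset.sum_const, nsmul_eq_mul] at h0
    have hcard : ((Finset.univ.filter (fun g : G => g ∈ L)).card : ℂ) ≠ 0 := by
      rw [Nat.cast_ne_zero, ← Nat.pos_iff_ne_zero, Finset.card_pos]
      exact ⟨1, by simp [one_mem L]⟩
    have hφ1 : conj (φ 1) ≠ 0 := by simpa using irr_ne_zero hφ
    simp [hP1, hφ1, hcard, Nat.card_pos.ne'] at h0
  haveI : Fintype (G ⧸ L) := Fintype.ofFinite _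
  have hQ := htwo (G ⧸ L) a fun φ hφ => by
    have hirr := isIrrCharacter_comp_surjective hφ (QuotientGroup.mk' L) (QuotientGroup.mk'_surjective L)
    have hk : ∀ n ∈ L, φ ((QuotientGroup.mk' L) n) = φ ((QuotientGroup.mk' L) 1) := fun n hn => by
      rw [map_one, QuotientGroup.mk'_apply, (QuotientGroup.eq_one_iff n).mpr hn]
    have hdeq : charDegree (fun x => φ ((QuotientGroup.mk' L) x)) = charDegree φ := by simp [charDegree]
    have hnb := hLdeg _ hirr hk
    rw [hdeq] at hnb
    have h3 := H3 _ hirr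
    rw [hdeq] at h3
    tauto
  have hDL : D ≤ L := by
    refine hperf.trans fun x hx => ?_
    rw [← QuotientGroup.eq_one_iff]
    have hmap := derivedSeries_le_map_derivedSeries (f := QuotientGroup.mk' L) (QuotientGroup.mk'_surjective L) 2
    have hx' := map_derivedSeries_le_derivedSeries (QuotientGroup.mk' L) 2 (Subgroup.mem_map_of_mem _ hx)
    rw [hQ, Subgroup.mem_bot] at hx'
    exact hx'
  have := linear_of_kernel hχ₀ fun k hk => (hmemL k).1 (hDL hk) ⟨χ₀, hχ₀⟩ (by simp only [hχ₀a]; omega)
  omega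

end Coprime

/-- Two degrees give a metabelian group. -/
theorem two (Q : Type u) [Group Q] [Finite Q] (m : ℕ)
    (h : ∀ φ : Q → ℂ, IsIrrCharacter Q φ → charDegree φ = 1 ∨ charDegree φ = m) :
    derivedSeries Q 2 = ⊥ := by
  classical
  have := Fintype.ofFinite Q
  rw [derivedSeries_succ, derivedSeries_one, Subgroup.commutator_eq_bot_iff_le_centralizer]
  intro x hx
  rw [Subgroup.mem_centralizer_iff]
  intro y hy
  by_cases hm : 1 < m
  · exact commutator_comm_of_two_degrees (fun χ => h χ χ.2) hm y hy x hx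
  · refine commutative_iff_degree_one.mpr (fun χ : IrrCharacter Q => ?_) y x
    have h1 := (charDegree_spec' χ.2).2
    rw [(charDegree_spec' χ.2).1, Nat.cast_eq_one]
    rcases h χ χ.2 with e | e <;> omega

/-- Taketa, counting degrees. -/
theorem derivedSeries_three_of_monomial [Finite G] {a b : ℕ} (H3 : DegreesIn G a b) (ha : 1 < a) (hab : a < b)
    (hG : IsAbelianByNilpotent G) : derivedSeries G 3 = ⊥ := by
  classical
  have := Fintype.ofFinite G
  let rk : ℕ → ℕ := fun d => if d ≤ 1 then 1 else if d ≤ a then 2 else 3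
  suffices key : ∀ n : ℕ, ∀ χ : G → ℂ, IsIrrCharacter G χ → charDegree χ = n →
      ∀ g ∈ derivedSeries G (rk n), χ g = χ 1 by
    rw [Subgroup.eq_bot_iff_forall]
    intro g hg
    refine isConj_one_right.mp (isConj_of_forall_irr fun χ => ?_).symm
    refine key _ χ χ.2 rfl g (derivedSeries_antitone G ?_ hg)
    simp only [rk]; split_ifs <;> omega
  intro n
  induction n using Nat.strong_induction_on with
  | _ n ih =>
  intro χ hχ hn g hg
  obtain ⟨H, lam, hH⟩ := isMonomialChar_of_abelianByNilpotent hG hχ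
  have := Fintype.ofFinite H
  have hidx : H.index = n := by
    have e := (charDegree_spec' hχ).1
    rw [hH, indFun_apply_one, map_one, Units.val_one, mul_one, ← hH, hn] at e
    exact_mod_cast e
  have hperm : IsCharacter G (indFun H (fun _ => 1)) := isCharacter_indFun H isCharacter_one
  have h1c : classInner (indFun H (fun _ => (1 : ℂ))) (fun _ => 1) ≠ 0 := by
    rw [frobenius_reciprocity H _ (isClassFunction_irr isIrrCharacter_one),
      classInner_irr_self (χ := fun _ : H => (1 : ℂ)) isIrrCharacter_one]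
    exact one_ne_zero
  have hrest := isCharacter_sub_irr hperm isIrrCharacter_one h1c
  obtain ⟨r, hr⟩ : ∃ r, rk n = r + 1 := ⟨rk n - 1, by simp only [rk]; split_ifs <;> omega⟩
  have hcore : ∀ k ∈ derivedSeries G r, ∀ y : G, y⁻¹ * k * y ∈ H := by
    intro k hk
    refine mem_of_indFun_one_eq H ?_
    rw [eq_sum_irr (isClassFunction_char hperm)]
    simp only [Finset.sum_apply, Pi.smul_apply, smul_eq_mul]
    refine Finset.sum_congr rfl fun φ _ => ?_
    by_cases h0 : classInner (indFun H (fun _ => 1)) (φ : G → ℂ) = 0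
    · simp [h0]
    congr 1
    by_cases hφ1 : (φ : G → ℂ) = fun _ => 1
    · rw [hφ1]
    have hc2 : classInner (indFun H (fun _ => (1 : ℂ)) - fun _ => 1) (φ : G → ℂ) ≠ 0 := by
      rw [classInner_sub_left, classInner_irr_ne isIrrCharacter_one φ.2 (Ne.symm hφ1), sub_zero]
      exact h0
    have hle := classInner_mono_degree hrest (isCharacter_of_irr φ.2) (isCharacter_sub_irr hrest φ.2 hc2)
    rw [Pi.sub_apply, indFun_apply_one, mul_one, hidx, (charDegree_spec' φ.2).1, Complex.sub_re,
      Complex.natCast_re, Complex.natCast_re, Complex.one_re] at hle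
    have hlt : charDegree (φ : G → ℂ) < n := by
      have h' : (charDegree (φ : G → ℂ) : ℝ) < n := by linarith
      exact_mod_cast h'
    refine ih _ hlt φ φ.2 rfl k (derivedSeries_antitone G ?_ hk)
    have h1 := H3 φ φ.2
    have h2 := H3 χ hχ
    have h3 := (charDegree_spec' φ.2).2
    rw [hn] at h2
    simp only [rk] at hr ⊢
    split_ifs at hr ⊢ <;> omega
  have hlam : ∀ y : G, extendByZero H (fun h => (lam h : ℂ)) (y⁻¹ * g * y) = 1 := by
    intro y
    have hle : derivedSeries G r ≤ H := fun k hk => by simpa using hcore k hk 1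
    have hgy : y⁻¹ * g * y ∈ derivedSeries G (r + 1) := by
      rw [hr] at hg
      simpa using (derivedSeries_normal G (r + 1)).conj_mem g hg y⁻¹
    have hmem : y⁻¹ * g * y ∈ (commutator H).map H.subtype := by
      rw [Subgroup.map_subtype_commutator]
      rw [derivedSeries_succ] at hgy
      exact Subgroup.commutator_mono hle hle hgy
    obtain ⟨z, hz, hzc⟩ := hmem
    rw [← hzc, Subgroup.coe_subtype, extendByZero_coe,
      MonoidHom.mem_ker.mp (Abelianization.commutator_subset_ker lam hz), Units.val_one]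
  have hdeg : χ 1 = (H.index : ℂ) := by
    rw [hH, indFun_apply_one, map_one, Units.val_one, mul_one]
  rw [hdeg, hH, indFun, Finset.sum_congr rfl fun y _ => hlam y, Finset.sum_const,
    nsmul_eq_mul, mul_one, Finset.card_univ, inv_mul_eq_iff_eq_mul₀
    (Nat.cast_ne_zero.mpr Nat.card_pos.ne'), ← Nat.cast_mul, Subgroup.card_mul_index,
    Nat.card_eq_fintype_card]

/-- Degrees of a quotient. -/
theorem quotient_degree [Finite G] (N : Subgroup G) [N.Normal] {φ : G ⧸ N → ℂ} (hφ : IsIrrCharacter (G ⧸ N) φ) :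
    ∃ χ : G → ℂ, IsIrrCharacter G χ ∧ (∀ n ∈ N, χ n = χ 1) ∧ charDegree χ = charDegree φ := by
  refine ⟨fun x => φ ((QuotientGroup.mk' N) x),
    isIrrCharacter_comp_surjective hφ (QuotientGroup.mk' N) (QuotientGroup.mk'_surjective N),
    fun n hn => ?_, by simp [charDegree]⟩
  simp only [map_one, QuotientGroup.mk'_apply, (QuotientGroup.eq_one_iff n).mpr hn]

theorem derived_shift (H : Subgroup G) {j k : ℕ} (h : derivedSeries G j ≤ (derivedSeries H k).map H.subtype) :
    ∀ i, derivedSeries G (j + i) ≤ (derivedSeries H (k + i)).map H.subtype := by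
  intro i
  induction i with
  | zero => exact h
  | succ i ih =>
    rw [← Nat.add_assoc, ← Nat.add_assoc, derivedSeries_succ, derivedSeries_succ, Subgroup.map_commutator]
    exact Subgroup.commutator_mono ih ih

theorem derived_le_of_quotient (N : Subgroup G) [N.Normal] {n : ℕ} (h : derivedSeries (G ⧸ N) n = ⊥) :
    derivedSeries G n ≤ N := by
  intro x hx
  have hx' := map_derivedSeries_le_derivedSeries (QuotientGroup.mk' N) n (Subgroup.mem_map_of_mem _ hx)
  rw [h, Subgroup.mem_bot] at hx'
  exact (QuotientGroup.eq_one_iff x).mp hx'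

theorem degree_dvd_card [Finite G] {χ : G → ℂ} (hχ : IsIrrCharacter G χ) : charDegree χ ∣ Nat.card G :=
  (charDegree_dvd_index_kernel hχ).trans (Subgroup.index_dvd_card _)

/-- The step at a common prime divisor. -/
theorem common_prime [Finite G] {a b p : ℕ} (H3 : DegreesIn G a b) (ha : 1 < a) (hab : a < b)
    (hA : ∃ χ, IsIrrCharacter G χ ∧ charDegree χ = a) (hp : p.Prime) (hpa : p ∣ a) (hpb : p ∣ b)
    (IH : ∀ H : Subgroup G, H ≠ ⊤ → ∀ a' b' : ℕ, DegreesIn H a' b' → derivedSeries H 3 = ⊥) :
    derivedSeries G 3 = ⊥ := by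
  classical
  haveI := Fact.mk hp
  have := Fintype.ofFinite G
  obtain ⟨H, hHn, hHc, k, hk⟩ := Cfsg.Agent.S4456.result (G := G) p hp fun χ h1 => by
    rcases H3 χ χ.2 with h | h | h
    · exact absurd h h1
    · rwa [h]
    · rwa [h]
  haveI := hHn
  haveI := Fintype.ofFinite H
  have hHne : H ≠ ⊤ := by
    rintro rfl
    obtain ⟨χ, hχ, hχa⟩ := hA
    have h1 : p ∣ Nat.card (⊤ : Subgroup G) := by
      rw [Subgroup.card_top]
      exact (hpa.trans (hχa ▸ dvd_rfl)).trans (degree_dvd_card hχ)
    exact hp.not_dvd_one ((hHc) ▸ Nat.dvd_gcd h1 dvd_rfl)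
  set a' := a / p ^ a.factorization p with ha'
  set b' := b / p ^ b.factorization p with hb'
  -- degrees below and above
  have hover : ∀ {χ : G → ℂ} {θ : H → ℂ}, IsIrrCharacter G χ → IsIrrCharacter H θ →
      classInner (fun n : H => χ n) θ ≠ 0 →
      charDegree θ = charDegree χ / p ^ (charDegree χ).factorization p := by
    intro χ θ hχ hθ hc
    obtain ⟨e, he, hed⟩ := degree_ratio_dvd hχ hθ hc
    rw [(charDegree_spec' hχ).1, (charDegree_spec' hθ).1, ← Nat.cast_mul, Nat.cast_inj] at he
    rw [hk] at hed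
    obtain ⟨i, -, rfl⟩ := (Nat.dvd_prime_pow hp).mp hed
    have hθp : ¬ p ∣ charDegree θ := fun h =>
      hp.not_dvd_one (hHc ▸ Nat.dvd_gcd (h.trans (degree_dvd_card hθ)) dvd_rfl)
    rw [he, Nat.factorization_mul (pow_ne_zero _ hp.ne_zero) (charDegree_spec' hθ).2.ne', Finsupp.add_apply,
      Nat.factorization_pow, Finsupp.smul_apply, hp.factorization_self, Nat.factorization_eq_zero_of_not_dvd hθp,
      smul_eq_mul, mul_one, add_zero, Nat.mul_div_cancel_left _ (pow_pos hp.pos _)]
  have hH3 : DegreesIn H a' b' := by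
    intro θ hθ
    obtain ⟨χ, hχ, hc⟩ := exists_irr_above (G := G) hθ
    rw [hover hχ hθ hc]
    rcases H3 χ hχ with h | h | h
    · left; rw [h]; simp
    · right; left; rw [h]
    · right; right; rw [h]
  have hHsub : ∀ n, derivedSeries H n = ⊥ → (derivedSeries H n).map H.subtype = ⊥ := fun n h => by
    rw [h, Subgroup.map_bot]
  by_cases hboth : a' = 1 ∧ b' = 1
  · refine derivedSeries_three_of_monomial H3 ha hab ?_
    have : Group.IsNilpotent (G ⧸ H) := (IsPGroup.of_card (p := p) (n := k) hk).isNilpotent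
    obtain ⟨c, hc⟩ := nilpotent_iff_lowerCentralSeries.1 this
    have hle : (⊤ : Subgroup G).lowerCentralSeries c ≤ H := fun x hx => by
      refine (QuotientGroup.eq_one_iff x).1 ?_
      have hx' := Subgroup.mem_map_of_mem (QuotientGroup.mk' H) hx
      rw [Subgroup.map_lowerCentralSeries, Subgroup.map_top_of_surjective _ (QuotientGroup.mk'_surjective H), hc] at hx'
      exact Subgroup.mem_bot.1 hx'
    have hcomm : ∀ x y : H, x * y = y * x := by
      refine commutative_iff_degree_one.2 fun θ => ?_
      rw [(charDegree_spec' θ.2).1, Nat.cast_eq_one]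
      rcases hH3 θ θ.2 with h | h | h <;> omega
    exact ⟨c, fun x hx y hy => congrArg Subtype.val (hcomm ⟨x, hle hx⟩ ⟨y, hle hy⟩)⟩
  -- the quotient by the derived subgroup of the complement
  haveI hN : (⁅H, H⁆ : Subgroup G).Normal := Subgroup.commutator_normal H H
  have hQdeg : ∀ χ : G → ℂ, IsIrrCharacter G χ → (∀ n ∈ ⁅H, H⁆, χ n = χ 1) →
      charDegree χ = 1 ∨ (charDegree χ = a ∧ a' = 1) ∨ (charDegree χ = b ∧ b' = 1) := by
    intro χ hχ hker
    have hres := isCharacter_restrict (isCharacter_of_irr hχ) H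
    obtain ⟨θ, hθ, hc⟩ := exists_constituent hres fun e => irr_ne_zero hχ (congrFun e 1)
    have hθ1 : charDegree θ = 1 := linear_of_kernel hθ fun x hx => by
      refine constituent_eq hres hθ hc ?_
      show χ x = χ ((1 : H) : G)
      exact hker x ((Subgroup.map_subtype_commutator H) ▸ Subgroup.mem_map_of_mem H.subtype hx)
    have := hover hχ hθ hc
    rw [hθ1] at this
    rcases H3 χ hχ with h | h | h
    · exact Or.inl h
    · exact Or.inr (Or.inl ⟨h, by rw [ha', ← h]; exact this.symm⟩)
    · exact Or.inr (Or.inr ⟨h, by rw [hb', ← h]; exact this.symm⟩)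
  have hkey : ∀ (Q : Prop) (i j : ℕ), derivedSeries (G ⧸ ⁅H, H⁆) i = ⊥ → derivedSeries H (1 + j) = ⊥ →
      i + j ≤ 3 → derivedSeries G 3 = ⊥ := by
    intro _ i j hi hj hij
    have h1 : derivedSeries G i ≤ (derivedSeries H 1).map H.subtype := by
      rw [derivedSeries_one, Subgroup.map_subtype_commutator]
      exact derived_le_of_quotient _ hi
    refine eq_bot_iff.mpr ((derivedSeries_antitone G hij).trans ((derived_shift H h1 j).trans ?_))
    rw [hHsub _ hj]
  by_cases ha1 : a' = 1
  · refine hkey True 2 1 (two _ a fun φ hφ => ?_) (two _ b' fun θ hθ => ?_) (by norm_num)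
    · obtain ⟨χ, hχ, hker, hd⟩ := quotient_degree _ hφ
      rcases hQdeg χ hχ hker with h | ⟨h, -⟩ | ⟨-, h⟩
      · exact Or.inl (hd ▸ h)
      · exact Or.inr (hd ▸ h)
      · exact absurd ⟨ha1, h⟩ hboth
    · rcases hH3 θ hθ with h | h | h
      · exact Or.inl h
      · exact Or.inl (h.trans ha1)
      · exact Or.inr h
  by_cases hb1 : b' = 1
  · refine hkey True 2 1 (two _ b fun φ hφ => ?_) (two _ a' fun θ hθ => ?_) (by norm_num)
    · obtain ⟨χ, hχ, hker, hd⟩ := quotient_degree _ hφ
      rcases hQdeg χ hχ hker with h | ⟨-, h⟩ | ⟨h, -⟩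
      · exact Or.inl (hd ▸ h)
      · exact absurd h ha1
      · exact Or.inr (hd ▸ h)
    · rcases hH3 θ hθ with h | h | h
      · exact Or.inl h
      · exact Or.inr h
      · exact Or.inl (h.trans hb1)
  refine hkey True 1 2 ?_ (IH H hHne a' b' hH3) (by norm_num)
  rw [derivedSeries_one, commutator_def, Subgroup.commutator_eq_bot_iff_le_centralizer]
  intro x _
  rw [Subgroup.mem_centralizer_iff]
  intro y _
  haveI := Fintype.ofFinite (G ⧸ (⁅H, H⁆ : Subgroup G))
  refine commutative_iff_degree_one.mpr (fun φ : IrrCharacter (G ⧸ (⁅H, H⁆ : Subgroup G)) => ?_) y x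
  obtain ⟨χ, hχ, hker, hd⟩ := quotient_degree _ φ.2
  rw [(charDegree_spec' φ.2).1, Nat.cast_eq_one, ← hd]
  rcases hQdeg χ hχ hker with h | ⟨-, h⟩ | ⟨-, h⟩
  · exact h
  · exact absurd h ha1
  · exact absurd h hb1

/-- The coprime step. -/
theorem coprime_step [Finite G] {a b : ℕ} (H3 : DegreesIn G a b) (ha : 1 < a) (hab : a < b)
    (hco : a.Coprime b) (hA : ∃ χ, IsIrrCharacter G χ ∧ charDegree χ = a)
    (hB : ∃ ψ, IsIrrCharacter G ψ ∧ charDegree ψ = b) : derivedSeries G 3 = ⊥ := by
  classical
  have := Fintype.ofFinite G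
  set D2 := derivedSeries G 2
  haveI : D2.Normal := derivedSeries_normal G 2
  by_cases hperf : commutator G ≤ D2
  · exact (not_perfect H3 ha hab hco hA hB two hperf).elim
  set π := QuotientGroup.mk' D2 with hπ
  have hπs : Function.Surjective π := QuotientGroup.mk'_surjective D2
  have hQ2 : derivedSeries (G ⧸ D2) 2 = ⊥ := by
    rw [← map_derivedSeries_eq hπs 2, QuotientGroup.map_mk'_self]
  haveI : Group.IsSolvable (G ⧸ D2) := (Group.isSolvable_def _).mpr ⟨2, hQ2⟩
  have hQna : commutator (G ⧸ D2) ≠ ⊥ := by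
    intro h
    exact hperf (by rw [← derivedSeries_one]; exact derived_le_of_quotient D2 (by rwa [derivedSeries_one]))
  obtain ⟨K', hK', hcase⟩ := minimal_nonabelian_quotient hQna
  haveI := hK'
  have hidx : ∀ S : Subgroup (G ⧸ D2), (S.comap π).index = S.index :=
    fun S => Subgroup.index_comap_of_surjective S hπs
  rcases hcase with ⟨p, hp, hpg, β, hβ, hβK, hpβ⟩ |
    ⟨N', hN', hKN, hGN, q, hq, hcomm, hexp, hqi, hNK, hNi, hfp⟩
  · exfalso
    haveI := Fact.mk hp
    set K := K'.comap π
    have hpgK : IsPGroup p (G ⧸ K) := by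
      obtain ⟨j, hj⟩ := IsPGroup.iff_card.mp hpg
      exact IsPGroup.of_card (n := j) (by rw [← Subgroup.index_eq_card, hidx, Subgroup.index_eq_card, hj])
    have hβ' := isIrrCharacter_comp_surjective hβ π hπs
    have hβd : charDegree (fun x => β (π x)) = charDegree β := by simp [charDegree]
    have hβker : ∀ k ∈ K, (fun x => β (π x)) k = (fun x => β (π x)) 1 := fun k hk => by
      simp only [map_one]; exact hβK _ hk
    have hbad : ∀ x y : ℕ, 1 < x → 1 < y → x.Coprime y → charDegree β = x →
        (∃ χ, IsIrrCharacter G χ ∧ charDegree χ = y) →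
        (∀ χ : G → ℂ, IsIrrCharacter G χ → charDegree χ = 1 ∨ charDegree χ = x ∨ charDegree χ = y) → False := by
      intro x y hx hy hxy hβx ⟨χ, hχ, hχy⟩ hdeg
      rcases exists_degree_mul_of_pQuotient hp K hpgK hβ' hβker hχ with h | ⟨ψ, hψ, hd⟩
      · exact hp.not_dvd_one (hxy ▸ Nat.dvd_gcd (hβx ▸ hpβ) (hχy ▸ h))
      · rw [hβd, hβx, hχy] at hd
        have hxy1 : x < x * y := lt_mul_of_one_lt_right (by omega) hy
        have hxy2 : y < x * y := lt_mul_of_one_lt_left (by omega) hx
        rcases hdeg ψ hψ with h | h | h <;> omega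
    rcases H3 _ hβ' with h | h | h <;> rw [hβd] at h
    · exact hp.not_dvd_one (h ▸ hpβ)
    · exact hbad a b ha (by omega) hco h hB H3
    · exact hbad b a (by omega) ha hco.symm h hA fun χ hχ => (H3 χ hχ).imp id Or.symm
  · haveI := hN'
    set K := K'.comap π
    set M := N'.comap π
    haveI := Fintype.ofFinite M
    have hcomm' : ∀ x ∈ M, ∀ y ∈ M, x * y * x⁻¹ * y⁻¹ ∈ K := fun x hx y hy => by
      have := hcomm _ hx _ hy
      simpa [K, Subgroup.mem_comap] using this
    have hexp' : ∀ x ∈ M, x ^ q ∈ K := fun x hx => by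
      have := hexp _ hx
      simpa [K, Subgroup.mem_comap] using this
    have hNK' : ¬ M ≤ K := fun h => hNK ((Subgroup.comap_le_comap_of_surjective hπs).mp h)
    have hfp' : ∀ t, t ∉ M → ∀ n ∈ M, t * n * t⁻¹ * n⁻¹ ∈ K → n ∈ K := fun t ht n hn hc => by
      refine hfp (π t) ht (π n) hn ?_
      simpa [K, Subgroup.mem_comap] using hc
    have hup : ∀ {θ : M → ℂ}, IsIrrCharacter M θ → ¬ q ∣ charDegree θ →
        ∃ χ : G → ℂ, IsIrrCharacter G χ ∧ charDegree χ = M.index * charDegree θ :=
      fun hθ hqd => exists_degree_index_mul M K hq hcomm' hexp' hNK' hfp' hθ hqd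
    have hMi : 1 < M.index := by rw [hidx]; exact hNi
    have hqM : ¬ q ∣ M.index := by rw [hidx]; exact hqi
    have hderM : commutator G ≤ M := by
      intro x hx
      refine hGN ?_
      rw [← derivedSeries_one] at hx ⊢
      exact map_derivedSeries_le_derivedSeries π 1 (Subgroup.mem_map_of_mem _ hx)
    -- the index of `M` is one of the degrees
    obtain ⟨χ₁, hχ₁, hd₁⟩ := hup (θ := fun _ => 1) isIrrCharacter_one (by simp [charDegree, hq.ne_one])
    have hd₁' : charDegree χ₁ = M.index := by simpa [charDegree] using hd₁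
    have hmain : ∀ x y : ℕ, 1 < x → 1 < y → x.Coprime y → M.index = x →
        (∀ χ : G → ℂ, IsIrrCharacter G χ → charDegree χ = 1 ∨ charDegree χ = x ∨ charDegree χ = y) →
        derivedSeries G 3 = ⊥ := by
      intro x y hx hy hxy hMx hdeg
      have hM2 : derivedSeries M 2 = ⊥ := two _ y fun θ hθ => by
        obtain ⟨χ, hχ, hc⟩ := exists_irr_above (G := G) hθ
        obtain ⟨e, he, hed⟩ := degree_ratio_dvd hχ hθ hc
        rw [(charDegree_spec' hχ).1, (charDegree_spec' hθ).1, ← Nat.cast_mul, Nat.cast_inj] at he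
        rw [hMx] at hed
        rcases hdeg χ hχ with h | h | h <;> rw [h] at he
        · exact Or.inl (Nat.eq_one_of_mul_eq_one_left he.symm)
        · left
          have hθx : charDegree θ ∣ x := he ▸ dvd_mul_left _ _
          obtain ⟨χ', hχ', hd'⟩ := hup hθ fun hqd => hqM (hMx ▸ hqd.trans hθx)
          rw [hMx] at hd'
          rcases hdeg χ' hχ' with h' | h' | h' <;> rw [h'] at hd'
          · exact Nat.eq_one_of_mul_eq_one_left hd'.symm
          · exact (mul_eq_left₀ (by omega)).mp hd'.symm
          · exfalso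
            have hxdy : x ∣ y := hd' ▸ dvd_mul_right _ _
            have := Nat.eq_one_of_dvd_coprimes hxy dvd_rfl hxdy
            omega
        · right
          have hey : e ∣ y := he ▸ dvd_mul_right _ _
          rw [Nat.eq_one_of_dvd_coprimes hxy hed hey, one_mul] at he
          exact he.symm
      have h1 : derivedSeries G 1 ≤ (derivedSeries M 0).map M.subtype := by
        rw [derivedSeries_zero, ← MonoidHom.range_eq_map, Subgroup.range_subtype, derivedSeries_one]
        exact hderM
      refine eq_bot_iff.mpr ((derived_shift M h1 2).trans ?_)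
      rw [hM2, Subgroup.map_bot]
    rcases H3 χ₁ hχ₁ with h | h | h <;> rw [hd₁'] at h
    · omega
    · exact hmain a b ha (by omega) hco h H3
    · exact hmain b a (by omega) ha hco.symm h fun χ hχ => (H3 χ hχ).imp id Or.symm

/-- Degrees in `{1, a, b}` force derived length at most three. -/
theorem derivedSeries_three : ∀ (n : ℕ) (G : Type u) [Group G] [Finite G], Nat.card G ≤ n →
    ∀ a b : ℕ, DegreesIn G a b → derivedSeries G 3 = ⊥ := by
  intro n
  induction n using Nat.strong_induction_on with
  | _ n ih =>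
  intro G _ _ hn a b H3
  have htwo : ∀ m, (∀ φ : G → ℂ, IsIrrCharacter G φ → charDegree φ = 1 ∨ charDegree φ = m) →
      derivedSeries G 3 = ⊥ := fun m hm =>
    eq_bot_iff.mpr ((derivedSeries_antitone G (by norm_num : 2 ≤ 3)).trans (two G m hm).le)
  have hmain : ∀ x y, x < y → DegreesIn G x y → derivedSeries G 3 = ⊥ := by
    intro x y hxy H
    by_cases hA : ∃ χ, IsIrrCharacter G χ ∧ charDegree χ = x
    swap
    · exact htwo y fun φ hφ => (H φ hφ).imp id fun h => h.resolve_left fun e => hA ⟨φ, hφ, e⟩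
    by_cases hB : ∃ χ, IsIrrCharacter G χ ∧ charDegree χ = y
    swap
    · exact htwo x fun φ hφ => (H φ hφ).imp id fun h => h.resolve_right fun e => hB ⟨φ, hφ, e⟩
    by_cases hx1 : x = 1
    · exact htwo y fun φ hφ => by rcases H φ hφ with h | h | h <;> omega
    obtain ⟨χ, hχ, hχx⟩ := hA
    have hx : 1 < x := by have := (charDegree_spec' hχ).2; omega
    by_cases hco : x.Coprime y
    · exact coprime_step H hx hxy hco ⟨χ, hχ, hχx⟩ hB
    obtain ⟨p, hp, hpx, hpy⟩ := Nat.Prime.not_coprime_iff_dvd.mp hco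
    refine common_prime H hx hxy ⟨χ, hχ, hχx⟩ hp hpx hpy fun K hK a' b' hK3 => ?_
    have hlt : Nat.card K < n := lt_of_lt_of_le
      (lt_of_le_of_ne (Subgroup.card_le_card_group K) fun e => hK (K.eq_top_of_card_eq e)) hn
    exact ih _ hlt K le_rfl a' b' hK3
  rcases lt_trichotomy a b with h | h | h
  · exact hmain a b h H3
  · exact htwo a fun φ hφ => by rcases H3 φ hφ with e | e | e <;> omega
  · exact hmain b a h fun χ hχ => (H3 χ hχ).imp id Or.symm

end CfsgLib.CharTheory.ThreeDegrees
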