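/-
The splitting of a permutation character along an abelian group commuting with the action, and the
Weil characters of SL(n, q).
-/
import Cfsg.Agent.Lib.CharTheory.Irr
import Cfsg.Agent.Lib.CharTheory.Induced
import Cfsg.Agent.Lib.CharTheory.Linear
import Cfsg.Agent.S0190
import Cfsg.Agent.Lib.PSLn.Extend

namespace CfsgLib.TorusSplit

open Cfsg CfsgLib.CharTheory ComplexConjugate
set_option linter.unusedSectionVars false

universe u

variable {G : Type u} [Group G] [Fintype G] {Ω : Type*} [Fintype Ω] [MulAction G Ω]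
  [MulAction.IsPretransitive G Ω] {P : Subgroup G} {Γ : Type*} [CommGroup Γ] [Fintype Γ] (μ : P →* Γ)

theorem irr_apply_one (θ : IrrCharacter Γ) : (θ : Γ → ℂ) 1 = 1 :=
  degree_one_of_commutative mul_comm θ.2

theorem sum_irr_apply [DecidableEq Γ] (γ : Γ) :
    ∑ θ : IrrCharacter Γ, (θ : Γ → ℂ) γ = if γ = 1 then (Fintype.card Γ : ℂ) else 0 := by
  classical
  have h := sum_irr_mul_conj γ (1 : Γ)
  simp only [irr_apply_one, map_one, mul_one] at h
  rw [h]
  by_cases hγ : γ = 1
  · subst hγ
    rw [if_pos (IsConj.refl 1), if_pos rfl]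
    have : Subgroup.centralizer ({1} : Set Γ) = ⊤ :=
      eq_top_iff.mpr fun z _ => Subgroup.mem_centralizer_singleton_iff.mpr (mul_comm _ _)
    rw [this, Subgroup.card_top, Nat.card_eq_fintype_card]
  · rw [if_neg hγ, if_neg]
    intro hc
    exact hγ ((isConj_iff_eq).mp hc)

/-- The character induced from a linear character of the acting torus. -/
noncomputable def piece (θ : IrrCharacter Γ) : G → ℂ := indFun P (fun p => (θ : Γ → ℂ) (μ p))

theorem isCharacter_piece (θ : IrrCharacter Γ) : IsCharacter G (piece μ θ) :=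
  isCharacter_indFun P (isCharacter_comp (isCharacter_of_irr θ.2) μ)

theorem sum_piece (x : Ω) (hker : ∀ p : P, μ p = 1 ↔ (p : G) • x = x)
    (hS : MulAction.stabilizer G x ≤ P) (hsurj : Function.Surjective μ) (g : G) :
    ∑ θ : IrrCharacter Γ, piece μ θ g = (Nat.card (MulAction.fixedBy Ω g) : ℂ) := by
  classical
  have h0 := congrFun (Cfsg.Agent.S0190.result (G := G) Ω x) g
  have hcard : (Nat.card P : ℂ) = (Fintype.card Γ : ℂ) * Nat.card (MulAction.stabilizer G x) := by
    have h1 := Subgroup.card_mul_index μ.ker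
    rw [Subgroup.index_ker, MonoidHom.range_eq_top.mpr hsurj, Subgroup.card_top] at h1
    have h2 : Nat.card μ.ker = Nat.card (MulAction.stabilizer G x) :=
      Nat.card_congr
        { toFun := fun p => ⟨(p.1 : G), (hker p.1).mp (MonoidHom.mem_ker.mp p.2)⟩
          invFun := fun s => ⟨⟨s.1, hS s.2⟩, MonoidHom.mem_ker.mpr ((hker _).mpr s.2)⟩
          left_inv := fun p => rfl
          right_inv := fun s => rfl }
    rw [← h1, h2, Nat.card_eq_fintype_card (α := Γ), Nat.cast_mul, mul_comm]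
  have hext : ∀ z : G, ∑ θ : IrrCharacter Γ, extendByZero P (fun p => (θ : Γ → ℂ) (μ p)) z =
      (Fintype.card Γ : ℂ) * extendByZero (MulAction.stabilizer G x) (fun _ => (1 : ℂ)) z := by
    intro z
    by_cases hz : z ∈ P
    · simp only [extendByZero_of_mem _ _ hz, sum_irr_apply]
      by_cases hzS : z ∈ MulAction.stabilizer G x
      · rw [if_pos ((hker ⟨z, hz⟩).mpr hzS), extendByZero_of_mem _ _ hzS, mul_one]
      · rw [if_neg (fun e => hzS ((hker ⟨z, hz⟩).mp e)), extendByZero_of_not_mem _ _ hzS, mul_zero]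
    · rw [Finset.sum_eq_zero (fun θ _ => extendByZero_of_not_mem P _ hz),
        extendByZero_of_not_mem _ _ (fun h => hz (hS h)), mul_zero]
  have hne : (Fintype.card Γ : ℂ) ≠ 0 := Nat.cast_ne_zero.mpr Fintype.card_ne_zero
  rw [h0]
  simp only [piece, indFun]
  rw [← Finset.mul_sum, Finset.sum_comm]
  simp only [hext, ← Finset.mul_sum, hcard]
  field_simp

theorem classInner_fix_self :
    classInner (fun g : G => (Nat.card (MulAction.fixedBy Ω g) : ℂ)) (fun g => (Nat.card (MulAction.fixedBy Ω g) : ℂ)) =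
      (Nat.card (MulAction.orbitRel.Quotient G (Ω × Ω)) : ℂ) := by
  classical
  have hb := MulAction.sum_card_fixedBy_eq_card_orbits_mul_card_group G (Ω × Ω)
  have he : ∀ g : G, Fintype.card (MulAction.fixedBy (Ω × Ω) g) =
      Nat.card (MulAction.fixedBy Ω g) * Nat.card (MulAction.fixedBy Ω g) := by
    intro g
    rw [← Nat.card_prod, ← Nat.card_eq_fintype_card]
    exact Nat.card_congr
      { toFun := fun p => (⟨p.1.1, congrArg Prod.fst p.2⟩, ⟨p.1.2, congrArg Prod.snd p.2⟩)
        invFun := fun p => ⟨(p.1.1, p.2.1), Prod.ext p.1.2 p.2.2⟩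
        left_inv := fun p => rfl
        right_inv := fun p => rfl }
  simp only [he] at hb
  simp only [classInner, map_natCast, ← Nat.cast_mul]
  rw [← Nat.cast_sum, hb, Nat.cast_mul, Nat.card_eq_fintype_card (α := G),
    Nat.card_eq_fintype_card (α := MulAction.orbitRel.Quotient G (Ω × Ω))]
  have hG : (Fintype.card G : ℂ) ≠ 0 := Nat.cast_ne_zero.mpr Fintype.card_ne_zero
  field_simp

/-- The pieces split the permutation character into irreducible characters. -/
theorem exists_split (x : Ω) (hker : ∀ p : P, μ p = 1 ↔ (p : G) • x = x)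
    (hS : MulAction.stabilizer G x ≤ P) (hsurj : Function.Surjective μ) (hP : P ≠ ⊤)
    (horb : Nat.card (MulAction.orbitRel.Quotient G (Ω × Ω)) ≤ Fintype.card Γ + 1) :
    ∃ χ : IrrCharacter Γ → G → ℂ, (∀ θ, IsIrrCharacter G (χ θ)) ∧ Function.Injective χ ∧
      ∀ g : G, (Nat.card (MulAction.fixedBy Ω g) : ℂ) = 1 + ∑ θ, χ θ g := by
  classical
  let θ₁ : IrrCharacter Γ := ⟨fun _ => 1, isIrrCharacter_of_degree_one isCharacter_one rfl⟩
  have one_char : IsCharacter G (fun _ : G => (1 : ℂ)) := isCharacter_one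
  let χ : IrrCharacter Γ → G → ℂ := fun θ =>
    if θ = θ₁ then piece μ θ - (fun _ => 1) else piece μ θ
  have hgen : ∀ θ, IsGeneralizedCharacter G (χ θ) := by
    intro θ
    by_cases h : θ = θ₁
    · simp only [χ, if_pos h]; exact isGenChar_sub (isGenChar_of_char (isCharacter_piece μ θ)) (isGenChar_of_char one_char)
    · simp only [χ, if_neg h]; exact isGenChar_of_char (isCharacter_piece μ θ)
  have hone : ∀ θ, classInner (piece μ θ) (fun _ : G => (1 : ℂ)) = if θ = θ₁ then 1 else 0 := by
    intro θ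
    rw [piece, frobenius_reciprocity P _ isClassFunction_one]
    have hsum : classInner (fun p : P => (θ : Γ → ℂ) (μ p)) (fun _ => (1 : ℂ)) =
        classInner (θ : Γ → ℂ) (fun _ => (1 : ℂ)) := by
      simp only [classInner, map_one, mul_one]
      have h1 := Subgroup.card_mul_index μ.ker
      rw [Subgroup.index_ker, MonoidHom.range_eq_top.mpr hsurj, Subgroup.card_top] at h1
      have hfib : ∀ γ : Γ, (Finset.univ.filter fun p : P => μ p = γ).card = Nat.card μ.ker := by
        intro γ
        obtain ⟨p₀, hp₀⟩ := hsurj γ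
        rw [← Fintype.card_subtype, ← Nat.card_eq_fintype_card]
        exact Nat.card_congr
          { toFun := fun p => ⟨p₀⁻¹ * p.1, by rw [MonoidHom.mem_ker, map_mul, map_inv, hp₀, p.2, inv_mul_cancel]⟩
            invFun := fun k => ⟨p₀ * k.1, by rw [map_mul, MonoidHom.mem_ker.mp k.2, hp₀, mul_one]⟩
            left_inv := fun p => Subtype.ext (mul_inv_cancel_left _ _)
            right_inv := fun k => Subtype.ext (inv_mul_cancel_left _ _) }
      rw [← Finset.sum_fiberwise (s := Finset.univ) (g := fun p : P => μ p)]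
      rw [Finset.sum_congr rfl (fun γ _ => Finset.sum_congr rfl (fun p hp => by
        rw [(Finset.mem_filter.mp hp).2]))]
      simp only [Finset.sum_const, hfib, nsmul_eq_mul, ← Finset.mul_sum]
      rw [← h1, Nat.cast_mul]
      have hk : (Nat.card μ.ker : ℂ) ≠ 0 := Nat.cast_ne_zero.mpr Nat.card_pos.ne'
      have hΓ : (Nat.card Γ : ℂ) ≠ 0 := Nat.cast_ne_zero.mpr Nat.card_pos.ne'
      field_simp
    rw [hsum]
    by_cases h : θ = θ₁
    · rw [if_pos h, h]; exact classInner_irr_self θ₁.2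
    · rw [if_neg h]; exact classInner_irr_ne θ.2 θ₁.2 (fun e => h (Subtype.ext e))
  have honeone : classInner (fun _ : G => (1 : ℂ)) (fun _ => 1) = 1 :=
    classInner_irr_self (isIrrCharacter_of_degree_one one_char rfl)
  have hone' : ∀ θ, classInner (fun _ : G => (1 : ℂ)) (piece μ θ) = if θ = θ₁ then 1 else 0 := by
    intro θ
    rw [← classInner_comm, hone]
    split_ifs <;> simp
  have hsum : ∀ g, (Nat.card (MulAction.fixedBy Ω g) : ℂ) = 1 + ∑ θ, χ θ g := by
    intro g
    rw [← sum_piece μ x hker hS hsurj g]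
    have : ∀ θ, χ θ g = piece μ θ g - if θ = θ₁ then 1 else 0 := by
      intro θ
      by_cases h : θ = θ₁ <;> simp [χ, h]
    simp only [this, Finset.sum_sub_distrib, Finset.sum_ite_eq', Finset.mem_univ, if_true]
    ring
  have hperp : ∀ θ, classInner (χ θ) (fun _ : G => (1 : ℂ)) = 0 := by
    intro θ
    by_cases h : θ = θ₁
    · simp only [χ, if_pos h, classInner_sub_left, hone, honeone, sub_self]
    · simp only [χ, if_neg h, hone]
  have hpos : ∀ θ, 0 < (χ θ 1).re := by
    intro θ
    have hd : piece μ θ 1 = (P.index : ℂ) := by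
      rw [piece, indFun_apply_one, map_one, irr_apply_one, mul_one]
    have hidx : 2 ≤ P.index := by
      have h0 : P.index ≠ 0 := Subgroup.index_ne_zero_of_finite
      have h1 : P.index ≠ 1 := fun e => hP (Subgroup.index_eq_one.mp e)
      omega
    by_cases h : θ = θ₁
    · simp only [χ, if_pos h, Pi.sub_apply, hd]
      have : (2 : ℝ) ≤ P.index := by exact_mod_cast hidx
      simp
      linarith
    · simp only [χ, if_neg h, hd, Complex.natCast_re]
      exact_mod_cast (by omega : 0 < P.index)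
  have hint : ∀ θ θ', ∃ c : ℕ, classInner (χ θ) (χ θ') = c ∧ (θ = θ' → 1 ≤ c) := by
    intro θ θ'
    by_cases hd : θ = θ'
    · subst hd
      obtain ⟨c, hθ, -, hsq⟩ := classInner_self_eq_sum_sq (hgen θ)
      have hnn : 0 ≤ ∑ ψ, c ψ ^ 2 := Finset.sum_nonneg fun _ _ => sq_nonneg _
      refine ⟨(∑ ψ, c ψ ^ 2).toNat, ?_, fun _ => ?_⟩
      · rw [hsq, ← Int.cast_natCast, Int.toNat_of_nonneg hnn]
      · have hne : ∑ ψ, c ψ ^ 2 ≠ 0 := by
          intro e
          have hz : ∀ ψ, c ψ = 0 := fun ψ =>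
            pow_eq_zero_iff two_ne_zero |>.mp ((Finset.sum_eq_zero_iff_of_nonneg fun _ _ => sq_nonneg _).mp e ψ (Finset.mem_univ _))
          have := hpos θ
          rw [hθ] at this
          simp [hz] at this
        omega
    · by_cases h : θ = θ₁
      · have h' : θ' ≠ θ₁ := fun e => hd (h.trans e.symm)
        obtain ⟨n, hn⟩ := classInner_char_nat (isCharacter_piece μ θ) (isCharacter_piece μ θ')
        exact ⟨n, by simp only [χ, if_pos h, if_neg h', classInner_sub_left, hone', hn, sub_zero], fun e => absurd e hd⟩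
      · by_cases h' : θ' = θ₁
        · obtain ⟨n, hn⟩ := classInner_char_nat (isCharacter_piece μ θ) (isCharacter_piece μ θ')
          exact ⟨n, by simp only [χ, if_neg h, if_pos h', classInner_sub_right, hone, hn, sub_zero], fun e => absurd e hd⟩
        · obtain ⟨n, hn⟩ := classInner_char_nat (isCharacter_piece μ θ) (isCharacter_piece μ θ')
          exact ⟨n, by simp only [χ, if_neg h, if_neg h', hn], fun e => absurd e hd⟩
  choose c hc hc1 using hint
  have hperp' : ∀ θ, classInner (fun _ : G => (1 : ℂ)) (χ θ) = 0 := fun θ => by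
    rw [← classInner_comm, hperp, map_zero]
  have htotal : classInner (fun g : G => (Nat.card (MulAction.fixedBy Ω g) : ℂ))
      (fun g => (Nat.card (MulAction.fixedBy Ω g) : ℂ)) = ((1 + ∑ θ, ∑ θ', c θ θ' : ℕ) : ℂ) := by
    have hπ : (fun g : G => (Nat.card (MulAction.fixedBy Ω g) : ℂ)) = (fun _ => (1 : ℂ)) + ∑ θ, χ θ := by
      funext g
      rw [hsum g, Pi.add_apply, Finset.sum_apply]
    rw [hπ]
    simp only [classInner_add_left, classInner_add_right, classInner_sum_left, classInner_sum_right,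
      honeone, hperp, hperp', Finset.sum_const_zero, add_zero, zero_add, hc]
    push_cast
    rw [Finset.sum_comm]
  rw [classInner_fix_self, Nat.cast_inj] at htotal
  have hcardθ : Fintype.card (IrrCharacter Γ) = Fintype.card Γ := by
    have h := sum_irr_apply (Γ := Γ) 1
    simp only [irr_apply_one, if_pos, Finset.sum_const, Finset.card_univ, nsmul_eq_mul, mul_one] at h
    exact_mod_cast h
  have hle : ∀ θ, (1 : ℕ) ≤ ∑ θ', c θ θ' := fun θ =>
    (hc1 θ θ rfl).trans (Finset.single_le_sum (fun _ _ => Nat.zero_le _) (Finset.mem_univ θ))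
  have heq : ∀ θ, ∑ θ', c θ θ' = 1 := by
    by_contra hcon
    push Not at hcon
    obtain ⟨θ, hθ⟩ := hcon
    have : ∑ θ' : IrrCharacter Γ, 1 < ∑ θ', ∑ θ'', c θ' θ'' :=
      Finset.sum_lt_sum (fun i _ => hle i) ⟨θ, Finset.mem_univ _, by have := hle θ; omega⟩
    rw [Finset.sum_const, Finset.card_univ, hcardθ, smul_eq_mul, mul_one] at this
    omega
  have hdiag : ∀ θ, c θ θ = 1 := fun θ => le_antisymm
    ((Finset.single_le_sum (fun _ _ => Nat.zero_le _) (Finset.mem_univ θ)).trans_eq (heq θ)) (hc1 θ θ rfl)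
  refine ⟨χ, fun θ => irr_of_norm_one (hgen θ) (by rw [hc, hdiag, Nat.cast_one]) (hpos θ), ?_, hsum⟩
  intro θ θ' he
  by_contra hne
  have h1 : c θ θ' = c θ θ := by exact_mod_cast (show (c θ θ' : ℂ) = c θ θ by rw [← hc, ← hc, he])
  have h2 : c θ θ + c θ θ' ≤ 1 := by
    rw [← Finset.sum_pair hne]
    exact (Finset.sum_le_sum_of_subset (Finset.subset_univ _)).trans_eq (heq θ)
  rw [h1, hdiag] at h2
  omega

section WeilSL

open Matrix

variable (F : Type*) [Field F] [Fintype F] [DecidableEq F] (n : ℕ)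

theorem coe_mul_mulVec {F : Type*} [CommRing F] {n : ℕ} (a b : SpecialLinearGroup (Fin n) F) (v : Fin n → F) :
    ((a * b : SpecialLinearGroup (Fin n) F) : Matrix (Fin n) (Fin n) F) *ᵥ v =
      (a : Matrix (Fin n) (Fin n) F) *ᵥ ((b : Matrix (Fin n) (Fin n) F) *ᵥ v) :=
  (Matrix.mulVec_mulVec _ _ _).symm

theorem coe_inv_mulVec {F : Type*} [CommRing F] {n : ℕ} (a : SpecialLinearGroup (Fin n) F) (v : Fin n → F) :
    ((a⁻¹ : SpecialLinearGroup (Fin n) F) : Matrix (Fin n) (Fin n) F) *ᵥ ((a : Matrix (Fin n) (Fin n) F) *ᵥ v) = v := by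
  rw [← coe_mul_mulVec, inv_mul_cancel]
  exact Matrix.one_mulVec v

/-- The nonzero vectors. -/
abbrev NZ : Type _ := {v : Fin n → F // v ≠ 0}

instance : MulAction (SpecialLinearGroup (Fin n) F) (NZ F n) where
  smul g v := ⟨((g : SpecialLinearGroup (Fin n) F) : Matrix (Fin n) (Fin n) F) *ᵥ v.1, fun h => v.2 (by
    have h2 := congrArg (fun w => ((g⁻¹ : SpecialLinearGroup (Fin n) F) : Matrix (Fin n) (Fin n) F) *ᵥ w) h
    simp only [coe_inv_mulVec, Matrix.mulVec_zero] at h2
    exact h2)⟩
  one_smul v := Subtype.ext (Matrix.one_mulVec v.1)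
  mul_smul g h v := Subtype.ext (Matrix.mulVec_mulVec v.1 (g : Matrix (Fin n) (Fin n) F) (h : Matrix (Fin n) (Fin n) F)).symm

theorem smul_val (g : SpecialLinearGroup (Fin n) F) (v : NZ F n) : (g • v).1 = (g : Matrix (Fin n) (Fin n) F) *ᵥ v.1 := rfl

variable {F n}

theorem exists_sl_pair (hn : 3 ≤ n) {v w : Fin n → F} (hind : LinearIndependent F ![v, w]) :
    ∃ g : SpecialLinearGroup (Fin n) F,
      (g : Matrix (Fin n) (Fin n) F) *ᵥ Pi.single ⟨0, by omega⟩ 1 = v ∧ (g : Matrix (Fin n) (Fin n) F) *ᵥ Pi.single ⟨1, by omega⟩ 1 = w := by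
  have hind0 : LinearIndependent F ![(Pi.single ⟨0, by omega⟩ 1 : Fin n → F), Pi.single ⟨1, by omega⟩ 1] := by
    rw [LinearIndependent.pair_iff]
    intro a b hab
    have e0 := congrFun hab ⟨0, by omega⟩
    have e1 := congrFun hab ⟨1, by omega⟩
    simp [Pi.single_apply, Fin.ext_iff] at e0 e1
    exact ⟨e0, e1⟩
  obtain ⟨M, hM⟩ := CfsgLib.PSLn.exists_GL_mulVec hind0 hind
  have hd : M.1.det ≠ 0 := ((Matrix.isUnit_iff_isUnit_det _).mp M.isUnit).ne_zero
  let d : Fin n → F := Function.update 1 ⟨2, by omega⟩ M.1.det⁻¹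
  refine ⟨⟨M.1 * diagonal d, ?_⟩, ?_, ?_⟩
  · rw [det_mul, det_diagonal, Finset.prod_update_of_mem (Finset.mem_univ _)]
    simp [mul_inv_cancel₀ hd]
  · show (M.1 * diagonal d) *ᵥ _ = v
    rw [← Matrix.mulVec_mulVec, Matrix.diagonal_mulVec_single]
    simpa [d, Function.update_apply, Fin.ext_iff] using hM 0
  · show (M.1 * diagonal d) *ᵥ _ = w
    rw [← Matrix.mulVec_mulVec, Matrix.diagonal_mulVec_single]
    simpa [d, Function.update_apply, Fin.ext_iff] using hM 1

theorem exists_indep (hn : 3 ≤ n) {v : Fin n → F} (hv : v ≠ 0) : ∃ w, LinearIndependent F ![v, w] := by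
  obtain ⟨i, hi⟩ := Function.ne_iff.mp hv
  rw [Pi.zero_apply] at hi
  obtain ⟨j, hj⟩ : ∃ j : Fin n, j ≠ i := by
    rcases eq_or_ne i ⟨0, by omega⟩ with h | h
    · exact ⟨⟨1, by omega⟩, by simp [h, Fin.ext_iff]⟩
    · exact ⟨_, h.symm⟩
  refine ⟨Pi.single j 1, ?_⟩
  rw [LinearIndependent.pair_iff]
  intro a b hab
  have e1 := congrFun hab i
  simp [Pi.single_apply, hj.symm, hi] at e1
  subst e1
  have e2 := congrFun hab j
  simpa using e2

/-- The Weil characters of `SL(n, q)`. -/
theorem weil_split (hn : 3 ≤ n) :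
    ∃ χ : Fin (Fintype.card F - 1) → (SpecialLinearGroup (Fin n) F → ℂ),
      (∀ i, IsIrrCharacter (SpecialLinearGroup (Fin n) F) (χ i)) ∧ Function.Injective χ ∧
      ∀ g : SpecialLinearGroup (Fin n) F,
        (Nat.card {v : Fin n → F // v ≠ 0 ∧ (g : Matrix (Fin n) (Fin n) F) *ᵥ v = v} : ℂ) = 1 + ∑ i, χ i g := by
  classical
  set i₀ : Fin n := ⟨0, by omega⟩ with hi₀
  set i₁ : Fin n := ⟨1, by omega⟩ with hi₁
  let x : NZ F n := ⟨Pi.single i₀ 1, fun h => by simpa using congrFun h i₀⟩
  let y : NZ F n := ⟨Pi.single i₁ 1, fun h => by simpa using congrFun h i₁⟩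
  haveI : MulAction.IsPretransitive (SpecialLinearGroup (Fin n) F) (NZ F n) := by
    refine MulAction.isPretransitive_iff_orbit_eq_univ x |>.mpr (Set.eq_univ_of_forall fun v => ?_)
    obtain ⟨w, hw⟩ := exists_indep hn v.2
    obtain ⟨g, hg, -⟩ := exists_sl_pair hn hw
    exact ⟨g, Subtype.ext hg⟩
  let P : Subgroup (SpecialLinearGroup (Fin n) F) :=
    { carrier := {g : SpecialLinearGroup (Fin n) F | ∃ c : F, (g : Matrix (Fin n) (Fin n) F) *ᵥ x.1 = c • x.1}
      one_mem' := ⟨1, by simp⟩
      mul_mem' := by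
        rintro a b ⟨c, hc⟩ ⟨e, he⟩
        exact ⟨e * c, by rw [coe_mul_mulVec, he, Matrix.mulVec_smul, hc, smul_smul]⟩
      inv_mem' := by
        rintro a ⟨c, hc⟩
        have h : x.1 = c • (((a⁻¹ : SpecialLinearGroup (Fin n) F) : Matrix (Fin n) (Fin n) F) *ᵥ x.1) := by
          rw [← Matrix.mulVec_smul, ← hc, coe_inv_mulVec]
        have hc0 : c ≠ 0 := fun e => x.2 (by rw [h, e, zero_smul])
        exact ⟨c⁻¹, by rw [eq_inv_smul_iff₀ hc0]; exact h.symm⟩ }
  have hP : ∀ p : P, ((p : SpecialLinearGroup (Fin n) F) : Matrix (Fin n) (Fin n) F) *ᵥ x.1 =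
      (((p : SpecialLinearGroup (Fin n) F) : Matrix (Fin n) (Fin n) F) i₀ i₀) • x.1 := by
    rintro ⟨g, c, hc⟩
    have := congrFun hc i₀
    simp [x] at this
    rw [this]
    exact hc
  have hne : ∀ p : P, ((p : SpecialLinearGroup (Fin n) F) : Matrix (Fin n) (Fin n) F) i₀ i₀ ≠ 0 := fun p h => by
    have h1 := hP p
    rw [h, zero_smul] at h1
    exact ((p : SpecialLinearGroup (Fin n) F) • x).2 h1
  let μ : P →* Fˣ :=
    { toFun := fun p => Units.mk0 _ (hne p)
      map_one' := by ext; simp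
      map_mul' := fun p q => by
        ext
        have h := congrFun (hP (p * q)) i₀
        rw [Subgroup.coe_mul, coe_mul_mulVec, hP q, Matrix.mulVec_smul, hP p] at h
        simp [x] at h
        simp
        rw [← h]
        ring }
  have hker : ∀ p : P, μ p = 1 ↔ (p : SpecialLinearGroup (Fin n) F) • x = x := by
    intro p
    rw [Units.ext_iff]
    show ((p : SpecialLinearGroup (Fin n) F) : Matrix (Fin n) (Fin n) F) i₀ i₀ = 1 ↔ _
    constructor
    · intro h
      apply Subtype.ext
      rw [smul_val, hP p, h, one_smul]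
    · intro h
      have h1 := congrArg (fun v : NZ F n => v.1 i₀) h
      simp only [smul_val, hP p] at h1
      simpa [x] using h1
  have hS : MulAction.stabilizer (SpecialLinearGroup (Fin n) F) x ≤ P := by
    intro g hg
    exact ⟨1, by rw [one_smul]; exact congrArg Subtype.val (MulAction.mem_stabilizer_iff.mp hg)⟩
  have hsurj : Function.Surjective μ := by
    intro c
    have hind : LinearIndependent F ![(c : F) • x.1, y.1] := by
      rw [LinearIndependent.pair_iff]
      intro a b hab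
      have e0 := congrFun hab i₀
      have e1 := congrFun hab i₁
      simp [x, y, hi₀, hi₁, Pi.single_apply, Fin.ext_iff] at e0 e1
      exact ⟨e0, e1⟩
    obtain ⟨g, hg, -⟩ := exists_sl_pair hn hind
    refine ⟨⟨g, c, hg⟩, Units.ext ?_⟩
    have := congrFun hg i₀
    simpa [μ, x, hi₀] using this
  have hPtop : P ≠ ⊤ := by
    intro h
    have hind : LinearIndependent F ![y.1, x.1] := by
      rw [LinearIndependent.pair_iff]
      intro a b hab
      have e0 := congrFun hab i₀
      have e1 := congrFun hab i₁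
      simp [x, y, hi₀, hi₁, Pi.single_apply, Fin.ext_iff] at e0 e1
      exact ⟨e1, e0⟩
    obtain ⟨g, hg, -⟩ := exists_sl_pair hn hind
    obtain ⟨c, hc⟩ : g ∈ P := h ▸ Subgroup.mem_top g
    have := congrFun (hg.symm.trans hc) i₁
    simp [x, y, hi₀, hi₁, Pi.single_apply, Fin.ext_iff] at this
  have horb : Nat.card (MulAction.orbitRel.Quotient (SpecialLinearGroup (Fin n) F) (NZ F n × NZ F n)) ≤
      Fintype.card Fˣ + 1 := by
    let f : Option Fˣ → NZ F n × NZ F n := fun o => o.elim (x, y)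
      (fun c => (x, ⟨(c : F) • x.1, smul_ne_zero c.ne_zero x.2⟩))
    have hsur : Function.Surjective (fun o => (Quotient.mk'' (f o) :
        MulAction.orbitRel.Quotient (SpecialLinearGroup (Fin n) F) (NZ F n × NZ F n))) := by
      intro q
      obtain ⟨⟨v, w⟩, rfl⟩ := Quotient.exists_rep q
      by_cases hind : LinearIndependent F ![v.1, w.1]
      · obtain ⟨g, hg, hg'⟩ := exists_sl_pair hn hind
        exact ⟨none, Quotient.sound ⟨g⁻¹, by
          rw [inv_smul_eq_iff]
          exact Prod.ext (Subtype.ext hg.symm) (Subtype.ext hg'.symm)⟩⟩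
      · obtain ⟨c, hc⟩ : ∃ c : F, w.1 = c • v.1 := by
          rw [LinearIndependent.pair_iff' v.2] at hind
          push Not at hind
          obtain ⟨c, hc⟩ := hind
          exact ⟨c, hc.symm⟩
        have hc0 : c ≠ 0 := fun e => w.2 (by rw [hc, e, zero_smul])
        obtain ⟨g, hg⟩ := MulAction.exists_smul_eq (SpecialLinearGroup (Fin n) F) x v
        refine ⟨some (Units.mk0 c hc0), Quotient.sound ⟨g⁻¹, ?_⟩⟩
        rw [inv_smul_eq_iff]
        refine Prod.ext hg.symm (Subtype.ext ?_)
        show w.1 = (g : Matrix (Fin n) (Fin n) F) *ᵥ (c • x.1)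
        rw [hc, Matrix.mulVec_smul, ← hg, smul_val]
    have := Nat.card_le_card_of_surjective _ hsur
    simpa [Fintype.card_option] using this
  obtain ⟨χ, h1, h2, h3⟩ := exists_split μ x hker hS hsurj hPtop horb
  have hcard : Fintype.card (IrrCharacter Fˣ) = Fintype.card F - 1 := by
    have h := sum_irr_apply (Γ := Fˣ) 1
    simp only [irr_apply_one, if_pos, Finset.sum_const, Finset.card_univ, nsmul_eq_mul, mul_one] at h
    rw [← Fintype.card_units]
    exact_mod_cast h
  let e := (Fintype.equivFinOfCardEq hcard).symm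
  refine ⟨fun i => χ (e i), fun i => h1 _, h2.comp e.injective, fun g => ?_⟩
  rw [Equiv.sum_comp e (fun θ => χ θ g), ← h3 g]
  exact congrArg _ (Nat.card_congr
    { toFun := fun v => ⟨⟨v.1, v.2.1⟩, Subtype.ext v.2.2⟩
      invFun := fun v => ⟨v.1.1, v.1.2, congrArg Subtype.val v.2⟩
      left_inv := fun v => rfl
      right_inv := fun v => rfl })

end WeilSL

end CfsgLib.TorusSplit
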