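/-
Irreducible characters which are nonzero on exactly two classes.
-/
import Cfsg.Agent.Lib.CharTheory.More
import Cfsg.Agent.Lib.CharTheory.PowerMap
import Cfsg.Prelude.Def_Blocks

namespace CfsgLib.CharTheory

open scoped ComplexConjugate

set_option maxHeartbeats 400000

theorem two_class_facts {G : Type*} [Group G] [Finite G] (hG : 2 < Nat.card G) {χ : G → ℂ}
    (hirr : Cfsg.IsIrrCharacter G χ)
    (hχ : Nat.card {C : ConjClasses G // ∃ g ∈ C.carrier, χ g ≠ 0} = 2) :
    ∃ c : G, c ≠ 1 ∧ (∀ g, χ g ≠ 0 → g = 1 ∨ IsConj c g) ∧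
      (Nat.card {x : G // IsConj c x} : ℂ) * χ c = -χ 1 := by
  classical
  have := Fintype.ofFinite G
  have hcf := CfsgLib.CharTheory.isClassFunction_iff_isConj.mp
    (CfsgLib.CharTheory.isClassFunction_irr hirr)
  let one' : {C : ConjClasses G // ∃ g ∈ C.carrier, χ g ≠ 0} :=
    ⟨ConjClasses.mk 1, 1, ConjClasses.mem_carrier_mk, CfsgLib.CharTheory.irr_ne_zero hirr⟩
  haveI := Finite.one_lt_card_iff_nontrivial.mp (hχ ▸ one_lt_two)
  obtain ⟨⟨C, g, hg, hgne⟩, hCne⟩ := exists_ne one'
  have hgC : ConjClasses.mk g = C := ConjClasses.mem_carrier_iff_mk_eq.mp hg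
  have hg1 : g ≠ 1 := fun he => hCne (Subtype.ext (show C = ConjClasses.mk 1 from hgC.symm.trans (congrArg ConjClasses.mk he)))
  have hall : ∀ z, χ z ≠ 0 → z = 1 ∨ IsConj g z := by
    intro z hz
    by_contra hcon
    push Not at hcon
    let three : Finset {C : ConjClasses G // ∃ g ∈ C.carrier, χ g ≠ 0} :=
      {one', ⟨C, g, hg, hgne⟩, ⟨ConjClasses.mk z, z, ConjClasses.mem_carrier_mk, hz⟩}
    have h3 : three.card = 3 := by
      rw [Finset.card_eq_three]
      refine ⟨_, _, _, hCne.symm, fun he => hcon.1 ?_, fun he => hcon.2 ?_, rfl⟩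
      · exact isConj_one_right.mp (ConjClasses.mk_eq_mk_iff_isConj.mp (congrArg Subtype.val he))
      · exact ConjClasses.mk_eq_mk_iff_isConj.mp (hgC.trans (congrArg Subtype.val he))
    have := three.card_le_univ
    rw [h3, ← Nat.card_eq_fintype_card, hχ] at this
    omega
  have hnt : χ ≠ fun _ => 1 := by
    intro he
    have hsum : Nat.card G = 1 + Nat.card {x : G // IsConj g x} := by
      have hU : ({1} : Finset G) ∪ Finset.univ.filter (fun x => IsConj g x) = Finset.univ := by
        refine Finset.eq_univ_of_forall fun z => ?_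
        rcases hall z (by rw [he]; exact one_ne_zero) with rfl | h <;> simp_all
      rw [Nat.card_eq_fintype_card, ← Finset.card_univ, ← hU, Finset.card_union_of_disjoint,
        Finset.card_singleton, Nat.card_eq_fintype_card, Fintype.card_subtype]
      simp only [Finset.disjoint_singleton_left, Finset.mem_filter, Finset.mem_univ, true_and]
      exact fun h => hg1 (isConj_one_right.mp h.symm)
    have h1 := CfsgLib.CharTheory.card_isConj_mul_card_centralizer g
    set k := Nat.card {x : G // IsConj g x}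
    have hkd : k ∣ 1 := (Nat.dvd_add_left (dvd_refl k)).mp (hsum ▸ Dvd.intro _ h1)
    have := Nat.le_of_dvd one_pos hkd
    omega
  refine ⟨g, hg1, hall, ?_⟩
  have h0 := CfsgLib.CharTheory.classInner_irr_ne hirr CfsgLib.CharTheory.isIrrCharacter_one hnt
  simp only [Cfsg.classInner, map_one, mul_one, mul_eq_zero, inv_eq_zero, Nat.cast_eq_zero,
    Nat.card_pos.ne', false_or] at h0
  rw [← Finset.sum_subset (Finset.subset_univ (({1} : Finset G) ∪
    Finset.univ.filter fun x => IsConj g x)) fun z _ hz => ?_, Finset.sum_union ?_,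
    Finset.sum_singleton, Finset.sum_congr rfl fun z hz => (hcf g z (Finset.mem_filter.mp hz).2).symm,
    Finset.sum_const, nsmul_eq_mul, ← Fintype.card_subtype, ← Nat.card_eq_fintype_card] at h0
  · linear_combination h0
  · simp only [Finset.disjoint_singleton_left, Finset.mem_filter, Finset.mem_univ, true_and]
    exact fun h => hg1 (isConj_one_right.mp h.symm)
  · by_contra hne
    rcases hall z hne with rfl | h <;> simp_all

theorem two_class_faithful {G : Type*} [Group G] [Finite G] (hG : 2 < Nat.card G) {χ : G → ℂ}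
    (hirr : Cfsg.IsIrrCharacter G χ)
    (hχ : Nat.card {C : ConjClasses G // ∃ g ∈ C.carrier, χ g ≠ 0} = 2) :
    ∀ g : G, χ g = χ 1 → g = 1 := by
  have := Fintype.ofFinite G
  obtain ⟨c, hc1, hall, hval⟩ := two_class_facts hG hirr hχ
  intro g hg
  have h1 := CfsgLib.CharTheory.irr_ne_zero hirr
  rcases hall g (hg ▸ h1) with h | h
  · exact h
  · exfalso
    rw [CfsgLib.CharTheory.isClassFunction_iff_isConj.mp
      (CfsgLib.CharTheory.isClassFunction_irr hirr) c g h, hg] at hval
    have h2 : ((Nat.card {x : G // IsConj c x} + 1 : ℕ) : ℂ) * χ 1 = 0 := by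
      push_cast
      linear_combination hval
    exact (mul_eq_zero.mp h2).elim (fun e => absurd (Nat.cast_eq_zero.mp e) (Nat.succ_ne_zero _)) h1

/-- The other irreducible characters contain the support in their kernels. -/
theorem two_class_other {G : Type*} [Group G] [Finite G] {χ ψ : G → ℂ}
    (hirr : Cfsg.IsIrrCharacter G χ) (hψ : Cfsg.IsIrrCharacter G ψ) (hne : ψ ≠ χ) {c : G}
    (hc1 : c ≠ 1) (hall : ∀ g, χ g ≠ 0 → g = 1 ∨ IsConj c g)
    (hval : (Nat.card {x : G // IsConj c x} : ℂ) * χ c = -χ 1) : ψ c = ψ 1 := by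
  classical
  have := Fintype.ofFinite G
  have h0 := CfsgLib.CharTheory.classInner_irr_ne hψ hirr hne
  simp only [Cfsg.classInner, mul_eq_zero, inv_eq_zero, Nat.cast_eq_zero, Nat.card_pos.ne',
    false_or] at h0
  rw [← Finset.sum_subset (Finset.subset_univ (({1} : Finset G) ∪
    Finset.univ.filter fun x => IsConj c x)) fun z _ hz => ?_, Finset.sum_union ?_,
    Finset.sum_singleton, Finset.sum_congr rfl fun z hz => (congrArg₂ (fun a b => a * (starRingEnd ℂ) b)
      (CfsgLib.CharTheory.isClassFunction_iff_isConj.mp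
        (CfsgLib.CharTheory.isClassFunction_irr hψ) c z (Finset.mem_filter.mp hz).2).symm
      (CfsgLib.CharTheory.isClassFunction_iff_isConj.mp
        (CfsgLib.CharTheory.isClassFunction_irr hirr) c z (Finset.mem_filter.mp hz).2).symm),
    Finset.sum_const, nsmul_eq_mul, ← Fintype.card_subtype, ← Nat.card_eq_fintype_card] at h0
  · have h1 : (Nat.card {x : G // IsConj c x} : ℂ) * (starRingEnd ℂ) (χ c) =
        -(starRingEnd ℂ) (χ 1) := by
      have := congrArg (starRingEnd ℂ) hval
      simpa using this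
    have h2 : (ψ 1 - ψ c) * (starRingEnd ℂ) (χ 1) = 0 := by
      linear_combination h0 - ψ c * h1
    have h3 := (mul_eq_zero.mp h2).resolve_right
      ((map_ne_zero _).mpr (CfsgLib.CharTheory.irr_ne_zero hirr))
    exact (sub_eq_zero.mp h3).symm
  · simp only [Finset.disjoint_singleton_left, Finset.mem_filter, Finset.mem_univ, true_and]
    exact fun h => hc1 (isConj_one_right.mp h.symm)
  · by_contra hne'
    rcases hall z (fun hz0 => hne' (by rw [hz0, map_zero, mul_zero])) with rfl | h <;> simp_all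

/-- The support of a character nonzero on two classes is a normal subgroup, one class besides `1`. -/
theorem two_class_support {G : Type*} [Group G] [Finite G] (hG : 2 < Nat.card G) {χ : G → ℂ}
    (hirr : Cfsg.IsIrrCharacter G χ)
    (hχ : Nat.card {C : ConjClasses G // ∃ g ∈ C.carrier, χ g ≠ 0} = 2) :
    ∃ N : Subgroup G, N.Normal ∧ N ≠ ⊥ ∧ (∀ g, g ∈ N ↔ χ g ≠ 0) ∧
      (∀ x ∈ N, ∀ y ∈ N, x ≠ 1 → y ≠ 1 → IsConj x y) ∧
      (∀ x ∈ N, x ≠ 1 → ((Nat.card N - 1 : ℕ) : ℂ) * χ x = -χ 1 ∧
        Nat.card {z : G // IsConj x z} = Nat.card N - 1) := by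
  classical
  have := Fintype.ofFinite G
  obtain ⟨c, hc1, hall, hval⟩ := two_class_facts hG hirr hχ
  have hcf := isClassFunction_iff_isConj.mp (isClassFunction_irr hirr)
  have hχc : χ c ≠ 0 := fun h => irr_ne_zero hirr (by
    rw [h, mul_zero, zero_eq_neg] at hval; exact hval)
  have hsupp : ∀ g, χ g ≠ 0 ↔ g = 1 ∨ IsConj c g := fun g => ⟨hall g, by
    rintro (rfl | h)
    · exact irr_ne_zero hirr
    · rw [← hcf c g h]; exact hχc⟩
  let N : Subgroup G :=
    { carrier := {g | ∀ ψ : Cfsg.IrrCharacter G, (ψ : G → ℂ) ≠ χ → (ψ : G → ℂ) g = (ψ : G → ℂ) 1}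
      one_mem' := fun ψ _ => rfl
      mul_mem' := fun {a b} ha hb ψ hne => by
        have hk := isCharacter_of_irr ψ.2
        rw [← mem_charKernel hk]
        exact mul_mem ((mem_charKernel hk a).mpr (ha ψ hne)) ((mem_charKernel hk b).mpr (hb ψ hne))
      inv_mem' := fun {a} ha ψ hne => by
        have hk := isCharacter_of_irr ψ.2
        rw [← mem_charKernel hk]
        exact inv_mem ((mem_charKernel hk a).mpr (ha ψ hne)) }
  have hN : ∀ g, g ∈ N ↔ χ g ≠ 0 := by
    intro g
    constructor
    · intro hg h0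
      have hg1 : g ≠ 1 := fun h => irr_ne_zero hirr (h ▸ h0)
      let t : Cfsg.IrrCharacter G := ⟨χ, hirr⟩
      have h1 := sum_irr_apply_mul_degree g
      rw [if_neg hg1, ← Finset.add_sum_erase _ _ (Finset.mem_univ t), show (t : G → ℂ) g = 0 from h0,
        zero_mul, zero_add, Finset.sum_congr rfl fun ψ hψ => by
          rw [hg ψ (fun he => (Finset.mem_erase.mp hψ).1 (Subtype.ext he)), ← sq,
            (charDegree_spec' ψ.2).1, ← Nat.cast_pow],
        ← Nat.cast_sum, Nat.cast_eq_zero] at h1
      let o : Cfsg.IrrCharacter G := ⟨fun _ => 1, isIrrCharacter_one⟩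
      have ho : o ∈ Finset.univ.erase t := Finset.mem_erase.mpr ⟨fun he => by
        have := congrArg (fun z : Cfsg.IrrCharacter G => (z : G → ℂ) g) he
        simp only [o, t, h0] at this
        exact one_ne_zero this, Finset.mem_univ _⟩
      have := Finset.sum_eq_zero_iff.mp h1 o ho
      simp [o, Cfsg.charDegree] at this
    · intro hg ψ hne
      rcases hall g hg with rfl | h
      · rfl
      · rw [← isClassFunction_iff_isConj.mp (isClassFunction_irr ψ.2) c g h]
        exact two_class_other hirr ψ.2 hne hc1 hall hval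
  have hNone : ∀ x ∈ N, x ≠ 1 → IsConj c x := fun x hx h1 =>
    ((hsupp x).mp ((hN x).mp hx)).resolve_left h1
  refine ⟨N, ⟨fun n hn g => ?_⟩, fun h => ?_, hN,
    fun x hx y hy h1 h2 => (hNone x hx h1).symm.trans (hNone y hy h2), fun x hx h1 => ?_⟩
  · rw [hN] at hn ⊢
    rwa [isClassFunction_irr hirr n g]
  · exact hc1 (Subgroup.mem_bot.mp (h ▸ (hN c).mpr hχc))
  · have hcx := hNone x hx h1
    have hcl : Nat.card {z : G // IsConj x z} = Nat.card {z : G // IsConj c z} :=
      Nat.card_congr (Equiv.subtypeEquivRight fun z => ⟨hcx.trans, hcx.symm.trans⟩)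
    have hk : Nat.card {z : G // IsConj c z} + 1 = Nat.card N := by
      rw [Nat.card_eq_fintype_card, Nat.card_eq_fintype_card, Fintype.card_subtype,
        Fintype.card_subtype, ← Finset.card_insert_of_notMem (a := (1 : G))
          (by simpa using fun h : IsConj c 1 => hc1 (isConj_one_right.mp h.symm))]
      congr 1
      ext g
      simp only [Finset.mem_insert, Finset.mem_filter, Finset.mem_univ, true_and]
      exact ((hN g).trans (hsupp g)).symm
    rw [hcl, show Nat.card {z : G // IsConj c z} = Nat.card N - 1 by omega]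
    refine ⟨?_, rfl⟩
    rw [← hcf c x hcx, show Nat.card N - 1 = Nat.card {z : G // IsConj c z} by omega]
    exact hval

end CfsgLib.CharTheory
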