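/-
Auxiliary facts on groups with a character supported on two classes.
-/
import Mathlib

namespace CfsgLib.CharTheory.TwoClassAux

variable {G : Type*} [Group G] [Finite G] {p : ℕ} [hp : Fact p.Prime]

theorem normal_le_sylow (N : Subgroup G) [N.Normal] (hN : IsPGroup p N) (P : Sylow p G) :
    N ≤ (P : Subgroup G) := by
  have h : IsPGroup p ((P : Subgroup G) ⊔ N : Subgroup G) := P.isPGroup'.to_sup_of_normal_right hN
  exact le_sup_right.trans (P.is_maximal' h le_sup_left).le

theorem step (N : Subgroup G) [N.Normal] {P : Sylow p G} (hNP : N ≤ (P : Subgroup G)) {i : ℕ}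
    (hlt : Subgroup.upperCentralSeries ↥(P : Subgroup G) i < N.subgroupOf (P : Subgroup G))
    {x : ↥(P : Subgroup G)}
    (hx : x ∈ Subgroup.upperCentralSeries ↥(P : Subgroup G) (i + 1))
    (hxN : x ∉ N.subgroupOf (P : Subgroup G))
    (hc : Nat.card (Subgroup.centralizer ({(x : G)} : Set G)) =
      Nat.card (Subgroup.centralizer ({((x : G) : G ⧸ N)} : Set (G ⧸ N)))) : False := by
  set Z := Subgroup.upperCentralSeries ↥(P : Subgroup G) i with hZ
  set C := Subgroup.centralizer ({x} : Set ↥(P : Subgroup G)) with hC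
  have hidx : C.index ≤ Nat.card Z := by
    rw [Subgroup.index_eq_card]
    refine Nat.card_le_card_of_injective (fun q => (⟨q.out * x * q.out⁻¹ * x⁻¹, ?_⟩ : Z)) ?_
    · have h := (Subgroup.mem_upperCentralSeries_succ_iff (n := i) (x := x)).mp hx q.out
      have := Z.inv_mem h
      simpa [commutatorElement_def, mul_assoc] using this
    · intro a b h
      have h' : a.out * x * a.out⁻¹ * x⁻¹ = b.out * x * b.out⁻¹ * x⁻¹ := congrArg Subtype.val h
      have h2 : a.out * x * a.out⁻¹ = b.out * x * b.out⁻¹ := mul_right_cancel h'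
      rw [← Quotient.out_eq a, ← Quotient.out_eq b]
      refine QuotientGroup.eq.mpr (Subgroup.mem_centralizer_singleton_iff.mpr ?_)
      calc a.out⁻¹ * b.out * x = a.out⁻¹ * (b.out * x * b.out⁻¹) * b.out := by group
        _ = a.out⁻¹ * (a.out * x * a.out⁻¹) * b.out := by rw [h2]
        _ = x * (a.out⁻¹ * b.out) := by group
  have hd : Nat.card C * Nat.card N ∣ Nat.card G := by
    have h1 : Nat.card C ∣ Nat.card (Subgroup.centralizer ({(x : G)} : Set G)) := by
      refine Subgroup.card_dvd_of_injective
        (({ toFun := fun y => ⟨(y : ↥(P : Subgroup G)), Subgroup.mem_centralizer_singleton_iff.mpr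
              (congrArg Subtype.val (Subgroup.mem_centralizer_singleton_iff.mp y.2))⟩
            map_one' := rfl
            map_mul' := fun _ _ => rfl } : C →* Subgroup.centralizer ({(x : G)} : Set G))) ?_
      intro a b h
      exact Subtype.ext (Subtype.ext (congrArg Subtype.val h :))
    rw [Subgroup.card_eq_card_quotient_mul_card_subgroup N]
    exact Nat.mul_dvd_mul_right (h1.trans (hc ▸ Subgroup.card_subgroup_dvd_card _)) _
  have hlt' : Nat.card Z < Nat.card N := by
    rw [← Nat.card_congr (Subgroup.subgroupOfEquivOfLe hNP).toEquiv]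
    refine lt_of_le_of_ne (Nat.card_le_card_of_injective _ (Subgroup.inclusion_injective hlt.le)) ?_
    exact fun e => hlt.ne (Subgroup.eq_of_le_of_card_ge hlt.le e.ge)
  obtain ⟨a, ha⟩ := IsPGroup.iff_card.mp (P.isPGroup'.to_subgroup C)
  obtain ⟨b, hb⟩ := IsPGroup.iff_card.mp
    (show IsPGroup p N from P.isPGroup'.to_le hNP)
  rw [ha, hb, ← pow_add, hp.out.pow_dvd_iff_le_factorization Nat.card_pos.ne'] at hd
  have hPc := P.card_eq_multiplicity
  have hmul := C.card_mul_index
  have : p ^ a * p ^ b ≤ p ^ a * C.index := by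
    rw [← ha, hmul, hPc, ha, ← pow_add]
    exact Nat.pow_le_pow_right hp.out.pos hd
  have := Nat.le_of_mul_le_mul_left this (pow_pos hp.out.pos a)
  omega

theorem normal_of_center (N : Subgroup G) [N.Normal] (hNp : IsPGroup p N) (P : Sylow p G)
    (e : (Subgroup.center ↥(P : Subgroup G)).map (P : Subgroup G).subtype = N)
    (hc : ∀ x : G, x ∉ N → Nat.card (Subgroup.centralizer ({x} : Set G)) =
      Nat.card (Subgroup.centralizer ({(x : G ⧸ N)} : Set (G ⧸ N)))) :
    (P : Subgroup G).Normal := by
  classical
  rcases eq_or_ne N ⊥ with hN1 | hN1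
  · have hP : (P : Subgroup G) = ⊥ := by
      by_contra hne
      have : Nontrivial ↥(P : Subgroup G) := (Subgroup.nontrivial_iff_ne_bot _).mpr hne
      have := P.isPGroup'.center_nontrivial
      rw [hN1, Subgroup.map_eq_bot_iff_of_injective _ (P : Subgroup G).subtype_injective] at e
      exact (Subgroup.nontrivial_iff_ne_bot _).mp inferInstance e
    rw [hP]; infer_instance
  set K := Subgroup.centralizer (N : Set G) with hK
  have hKn : K.Normal := inferInstance
  have hPK : (P : Subgroup G) ≤ K := fun y hy => by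
    rw [hK, Subgroup.mem_centralizer_iff]
    intro n hn
    rw [← e] at hn
    obtain ⟨z, hz, rfl⟩ := hn
    exact (congrArg Subtype.val (Subgroup.mem_center_iff.mp hz ⟨y, hy⟩)).symm
  have hKp : IsPGroup p K := by
    rw [IsPGroup.iff_orderOf]
    rintro ⟨y, hy⟩
    rw [Subgroup.orderOf_mk]
    obtain ⟨a, m, hm, hord⟩ := Nat.exists_eq_pow_mul_and_not_dvd (orderOf_pos y).ne' p hp.out.ne_one
    refine ⟨a, ?_⟩
    by_contra hne
    set x := y ^ p ^ a with hxdef
    have hxo : orderOf x = m := by
      rw [hxdef, orderOf_pow' y (pow_ne_zero _ hp.out.ne_zero), hord, Nat.gcd_mul_right_left,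
        Nat.mul_div_cancel_left _ (pow_pos hp.out.pos a)]
    have hcop : ∀ n ∈ N, (orderOf x).Coprime (orderOf n) := fun n hn => by
      obtain ⟨j, hj⟩ := IsPGroup.iff_orderOf.mp hNp ⟨n, hn⟩
      rw [Subgroup.orderOf_mk] at hj
      rw [hxo, hj]
      exact ((hp.out.coprime_iff_not_dvd.mpr hm).pow_left j).symm
    have hxN : x ∉ N := fun h => by
      have := hcop x h
      rw [Nat.coprime_self, hxo] at this
      exact hne (by rw [hord, this, mul_one])
    have hxK : ∀ n ∈ N, Commute x n := fun n hn => by
      have h := Subgroup.mem_centralizer_iff.mp (K.pow_mem hy (p ^ a)) n hn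
      exact h.symm
    have hsurj : Subgroup.centralizer ({(x : G ⧸ N)} : Set (G ⧸ N)) =
        (Subgroup.centralizer ({x} : Set G)).map (QuotientGroup.mk' N) := by
      refine le_antisymm (fun q hq => ?_) ?_
      · obtain ⟨g, rfl⟩ := QuotientGroup.mk'_surjective N q
        refine ⟨g, Subgroup.mem_centralizer_singleton_iff.mpr ?_, rfl⟩
        have h1 := Subgroup.mem_centralizer_singleton_iff.mp hq
        have h2 : x⁻¹ * (g * x * g⁻¹) ∈ N := by
          rw [← QuotientGroup.eq_one_iff]
          show QuotientGroup.mk' N (x⁻¹ * (g * x * g⁻¹)) = 1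
          simp only [map_mul, map_inv]
          rw [show QuotientGroup.mk' N g * QuotientGroup.mk' N x =
            QuotientGroup.mk' N x * QuotientGroup.mk' N g from h1]
          group
        have hcm := hxK _ h2
        have hmul : g * x * g⁻¹ = x * (x⁻¹ * (g * x * g⁻¹)) := by group
        have hoc : orderOf (g * x * g⁻¹) = orderOf x :=
          orderOf_injective (MulAut.conj g).toMonoidHom (MulAut.conj g).injective x
        rw [hmul, hcm.orderOf_mul_eq_mul_orderOf_of_coprime (hcop _ h2)] at hoc
        have h3 : orderOf (x⁻¹ * (g * x * g⁻¹)) = 1 :=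
          Nat.eq_of_mul_eq_mul_left (orderOf_pos x) (hoc.trans (mul_one _).symm)
        rw [orderOf_eq_one_iff, inv_mul_eq_one] at h3
        calc g * x = g * x * g⁻¹ * g := by group
          _ = x * g := by rw [← h3]
      · rintro _ ⟨g, hg, rfl⟩
        refine Subgroup.mem_centralizer_singleton_iff.mpr ?_
        have := Subgroup.mem_centralizer_singleton_iff.mp hg
        show QuotientGroup.mk' N g * QuotientGroup.mk' N x = QuotientGroup.mk' N x * QuotientGroup.mk' N g
        rw [← map_mul, this, map_mul]
    have hNC : N ≤ Subgroup.centralizer ({x} : Set G) := fun n hn =>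
      Subgroup.mem_centralizer_singleton_iff.mpr (hxK n hn).symm.eq
    have hcard := hc x hxN
    rw [hsurj] at hcard
    set C := Subgroup.centralizer ({x} : Set G) with hC
    have h4 : Nat.card (C.map (QuotientGroup.mk' N)) * Nat.card N = Nat.card C := by
      have h5 := Subgroup.card_eq_card_quotient_mul_card_subgroup (N.subgroupOf C)
      rw [Nat.card_congr (Subgroup.subgroupOfEquivOfLe hNC).toEquiv] at h5
      rw [h5]
      congr 1
      refine Nat.card_congr (((QuotientGroup.quotientMulEquivOfEq ?_).trans
        (QuotientGroup.quotientKerEquivRange ((QuotientGroup.mk' N).comp C.subtype))).trans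
        (MulEquiv.subgroupCongr ?_)).toEquiv.symm
      · rw [← MonoidHom.comap_ker, QuotientGroup.ker_mk']; rfl
      · rw [MonoidHom.range_comp, Subgroup.range_subtype]
    rw [← hcard] at h4
    have h6 := (Subgroup.one_lt_card_iff_ne_bot N).mpr hN1
    have := Nat.card_pos (α := C)
    nlinarith
  have := P.is_maximal' hKp hPK
  rw [← this]; exact hKn

end CfsgLib.CharTheory.TwoClassAux
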