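import Mathlib
import Cfsg.Agent.Lib.CharTheory.TwoDegrees
import Cfsg.Agent.Lib.CharTheory.AbelianInertia
import Cfsg.Agent.Lib.NilpotentCommute

/-! The structure of a group with two character degrees. -/

namespace CfsgLib.CharTheory

open Cfsg
open scoped commutatorElement
open Subgroup (mem_top)

universe u

section Frob

variable {Q : Type u} [Group Q] [Finite Q]

/-- A minimal non-nilpotent quotient with abelian derived subgroup is a Frobenius group. -/
theorem minimal_nonnilpotent (hQ : ¬ Group.IsNilpotent Q)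
    (hquot : ∀ (L : Subgroup Q) [L.Normal], L ≠ ⊥ → Group.IsNilpotent (Q ⧸ L))
    (hab : ∀ a ∈ commutator Q, ∀ b ∈ commutator Q, a * b = b * a) :
    ∃ q : ℕ, q.Prime ∧ (∀ d ∈ commutator Q, d ^ q = 1) ∧ ¬ q ∣ (commutator Q).index ∧
      commutator Q ≠ ⊥ ∧ commutator Q ≠ ⊤ ∧
      ∀ t, t ∉ commutator Q → ∀ d ∈ commutator Q, t * d = d * t → d = 1 := by
  classical
  set D := commutator Q with hD
  obtain ⟨R, ⟨hRn, hR1⟩, hRmin⟩ := (Set.toFinite {L : Subgroup Q | L.Normal ∧ L ≠ ⊥}).exists_minimal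
    ⟨⊤, inferInstance, fun e => hQ (by
      haveI : Subsingleton Q := ⟨fun a b => by
        rw [Subgroup.mem_bot.1 (e.le (mem_top a)), Subgroup.mem_bot.1 (e.le (mem_top b))]⟩
      infer_instance)⟩
  haveI := hRn
  have hRle : ∀ L : Subgroup Q, L.Normal → L ≠ ⊥ → R ≤ L := by
    intro L hL hL1
    haveI := hL
    by_cases h : R ⊓ L = ⊥
    · exfalso
      haveI := hquot L hL1
      haveI := hquot R hR1
      refine hQ (Subgroup.isNilpotent_of_ker_le_center ((QuotientGroup.mk' L).prod (QuotientGroup.mk' R)) ?_)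
      rw [MonoidHom.ker_prod, QuotientGroup.ker_mk', QuotientGroup.ker_mk', inf_comm, h]
      exact bot_le
    · exact (hRmin ⟨inferInstance, h⟩ inf_le_left).trans inf_le_right
  have hRc : ¬ R ≤ Subgroup.center Q := fun hle => by
    haveI := hquot R hR1
    exact hQ (Subgroup.isNilpotent_of_ker_le_center (QuotientGroup.mk' R) (by rwa [QuotientGroup.ker_mk']))
  have hD1 : D ≠ ⊥ := fun e => hQ <| Subgroup.nilpotent_iff_lowerCentralSeries.2
    ⟨1, by rw [Subgroup.top_lowerCentralSeries_one]; exact e⟩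
  have hRD : R ≤ D := hRle D inferInstance hD1
  have hcomm : ∀ a b : Q, a * b * a⁻¹ * b⁻¹ ∈ D := fun a b => by
    rw [← commutatorElement_def]
    exact Subgroup.commutator_mem_commutator (mem_top a) (mem_top b)
  -- centralisers inside an abelian normal subgroup containing `D` are normal
  have hKn : ∀ (C : Subgroup Q) [C.Normal], (∀ x ∈ C, ∀ d ∈ D, x * d = d * x) → ∀ t : Q,
      (C ⊓ Subgroup.centralizer ({t} : Set Q)).Normal := by
    intro C _ hC t
    refine ⟨fun c hc g => Subgroup.mem_inf.2 ⟨Subgroup.Normal.conj_mem ‹C.Normal› c hc.1 g, ?_⟩⟩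
    rw [Subgroup.mem_centralizer_singleton_iff]
    have h1 : Commute (g * c * g⁻¹) (t * g * t⁻¹ * g⁻¹) :=
      hC _ (Subgroup.Normal.conj_mem ‹C.Normal› c hc.1 g) _ (hcomm t g)
    have h0 : Commute c t := Subgroup.mem_centralizer_singleton_iff.1 hc.2
    have h2 : Commute (g * c * g⁻¹) (g * t * g⁻¹) := by
      show g * c * g⁻¹ * (g * t * g⁻¹) = g * t * g⁻¹ * (g * c * g⁻¹)
      calc g * c * g⁻¹ * (g * t * g⁻¹) = g * (c * t) * g⁻¹ := by group
        _ = g * (t * c) * g⁻¹ := by rw [h0.eq]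
        _ = _ := by group
    have h3 := h1.mul_right h2
    rwa [show t * g * t⁻¹ * g⁻¹ * (g * t * g⁻¹) = t by group] at h3
  obtain ⟨r, hr, h, hrh⟩ : ∃ r ∈ R, ∃ h : Q, h * r ≠ r * h := by
    by_contra hc
    push Not at hc
    exact hRc fun r hr => Subgroup.mem_center_iff.2 (hc r hr)
  -- the endomorphisms `d ↦ [h, d]`
  have hinj : ∀ (C : Subgroup Q) [C.Normal], (∀ x ∈ C, ∀ d ∈ D, x * d = d * x) →
      ∀ x ∈ C, ∀ y ∈ C, h * x * h⁻¹ * x⁻¹ = h * y * h⁻¹ * y⁻¹ → x = y := by
    intro C _ hC x hx y hy e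
    haveI := hKn C hC h
    have hbot : C ⊓ Subgroup.centralizer ({h} : Set Q) = ⊥ := by
      by_contra hne
      exact hrh (Subgroup.mem_centralizer_singleton_iff.1 (hRle _ inferInstance hne hr).2).symm
    have hmem : x⁻¹ * y ∈ C ⊓ Subgroup.centralizer ({h} : Set Q) := by
      refine Subgroup.mem_inf.2 ⟨mul_mem (inv_mem hx) hy, ?_⟩
      rw [Subgroup.mem_centralizer_singleton_iff]
      have hc := hC (y * x⁻¹) (mul_mem hy (inv_mem hx)) _ (hcomm h x)
      calc x⁻¹ * y * h = x⁻¹ * (h * x * h⁻¹ * x⁻¹)⁻¹ * (h * x * h⁻¹ * x⁻¹) * y * h := by group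
        _ = x⁻¹ * (h * x * h⁻¹ * x⁻¹)⁻¹ * (h * y * h⁻¹ * y⁻¹) * y * h := by rw [e]
        _ = h * x⁻¹ * y := by group
        _ = h * (x⁻¹ * y) := mul_assoc _ _ _
    rw [hbot, Subgroup.mem_bot, inv_mul_eq_one] at hmem
    exact hmem
  have hsurj : ∀ d ∈ D, ∃ x ∈ D, h * x * h⁻¹ * x⁻¹ = d := by
    let ψ : D → D := fun x => ⟨h * x * h⁻¹ * (x : Q)⁻¹, hcomm h x⟩
    have hψ : Function.Injective ψ := fun x y e =>
      Subtype.ext (hinj D hab x x.2 y y.2 (congrArg Subtype.val e))
    intro d hd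
    obtain ⟨x, hx⟩ := Finite.surjective_of_injective hψ ⟨d, hd⟩
    exact ⟨x, x.2, congrArg Subtype.val hx⟩
  -- hence `D = R`
  have hDR : D = R := by
    refine le_antisymm (fun d hd => ?_) hRD
    haveI := hquot R hR1
    obtain ⟨c, hc⟩ := Subgroup.nilpotent_iff_lowerCentralSeries.1 (hquot R hR1)
    have key : ∀ k, ∀ d ∈ D, (d : Q ⧸ R) ∈ (⊤ : Subgroup (Q ⧸ R)).lowerCentralSeries k := by
      intro k
      induction k with
      | zero => exact fun d _ => mem_top _
      | succ k ih =>
        intro d hd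
        obtain ⟨x, hx, rfl⟩ := hsurj d hd
        rw [Subgroup.lowerCentralSeries_succ]
        have := Subgroup.commutator_mem_commutator (ih x hx) (mem_top (h : Q ⧸ R))
        rw [← inv_mem_iff, commutatorElement_inv, commutatorElement_def] at this
        exact this
    have := key c d hd
    rw [hc, Subgroup.mem_bot, QuotientGroup.eq_one_iff] at this
    exact this
  -- and `D` is self-centralising
  haveI : (Subgroup.centralizer (D : Set Q)).Normal := inferInstance
  have hCD : Subgroup.centralizer (D : Set Q) = D := by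
    set C := Subgroup.centralizer (D : Set Q)
    have hC : ∀ x ∈ C, ∀ d ∈ D, x * d = d * x := fun x hx d hd =>
      (Subgroup.mem_centralizer_iff.1 hx d hd).symm
    have hle : D ≤ C := fun d hd => Subgroup.mem_centralizer_iff.2 fun e he => hab e he d hd
    let ψ : C → D := fun x => ⟨h * x * h⁻¹ * (x : Q)⁻¹, hcomm h x⟩
    have hψ : Function.Injective ψ := fun x y e =>
      Subtype.ext (hinj C hC x x.2 y y.2 (congrArg Subtype.val e))
    exact (Subgroup.eq_of_le_of_card_ge hle (Nat.card_le_card_of_injective ψ hψ)).symm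
  have hfp : ∀ t, t ∉ D → ∀ d ∈ D, t * d = d * t → d = 1 := by
    intro t ht d hd htd
    haveI := hKn D hab t
    by_contra hd1
    have hne : D ⊓ Subgroup.centralizer ({t} : Set Q) ≠ ⊥ := fun e => hd1 (Subgroup.mem_bot.1
      (e.le ⟨hd, Subgroup.mem_centralizer_singleton_iff.2 htd.symm⟩))
    refine ht (hCD.le (Subgroup.mem_centralizer_iff.2 fun e he => ?_))
    exact Subgroup.mem_centralizer_singleton_iff.1 (hRle _ inferInstance hne (hDR.le he)).2
  have hne_top : D ≠ ⊤ := fun e => hrh ((hab r (hRD hr) h (e.ge (mem_top h))).symm)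
  obtain ⟨q, hq, hqd⟩ := Nat.exists_prime_and_dvd (n := Nat.card D) fun e => hD1 (Subgroup.card_eq_one.1 e)
  haveI := Fact.mk hq
  let Ω : Subgroup Q :=
    { carrier := {x | x ∈ D ∧ x ^ q = 1}
      one_mem' := ⟨one_mem D, one_pow q⟩
      mul_mem' := fun {a b} ha hb => ⟨mul_mem ha.1 hb.1, by
        rw [(show Commute a b from hab a ha.1 b hb.1).mul_pow, ha.2, hb.2, one_mul]⟩
      inv_mem' := fun {a} ha => ⟨inv_mem ha.1, by rw [inv_pow, ha.2, inv_one]⟩ }
  have hΩn : Ω.Normal := ⟨fun x hx g => ⟨Subgroup.Normal.conj_mem inferInstance x hx.1 g, by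
    rw [conj_pow, hx.2, mul_one, mul_inv_cancel]⟩⟩
  have hexp : ∀ d ∈ D, d ^ q = 1 := by
    obtain ⟨x, hx⟩ := exists_prime_orderOf_dvd_card' (G := D) q hqd
    have hne : Ω ≠ ⊥ := fun e => by
      have : (x : Q) ∈ Ω := ⟨x.2, by rw [← Subgroup.coe_pow, ← hx, pow_orderOf_eq_one]; rfl⟩
      rw [e, Subgroup.mem_bot, OneMemClass.coe_eq_one] at this
      rw [this, orderOf_one] at hx
      exact hq.one_lt.ne hx
    exact fun d hd => (hRle Ω hΩn hne (hDR.le hd)).2
  refine ⟨q, hq, hexp, fun hqi => ?_, hD1, hne_top, hfp⟩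
  obtain ⟨y, hy⟩ := exists_prime_orderOf_dvd_card' (G := Q ⧸ D) q hqi
  obtain ⟨t, rfl⟩ := QuotientGroup.mk_surjective y
  have htD : t ∉ D := fun ht => by
    rw [(QuotientGroup.eq_one_iff t).2 ht, orderOf_one] at hy
    exact hq.one_lt.ne hy
  have htq : t ^ q ∈ D := by
    rw [← QuotientGroup.eq_one_iff, QuotientGroup.mk_pow, ← hy, pow_orderOf_eq_one]
  have htq1 : t ^ q = 1 := hfp t htD _ htq ((Commute.refl t).pow_right q).eq
  let T : Subgroup Q := D ⊔ Subgroup.zpowers t
  have hTp : IsPGroup q T := by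
    refine IsPGroup.to_sup_of_normal_left ?_ ?_
    · exact fun d => ⟨1, Subtype.ext (by rw [pow_one, Subgroup.coe_pow]; exact hexp d d.2)⟩
    · refine IsPGroup.of_card (n := 1) ?_
      rw [Nat.card_zpowers, pow_one]
      exact orderOf_eq_prime htq1 fun e => htD (e ▸ one_mem D)
  haveI := hTp.isNilpotent
  haveI : (D.subgroupOf T).Normal := inferInstance
  have hne : D.subgroupOf T ⊓ Subgroup.center T ≠ ⊥ := by
    intro e
    obtain ⟨k, hk⟩ := Subgroup.nilpotent_iff_lowerCentralSeries.1 hTp.isNilpotent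
    have : ∀ j ≤ k, D.subgroupOf T ⊓ (⊤ : Subgroup T).lowerCentralSeries (k - j) = ⊥ := by
      intro j hj
      induction j with
      | zero => rw [Nat.sub_zero, hk, inf_bot_eq]
      | succ j ih =>
        rw [eq_bot_iff, ← e]
        refine fun x hx => ⟨hx.1, Subgroup.mem_center_iff.2 fun g => ?_⟩
        have h1 : ⁅x, g⁆ ∈ D.subgroupOf T ⊓ (⊤ : Subgroup T).lowerCentralSeries (k - j) := by
          refine ⟨Subgroup.commutator_le_left (D.subgroupOf T) ⊤
            (Subgroup.commutator_mem_commutator hx.1 (mem_top g)), ?_⟩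
          rw [show k - j = k - (j + 1) + 1 by omega, Subgroup.lowerCentralSeries_succ]
          exact Subgroup.commutator_mem_commutator hx.2 (mem_top g)
        rw [ih (by omega), Subgroup.mem_bot] at h1
        exact (commutatorElement_eq_one_iff_mul_comm.1 h1).symm
    have h2 := this k le_rfl
    rw [Nat.sub_self, Subgroup.lowerCentralSeries_zero, inf_top_eq, Subgroup.subgroupOf_eq_bot] at h2
    exact hD1 (h2.eq_bot_of_le le_sup_left)
  obtain ⟨⟨x, hx⟩, hx1'⟩ := Subgroup.ne_bot_iff_exists_ne_one.1 hne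
  have hx1 : x ≠ 1 := fun e => hx1' (Subtype.ext e)
  refine hx1 (Subtype.ext (hfp t htD (x : Q) (Subgroup.mem_subgroupOf.1 hx.1) ?_))
  exact congrArg Subtype.val (Subgroup.mem_center_iff.1 hx.2 ⟨t, Subgroup.mem_sup_right (Subgroup.mem_zpowers t)⟩)

end Frob

variable {G : Type u} [Group G] [Finite G] {m : ℕ}

/-- Over a Frobenius quotient, two degrees force the kernel to be abelian of index `m`. -/
theorem abelian_of_frobenius_quotient
    (hcd : ∀ χ : IrrCharacter G, charDegree (χ : G → ℂ) = 1 ∨ charDegree (χ : G → ℂ) = m)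
    (N K : Subgroup G) [N.Normal] [K.Normal] {q : ℕ} (hq : q.Prime)
    (hcomm : ∀ a ∈ N, ∀ b ∈ N, a * b * a⁻¹ * b⁻¹ ∈ K) (hexp : ∀ a ∈ N, a ^ q ∈ K) (hf : ¬ q ∣ N.index)
    (hNK : ¬ N ≤ K) (hN : N ≠ ⊤)
    (hfp : ∀ t, t ∉ N → ∀ n ∈ N, t * n * t⁻¹ * n⁻¹ ∈ K → n ∈ K) :
    (∀ a ∈ N, ∀ b ∈ N, a * b = b * a) ∧ N.index = m := by
  classical
  have := Fintype.ofFinite G
  have := Fintype.ofFinite N
  set K' := K.subgroupOf N
  have hAc : ∀ u v : N ⧸ K', u * v = v * u := by
    intro u v
    obtain ⟨a, rfl⟩ := QuotientGroup.mk_surjective u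
    obtain ⟨b, rfl⟩ := QuotientGroup.mk_surjective v
    rw [← QuotientGroup.mk_mul, ← QuotientGroup.mk_mul, QuotientGroup.eq, Subgroup.mem_subgroupOf]
    have := hcomm _ (inv_mem b.2) _ (inv_mem a.2)
    simpa [mul_assoc] using this
  letI : CommGroup (N ⧸ K') := { (inferInstance : Group (N ⧸ K')) with mul_comm := hAc }
  let L := (N ⧸ K') →* ℂˣ
  let lift : L → (N → ℂ) := fun α n => (α (n : N ⧸ K') : ℂ)
  have hlift_irr : ∀ α : L, IsIrrCharacter N (lift α) := fun α =>
    isIrrCharacter_linear (α.comp (QuotientGroup.mk' K'))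
  have hlift1 : ∀ α : L, lift α 1 = 1 := fun α => by simp [lift]
  have hlift_one : lift 1 = fun _ => 1 := funext fun n => by
    show (((1 : (N ⧸ K') →* ℂˣ) (n : N ⧸ K') : ℂˣ) : ℂ) = 1
    rw [MonoidHom.one_apply, Units.val_one]
  have hlift_mul : ∀ α β : L, lift (α * β) = lift α * lift β := fun α β => funext fun n => by
    show ((((α : (N ⧸ K') →* ℂˣ) * β) (n : N ⧸ K') : ℂˣ) : ℂ) = _
    rw [MonoidHom.mul_apply, Units.val_mul]
    rfl
  have hlift_inj : Function.Injective lift := fun α β e => MonoidHom.ext fun u => by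
    obtain ⟨a, rfl⟩ := QuotientGroup.mk_surjective u
    exact Units.ext (congrFun e a)
  have hLcard : Nat.card L = Nat.card (N ⧸ K') := CommGroup.card_monoidHom_of_hasEnoughRootsOfUnity _ _
  -- `n ↦ [t, n]` is onto the quotient
  have hsurj : ∀ t, t ∉ N → ∀ u : N ⧸ K', ∃ n : N,
      ((⟨t * n * t⁻¹, Subgroup.Normal.conj_mem inferInstance (n : G) n.2 t⟩ * n⁻¹ : N) : N ⧸ K') = u := by
    intro t ht
    let f : N →* N ⧸ K' :=
      { toFun := fun n => ((⟨t * n * t⁻¹, Subgroup.Normal.conj_mem inferInstance (n : G) n.2 t⟩ * n⁻¹ : N) : N ⧸ K')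
        map_one' := by
          rw [QuotientGroup.eq_one_iff, Subgroup.mem_subgroupOf]
          simp
        map_mul' := fun a b => by
          rw [show (⟨t * ((a * b : N) : G) * t⁻¹, Subgroup.Normal.conj_mem inferInstance _ (a * b : N).2 t⟩ : N) =
            ⟨t * a * t⁻¹, Subgroup.Normal.conj_mem inferInstance _ a.2 t⟩ *
              ⟨t * b * t⁻¹, Subgroup.Normal.conj_mem inferInstance _ b.2 t⟩ from Subtype.ext (by simp [mul_assoc]),
            mul_inv_rev]
          simp only [QuotientGroup.mk_mul, QuotientGroup.mk_inv]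
          rw [mul_comm ((b : N ⧸ K'))⁻¹, mul_mul_mul_comm] }
    have hker : f.ker = K' := by
      ext n
      rw [MonoidHom.mem_ker]
      show ((⟨t * n * t⁻¹, _⟩ * n⁻¹ : N) : N ⧸ K') = 1 ↔ _
      rw [QuotientGroup.eq_one_iff, Subgroup.mem_subgroupOf, Subgroup.mem_subgroupOf]
      exact ⟨fun hk => hfp t ht n n.2 hk, fun hk => by
        simpa using mul_mem (Subgroup.Normal.conj_mem (inferInstanceAs K.Normal) _ hk t) (inv_mem hk)⟩
    have hrange : f.range = ⊤ := Subgroup.eq_top_of_card_eq _ (by rw [← Subgroup.index_ker, hker]; rfl)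
    exact fun u => MonoidHom.range_eq_top.1 hrange u
  -- no non-trivial linear character is fixed outside `N`
  have hfix : ∀ t, t ∉ N → ∀ α : L, (∀ n, conjNormFun N t (lift α) n = lift α n) → α = 1 := by
    intro t ht α hα
    refine MonoidHom.ext fun u => ?_
    obtain ⟨n, rfl⟩ := hsurj t ht u
    have h := hα n
    rw [conjNormFun_eq] at h
    rw [MonoidHom.one_apply, QuotientGroup.mk_mul, QuotientGroup.mk_inv, map_mul, map_inv, mul_inv_eq_one]
    exact Units.ext h
  have hneq : ∀ t, t ∉ N → ∀ α : L, α ≠ 1 → conjNormFun N t (lift α) ≠ lift α := fun t ht α hα e =>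
    hα (hfix t ht α (congrFun e))
  have hinert : ∀ α : L, α ≠ 1 → inertia N (lift α) = N := fun α hα =>
    le_antisymm (fun t ht => by_contra fun htN => hneq t htN α hα ((mem_inertia N).1 ht))
      (le_inertia N (isClassFunction_irr (hlift_irr α)))
  have hLone : 1 < Nat.card L := by
    rw [hLcard]
    refine (Nat.succ_le_of_lt (Nat.pos_of_ne_zero Nat.card_pos.ne')).lt_of_ne' fun e => hNK ?_
    exact Subgroup.subgroupOf_eq_top.1 (Subgroup.index_eq_one.1 e)
  haveI : Finite L := Nat.finite_of_card_ne_zero (by omega)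
  haveI : Fintype L := Fintype.ofFinite L
  obtain ⟨α₀, hα₀⟩ : ∃ α : L, α ≠ 1 := by
    haveI := Finite.one_lt_card_iff_nontrivial.1 hLone
    exact exists_ne 1
  have hdegree : ∀ θ : N → ℂ, IsIrrCharacter N θ → inertia N θ = N →
      charDegree θ * N.index = 1 ∨ charDegree θ * N.index = m := by
    intro θ hθ hT
    have hi := isIrrCharacter_indFun_of_inertia_eq N hθ hT
    have h1 := (charDegree_spec' hi).1
    rw [indFun_apply_one, (charDegree_spec' hθ).1, ← Nat.cast_mul, Nat.cast_inj] at h1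
    rcases hcd ⟨_, hi⟩ with e | e
    · left; rw [mul_comm, h1]; exact e
    · right; rw [mul_comm, h1]; exact e
  have hidx1 : N.index ≠ 1 := fun e => hN (Subgroup.index_eq_one.1 e)
  have hfm : N.index = m := by
    have e : charDegree (lift α₀) = 1 := by simp [charDegree, hlift1]
    rcases hdegree _ (hlift_irr α₀) (hinert α₀ hα₀) with h | h <;> rw [e, one_mul] at h
    · exact absurd h hidx1
    · exact h
  -- the index is smaller than the number of linear characters
  have hlt : N.index < Nat.card L := by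
    rw [← Finset.card_univ.trans Nat.card_eq_fintype_card.symm |>.trans (Subgroup.index_eq_card N).symm]
    let F : G ⧸ N → (N → ℂ) := fun y => conjNormFun N y.out (lift α₀)
    have hFinj : Function.Injective F := by
      intro y z e
      by_contra hyz
      have hout : y.out * z.out⁻¹ ∉ N := by
        intro hmem
        refine hyz ?_
        rw [← QuotientGroup.out_eq' y, ← QuotientGroup.out_eq' z]
        refine (QuotientGroup.eq_iff_div_mem).2 ?_
        rwa [div_eq_mul_inv]
      refine hneq _ hout α₀ hα₀ ?_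
      have := congrArg (conjNormFun N z.out⁻¹) e
      simpa only [F, ← conjNormFun_mul, mul_inv_cancel, conjNormFun_one] using this
    have hsub : (Finset.univ : Finset (G ⧸ N)).image F ⊂ (Finset.univ : Finset L).image lift := by
      refine Finset.ssubset_iff_subset_ne.2 ⟨fun f hf => ?_, fun e => ?_⟩
      · obtain ⟨y, -, rfl⟩ := Finset.mem_image.1 hf
        let c : N →* N := (MulAut.conjNormal y.out : N ≃* N).toMonoidHom
        refine Finset.mem_image.2 ⟨α₀.comp (QuotientGroup.map K' K' c ?_), Finset.mem_univ _, ?_⟩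
        · intro k hk
          rw [Subgroup.mem_subgroupOf] at hk
          rw [Subgroup.mem_comap, Subgroup.mem_subgroupOf]
          exact Subgroup.Normal.conj_mem inferInstance (k : G) hk y.out
        · funext n
          show _ = conjNormFun N y.out (lift α₀) n
          rw [conjNormFun_eq]
          rfl
      · have h1 : (fun _ => (1 : ℂ)) ∈ (Finset.univ : Finset L).image lift :=
          Finset.mem_image.2 ⟨1, Finset.mem_univ _, hlift_one⟩
        rw [← e] at h1
        obtain ⟨y, -, hy⟩ := Finset.mem_image.1 h1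
        refine hα₀ (hlift_inj ?_)
        have := congrArg (conjNormFun N y.out⁻¹) hy
        simp only [F, ← conjNormFun_mul, mul_inv_cancel, conjNormFun_one] at this
        rw [this, hlift_one]
        funext n
        simp [conjNormFun_eq]
    have := Finset.card_lt_card hsub
    rw [Finset.card_image_of_injective _ hFinj, Finset.card_image_of_injective _ hlift_inj] at this
    rwa [Finset.card_univ (α := L), ← Nat.card_eq_fintype_card] at this
  refine ⟨fun a ha b hb => congrArg Subtype.val ((commutative_iff_degree_one.2 ?_) (⟨a, ha⟩ : N) ⟨b, hb⟩), hfm⟩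
  rintro ⟨θ, hθ⟩
  show θ 1 = 1
  rw [(charDegree_spec' hθ).1]
  suffices charDegree θ = 1 by rw [this, Nat.cast_one]
  by_contra hd
  set d := charDegree θ
  have hd0 : 0 < d := (charDegree_spec' hθ).2
  have hqd : ¬ q ∣ d := by
    intro hqd
    obtain ⟨χ, hχ, hne⟩ := exists_irr_above hθ
    obtain ⟨e, he, -⟩ := degree_ratio_dvd hχ hθ hne
    rw [(charDegree_spec' hχ).1, (charDegree_spec' hθ).1, ← Nat.cast_mul, Nat.cast_inj] at he
    rcases hcd ⟨χ, hχ⟩ with h | h <;> simp only at h <;> rw [h] at he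
    · exact hd (Nat.eq_one_of_mul_eq_one_left he.symm)
    · exact hf (hfm ▸ he ▸ dvd_mul_of_dvd_right hqd e)
  have hirr : ∀ α : L, IsIrrCharacter N (θ * lift α) := fun α =>
    isIrrCharacter_mul_linear hθ (hlift_irr α) (hlift1 α)
  have hdeg : ∀ α : L, charDegree (θ * lift α) = d := fun α => by
    simp [charDegree, hlift1, d]
  -- every twist has a larger inertia group
  have hbig : ∀ α : L, ∃ t, t ∉ N ∧ conjNormFun N t (θ * lift α) = θ * lift α := by
    intro α
    by_contra hno
    push Not at hno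
    have hT : inertia N (θ * lift α) = N :=
      le_antisymm (fun t ht => by_contra fun htN => hno t htN ((mem_inertia N).1 ht))
        (le_inertia N (isClassFunction_irr (hirr α)))
    rcases hdegree _ (hirr α) hT with h | h <;> rw [hdeg] at h
    · exact hd (Nat.eq_one_of_mul_eq_one_right h)
    · rw [← hfm] at h
      exact hd ((mul_eq_right₀ Subgroup.index_ne_zero_of_finite).1 h)
  choose T hTN hT using hbig
  let F : L → G ⧸ N := fun α => (T α : G ⧸ N)
  have hFinj : Function.Injective F := by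
    intro α β e
    obtain ⟨n, hn, hTn⟩ : ∃ n ∈ N, T β = n * T α := by
      refine ⟨T β * (T α)⁻¹, ?_, (inv_mul_cancel_right _ _).symm⟩
      have := QuotientGroup.eq_iff_div_mem.1 e.symm
      rwa [div_eq_mul_inv] at this
    have hαt : conjNormFun N (T β) (θ * lift α) = θ * lift α := by
      rw [hTn, conjNormFun_mul, conjNormFun_of_mem N hn (isClassFunction_irr (hirr α)), hT α]
    by_contra hne
    let δ : L := α⁻¹ * β
    have hδ1 : δ ≠ 1 := fun e' => hne (inv_mul_eq_one.1 e')
    have hβ : θ * lift β = (θ * lift α) * lift δ := by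
      rw [mul_assoc, ← hlift_mul]
      exact congrArg (fun γ => θ * lift γ) (mul_inv_cancel_left α β).symm
    have hγ := hT β
    rw [hβ] at hγ
    have hmul : ∀ x, conjNormFun N (T β) (θ * lift α * lift δ) x =
        (θ * lift α) x * conjNormFun N (T β) (lift δ) x := by
      intro x
      rw [conjNormFun_eq, conjNormFun_eq]
      have := congrFun hαt x
      rw [conjNormFun_eq] at this
      simp only [Pi.mul_apply] at this ⊢
      rw [this]
    -- so the twist by `ε` fixes the character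
    let ε : N →* ℂˣ :=
      { toFun := fun x => δ ((MulAut.conjNormal (T β) x : N) : N ⧸ K') * (δ (x : N ⧸ K'))⁻¹
        map_one' := by simp
        map_mul' := fun x y => by
          simp only [map_mul, QuotientGroup.mk_mul, mul_inv_rev]
          rw [mul_comm (δ (y : N ⧸ K'))⁻¹, mul_mul_mul_comm] }
    obtain ⟨k, σ, hσ, hσc⟩ := hirr α
    have hk : Module.finrank ℂ (Fin k → ℂ) = d := by
      have h1 := (charDegree_spec' (hirr α)).1
      rw [← congrFun hσc 1, σ.char_one, hdeg, Nat.cast_inj] at h1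
      exact h1
    let R : Representation ℂ N (Fin k → ℂ) :=
      { toFun := fun g => (ε g : ℂ) • σ g
        map_one' := by simp
        map_mul' := fun a b => by
          rw [map_mul, map_mul, Units.val_mul, smul_mul_assoc, mul_smul_comm, smul_smul] }
    have hR : R.character = σ.character := by
      funext x
      show LinearMap.trace ℂ _ ((ε x : ℂ) • σ x) = _
      rw [map_smul, smul_eq_mul, show LinearMap.trace ℂ _ (σ x) = σ.character x from rfl, hσc]
      have h2 := congrFun hγ x
      rw [hmul, conjNormFun_eq] at h2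
      simp only [Pi.mul_apply, lift] at h2 ⊢
      simp only [ε, MonoidHom.coe_mk, OneHom.coe_mk, Units.val_mul, Units.val_inv_eq_inv_val]
      rw [mul_comm, ← mul_assoc, h2, mul_inv_cancel_right₀ (Units.ne_zero _)]
    have hdet : Cfsg.detChar R.character = Cfsg.detChar σ.character := by rw [hR]
    rw [detChar_eq, detChar_eq] at hdet
    have hεd : ∀ x, ε x ^ d = 1 := fun x => Units.ext (by
      have h := congrFun hdet x
      rw [coe_detHom, coe_detHom, show R x = (ε x : ℂ) • σ x from rfl, LinearMap.det_smul, hk,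
        mul_eq_right₀ (by rw [← coe_detHom]; exact Units.ne_zero _)] at h
      rw [Units.val_pow_eq_pow_val, h, Units.val_one])
    have hεq : ∀ x, ε x ^ q = 1 := fun x => by
      have e1 : ∀ u : N ⧸ K', δ u ^ q = 1 := fun u => by
        obtain ⟨a, rfl⟩ := QuotientGroup.mk_surjective u
        rw [← map_pow, ← QuotientGroup.mk_pow, (QuotientGroup.eq_one_iff _).2, map_one]
        rw [Subgroup.mem_subgroupOf, Subgroup.coe_pow]
        exact hexp a a.2
      simp only [ε, MonoidHom.coe_mk, OneHom.coe_mk, mul_pow, inv_pow, e1, inv_one, mul_one]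
    refine hδ1 (hfix (T β) (hTN β) δ fun x => ?_)
    have h1 : ε x = 1 := orderOf_eq_one_iff.1 (Nat.eq_one_of_dvd_coprimes (hq.coprime_iff_not_dvd.2 hqd)
      (orderOf_dvd_of_pow_eq_one (hεq x)) (orderOf_dvd_of_pow_eq_one (hεd x)))
    rw [conjNormFun_eq]
    simp only [ε, MonoidHom.coe_mk, OneHom.coe_mk, mul_inv_eq_one] at h1
    exact congrArg Units.val h1
  have h1N : ∀ α, F α ≠ 1 := fun α e => hTN α ((QuotientGroup.eq_one_iff _).1 e)
  have hle : Nat.card L < N.index := by
    rw [Subgroup.index_eq_card, Nat.card_eq_fintype_card, Nat.card_eq_fintype_card]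
    exact Fintype.card_lt_of_injective_of_notMem F hFinj (fun ⟨α, hα⟩ => h1N α hα)
  exact absurd hle (not_lt.2 hlt.le)

/-- The two alternatives for degrees `{1, m}`. -/
theorem two_degrees_structure
    (hcd : ∀ χ : IrrCharacter G, charDegree (χ : G → ℂ) = 1 ∨ charDegree (χ : G → ℂ) = m)
    (hm : ∃ χ : IrrCharacter G, charDegree (χ : G → ℂ) = m) (hm1 : 1 < m) :
    (∃ A : Subgroup G, A.Normal ∧ (∀ a ∈ A, ∀ b ∈ A, a * b = b * a) ∧ A.index = m) ∨
      ∃ p e : ℕ, p.Prime ∧ m = p ^ e ∧ ∃ P A : Subgroup G, P.Normal ∧ A.Normal ∧ IsPGroup p P ∧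
        (∀ a ∈ A, ∀ b ∈ A, a * b = b * a) ∧ P ⊓ A = ⊥ ∧ P ⊔ A = ⊤ := by
  classical
  by_cases hnil : Group.IsNilpotent G
  · right
    haveI := hnil
    have := Fintype.ofFinite G
    -- some Sylow subgroup is non-abelian
    obtain ⟨p, hp, P, hPab⟩ : ∃ p : ℕ, p.Prime ∧ ∃ P : Sylow p G,
        ¬ ∀ a ∈ (P : Subgroup G), ∀ b ∈ (P : Subgroup G), a * b = b * a := by
      by_contra hno
      push Not at hno
      have hall : ∀ a b : G, a * b = b * a := by
        obtain ⟨e⟩ : Nonempty ((∀ q : (Nat.card G).primeFactors, ∀ P : Sylow q G, (P : Subgroup G)) ≃* G) :=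
          ((Group.isNilpotent_of_finite_tfae (G := G)).out 0 4).mp hnil
        intro a b
        obtain ⟨a', rfl⟩ := e.surjective a
        obtain ⟨b', rfl⟩ := e.surjective b
        rw [← map_mul, ← map_mul]
        congr 1
        funext q P
        exact Subtype.ext (hno q (Nat.prime_of_mem_primeFactors q.2) P _ (a' q P).2 _ (b' q P).2)
      obtain ⟨χ, hχ⟩ := hm
      have h1 := degree_one_of_commutative hall χ.2
      rw [(charDegree_spec' χ.2).1, hχ] at h1
      exact hm1.ne' (by exact_mod_cast h1)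
    haveI := Fact.mk hp
    haveI : (P : Subgroup G).Normal := inferInstance
    obtain ⟨C, hC⟩ := Subgroup.exists_left_complement'_of_coprime (N := (P : Subgroup G)) P.card_coprime_index
    have hPC : (P : Subgroup G).index = Nat.card C := hC.index_eq_card
    have hCn : ∀ a ∈ C, ∀ b ∈ (P : Subgroup G), a * b = b * a := by
      intro a ha b hb
      have hcop : Nat.Coprime (orderOf a) (orderOf b) := by
        refine (Nat.Coprime.coprime_dvd_left ?_ (Nat.Coprime.coprime_dvd_right ?_ P.card_coprime_index.symm))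
        · rw [hPC, ← Subgroup.orderOf_mk _ ha]; exact orderOf_dvd_natCard _
        · rw [← Subgroup.orderOf_mk _ hb]; exact orderOf_dvd_natCard _
      exact (CfsgLib.commute_of_nilpotent _ _ hcop).eq
    haveI hCnorm : C.Normal := by
      refine ⟨fun c hc g => ?_⟩
      obtain ⟨⟨⟨u, hu⟩, ⟨v, hv⟩⟩, huv, -⟩ := Subgroup.isComplement_iff_existsUnique.1 hC g
      simp only at huv
      rw [← huv]
      have : v * c = c * v := (hCn c hc v hv).symm
      rw [mul_inv_rev, show u * v * c * (v⁻¹ * u⁻¹) = u * (v * c * v⁻¹) * u⁻¹ by group, this, mul_inv_cancel_right]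
      exact mul_mem (mul_mem hu hc) (inv_mem hu)
    -- an irreducible character of `G/C ≅ P`
    have hqnc : ¬ ∀ u v : G ⧸ C, u * v = v * u := by
      intro hcomm
      refine hPab fun a ha b hb => ?_
      have h := hcomm (a : G ⧸ C) b
      rw [← QuotientGroup.mk_mul, ← QuotientGroup.mk_mul, QuotientGroup.eq] at h
      have hPm : (a * b)⁻¹ * (b * a) ∈ (P : Subgroup G) := mul_mem (inv_mem (mul_mem ha hb)) (mul_mem hb ha)
      have := Subgroup.disjoint_def.1 hC.disjoint h hPm
      exact (inv_mul_eq_one.1 this)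
    have hqcard : Nat.card (G ⧸ C) = Nat.card (P : Subgroup G) := hC.symm.index_eq_card
    obtain ⟨k, hk⟩ := IsPGroup.iff_card.1 P.isPGroup'
    obtain ⟨e, he⟩ : ∃ e, m = p ^ e := by
      have := Fintype.ofFinite (G ⧸ C)
      obtain ⟨ψ, hψ⟩ : ∃ ψ : IrrCharacter (G ⧸ C), (ψ : G ⧸ C → ℂ) 1 ≠ 1 := by
        by_contra hno
        push Not at hno
        exact hqnc (commutative_iff_degree_one.2 hno)
      have hirr : IsIrrCharacter G (fun g => (ψ : G ⧸ C → ℂ) (g : G ⧸ C)) :=
        isIrrCharacter_comp_surjective ψ.2 (QuotientGroup.mk' C) (QuotientGroup.mk'_surjective C)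
      have hd : charDegree (fun g : G => (ψ : G ⧸ C → ℂ) (g : G ⧸ C)) = charDegree (ψ : G ⧸ C → ℂ) := by
        simp [charDegree]
      obtain ⟨k', ρ, hρ, hρc⟩ := ψ.2
      haveI := hρ
      have h1 := (charDegree_spec' ψ.2).1
      rw [← congrFun hρc 1, ρ.char_one, Nat.cast_inj] at h1
      have hdvd : charDegree (ψ : G ⧸ C → ℂ) ∣ p ^ k := by
        rw [← hk, ← hqcard, ← h1]
        exact finrank_dvd_card ρ
      obtain ⟨e, -, he⟩ := (Nat.dvd_prime_pow hp).1 hdvd
      refine ⟨e, ?_⟩
      rcases hcd ⟨_, hirr⟩ with h | h <;> simp only at h <;> rw [hd] at h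
      · exfalso
        refine hψ ?_
        rw [(charDegree_spec' ψ.2).1, h, Nat.cast_one]
      · rw [← h, he]
    refine ⟨p, e, hp, he, P, C, inferInstance, hCnorm, P.isPGroup', ?_, ?_, ?_⟩
    · have := Fintype.ofFinite C
      intro a ha b hb
      refine congrArg Subtype.val ((commutative_iff_degree_one.2 ?_) (⟨a, ha⟩ : C) ⟨b, hb⟩)
      rintro ⟨θ, hθ⟩
      show θ 1 = 1
      rw [(charDegree_spec' hθ).1]
      suffices charDegree θ = 1 by rw [this, Nat.cast_one]
      obtain ⟨χ, hχ, hne⟩ := exists_irr_above hθ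
      obtain ⟨r, hr, -⟩ := degree_ratio_dvd hχ hθ hne
      rw [(charDegree_spec' hχ).1, (charDegree_spec' hθ).1, ← Nat.cast_mul, Nat.cast_inj] at hr
      rcases hcd ⟨χ, hχ⟩ with h | h <;> simp only at h <;> rw [h] at hr
      · exact Nat.eq_one_of_mul_eq_one_left hr.symm
      · obtain ⟨j, -, hj⟩ := (Nat.dvd_prime_pow hp).1 (he ▸ hr ▸ dvd_mul_left (charDegree θ) r)
        obtain ⟨k', ρ, hρ, hρc⟩ := id hθ
        haveI := hρ
        have h1 := (charDegree_spec' hθ).1
        rw [← congrFun hρc 1, ρ.char_one, Nat.cast_inj] at h1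
        have hdC : charDegree θ ∣ Nat.card C := h1 ▸ finrank_dvd_card ρ
        by_contra hne1
        have hj0 : j ≠ 0 := fun e0 => hne1 (by rw [hj, e0, pow_zero])
        have h2 : p ∣ (P : Subgroup G).index := hPC ▸ (dvd_pow_self p hj0).trans (hj ▸ hdC)
        exact P.not_dvd_index h2
    · exact disjoint_iff.1 hC.symm.disjoint
    · exact hC.symm.sup_eq_top
  left
  obtain ⟨K, ⟨hKn, hKnil⟩, hKmax⟩ := (Set.toFinite {K : Subgroup G | ∃ _ : K.Normal, ¬ Group.IsNilpotent (G ⧸ K)}).exists_maximal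
    ⟨⊥, inferInstance, fun h => hnil (Group.isNilpotent_congr QuotientGroup.quotientBot |>.1 h)⟩
  haveI := hKn
  have hquot : ∀ (L : Subgroup (G ⧸ K)) [L.Normal], L ≠ ⊥ → Group.IsNilpotent ((G ⧸ K) ⧸ L) := by
    intro L _ hL
    set L' := L.comap (QuotientGroup.mk' K)
    have hnil' : Group.IsNilpotent (G ⧸ L') := by
      by_contra hc
      have hle : K ≤ L' := fun k hk => by
        show (k : G ⧸ K) ∈ L
        rw [(QuotientGroup.eq_one_iff k).2 hk]; exact one_mem L
      refine hL (eq_bot_iff.2 fun y hy => ?_)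
      obtain ⟨g, rfl⟩ := QuotientGroup.mk'_surjective K y
      exact (QuotientGroup.eq_one_iff g).2 (hKmax ⟨inferInstance, hc⟩ hle hy)
    haveI := hnil'
    exact Group.nilpotent_of_surjective (QuotientGroup.map L' L (QuotientGroup.mk' K) le_rfl)
      (fun y => by
        obtain ⟨z, rfl⟩ := QuotientGroup.mk_surjective y
        obtain ⟨g, rfl⟩ := QuotientGroup.mk_surjective z
        exact ⟨(g : G ⧸ L'), rfl⟩)
  have hDmap : commutator (G ⧸ K) = (commutator G).map (QuotientGroup.mk' K) := by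
    rw [_root_.commutator_def, _root_.commutator_def, Subgroup.map_commutator,
      Subgroup.map_top_of_surjective _ (QuotientGroup.mk'_surjective K)]
  obtain ⟨q, hq, hexp, hf, hD1, hDtop, hfp⟩ := minimal_nonnilpotent hKnil hquot (by
    rw [hDmap]
    rintro _ ⟨a, ha, rfl⟩ _ ⟨b, hb, rfl⟩
    rw [← map_mul, ← map_mul, commutator_comm_of_two_degrees hcd hm1 a ha b hb])
  set N := (commutator (G ⧸ K)).comap (QuotientGroup.mk' K)
  have hNi : N.index = (commutator (G ⧸ K)).index := Subgroup.index_comap_of_surjective _ (QuotientGroup.mk'_surjective K)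
  refine (fun h => ⟨N, inferInstance, h.1, h.2⟩) (abelian_of_frobenius_quotient hcd N K hq (fun a ha b hb => ?_)
    (fun a ha => ?_) (by rw [hNi]; exact hf) (fun hle => ?_) (fun e => hDtop ?_) fun t ht n hn hk => ?_)
  · rw [← QuotientGroup.eq_one_iff]
    simp only [QuotientGroup.mk_mul, QuotientGroup.mk_inv]
    have : ∀ x ∈ commutator (G ⧸ K), ∀ y ∈ commutator (G ⧸ K), x * y = y * x := by
      rw [hDmap]
      rintro _ ⟨a, ha, rfl⟩ _ ⟨b, hb, rfl⟩
      rw [← map_mul, ← map_mul, commutator_comm_of_two_degrees hcd hm1 a ha b hb]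
    rw [this (a : G ⧸ K) ha (b : G ⧸ K) hb]
    group
  · rw [← QuotientGroup.eq_one_iff, QuotientGroup.mk_pow]
    exact hexp _ ha
  · refine hD1 (eq_bot_iff.2 fun y hy => ?_)
    obtain ⟨g, rfl⟩ := QuotientGroup.mk'_surjective K y
    exact (QuotientGroup.eq_one_iff g).2 (hle hy)
  · rw [eq_top_iff]
    intro y _
    obtain ⟨g, rfl⟩ := QuotientGroup.mk'_surjective K y
    exact e.ge (mem_top g)
  · rw [← QuotientGroup.eq_one_iff] at hk ⊢
    refine hfp (t : G ⧸ K) ht (n : G ⧸ K) hn ?_
    simp only [QuotientGroup.mk_mul, QuotientGroup.mk_inv] at hk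
    rw [mul_inv_eq_one, mul_inv_eq_iff_eq_mul] at hk
    exact hk

end CfsgLib.CharTheory
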