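import Mathlib
import Cfsg.Agent.Lib.CharTheory.More
import Cfsg.Agent.Lib.Basic

/-! An element at which every non-principal irreducible character is `χ 1 - c` or `0`. -/

namespace CfsgLib.CharTheory

open Cfsg
open scoped ComplexConjugate

universe u

variable {G : Type u} [Group G] [Finite G]

theorem two_valued_at_element (u : G) (hu : u ≠ 1) (c : ℂ)
    (hyp : ∀ χ : IrrCharacter G, (χ : G → ℂ) ≠ (fun _ => (1 : ℂ)) →
      ((χ : G → ℂ) 1 - (χ : G → ℂ) u = c ∨ (χ : G → ℂ) u = 0)) :
    ((orderOf u = 2 ∧ Subgroup.zpowers u ⊔ oddCore G = ⊤ ∧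
      Subgroup.centralizer ({u} : Set G) = Subgroup.zpowers u) ↔ commutator G ≠ ⊤) ∧
    (commutator G ≠ ⊤ ↔ c = 2) := by
  classical
  have := Fintype.ofFinite G
  let t₁ : IrrCharacter G := ⟨fun _ => 1, isIrrCharacter_one⟩
  have hdeg : ∀ χ : IrrCharacter G, (χ : G → ℂ) 1 = ((charDegree (χ : G → ℂ) : ℕ) : ℂ) :=
    fun χ => (charDegree_spec' χ.2).1
  have horth : ∑ χ : IrrCharacter G, (χ : G → ℂ) u * (χ : G → ℂ) 1 = 0 := by
    rw [sum_irr_apply_mul_degree, if_neg hu]
  let lin : (G →* ℂˣ) → IrrCharacter G := fun f => ⟨fun g => (f g : ℂ), isIrrCharacter_linear f⟩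
  have hlin1 : ∀ f : G →* ℂˣ, f ≠ 1 → (lin f : G → ℂ) ≠ fun _ => 1 := fun f hf e =>
    hf (MonoidHom.ext fun g => Units.ext (congrFun e g))
  have hw : ∀ f : G →* ℂˣ, f ≠ 1 → (f u : ℂ) = 1 - c := fun f hf => by
    rcases hyp (lin f) (hlin1 f hf) with h | h
    · simp only [lin, map_one, Units.val_one] at h
      linear_combination -h
    · exact absurd h (Units.ne_zero _)
  have hexists : commutator G ≠ ⊤ → ∃ f : G →* ℂˣ, f ≠ 1 := fun h => by
    obtain ⟨g, -, hg⟩ := SetLike.exists_of_lt (lt_top_iff_ne_top.2 h)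
    obtain ⟨w, hw⟩ : ∃ w : Abelianization G →* ℂˣ, w (Abelianization.of g) ≠ 1 :=
      CommGroup.exists_apply_ne_one_of_hasEnoughRootsOfUnity (Abelianization G) ℂ
        (fun e => hg ((QuotientGroup.eq_one_iff g).1 e))
    exact ⟨w.comp Abelianization.of, fun e => hw (DFunLike.congr_fun e g)⟩
  have hne1 : 1 - c ≠ 1 := by
    intro e
    have hc : c = 0 := by linear_combination -e
    have h := congrArg Complex.re horth
    rw [Complex.re_sum, Complex.zero_re] at h
    have hpos : ∀ χ : IrrCharacter G, 0 ≤ ((χ : G → ℂ) u * (χ : G → ℂ) 1).re := fun χ => by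
      by_cases hχ : (χ : G → ℂ) = fun _ => 1
      · simp [hχ]
      · rcases hyp χ hχ with h | h
        · rw [hc, sub_eq_zero] at h
          rw [← h, hdeg, ← Nat.cast_mul, Complex.natCast_re]
          exact Nat.cast_nonneg _
        · rw [h, zero_mul]; simp
    have h0 := (Finset.sum_eq_zero_iff_of_nonneg fun χ _ => hpos χ).1 h t₁ (Finset.mem_univ _)
    simp [t₁] at h0
  have hto2 : commutator G ≠ ⊤ → c = 2 := by
    intro h
    obtain ⟨f, hf⟩ := hexists h
    have h1 := hw f hf
    by_cases hf2 : f * f = 1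
    · have h2 := congrArg Units.val (DFunLike.congr_fun hf2 u)
      simp only [MonoidHom.mul_apply, MonoidHom.one_apply, Units.val_mul, Units.val_one, h1] at h2
      rcases mul_self_eq_one_iff.1 h2 with e | e
      · exact absurd e hne1
      · linear_combination -e
    · have h2 := hw (f * f) hf2
      simp only [MonoidHom.mul_apply, Units.val_mul, h1] at h2
      exact absurd ((mul_eq_left₀ (fun e => Units.ne_zero (f u) (h1.trans e))).1 h2) hne1
  have hfrom : (orderOf u = 2 ∧ Subgroup.zpowers u ⊔ oddCore G = ⊤ ∧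
      Subgroup.centralizer ({u} : Set G) = Subgroup.zpowers u) → commutator G ≠ ⊤ := by
    rintro ⟨ho, hsup, -⟩ hperf
    haveI : (oddCore G).Normal := inferInstance
    have hodd : Odd (Nat.card (oddCore G)) := CfsgLib.odd_card_oddCore
    have hcomm : ∀ a b : G ⧸ oddCore G, a * b = b * a := by
      have hgen : ∀ a : G ⧸ oddCore G, a ∈ Subgroup.zpowers ((u : G) : G ⧸ oddCore G) := by
        intro a
        obtain ⟨g, rfl⟩ := QuotientGroup.mk_surjective a
        obtain ⟨x, ⟨i, rfl⟩, y, hy, rfl⟩ := Subgroup.mem_sup_of_normal_right.1 (hsup.ge (Subgroup.mem_top g))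
        refine ⟨i, ?_⟩
        show ((u : G) : G ⧸ oddCore G) ^ i = _
        simp only [QuotientGroup.mk_mul, (QuotientGroup.eq_one_iff y).2 hy, mul_one, QuotientGroup.mk_zpow]
      intro a b
      obtain ⟨i, rfl⟩ := hgen a
      obtain ⟨j, rfl⟩ := hgen b
      exact (Commute.refl _).zpow_zpow i j
    have hle : commutator G ≤ oddCore G := by
      rw [_root_.commutator_def, Subgroup.commutator_le]
      intro a _ b _
      refine (QuotientGroup.eq_one_iff _).1 ?_
      exact commutatorElement_eq_one_iff_mul_comm.2 (hcomm (a : G ⧸ oddCore G) (b : G ⧸ oddCore G))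
    rw [hperf, top_le_iff] at hle
    have h2 : 2 ∣ Nat.card (oddCore G) := by
      rw [hle, Subgroup.card_top, ← ho]; exact orderOf_dvd_natCard u
    exact absurd (even_iff_two_dvd.2 h2) (Nat.not_even_iff_odd.2 hodd)
  have hmain : c = 2 → commutator G ≠ ⊤ ∧ orderOf u = 2 ∧ Subgroup.zpowers u ⊔ oddCore G = ⊤ ∧
      Subgroup.centralizer ({u} : Set G) = Subgroup.zpowers u := by
    intro hc
    subst hc
    have hval : ∀ f : G →* ℂˣ, f ≠ 1 → (f u : ℂ) = -1 := fun f hf => by
      rw [hw f hf]; norm_num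
    have hnl : ∀ χ : IrrCharacter G, charDegree (χ : G → ℂ) ≠ 1 → 0 ≤ ((χ : G → ℂ) u * (χ : G → ℂ) 1).re := by
      intro χ h1
      have hχ : (χ : G → ℂ) ≠ fun _ => 1 := fun e => h1 (by rw [e]; simp [charDegree])
      rcases hyp χ hχ with h | h
      · have h2 : 2 ≤ charDegree (χ : G → ℂ) := by have := (charDegree_spec' χ.2).2; omega
        have e : (χ : G → ℂ) u = ((charDegree (χ : G → ℂ) - 2 : ℕ) : ℂ) := by
          rw [hdeg] at h
          rw [Nat.cast_sub h2]
          push_cast
          linear_combination -h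
        rw [e, hdeg, ← Nat.cast_mul, Complex.natCast_re]
        exact Nat.cast_nonneg _
      · rw [h, zero_mul]; simp
    have hlinear : ∀ χ : IrrCharacter G, charDegree (χ : G → ℂ) = 1 → χ ≠ t₁ → ∃ f, f ≠ 1 ∧ χ = lin f := by
      intro χ h1 hne
      obtain ⟨f, hf⟩ := exists_hom_of_degree_one (isCharacter_of_irr χ.2) (by rw [hdeg, h1, Nat.cast_one])
      refine ⟨f, fun e => hne (Subtype.ext ?_), Subtype.ext hf⟩
      rw [hf, e]; funext g; simp [t₁]
    obtain ⟨f, hf⟩ : ∃ f : G →* ℂˣ, f ≠ 1 := by
      by_contra hno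
      push Not at hno
      have h := congrArg Complex.re horth
      rw [Complex.re_sum, Complex.zero_re] at h
      have hpos : ∀ χ : IrrCharacter G, 0 ≤ ((χ : G → ℂ) u * (χ : G → ℂ) 1).re := fun χ => by
        by_cases h1 : charDegree (χ : G → ℂ) = 1
        · by_cases hne : χ = t₁
          · subst hne; simp [t₁]
          · obtain ⟨f, hf, -⟩ := hlinear χ h1 hne
            exact absurd (hno f) hf
        · exact hnl χ h1
      have h0 := (Finset.sum_eq_zero_iff_of_nonneg fun χ _ => hpos χ).1 h t₁ (Finset.mem_univ _)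
      simp [t₁] at h0
    have huniq : ∀ g : G →* ℂˣ, g ≠ 1 → g = f := by
      intro g hg
      by_contra hne
      have h1 := hw (g * f⁻¹) (fun e => hne (mul_inv_eq_one.1 e))
      simp only [MonoidHom.mul_apply, MonoidHom.inv_apply, Units.val_mul, Units.val_inv_eq_inv_val, hval g hg, hval f hf] at h1
      norm_num at h1
    have hperf : commutator G ≠ ⊤ := fun e => hf (MonoidHom.ext fun g => MonoidHom.mem_ker.mp
      (Abelianization.commutator_subset_ker f (e.ge (Subgroup.mem_top g))))
    have hzero : ∀ χ : IrrCharacter G, χ ≠ t₁ → χ ≠ lin f → (χ : G → ℂ) u = 0 := by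
      intro χ h1 h2
      have hd1 : charDegree (χ : G → ℂ) ≠ 1 := fun e => by
        obtain ⟨g, hg, hge⟩ := hlinear χ e h1
        exact h2 (by rw [hge, huniq g hg])
      have hsplit : ((t₁ : G → ℂ) u * (t₁ : G → ℂ) 1) + (((lin f : G → ℂ) u * (lin f : G → ℂ) 1) +
          ∑ ψ ∈ ((Finset.univ.erase t₁).erase (lin f)), (ψ : G → ℂ) u * (ψ : G → ℂ) 1) = 0 := by
        rw [Finset.add_sum_erase _ (fun ψ : IrrCharacter G => (ψ : G → ℂ) u * (ψ : G → ℂ) 1)
            (Finset.mem_erase.2 ⟨fun e => hlin1 f hf (congrArg Subtype.val e), Finset.mem_univ _⟩),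
          Finset.add_sum_erase _ (fun ψ : IrrCharacter G => (ψ : G → ℂ) u * (ψ : G → ℂ) 1) (Finset.mem_univ _)]
        exact horth
      have hrest : ∑ ψ ∈ ((Finset.univ.erase t₁).erase (lin f)), (ψ : G → ℂ) u * (ψ : G → ℂ) 1 = 0 := by
        simp only [t₁, lin, map_one, Units.val_one, mul_one, hval f hf] at hsplit ⊢
        linear_combination hsplit
      have h := congrArg Complex.re hrest
      rw [Complex.re_sum, Complex.zero_re] at h
      have h0 := (Finset.sum_eq_zero_iff_of_nonneg (fun ψ hψ => hnl ψ fun e => by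
        obtain ⟨g, hg, hge⟩ := hlinear ψ e (Finset.mem_erase.1 (Finset.mem_erase.1 hψ).2).1
        exact (Finset.mem_erase.1 hψ).1 (by rw [hge, huniq g hg]))).1 h χ
        (Finset.mem_erase.2 ⟨h2, Finset.mem_erase.2 ⟨h1, Finset.mem_univ _⟩⟩)
      have hχne : (χ : G → ℂ) ≠ fun _ => 1 := fun e => h1 (Subtype.ext e)
      rcases hyp χ hχne with e | e
      · rw [hdeg] at e
        have e' : (χ : G → ℂ) u = ((charDegree (χ : G → ℂ) : ℕ) : ℂ) - 2 := by linear_combination -e
        rw [e', hdeg, Complex.mul_re, Complex.natCast_im, mul_zero, sub_zero] at h0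
        rcases mul_eq_zero.1 h0 with h3 | h3
        · rw [e']
          refine Complex.ext (by simpa using h3) (by simp)
        · rw [Complex.natCast_re, Nat.cast_eq_zero] at h3
          exact absurd h3 (charDegree_spec' χ.2).2.ne'
      · exact e
    have hC : Nat.card (Subgroup.centralizer ({u} : Set G)) = 2 := by
      have h := sum_irr_mul_conj u u
      rw [if_pos (IsConj.refl u)] at h
      rw [← Finset.add_sum_erase _ _ (Finset.mem_univ t₁),
        ← Finset.add_sum_erase _ _ (Finset.mem_erase.2 ⟨fun e => hlin1 f hf (congrArg Subtype.val e), Finset.mem_univ (lin f)⟩),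
        Finset.sum_eq_zero (fun ψ hψ => by
          rw [hzero ψ (Finset.mem_erase.1 (Finset.mem_erase.1 hψ).2).1 (Finset.mem_erase.1 hψ).1, zero_mul])] at h
      simp only [t₁, lin, hval f hf, map_one, map_neg] at h
      have h' : (Nat.card (Subgroup.centralizer ({u} : Set G)) : ℂ) = ((2 : ℕ) : ℂ) := by
        push_cast
        linear_combination -h
      exact_mod_cast h'
    have hmemC : u ∈ Subgroup.centralizer ({u} : Set G) := Subgroup.mem_centralizer_singleton_iff.2 rfl
    have ho : orderOf u = 2 := by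
      have hd : orderOf u ∣ 2 := hC ▸ (Subgroup.orderOf_mk u hmemC ▸ orderOf_dvd_natCard (⟨u, hmemC⟩ : Subgroup.centralizer ({u} : Set G)))
      exact (Nat.prime_two.eq_one_or_self_of_dvd _ hd).resolve_left fun e => hu (orderOf_eq_one_iff.1 e)
    have hCeq : Subgroup.centralizer ({u} : Set G) = Subgroup.zpowers u :=
      (Subgroup.eq_of_le_of_card_ge (Subgroup.zpowers_le.2 hmemC) (by rw [hC, Nat.card_zpowers, ho])).symm
    refine ⟨hperf, ho, ?_, hCeq⟩
    -- the Sylow 2-subgroup has order two
    have hfu : f u = -1 := Units.ext (by rw [hval f hf]; simp)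
    have hf2 : f * f = 1 := by
      by_contra hne
      have e := huniq _ hne
      exact hf (MonoidHom.ext fun g => mul_eq_left.1 (DFunLike.congr_fun e g))
    have hker : Odd (Nat.card f.ker) := by
      rw [← Nat.not_even_iff_odd, even_iff_two_dvd]
      intro h2
      haveI := Fact.mk Nat.prime_two
      obtain ⟨P, hP⟩ := (IsPGroup.of_card (n := 1) (show Nat.card (Subgroup.zpowers u) = 2 ^ 1 by
        rw [Nat.card_zpowers, ho, pow_one])).exists_le_sylow
      have huP : u ∈ (P : Subgroup G) := hP (Subgroup.mem_zpowers u)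
      haveI : Nontrivial (P : Subgroup G) := ⟨⟨⟨u, huP⟩, 1, fun e => hu (congrArg Subtype.val e)⟩⟩
      have hcen := P.isPGroup'.center_nontrivial
      obtain ⟨⟨z, hz⟩, hz1⟩ := exists_ne (1 : Subgroup.center (P : Subgroup G))
      have hzu : (z : G) ∈ Subgroup.zpowers u := by
        rw [← hCeq, Subgroup.mem_centralizer_singleton_iff]
        exact (congrArg Subtype.val (Subgroup.mem_center_iff.1 hz ⟨u, huP⟩)).symm
      obtain ⟨i, hi⟩ := (Submonoid.mem_powers_iff _ _).1 (mem_powers_iff_mem_zpowers.2 hzu)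
      have hi' : u ^ (i % 2) = (z : G) := by
        have := pow_mod_orderOf u i
        rwa [ho, hi] at this
      rcases Nat.mod_two_eq_zero_or_one i with hi2 | hi2
      · rw [hi2, pow_zero] at hi'
        exact hz1 (Subtype.ext (Subtype.ext hi'.symm))
      · rw [hi2, pow_one] at hi'
        have hPle : (P : Subgroup G) ≤ Subgroup.zpowers u := by
          intro x hx
          rw [← hCeq, Subgroup.mem_centralizer_singleton_iff]
          have := congrArg Subtype.val (Subgroup.mem_center_iff.1 hz ⟨x, hx⟩)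
          simp only [Subgroup.coe_mul, ← hi'] at this
          exact this
        have hP2 : Nat.card (P : Subgroup G) = 2 := by
          rw [le_antisymm hPle hP, Nat.card_zpowers, ho]
        have hidx : f.ker.index = 2 := by
          have hd : f.ker.index ∣ 2 := by
            rw [Subgroup.index_ker, ← IsCyclic.exponent_eq_card]
            refine Monoid.exponent_dvd_of_forall_pow_eq_one ?_
            rintro ⟨_, g, rfl⟩
            refine Subtype.ext ?_
            rw [SubmonoidClass.coe_pow, pow_two, OneMemClass.coe_one, ← MonoidHom.mul_apply, hf2, MonoidHom.one_apply]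
          exact (Nat.prime_two.eq_one_or_self_of_dvd _ hd).resolve_left fun e => hf (MonoidHom.ker_eq_top_iff.1 (Subgroup.index_eq_one.1 e))
        have h4 : 2 ^ 2 ∣ Nat.card G := by
          rw [← f.ker.card_mul_index, hidx, pow_two]
          exact mul_dvd_mul h2 dvd_rfl
        rw [P.card_eq_multiplicity] at hP2
        have h5 := (Nat.prime_two.pow_dvd_iff_le_factorization Nat.card_pos.ne').1 h4
        have h6 := Nat.pow_right_injective le_rfl (hP2.trans (pow_one 2).symm)
        omega
    haveI : f.ker.Normal := inferInstance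
    have hle := CfsgLib.le_oddCore hker
    rw [eq_top_iff]
    intro g _
    by_cases hg : g ∈ f.ker
    · exact Subgroup.mem_sup_right (hle hg)
    · have hgu : u * g ∈ f.ker := by
        rw [MonoidHom.mem_ker, map_mul, hfu]
        have h2 := congrArg Units.val (DFunLike.congr_fun hf2 g)
        simp only [MonoidHom.mul_apply, MonoidHom.one_apply, Units.val_mul, Units.val_one] at h2
        rcases mul_self_eq_one_iff.1 h2 with e | e
        · exact absurd (MonoidHom.mem_ker.2 (Units.ext e)) hg
        · exact Units.ext (by rw [Units.val_mul, e]; simp)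
      rw [← inv_mul_cancel_left u g]
      exact mul_mem (Subgroup.mem_sup_left (inv_mem (Subgroup.mem_zpowers u))) (Subgroup.mem_sup_right (hle hgu))
  exact ⟨⟨hfrom, fun h => (hmain (hto2 h)).2⟩, ⟨hto2, fun h => (hmain h).1⟩⟩

end CfsgLib.CharTheory
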