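/-
Monomial groups: products, wreath products with groups of prime order, and the theorem of Dade
on embeddings of solvable groups.
-/
import Cfsg.Agent.Lib.CharTheory.Monomial
import Cfsg.Agent.Lib.CharTheory.Gallagher
import Mathlib.GroupTheory.RegularWreathProduct

namespace CfsgLib.CharTheory.WreathMonomial

open Cfsg CfsgLib.CharTheory
open scoped ComplexConjugate commutatorElement

universe u

/-- Every irreducible character is monomial. -/
def IsMonomialGroup (M : Type u) [Group M] [Fintype M] : Prop :=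
  ∀ χ : M → ℂ, IsIrrCharacter M χ → IsMonomialChar χ

section Pi

variable {M : Type u} [Group M] [Fintype M] {ι : Type u} [Fintype ι] [DecidableEq ι]

/-- The product character on a power of a group. -/
def piChar (f : ι → M → ℂ) : (ι → M) → ℂ := fun m => ∏ i, f i (m i)

omit [Fintype M] [DecidableEq ι] in
theorem isCharacter_piChar {f : ι → M → ℂ} (hf : ∀ i, IsCharacter M (f i)) :
    IsCharacter (ι → M) (piChar f) := by
  classical
  have h : ∀ s : Finset ι, IsCharacter (ι → M) (fun m : ι → M => ∏ i ∈ s, f i (m i)) := by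
    intro s
    induction s using Finset.induction_on with
    | empty => simpa using isCharacter_one
    | @insert a t ha ih =>
      simp only [Finset.prod_insert ha]
      exact isCharacter_mul
        (isCharacter_comp (hf a) (Pi.evalMonoidHom (fun _ : ι => M) a)) ih
  exact h Finset.univ

theorem classInner_piChar (f g : ι → M → ℂ) :
    classInner (piChar f) (piChar g) = ∏ i, classInner (f i) (g i) := by
  simp only [classInner, piChar, map_prod]
  rw [Finset.prod_mul_distrib, Fintype.prod_sum]
  simp only [Finset.prod_mul_distrib, Finset.prod_const, Finset.card_univ, inv_pow]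
  rw [Nat.card_pi, Finset.prod_const, Finset.card_univ, Nat.cast_pow]

theorem isIrr_piChar {f : ι → M → ℂ} (hf : ∀ i, IsIrrCharacter M (f i)) :
    IsIrrCharacter (ι → M) (piChar f) := by
  refine irr_of_char_norm_one (isCharacter_piChar fun i => isCharacter_of_irr (hf i)) ?_
  rw [classInner_piChar]
  exact Finset.prod_eq_one fun i _ => classInner_irr_self (hf i)

theorem sum_piChar_mul_degree [DecidableEq M] (m : ι → M) :
    ∑ f : ι → IrrCharacter M, piChar (fun i => (f i : M → ℂ)) m *
      piChar (fun i => (f i : M → ℂ)) 1 = if m = 1 then (Nat.card (ι → M) : ℂ) else 0 := by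
  simp only [piChar, ← Finset.prod_mul_distrib, Pi.one_apply]
  rw [← Fintype.prod_sum (fun i (χ : IrrCharacter M) => (χ : M → ℂ) (m i) * (χ : M → ℂ) 1)]
  simp only [sum_irr_apply_mul_degree]
  by_cases h : m = 1
  · subst h
    simp [Nat.card_pi, Finset.prod_const, Nat.cast_pow]
  · rw [if_neg h]
    obtain ⟨i, hi⟩ := Function.ne_iff.mp h
    exact Finset.prod_eq_zero (Finset.mem_univ i) (if_neg hi)

/-- Irreducible characters of a power are product characters. -/
theorem exists_piChar {ψ : (ι → M) → ℂ} (hψ : IsIrrCharacter (ι → M) ψ) :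
    ∃ f : ι → IrrCharacter M, ψ = piChar fun i => (f i : M → ℂ) := by
  classical
  by_contra hne
  let R : (ι → M) → ℂ := ∑ f : ι → IrrCharacter M,
          piChar (fun i => (f i : M → ℂ)) 1 • piChar (fun i => (f i : M → ℂ))
  have hRv : ∀ m, R m = if m = 1 then (Nat.card (ι → M) : ℂ) else 0 := fun m => by
    rw [← sum_piChar_mul_degree m]
    simp only [R, Finset.sum_apply, Pi.smul_apply, smul_eq_mul, mul_comm]
  have hR : classInner R ψ = conj (ψ 1) := by
    simp only [classInner, hRv, ite_mul, zero_mul]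
    rw [Finset.sum_ite_eq' Finset.univ (1 : ι → M), if_pos (Finset.mem_univ _), ← mul_assoc,
      inv_mul_cancel₀ (Nat.cast_ne_zero.mpr Nat.card_pos.ne'), one_mul]
  have h0 : classInner R ψ = 0 := by
    rw [classInner_sum_left]
    refine Finset.sum_eq_zero fun f _ => ?_
    rw [classInner_smul_left, classInner_irr_ne (isIrr_piChar fun i => (f i).2) hψ
      (fun e => hne ⟨f, e.symm⟩), mul_zero]
  rw [h0] at hR
  exact irr_ne_zero hψ ((map_eq_zero _).mp hR.symm)

/-- The product of linear characters on a product of subgroups. -/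
def piHom (H : ι → Subgroup M) (lam : ∀ i, H i →* ℂˣ) :
    Subgroup.pi Set.univ H →* ℂˣ where
  toFun x := ∏ i, lam i ⟨(x : ι → M) i, x.2 i (Set.mem_univ i)⟩
  map_one' := Finset.prod_eq_one fun i _ => map_one (lam i)
  map_mul' x y := by
    rw [← Finset.prod_mul_distrib]
    exact Finset.prod_congr rfl fun i _ => map_mul (lam i) ⟨_, _⟩ ⟨_, _⟩

theorem extendByZero_pi (H : ι → Subgroup M) (lam : ∀ i, H i →* ℂˣ) (m : ι → M) :
    extendByZero (Subgroup.pi Set.univ H) (fun x => (piHom H lam x : ℂ)) m =
      ∏ i, extendByZero (H i) (fun x => (lam i x : ℂ)) (m i) := by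
  by_cases h : m ∈ Subgroup.pi Set.univ H
  · rw [extendByZero_of_mem _ _ h]
    simp only [piHom, MonoidHom.coe_mk, OneHom.coe_mk, Units.coe_prod]
    exact Finset.prod_congr rfl fun i _ => (extendByZero_of_mem (H i) (fun x => (lam i x : ℂ)) (h i (Set.mem_univ i))).symm
  · rw [extendByZero_of_not_mem _ _ h]
    obtain ⟨i, hi⟩ := not_forall.mp h
    exact (Finset.prod_eq_zero (Finset.mem_univ i)
      (extendByZero_of_not_mem (H i) _ (g := m i) fun he => hi fun _ => he)).symm

theorem piChar_indFun (H : ι → Subgroup M) (lam : ∀ i, H i →* ℂˣ) :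
    piChar (fun i => indFun (H i) (fun x => (lam i x : ℂ))) =
      indFun (Subgroup.pi Set.univ H) (fun x => (piHom H lam x : ℂ)) := by
  funext m
  simp only [piChar, indFun, extendByZero_pi]
  rw [Finset.prod_mul_distrib, Fintype.prod_sum]
  congr 1
  rw [Finset.prod_inv_distrib, ← Nat.cast_prod]
  congr 2
  rw [← Nat.card_pi]
  exact Nat.card_congr
    { toFun := fun f => ⟨fun i => (f i : M), fun i _ => (f i).2⟩
      invFun := fun x i => ⟨(x : ι → M) i, x.2 i (Set.mem_univ i)⟩
      left_inv := fun f => rfl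
      right_inv := fun x => rfl }

theorem isMonomialGroup_pi (hM : IsMonomialGroup M) : IsMonomialGroup (ι → M) := by
  intro ψ hψ
  obtain ⟨f, rfl⟩ := exists_piChar hψ
  choose H lam hlam using fun i => hM _ (f i).2
  exact ⟨Subgroup.pi Set.univ H, piHom H lam, by rw [← piChar_indFun, funext hlam]⟩

end Pi

section Wreath

variable {M Q : Type u} [Group M] [Group Q]

/-- The base group of a wreath product, as a subgroup. -/
def base (M Q : Type u) [Group M] [Group Q] : Subgroup (M ≀ᵣ Q) :=
  RegularWreathProduct.rightHom.ker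

instance : (base M Q).Normal := MonoidHom.normal_ker _

theorem mem_base {w : M ≀ᵣ Q} : w ∈ base M Q ↔ w.right = 1 := Iff.rfl

/-- The base group is a power. -/
def baseEquiv : base M Q ≃* (Q → M) where
  toFun b := (b : M ≀ᵣ Q).left
  invFun f := ⟨⟨f, 1⟩, rfl⟩
  left_inv b := Subtype.ext (RegularWreathProduct.ext rfl (mem_base.mp b.2).symm)
  right_inv f := rfl
  map_mul' a b := by
    funext x
    simp [mem_base.mp a.2]

theorem conj_left (w : M ≀ᵣ Q) (b : base M Q) :
    (w⁻¹ * (b : M ≀ᵣ Q) * w).left = fun i =>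
      (w.left (w.right * i))⁻¹ * (b : M ≀ᵣ Q).left (w.right * i) * w.left (w.right * i) := by
  funext i
  simp [mem_base.mp b.2, mul_assoc]

variable [Fintype Q]

/-- The wreath product of a subgroup with the whole group on top. -/
def topSub (Q : Type u) [Group Q] (H : Subgroup M) : Subgroup (M ≀ᵣ Q) where
  carrier := {w | ∀ i, w.left i ∈ H}
  mul_mem' {a b} ha hb := fun i => by
    simpa using H.mul_mem (ha i) (hb _)
  one_mem' := fun i => H.one_mem
  inv_mem' {a} ha := fun i => by
    simpa using H.inv_mem (ha _)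

/-- The extension of a power of a linear character to `topSub`. -/
def topHom (H : Subgroup M) (lam : H →* ℂˣ) : topSub Q H →* ℂˣ where
  toFun w := ∏ i, lam ⟨(w : M ≀ᵣ Q).left i, w.2 i⟩
  map_one' := Finset.prod_eq_one fun i _ => map_one lam
  map_mul' x y := by
    have e : ∏ i, lam ⟨(y : M ≀ᵣ Q).left i, y.2 i⟩ =
        ∏ i, lam ⟨(y : M ≀ᵣ Q).left ((x : M ≀ᵣ Q).right⁻¹ * i), y.2 _⟩ :=
      (Fintype.prod_equiv (Equiv.mulLeft (x : M ≀ᵣ Q).right⁻¹) _ _ fun i => rfl).symm
    rw [e, ← Finset.prod_mul_distrib]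
    exact Finset.prod_congr rfl fun i _ => (map_mul lam ⟨_, _⟩ ⟨_, _⟩)

variable [Fintype M] [DecidableEq Q]

theorem extendByZero_top [Fintype (M ≀ᵣ Q)] (H : Subgroup M) (lam : H →* ℂˣ) (v : M ≀ᵣ Q) :
    extendByZero (topSub Q H) (fun w => (topHom H lam w : ℂ)) v =
      ∏ i, extendByZero H (fun x => (lam x : ℂ)) (v.left i) := by
  by_cases h : v ∈ topSub Q H
  · rw [extendByZero_of_mem _ _ h]
    simp only [topHom, MonoidHom.coe_mk, OneHom.coe_mk, Units.coe_prod]
    exact Finset.prod_congr rfl fun i _ => (extendByZero_of_mem H (fun x => (lam x : ℂ)) (h i)).symm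
  · rw [extendByZero_of_not_mem _ _ h]
    obtain ⟨i, hi⟩ := not_forall.mp h
    exact (Finset.prod_eq_zero (Finset.mem_univ i) (extendByZero_of_not_mem H _ hi)).symm

omit [DecidableEq Q] in
theorem indFun_top_base [Fintype (M ≀ᵣ Q)] (H : Subgroup M) (lam : H →* ℂˣ) (b : base M Q) :
    indFun (topSub Q H) (fun w => (topHom H lam w : ℂ)) b =
      ∏ i, indFun H (fun x => (lam x : ℂ)) ((b : M ≀ᵣ Q).left i) := by
  classical
  simp only [indFun, extendByZero_top, conj_left]
  rw [← Fintype.sum_equiv (RegularWreathProduct.equivProd M Q).symm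
    (fun z : (Q → M) × Q => ∏ i, extendByZero H (fun x => (lam x : ℂ))
      ((z.1 (z.2 * i))⁻¹ * (b : M ≀ᵣ Q).left (z.2 * i) * z.1 (z.2 * i))) _ (fun z => rfl),
    Fintype.sum_prod_type_right]
  have hin : ∀ q : Q, ∑ f : Q → M, ∏ i, extendByZero H (fun x => (lam x : ℂ))
      ((f (q * i))⁻¹ * (b : M ≀ᵣ Q).left (q * i) * f (q * i)) =
      ∏ i, ∑ m : M, extendByZero H (fun x => (lam x : ℂ)) (m⁻¹ * (b : M ≀ᵣ Q).left i * m) := by
    intro q
    rw [Fintype.prod_sum]
    exact Finset.sum_congr rfl fun f _ => Fintype.prod_equiv (Equiv.mulLeft q) _ _ fun i => rfl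
  simp only [hin, Finset.sum_const, Finset.card_univ, nsmul_eq_mul, Finset.prod_mul_distrib,
    Finset.prod_const]
  have hc : Nat.card (topSub Q H) = Nat.card H ^ Fintype.card Q * Fintype.card Q := by
    rw [Nat.card_congr (β := (Q → H) × Q)
      { toFun := fun (w : topSub Q H) => (fun i => ⟨(w : M ≀ᵣ Q).left i, w.2 i⟩, (w : M ≀ᵣ Q).right)
        invFun := fun z => ⟨⟨fun i => (z.1 i : M), z.2⟩, fun i => (z.1 i).2⟩
        left_inv := fun w => rfl
        right_inv := fun z => rfl }]
    rw [Nat.card_prod, Nat.card_fun, Nat.card_eq_fintype_card (α := Q)]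
  rw [hc, Nat.cast_mul, Nat.cast_pow, mul_inv, inv_pow]
  have : (Fintype.card Q : ℂ) ≠ 0 := Nat.cast_ne_zero.mpr Fintype.card_ne_zero
  field_simp

/-- The wreath product of a monomial group with a group of prime order is monomial. -/
theorem isMonomialGroup_wreath [Fintype (M ≀ᵣ Q)] (hM : IsMonomialGroup M)
    (hQ : (Nat.card Q).Prime) : IsMonomialGroup (M ≀ᵣ Q) := by
  classical
  intro χ hχ
  let B := base M Q
  obtain ⟨θ, hθ, hθ'⟩ := exists_constituent (isCharacter_restrict (isCharacter_of_irr hχ) B)
    (fun h => irr_ne_zero hχ (congrFun h 1))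
  obtain ⟨f, hf⟩ := exists_piChar (isIrrCharacter_comp_surjective hθ
    (baseEquiv (M := M) (Q := Q)).symm.toMonoidHom (baseEquiv (M := M) (Q := Q)).symm.surjective)
  have hθf : ∀ b : B, θ b = ∏ i, (f i : M → ℂ) ((b : M ≀ᵣ Q).left i) := by
    intro b
    have := congrFun hf (baseEquiv b)
    simp only [MulEquiv.coe_toMonoidHom, MulEquiv.symm_apply_apply] at this
    exact this
  have hidx : B.index.Prime := by
    rw [show B = RegularWreathProduct.rightHom.ker from rfl, Subgroup.index_ker,
      MonoidHom.range_eq_top.mpr (fun q => ⟨RegularWreathProduct.inl q, rfl⟩), Subgroup.card_top]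
    exact hQ
  have hle : B ≤ inertia B θ := le_inertia B (isClassFunction_irr hθ)
  have hcases : inertia B θ = B ∨ inertia B θ = ⊤ := by
    rcases (Nat.dvd_prime hidx).mp (Subgroup.index_dvd_of_le hle) with h | h
    · exact Or.inr (Subgroup.index_eq_one.mp h)
    · left
      have e := Subgroup.relIndex_mul_index hle
      rw [h] at e
      have e1 : B.relIndex (inertia B θ) = 1 :=
        Nat.eq_of_mul_eq_mul_right hidx.pos (e.trans (one_mul _).symm)
      exact le_antisymm (Subgroup.relIndex_eq_one.mp e1) hle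
  rcases hcases with hI | hI
  · have hirr := isIrrCharacter_indFun_of_inertia_eq B hθ hI
    have hne : classInner (indFun B θ) χ ≠ 0 := by
      rw [frobenius_reciprocity B θ (isClassFunction_irr hχ), ← classInner_comm]
      exact (map_ne_zero _).mpr hθ'
    have he : indFun B θ = χ := by
      by_contra hne'
      exact hne (classInner_irr_ne hirr hχ hne')
    rw [← he]
    refine isMonomialChar_indFun ?_
    obtain ⟨H, lam, hlam⟩ := isMonomialGroup_pi (ι := Q) hM _ (isIrr_piChar fun i => (f i).2)
    let e := baseEquiv (M := M) (Q := Q)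
    refine ⟨H.comap e.toMonoidHom, lam.comp (e.toMonoidHom.subgroupComap H), ?_⟩
    funext b
    rw [hθf]
    refine (congrFun hlam (e b)).trans ?_
    exact (indFun_comap e.toMonoidHom e.surjective H _ b).symm
  · have hconst : ∀ i, f i = f 1 := by
      intro i
      have hm : ∀ b : B, θ ⟨(RegularWreathProduct.inl i⁻¹) * (b : M ≀ᵣ Q) *
          (RegularWreathProduct.inl i⁻¹)⁻¹, (inferInstance : B.Normal).conj_mem _ b.2 _⟩ = θ b := by
        intro b
        have hmem : (RegularWreathProduct.inl i⁻¹ : M ≀ᵣ Q) ∈ inertia B θ := hI ▸ Subgroup.mem_top _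
        exact congrFun ((mem_inertia B).mp hmem) b
      have hpi : piChar (fun j => (f (i⁻¹ * j) : M → ℂ)) = piChar (fun j => (f j : M → ℂ)) := by
        funext x
        have h := hm (baseEquiv.symm x)
        rw [hθf, hθf] at h
        refine Eq.trans ?_ h
        refine Fintype.prod_equiv (Equiv.mulLeft i⁻¹) _ _ fun j => ?_
        simp [baseEquiv, mul_assoc]
      have h1 : classInner (piChar fun j => (f (i⁻¹ * j) : M → ℂ))
          (piChar fun j => (f j : M → ℂ)) = 1 := by
        rw [hpi]; exact classInner_irr_self (isIrr_piChar fun j => (f j).2)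
      rw [classInner_piChar] at h1
      by_contra hne
      rw [Finset.prod_eq_zero (Finset.mem_univ i)] at h1
      · exact zero_ne_one h1
      · exact classInner_irr_ne (f _).2 (f i).2 fun e => hne (Subtype.ext (by simpa using e.symm))
    obtain ⟨H, lam, hlam⟩ := hM _ (f 1).2
    let χ0 := indFun (topSub Q H) (fun w => (topHom H lam w : ℂ))
    have hc0 : IsCharacter (M ≀ᵣ Q) χ0 :=
      isCharacter_indFun _ (isCharacter_of_irr (isIrrCharacter_linear (topHom H lam)))
    have hres : (fun n : B => χ0 n) = θ := by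
      funext b
      rw [hθf]
      refine (indFun_top_base H lam b).trans (Finset.prod_congr rfl fun i _ => ?_)
      rw [hconst i, hlam]
    obtain ⟨-, -, h3⟩ := gallagher B hc0 (hres.symm ▸ hθ)
    obtain ⟨β, hβ, hker, he⟩ := h3 χ hχ (hres.symm ▸ hθ')
    obtain ⟨γ, hγ, hγe⟩ := exists_quotient_irr B hβ hker
    have hc : ∀ a b : (M ≀ᵣ Q) ⧸ B, a * b = b * a := by
      intro a b
      have : Fact B.index.Prime := ⟨hidx⟩
      have : IsCyclic ((M ≀ᵣ Q) ⧸ B) :=
        isCyclic_of_prime_card (p := B.index) (Subgroup.index_eq_card B).symm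
      exact (IsCyclic.commGroup (α := (M ≀ᵣ Q) ⧸ B)).mul_comm a b
    have hdeg : β 1 = 1 := by
      rw [hγe]
      exact degree_one_of_commutative hc hγ
    obtain ⟨μ, hμ⟩ := exists_hom_of_degree_one (isCharacter_of_irr hβ) hdeg
    refine ⟨topSub Q H, topHom H lam * μ.comp (topSub Q H).subtype, ?_⟩
    rw [he, mul_comm]
    refine (indFun_mul (topSub Q H) _ (isClassFunction_irr hβ)).symm.trans ?_
    congr 1
    funext w
    simp [hμ]

end Wreath

/-- The embedding of an extension into a wreath product. -/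
noncomputable def kk {G : Type u} [Group G] (N : Subgroup G) [N.Normal] : G →* N ≀ᵣ (G ⧸ N) where
  toFun g := ⟨fun q => ⟨(Quotient.out q)⁻¹ * g * Quotient.out ((g : G ⧸ N)⁻¹ * q), by
    rw [← QuotientGroup.eq_one_iff]; simp⟩, (g : G ⧸ N)⟩
  map_one' := by
    ext q
    · simp
    · simp
  map_mul' a b := by
    ext q
    · simp [mul_assoc]
    · simp

theorem kk_injective {G : Type u} [Group G] (N : Subgroup G) [N.Normal] :
    Function.Injective (kk N) := by
  refine (injective_iff_map_eq_one _).mpr fun g hg => ?_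
  have h2 : (g : G ⧸ N) = 1 := congrArg RegularWreathProduct.right hg
  have h1 := congrArg (fun z : N ≀ᵣ (G ⧸ N) => (z.left 1 : G)) hg
  change (Quotient.out (1 : G ⧸ N))⁻¹ * g * Quotient.out ((g : G ⧸ N)⁻¹ * 1) = 1 at h1
  rw [h2, inv_one, one_mul, mul_assoc, inv_mul_eq_one] at h1
  exact mul_eq_right.mp h1.symm

/-- Functoriality of the wreath product in the bottom group. -/
def mapBase {A B : Type u} [Group A] [Group B] (f : A →* B) (Q : Type u) [Group Q] :
    A ≀ᵣ Q →* B ≀ᵣ Q where
  toFun w := ⟨fun i => f (w.left i), w.right⟩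
  map_one' := by ext <;> simp
  map_mul' a b := by ext <;> simp

theorem exists_normal_prime_index {G : Type u} [Group G] [Finite G] [Nontrivial G]
    (hsolv : Group.IsSolvable G) : ∃ N : Subgroup G, N.Normal ∧ N.index.Prime := by
  have hlt : commutator G ≠ ⊤ := (Group.IsSolvable.commutator_lt_top_of_nontrivial G).ne
  obtain ⟨K, hK, hle⟩ := (eq_top_or_exists_le_coatom (commutator G)).resolve_left hlt
  have hn : K.Normal := ⟨fun n hn g => by
    have hc : g * n * g⁻¹ * n⁻¹ ∈ K := hle (Subgroup.commutator_mem_commutator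
      (Subgroup.mem_top g) (Subgroup.mem_top n))
    simpa using K.mul_mem hc hn⟩
  refine ⟨K, hn, ?_⟩
  have : Nontrivial (G ⧸ K) := QuotientGroup.nontrivial_iff.mpr hK.1
  have hs : IsSimpleGroup (G ⧸ K) := ⟨fun S _ => by
    rcases eq_or_lt_of_le (QuotientGroup.le_comap_mk' K S) with h | h
    · left
      rw [← Subgroup.map_comap_eq_self_of_surjective (QuotientGroup.mk'_surjective K) S, ← h]
      exact QuotientGroup.map_mk'_self K
    · right
      rw [← Subgroup.map_comap_eq_self_of_surjective (QuotientGroup.mk'_surjective K) S, hK.2 _ h]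
      exact Subgroup.map_top_of_surjective _ (QuotientGroup.mk'_surjective K)⟩
  let : CommGroup (G ⧸ K) := { (inferInstance : Group (G ⧸ K)) with
    mul_comm := fun a b => by
      induction a using QuotientGroup.induction_on with
      | _ x => induction b using QuotientGroup.induction_on with
        | _ y =>
          rw [← QuotientGroup.mk_mul, ← QuotientGroup.mk_mul, QuotientGroup.eq]
          have hc : ⁅y⁻¹, x⁻¹⁆ ∈ K := hle (Subgroup.commutator_mem_commutator
            (Subgroup.mem_top _) (Subgroup.mem_top _))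
          simpa [commutatorElement_def, mul_assoc] using hc }
  rw [Subgroup.index_eq_card]
  exact IsSimpleGroup.prime_card

/-- Dade: a solvable group embeds in a monomial group. -/
theorem exists_monomial_embedding (n : ℕ) : ∀ {G : Type u} [Group G] [Finite G],
    Group.IsSolvable G → Nat.card G = n → ∃ (M : Type u) (_ : Group M) (_ : Fintype M),
      IsMonomialGroup M ∧ ∃ f : G →* M, Function.Injective f := by
  induction n using Nat.strong_induction_on with
  | _ n ih =>
  intro G _ _ hsolv hn
  have := Fintype.ofFinite G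
  rcases subsingleton_or_nontrivial G with hG | hG
  · refine ⟨G, inferInstance, inferInstance, fun χ hχ => ?_, MonoidHom.id G, fun a b h => h⟩
    exact isMonomialChar_linear (isCharacter_of_irr hχ)
      (degree_one_of_commutative (fun a b => Subsingleton.elim _ _) hχ)
  · obtain ⟨N, hN, hp⟩ := exists_normal_prime_index hsolv
    have hlt : Nat.card N < n := by
      rw [← hn, ← Subgroup.card_mul_index N]
      exact lt_mul_of_one_lt_right Nat.card_pos hp.one_lt
    obtain ⟨M, iM, fM, hM, f, hf⟩ := ih _ hlt (G := N) inferInstance rfl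
    have : Fintype (G ⧸ N) := Fintype.ofFinite _
    classical
    let fW : Fintype (M ≀ᵣ (G ⧸ N)) := Fintype.ofFinite _
    refine ⟨M ≀ᵣ (G ⧸ N), inferInstance, fW,
      isMonomialGroup_wreath hM (by rwa [← Subgroup.index_eq_card]),
      (mapBase f (G ⧸ N)).comp (kk N), ?_⟩
    intro a b h
    refine kk_injective N (RegularWreathProduct.ext (funext fun i => hf ?_) ?_)
    · exact congrFun (congrArg RegularWreathProduct.left h) i
    · exact congrArg (fun z : M ≀ᵣ (G ⧸ N) => z.right) h

end CfsgLib.CharTheory.WreathMonomial
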